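import Mathlib

/-!
Splitting the first coordinate off a square matrix, and avoiding a few small sets in a vector space.
-/

set_option autoImplicit false
set_option linter.unusedSectionVars false

namespace CfsgLib.ClassSquare

open Matrix

variable {K : Type*} [Field K]

/-- The matrix with corner `a`, rest of the first row `n`, rest of the first column `m`. -/
def blk {k : ℕ} (a : K) (n m : Fin k → K) (D : Matrix (Fin k) (Fin k) K) :
    Matrix (Fin (k + 1)) (Fin (k + 1)) K :=
  Matrix.of (Fin.cons (Fin.cons a n) fun i => Fin.cons (m i) (D i))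

section
variable {k : ℕ} (a : K) (n m : Fin k → K) (D : Matrix (Fin k) (Fin k) K)

@[simp] theorem blk_zero_zero : blk a n m D 0 0 = a := rfl
@[simp] theorem blk_zero_succ (j : Fin k) : blk a n m D 0 j.succ = n j := rfl
@[simp] theorem blk_succ_zero (i : Fin k) : blk a n m D i.succ 0 = m i := rfl
@[simp] theorem blk_succ_succ (i j : Fin k) : blk a n m D i.succ j.succ = D i j := rfl

theorem eq_blk (X : Matrix (Fin (k + 1)) (Fin (k + 1)) K) :
    X = blk (X 0 0) (fun j => X 0 j.succ) (fun i => X i.succ 0) (X.submatrix Fin.succ Fin.succ) := by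
  ext i j
  cases i using Fin.cases <;> cases j using Fin.cases <;> simp

theorem blk_inj {a' : K} {n' m' : Fin k → K} {D' : Matrix (Fin k) (Fin k) K} :
    blk a n m D = blk a' n' m' D' ↔ a = a' ∧ n = n' ∧ m = m' ∧ D = D' := by
  constructor
  · intro h
    refine ⟨?_, ?_, ?_, ?_⟩
    · simpa using congrFun (congrFun h 0) 0
    · funext j; simpa using congrFun (congrFun h 0) j.succ
    · funext i; simpa using congrFun (congrFun h i.succ) 0
    · funext i j; simpa using congrFun (congrFun h i.succ) j.succ
  · rintro ⟨rfl, rfl, rfl, rfl⟩; rfl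

theorem blk_mul (b : K) (p r : Fin k → K) (E : Matrix (Fin k) (Fin k) K) :
    blk a n m D * blk b p r E =
      blk (a * b + n ⬝ᵥ r) (a • p + n ᵥ* E) (b • m + D *ᵥ r) (vecMulVec m p + D * E) := by
  ext i j
  rw [Matrix.mul_apply, Fin.sum_univ_succ]
  cases i using Fin.cases <;> cases j using Fin.cases <;>
    simp [dotProduct, vecMul, mulVec, vecMulVec, Matrix.mul_apply, mul_comm]

theorem blk_one : blk (1 : K) 0 0 (1 : Matrix (Fin k) (Fin k) K) = 1 := by
  ext i j
  cases i using Fin.cases <;> cases j using Fin.cases <;>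
    simp [Matrix.one_apply, (Fin.succ_ne_zero _).symm]

theorem blk_sub (b : K) (p r : Fin k → K) (E : Matrix (Fin k) (Fin k) K) :
    blk a n m D - blk b p r E = blk (a - b) (n - p) (m - r) (D - E) := by
  ext i j
  cases i using Fin.cases <;> cases j using Fin.cases <;> simp

theorem blk_smul (c : K) : c • blk a n m D = blk (c * a) (c • n) (c • m) (c • D) := by
  ext i j
  cases i using Fin.cases <;> cases j using Fin.cases <;> simp

theorem blk_mulVec (t : K) (w : Fin k → K) :
    blk a n m D *ᵥ Fin.cons t w = Fin.cons (a * t + n ⬝ᵥ w) (t • m + D *ᵥ w) := by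
  funext i
  rw [mulVec, dotProduct, Fin.sum_univ_succ]
  cases i using Fin.cases <;> simp [dotProduct, mulVec, mul_comm]

theorem vecMul_blk (t : K) (w : Fin k → K) :
    Fin.cons t w ᵥ* blk a n m D = Fin.cons (t * a + w ⬝ᵥ m) (t • n + w ᵥ* D) := by
  funext j
  rw [vecMul, dotProduct, Fin.sum_univ_succ]
  cases j using Fin.cases <;> simp [dotProduct, vecMul, mul_comm]

theorem det_blk_zero_col : (blk a n 0 D).det = a * D.det := by
  rw [Matrix.det_succ_column_zero, Fin.sum_univ_succ]
  simp [Matrix.submatrix]
  exact Or.inl rfl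

theorem det_blk_zero_row : (blk a 0 m D).det = a * D.det := by
  rw [Matrix.det_succ_row_zero, Fin.sum_univ_succ]
  simp [Matrix.submatrix]
  exact Or.inl rfl

/-- Gauss decomposition along the first coordinate. -/
theorem blk_decomp (ha : a ≠ 0) :
    blk a n m D = blk 1 0 (a⁻¹ • m) 1 * blk a 0 0 (D - a⁻¹ • vecMulVec m n) * blk 1 (a⁻¹ • n) 0 1 := by
  rw [blk_mul, blk_mul, blk_inj]
  refine ⟨?_, ?_, ?_, ?_⟩
  · simp
  · simp [smul_smul, ha]
  · simp [smul_smul, ha]
  · ext i j
    simp [vecMulVec]
    field_simp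
    ring

theorem det_blk (ha : a ≠ 0) : (blk a n m D).det = a * (D - a⁻¹ • vecMulVec m n).det := by
  rw [blk_decomp _ _ _ _ ha, det_mul, det_mul, det_blk_zero_row, det_blk_zero_row, det_blk_zero_col]
  simp

end

/-- On every line through a point outside of `S`, at most `n` points lie in `S`. -/
def LineSmall {V : Type*} [AddCommGroup V] [Module K V] (S : Set V) (n : ℕ) : Prop :=
  ∀ a d : V, a ∉ S → ∀ F : Finset K, (∀ s ∈ F, a + s • d ∈ S) → F.card ≤ n

section Avoid
variable {V : Type*} [AddCommGroup V] [Module K V]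

theorem LineSmall.mono {S : Set V} {m n : ℕ} (h : LineSmall (K := K) S m) (hmn : m ≤ n) :
    LineSmall (K := K) S n := fun a d ha F hF => (h a d ha F hF).trans hmn

theorem LineSmall.union {S T : Set V} {m n : ℕ} (hS : LineSmall (K := K) S m) (hT : LineSmall (K := K) T n) :
    LineSmall (K := K) (S ∪ T) (m + n) := fun a d ha F hF => by
  classical
  rw [← Finset.card_filter_add_card_filter_not (s := F) (fun s => a + s • d ∈ S)]
  refine Nat.add_le_add (hS a d (fun h => ha (Or.inl h)) _ fun s hs => (Finset.mem_filter.1 hs).2)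
    (hT a d (fun h => ha (Or.inr h)) _ fun s hs => ?_)
  obtain ⟨hsF, hsS⟩ := Finset.mem_filter.1 hs
  exact (hF s hsF).resolve_left hsS

theorem exists_avoid [Fintype K] {S T : Set V} {m n : ℕ} (hS : LineSmall (K := K) S m)
    (hT : LineSmall (K := K) T n) (hS' : ∃ a, a ∉ S) (hT' : ∃ a, a ∉ T) (h : m + n < Fintype.card K) :
    ∃ a, a ∉ S ∪ T := by
  classical
  obtain ⟨a, ha⟩ := hS'
  obtain ⟨b, hb⟩ := hT'
  by_contra hall
  push Not at hall
  have h1 := hS a (b - a) ha ((Finset.univ : Finset K).filter fun s => a + s • (b - a) ∈ S)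
    fun s hs => (Finset.mem_filter.1 hs).2
  have h2 := hT b (b - a) hb ((Finset.univ : Finset K).filter fun s => b + s • (b - a) ∈ T)
    fun s hs => (Finset.mem_filter.1 hs).2
  have hle : (Finset.univ : Finset K) ⊆ ((Finset.univ : Finset K).filter fun s => a + s • (b - a) ∈ S) ∪
      ((Finset.univ : Finset K).filter fun s => b + s • (b - a) ∈ T).image (· + 1) := by
    intro s _
    rcases hall (a + s • (b - a)) with hs | hs
    · exact Finset.mem_union_left _ (by simp [hs])
    · refine Finset.mem_union_right _ (Finset.mem_image.2 ⟨s - 1, ?_, by ring⟩)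
      simp only [Finset.mem_filter, Finset.mem_univ, true_and]
      rwa [show b + (s - 1) • (b - a) = a + s • (b - a) by rw [sub_smul, one_smul]; abel]
  have h3 := (Finset.card_le_card hle).trans (Finset.card_union_le _ _)
  have h4 := Finset.card_image_le (f := fun s : K => s + 1)
    (s := (Finset.univ : Finset K).filter fun s => b + s • (b - a) ∈ T)
  rw [Finset.card_univ] at h3
  omega

/-- An affine condition. -/
theorem lineSmall_affine {W : Type*} [AddCommGroup W] [Module K W] (f : V →ₗ[K] W) (U : Submodule K W) (c : W) :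
    LineSmall (K := K) {v | f v + c ∈ U} 1 := by
  intro a d ha F hF
  rw [Finset.card_le_one]
  intro s hs t ht
  by_contra hst
  apply ha
  have h1 := hF s hs
  have h2 := hF t ht
  show f a + c ∈ U
  simp only [Set.mem_setOf_eq, map_add, map_smul] at h1 h2
  have hd : (s - t) • f d ∈ U := by
    have := U.sub_mem h1 h2
    rwa [show (f a + s • f d + c) - (f a + t • f d + c) = (s - t) • f d by rw [sub_smul]; abel] at this
  rw [Submodule.smul_mem_iff _ (sub_ne_zero.2 hst)] at hd
  have := U.sub_mem h1 (U.smul_mem s hd)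
  rwa [show f a + s • f d + c - s • f d = f a + c by abel] at this

theorem exists_notMem_submodule {W : Submodule K V} (h : W ≠ ⊤) (c : V) : ∃ v, v + c ∉ W := by
  by_contra hc
  push Not at hc
  refine h (eq_top_iff.2 fun v _ => ?_)
  have := W.sub_mem (hc (v - c)) (W.zero_mem)
  simpa using this

end Avoid

end CfsgLib.ClassSquare
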