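import Cfsg.Agent.Lib.ClassSquare.ChevComp

/-!
A Chevalley group with certified Levi data is the square of one conjugacy class.
-/

set_option autoImplicit false
set_option linter.unusedSectionVars false

namespace CfsgLib.ClassSquare

open Cfsg.Lie CfsgLib.Chev CfsgLib.Chev.Cert
open CfsgLib.Schur.SLFam (tv coe_tv tv_def pad pad_tv pad_apply pad_apply_out coe_wt wt)
open scoped MatrixGroups

section Gen

variable {F : Type*} [Field F] [Fintype F]

theorem exists_unit_order (hF : 9 ≤ Fintype.card F) :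
    ∃ u : Fˣ, ∀ e : ℤ, e ≠ 0 → e.natAbs ≤ 7 → (u : F) ^ e ≠ 1 := by
  obtain ⟨u, hu⟩ := IsCyclic.exists_generator (α := Fˣ)
  refine ⟨u, fun e he he7 h1 => ?_⟩
  have h2 : u ^ e = 1 := Units.ext (by rw [Units.val_zpow_eq_zpow_val]; exact h1)
  have h3 := orderOf_dvd_iff_zpow_eq_one.2 h2
  rw [orderOf_eq_card_of_forall_mem_zpowers hu, Nat.card_units, Nat.card_eq_fintype_card,
    Int.natCast_dvd] at h3
  have := Nat.le_of_dvd (Int.natAbs_pos.2 he) h3
  omega

end Gen

variable {D : ChevalleyDatum} {T : Tab} {C : Tab.Cover} (h : Cert D T C) {F : Type*} [Field F] [Fintype F]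
include h

/-- The class of a toral element times a regular unipotent of its centraliser squares to the group. -/
theorem class_sq_chev (L : LeviData) (hL : L.chk T = true) (hconn : Connected T)
    (hF : 9 ≤ Fintype.card F) :
    ∃ c : ↥(D.group F), ∀ g, ∃ x y, g = (x * c * x⁻¹) * (y * c * y⁻¹) := by
  classical
  have ok := L.ok_of_chk hL
  set k : Fin L.comps.length → ℕ := fun ι => (L.comp ι).k with hk
  have hk2 : ∀ ι, 2 ≤ k ι := fun ι => by
    have := ok.roots ι
    simp only [CompData.chkRoots, Bool.and_eq_true, decide_eq_true_eq] at this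
    exact this.1
  have hroot : ∀ ι, ∀ p ∈ (L.comp ι).pairs, (L.comp ι).R p.1 p.2 < T.n ∧
      expo T L.v ((L.comp ι).R p.1 p.2) = 0 ∧ ((L.comp ι).ε p.1 p.2 = 1 ∨ (L.comp ι).ε p.1 p.2 = -1) ∧
      (L.comp ι).R p.2 p.1 = T.neg ((L.comp ι).R p.1 p.2) ∧ (L.comp ι).ε p.2 p.1 = (L.comp ι).ε p.1 p.2 ∧
      ((L.comp ι).k = 2 → (L.comp ι).ε p.1 p.2 = 1) ∧
      (T.half ≤ (L.comp ι).R p.1 p.2 ↔ p.1 < p.2) := fun ι p hp => by
    have := ok.roots ι
    simp only [CompData.chkRoots, Bool.and_eq_true, decide_eq_true_eq, List.all_eq_true] at this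
    exact this.2 p hp
  have hp : ∀ {ι} {i j : Fin (k ι)}, i ≠ j → ((i : ℕ), (j : ℕ)) ∈ (L.comp ι).pairs := fun {ι i j} hij =>
    (L.comp ι).mem_pairs.2 ⟨i.2, j.2, Fin.val_ne_of_ne hij⟩
  have hεε : ∀ {ι} {p : ℕ × ℕ}, p ∈ (L.comp ι).pairs →
      ((L.comp ι).ε p.1 p.2 : F) * ((L.comp ι).ε p.1 p.2 : F) = 1 := fun {ι p} hpp => by
    rcases (hroot ι p hpp).2.2.1 with e | e <;> simp [e]
  -- the components
  choose φ hφ using fun ι => exists_compHom h (F := F) (L.comp ι) (ok.roots ι) (ok.rels ι)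
  have hφG : ∀ ι x, φ ι x ∈ D.group F := fun ι => hom_mem_of_tv (hk2 ι) fun i j hij t => by
    rw [hφ ι i j hij]; exact h.X_mem_group (hroot ι _ (hp hij)).1 _
  let φ' : ∀ ι, SL(k ι, F) →* ↥(D.group F) := fun ι => (φ ι).codRestrict _ (hφG ι)
  have hcomm : Pairwise fun ι ι' => ∀ x y, Commute (φ' ι x) (φ' ι' y) := fun ι ι' hne => by
    have hap := ok.apart ι ι' hne
    simp only [CompData.chkApart, List.all_eq_true, decide_eq_true_eq] at hap
    have h1 : ∀ (i j : Fin (k ι)), i ≠ j → ∀ t y, Commute (φ ι (tv i j t)) (φ ι' y) := by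
      intro i j hij t y
      have := hom_mem_of_tv (hk2 ι') (f := φ ι') (K := Subgroup.centralizer {φ ι (tv i j t)})
        (fun a b hab u => by
          rw [Subgroup.mem_centralizer_singleton_iff, hφ ι' a b hab, hφ ι i j hij]
          obtain ⟨e1, e2, e3⟩ := hap _ (hp hij) _ (hp hab)
          exact (commute_X h (hroot ι _ (hp hij)).1 (hroot ι' _ (hp hab)).1 e1 e2 e3 _ _).symm.eq) y
      exact (Subgroup.mem_centralizer_singleton_iff.1 this).symm
    intro x y
    have := hom_mem_of_tv (hk2 ι) (f := φ ι) (K := Subgroup.centralizer {φ ι' y})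
      (fun i j hij t => Subgroup.mem_centralizer_singleton_iff.2 (h1 i j hij t y)) x
    exact Subtype.ext (Subgroup.mem_centralizer_singleton_iff.1 this)
  let ψ := MonoidHom.noncommPiCoprod φ' hcomm
  have hψs : ∀ ι x, (ψ (Pi.mulSingle ι x)).val = φ ι x := fun ι x => by
    simp only [ψ, MonoidHom.noncommPiCoprod_mulSingle]; rfl
  have hψX : ∀ ι (i j : Fin (k ι)), i ≠ j → ∀ t : F, (ψ (Pi.mulSingle ι (tv i j t))).val =
      X D ((L.comp ι).R i j) (((L.comp ι).ε i j : F) * t) := fun ι i j hij t => by rw [hψs, hφ ι i j hij]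
  have hψK : ∀ (K : Subgroup (GL D.Idx F)), (∀ ι, ∀ p ∈ (L.comp ι).pairs, ∀ t,
      X D ((L.comp ι).R p.1 p.2) t ∈ K) → ∀ x, (ψ x).val ∈ K := fun K hK x => by
    refine Subgroup.pi_mem_of_mulSingle_mem (H := (K.comap (D.group F).subtype).comap ψ) x fun ι => ?_
    show (ψ (Pi.mulSingle ι (x ι))).val ∈ K
    rw [hψs]
    exact hom_mem_of_tv (hk2 ι) (fun i j hij t => by rw [hφ ι i j hij]; exact hK ι _ (hp hij) _) _
  -- the toral element
  obtain ⟨s, hs⟩ := exists_unit_order hF
  set v : ℕ → ℤ := fun m => L.v.getD m 0 with hv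
  set ch : Fin T.l → Fˣ := fun m => s ^ v m with hch
  have hchi : ∀ r, chi' T ch r = (s : F) ^ expo T L.v r := fun r => by
    rw [hch, chi'_zpow, expo_eq]
  have hχne : ∀ r < T.n, expo T L.v r ≠ 0 → chi' T ch r ≠ 1 := fun r hr h0 => by
    rw [hchi]
    refine hs _ h0 ?_
    rcases Nat.lt_or_ge r T.half with hh | hh
    · have := ok.expo_neg r hh hr h0; omega
    · have := ok.expo_pos r hh hr h0; omega
  set H := torusHom (D := D) (T := T) ch with hH
  have hHd : H ∈ D.diagonalSubgroup F := h.range_torusHom.le ⟨ch, rfl⟩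
  let η : ↥(D.group F) := ⟨H, torusHom_mem_group h ch⟩
  -- the unipotent subgroups
  set Rp : Set ℕ := {r | r < T.n ∧ 0 < expo T L.v r} with hRp
  set Rn : Set ℕ := {r | r < T.n ∧ expo T L.v r < 0} with hRn
  have hRp_pos : ∀ r ∈ Rp, r ∈ posSet T := fun r hr => by
    refine ⟨not_lt.1 fun hh => ?_, hr.1⟩
    have := (ok.expo_neg r hh hr.1 hr.2.ne').1
    have := hr.2
    omega
  have hRn_neg : ∀ r ∈ Rn, r < T.half := fun r hr => by
    by_contra hh
    have := (ok.expo_pos r (not_lt.1 hh) hr.1 hr.2.ne).1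
    have := hr.2
    omega
  have hnormP : ∀ r < T.n, expo T L.v r = 0 → ∀ t : F,
      X D r t ∈ Subgroup.normalizer (gen D F Rp : Set (GL D.Idx F)) ⊓
        Subgroup.normalizer (gen D F Rn : Set (GL D.Idx F)) ⊓ Subgroup.centralizer {H} := by
    intro r hr h0 t
    have hmem : X D r t ∈ gen D F {r} := X_mem_gen D (Set.mem_singleton r) t
    refine Subgroup.mem_inf.2 ⟨Subgroup.mem_inf.2 ⟨?_, ?_⟩, Subgroup.mem_centralizer_singleton_iff.2 ?_⟩
    · refine le_normalizer_closure (H := gen D F {r}) (fun g hg a ha => ?_) hmem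
      obtain ⟨b, rfl⟩ := (h.gen_singleton hr).1 hg
      obtain ⟨q, hq, u, rfl⟩ := ha
      refine h.X_conj_mem (S := Rp) hr hq.1 ?_ ?_ hq (fun z hz => ⟨h.commTerms_lt hr hq.1 hz, ?_⟩) b u
      · intro e; have := hq.2; rw [e, h0] at this; omega
      · intro e; have := hq.2; rw [e, expo_eq, expoF_neg h _ hr, ← expo_eq, h0] at this; omega
      · rw [expo_eq]
        exact commTerms_expoF_pos h _ hr hq.1 hz (by rw [← expo_eq, h0]) (by rw [← expo_eq]; exact hq.2)
    · refine le_normalizer_closure (H := gen D F {r}) (fun g hg a ha => ?_) hmem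
      obtain ⟨b, rfl⟩ := (h.gen_singleton hr).1 hg
      obtain ⟨q, hq, u, rfl⟩ := ha
      refine h.X_conj_mem (S := Rn) hr hq.1 ?_ ?_ hq (fun z hz => ⟨h.commTerms_lt hr hq.1 hz, ?_⟩) b u
      · intro e; have := hq.2; rw [e, h0] at this; omega
      · intro e; have := hq.2; rw [e, expo_eq, expoF_neg h _ hr, ← expo_eq, h0] at this; omega
      · rw [expo_eq]
        exact commTerms_expoF_neg h _ hr hq.1 hz (by rw [← expo_eq, h0]) (by rw [← expo_eq]; exact hq.2)
    · have := torus_conj h ch hr t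
      rw [hchi, h0, zpow_zero, one_mul, ← hH, mul_inv_eq_iff_eq_mul] at this
      exact this.symm
  have hψN := hψK _ fun ι p hpp t => hnormP _ (hroot ι p hpp).1 (hroot ι p hpp).2.1 t
  have hηcomm : ∀ x, Commute η (ψ x) := fun x => Subtype.ext
    (Subgroup.mem_centralizer_singleton_iff.1 (Subgroup.mem_inf.1 (hψN x)).2).symm
  -- no fixed points
  have hfp : ∀ u ∈ gen D F Rp, Commute u H → u = 1 := fun u hu hc => by
    refine eq_one_of_commute h (S := Rp) (χ := fun r => chi' T ch r) hRp_pos ?_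
      (fun r hr t => torus_conj h ch hr.1 t) (fun r hr => hχne r hr.1 hr.2.ne') hu ?_
    · intro r hr q hq _ z hz
      refine ⟨h.commTerms_lt hr.1 hq.1 hz, ?_⟩
      rw [expo_eq]
      exact commTerms_expoF_pos h _ hr.1 hq.1 hz (by rw [← expo_eq]; exact hr.2.le)
        (by rw [← expo_eq]; exact hq.2)
    · rw [← hH, hc.symm.eq, mul_inv_cancel_right]
  obtain ⟨w₀, hw₀, hneg₀⟩ := h.exists_longest
  have hfm : ∀ u ∈ gen D F Rn, Commute u H → u = 1 := fun u hu hc => by
    have hwr : WordOK T w₀.reverse := fun i hi => hw₀ i (List.mem_reverse.1 hi)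
    obtain ⟨v', hv'⟩ := exists_expoF_rword h hwr v
    have hrev : ∀ r ∈ posSet T, rword T w₀.reverse r < T.half := fun r hr => by
      by_contra hh
      have h1 := hneg₀ _ (not_lt.1 hh) (h.rword_lt hwr hr.2)
      rw [h.rword_reverse hw₀ hr.2] at h1
      have := hr.1
      omega
    have hev : ∀ r ∈ posSet T, expoF T v' r = expo T L.v (rword T w₀.reverse r) := fun r hr => by
      rw [← hv' r hr.2, expo_eq]
    set S' : Set ℕ := {r | r ∈ posSet T ∧ expoF T v' r < 0} with hS'
    set n₀ := nW D F w₀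
    have hu' : n₀ * u * n₀⁻¹ ∈ gen D F S' := by
      refine conj_gen_le (fun r hr => ?_) hu
      have hpos : rword T w₀ r ∈ posSet T := by
        refine ⟨?_, h.rword_lt hw₀ hr.1⟩
        have h1 := hneg₀ _ ((h.half_le_neg_iff hr.1).2 (hRn_neg r hr)) (neg_lt (T := T) hr.1)
        rw [h.rword_neg hw₀ hr.1] at h1
        by_contra hlt
        have := (h.half_le_neg_iff (h.rword_lt hw₀ hr.1)).2 (not_le.1 hlt)
        omega
      refine ⟨rword T w₀ r, ⟨hpos, ?_⟩, h.Maps_nW hw₀ hr.1⟩
      rw [hev _ hpos, rword_reverse' h hw₀ hr.1]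
      exact hr.2
    have h1 : n₀ * u * n₀⁻¹ = 1 := by
      refine eq_one_of_commute h (S := S') (g := n₀ * H * n₀⁻¹)
        (χ := fun r => chi' T ch (rword T w₀.reverse r)) (fun r hr => hr.1) ?_ ?_ ?_ hu' ?_
      · intro r hr q hq _ z hz
        refine ⟨(h.commTerms_pos hr.1.1 hr.1.2 hq.1.1 hq.1.2 hz).2, ?_⟩
        exact commTerms_expoF_neg h _ hr.1.2 hq.1.2 hz hr.2.le hq.2
      · intro r hr t
        have hrn := h.rword_lt hwr hr.1.2
        obtain ⟨c, hc0, e⟩ := h.Maps_nW (F := F) hw₀ hrn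
        rw [h.rword_reverse hw₀ hr.1.2] at e
        have e1 := e (c⁻¹ * t)
        rw [mul_inv_cancel_left₀ hc0] at e1
        calc n₀ * H * n₀⁻¹ * X D r t * (n₀ * H * n₀⁻¹)⁻¹
            = n₀ * (H * X D (rword T w₀.reverse r) (c⁻¹ * t) * H⁻¹) * n₀⁻¹ := by
              rw [← e1]; simp only [n₀]; group
          _ = _ := by
            rw [hH, torus_conj h ch hrn, e]
            congr 1
            field_simp
      · intro r hr
        refine hχne _ (h.rword_lt hwr hr.1.2) ?_
        rw [← hev r hr.1]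
        exact hr.2.ne
      · calc n₀ * H * n₀⁻¹ * (n₀ * u * n₀⁻¹) * (n₀ * H * n₀⁻¹)⁻¹ = n₀ * (H * u * H⁻¹) * n₀⁻¹ := by group
          _ = _ := by rw [hc.symm.eq, mul_inv_cancel_right]
    exact conj_eq_one_iff.1 h1
  -- the criterion
  refine class_sq_of_levi (k := k) (by omega) (MonoidHom.id _) Function.surjective_id ψ η
    ((gen D F Rn).comap (D.group F).subtype) ((gen D F Rp).comap (D.group F).subtype) hηcomm
    ?_ ?_ ?_ ?_ ?_ ?_ ?_ ?_ ?_ ?_
  · refine Subtype.ext ?_
    show H ^ _ = 1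
    rw [hH, ← map_pow, show ch ^ (Fintype.card F - 1) = 1 from ?_, map_one]
    funext m
    refine Units.ext ?_
    rw [Pi.pow_apply, Units.val_pow_eq_pow_val, Pi.one_apply, Units.val_one]
    exact FiniteField.pow_card_sub_one_eq_one _ (Units.ne_zero _)
  · intro u hu
    exact (Subgroup.mem_normalizer_iff.1 (h.diagonal_le_normalizer_gen (fun r hr => hr.1) hHd) _).1 hu
  · intro u hu
    exact (Subgroup.mem_normalizer_iff.1 (h.diagonal_le_normalizer_gen (fun r hr => hr.1) hHd) _).1 hu
  · intro x u hu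
    exact (Subgroup.mem_normalizer_iff.1 (Subgroup.mem_inf.1 (Subgroup.mem_inf.1 (hψN x)).1).1 _).1 hu
  · intro x u hu
    exact (Subgroup.mem_normalizer_iff.1 (Subgroup.mem_inf.1 (Subgroup.mem_inf.1 (hψN x)).1).2 _).1 hu
  · intro u hu hc
    exact Subtype.ext (hfp _ hu (congrArg Subtype.val hc.eq))
  · intro u hu hc
    exact Subtype.ext (hfm _ hu (congrArg Subtype.val hc.eq))
  · -- fusion
    intro e
    let ct : Fin T.l → Fˣ := ∏ ι, fun m : Fin T.l => e ι ^ (L.comp ι).tau.getD m 0
    let D' : ∀ ι, GL (Fin (k ι)) F := fun ι =>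
      CfsgLib.AutPSL.diagGL fun i => if (i : ℕ) = 0 then e ι else 1
    refine ⟨⟨_, torusHom_mem_group h ct⟩, Subtype.ext ?_, D', fun ι hι => ?_, fun x y hxy => ?_⟩
    · show torusHom (D := D) (T := T) ct * H = H * torusHom (D := D) (T := T) ct
      rw [hH, ← map_mul, ← map_mul, mul_comm]
    · show (Matrix.diagonal fun i : Fin (k ι) => (((if (i : ℕ) = 0 then e ι else 1 : Fˣ)) : F)).det = _
      rw [Matrix.det_diagonal, Finset.prod_eq_single (⟨0, by omega⟩ : Fin (k ι))]
      · simp
      · intro i _ hi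
        rw [if_neg fun e0 => hi (Fin.ext e0)]; simp
      · simp
    · have hy : y = fun ι => cjHom (D' ι) (x ι) := funext fun ι => Subtype.ext (hxy ι)
      have hom : (MulAut.conj (⟨_, torusHom_mem_group h ct⟩ : ↥(D.group F))).toMonoidHom.comp ψ =
          ψ.comp (MonoidHom.mk' (fun x ι => cjHom (D' ι) (x ι)) fun a b => funext fun ι => map_mul _ _ _) := by
        refine MonoidHom.pi_ext fun ι z => ?_
        simp only [MonoidHom.coe_comp, Function.comp_apply, MulEquiv.coe_toMonoidHom, MonoidHom.mk'_apply]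
        rw [show (fun κ => cjHom (D' κ) ((Pi.mulSingle ι z : ∀ κ, SL(k κ, F)) κ)) =
          Pi.mulSingle ι (cjHom (D' ι) z) from funext fun κ => ?_]
        · refine DFunLike.congr_fun (f := (MulAut.conj (⟨_, torusHom_mem_group h ct⟩ :
            ↥(D.group F))).toMonoidHom.comp (ψ.comp (MonoidHom.mulSingle _ ι)))
            (g := (ψ.comp (MonoidHom.mulSingle _ ι)).comp (cjHom (D' ι))) ?_ z
          refine hom_ext_tv (hk2 ι) fun i j hij t => Subtype.ext ?_
          simp only [MonoidHom.coe_comp, Function.comp_apply, MulEquiv.coe_toMonoidHom,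
            MonoidHom.mulSingle_apply, MulAut.conj_apply]
          rw [cjHom_tv (D' ι) hij hij (diagGL_single _ i j t)]
          show torusHom (D := D) (T := T) ct * (ψ (Pi.mulSingle ι (tv i j t))).val *
            (torusHom (D := D) (T := T) ct)⁻¹ = _
          rw [hψX ι i j hij, hψX ι i j hij, torus_conj h ct (hroot ι _ (hp hij)).1]
          congr 1
          rw [show chi' T ct ((L.comp ι).R i j) = (if (j : ℕ) = 0 then (e ι : F) else 1) /
              (if (i : ℕ) = 0 then (e ι : F) else 1) from ?_]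
          · by_cases hi : (i : ℕ) = 0 <;> by_cases hj : (j : ℕ) = 0 <;>
              simp [hi, hj, mul_comm, mul_assoc, div_eq_mul_inv, mul_left_comm]
          rw [show ct = ∏ κ, fun m : Fin T.l => e κ ^ (fun n => (L.comp κ).tau.getD n 0) (m : ℕ) from rfl,
            chi'_prod, Finset.prod_eq_single ι]
          · rw [chi'_zpow (fun n => (L.comp ι).tau.getD n 0) (e ι), ← expo_eq, ok.tau ι ι _ (hp hij), if_pos rfl]
            by_cases hi : (i : ℕ) = 0 <;> by_cases hj : (j : ℕ) = 0 <;>
              simp [hi, hj, zpow_sub₀ (Units.ne_zero (e ι))]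
          · intro κ _ hκ
            rw [chi'_zpow (fun n => (L.comp κ).tau.getD n 0) (e κ), ← expo_eq, ok.tau κ ι _ (hp hij),
              if_neg hκ, zpow_zero]
          · simp
        · rcases eq_or_ne κ ι with rfl | hne
          · rw [Pi.mulSingle_eq_same, Pi.mulSingle_eq_same]
          · rw [Pi.mulSingle_eq_of_ne hne, Pi.mulSingle_eq_of_ne hne, map_one]
      rw [hy]
      exact DFunLike.congr_fun hom x
  · -- Gauss decompositions
    intro g hg
    have hg1 : g.val ≠ 1 := fun e => hg (Subtype.ext e)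
    let rl : List (Fin T.l) := (List.finRange T.l).filter fun m => decide ((m : ℕ) ∈ L.rem)
    let wl : List (Fin T.l) := (List.finRange T.l).filter fun m => decide ((m : ℕ) ∈ L.wit)
    have hrl : ∀ m, m ∈ rl ↔ (m : ℕ) ∈ L.rem := fun m => by simp [rl]
    have hwl : ∀ m, m ∈ wl ↔ (m : ℕ) ∈ L.wit := fun m => by simp [wl]
    have hdeg : ∀ a : Fin T.l, ∑ m : Fin T.l, (T.car a (T.simple m)).natAbs + 1 < Fintype.card F := fun a => by
      rw [Fin.sum_univ_eq_sum_range (fun m => (T.car a (T.simple m)).natAbs)]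
      have := ok.deg a a.2
      omega
    obtain ⟨c, ⟨y, hy, a', ha', b', hb', hrep⟩, hcR, hcW⟩ := exists_target h hconn hdeg g.2 hg1 (ch * ch)
      rl wl ((List.nodup_finRange _).filter _) ((List.nodup_finRange _).filter _)
      (fun a ha hb => (ok.rem_lt a ((hrl a).1 hb)).2 ((hwl a).1 ha))
      (fun a ha b hb hne => ok.rem_rem a ((hrl a).1 ha) b ((hrl b).1 hb) (Fin.val_ne_of_ne hne))
      (fun a ha b hb hne => ok.wit_wit a ((hwl a).1 ha) b ((hwl b).1 hb) (Fin.val_ne_of_ne hne))
    set cJ : Fin T.l → Fˣ := c / (ch * ch) with hcJ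
    have hcJ1 : ∀ m : Fin T.l, (m : ℕ) ∈ L.rem → cJ m = 1 := fun m hm => by
      rw [hcJ, Pi.div_apply, hcR m ((hrl m).2 hm), div_self']
    -- the torus of the Levi subgroup
    let P : Subgroup (∀ ι, SL(k ι, F)) := Subgroup.pi Set.univ fun ι => diagG F (k ι)
    obtain ⟨Δ, hΔ, hΔe⟩ : ∃ Δ ∈ P, (ψ Δ).val = torusHom (D := D) (T := T) cJ := by
      let S : Subgroup (Fin T.l → Fˣ) := ((P.map ψ).map (D.group F).subtype).comap (torusHom (D := D) (T := T))
      suffices hS : cJ ∈ S by
        obtain ⟨z, ⟨Δ, hΔ, rfl⟩, e⟩ := hS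
        exact ⟨Δ, hΔ, e⟩
      rw [← Finset.univ_prod_mulSingle cJ]
      refine S.prod_mem fun m _ => ?_
      by_cases hm : (m : ℕ) ∈ L.rem
      · rw [hcJ1 m hm, Pi.mulSingle_one]; exact S.one_mem
      generalize cJ m = u
      obtain ⟨ι, p, hpp, hR⟩ := ok.expo_zero _ (h.simple_lt m.2) (ok.levi m m.2 hm)
      obtain ⟨hp1, hp2, hpne⟩ := (L.comp ι).mem_pairs.1 hpp
      set i : Fin (k ι) := ⟨p.1, hp1⟩
      set j : Fin (k ι) := ⟨p.2, hp2⟩
      have hij : i ≠ j := fun e => hpne (congrArg Fin.val e)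
      set vv : Fin 2 → Fin (k ι) := ![i, j] with hvv
      have hvinj : Function.Injective vv := by
        intro a b e
        fin_cases a <;> fin_cases b <;> first | rfl | exact absurd e hij | exact absurd e.symm hij
      set E : F := ((L.comp ι).ε i j : F) with hE
      have hEE : E * E = 1 := hεε hpp
      have hE0 : E ≠ 0 := left_ne_zero_of_mul_eq_one hEE
      let z : SL(k ι, F) := pad hvinj (wt (E * u) * wt (-E))
      refine ⟨ψ (Pi.mulSingle ι z), ⟨Pi.mulSingle ι z, fun κ _ => ?_, rfl⟩, ?_⟩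
      · rcases eq_or_ne κ ι with rfl | hne
        · rw [Pi.mulSingle_eq_same]
          intro a b hab
          by_contra hne'
          have hab' : a ≠ b := fun e => hne' (by rw [e])
          by_cases ha : a ∈ Set.range vv
          · by_cases hb : b ∈ Set.range vv
            · obtain ⟨a', rfl⟩ := ha
              obtain ⟨b', rfl⟩ := hb
              rw [show z = pad hvinj (wt (E * u) * wt (-E)) from rfl, pad_apply hvinj,
                Matrix.SpecialLinearGroup.coe_mul, coe_wt (mul_ne_zero hE0 u.ne_zero), coe_wt (neg_ne_zero.2 hE0)] at hab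
              fin_cases a' <;> fin_cases b' <;> simp_all [Matrix.mul_apply, Fin.sum_univ_two]
            · rw [show z = pad hvinj (wt (E * u) * wt (-E)) from rfl, pad_apply_out hvinj _ (Or.inr hb),
                Matrix.one_apply_ne hab'] at hab
              exact hab rfl
          · rw [show z = pad hvinj (wt (E * u) * wt (-E)) from rfl, pad_apply_out hvinj _ (Or.inl ha),
              Matrix.one_apply_ne hab'] at hab
            exact hab rfl
        · rw [Pi.mulSingle_eq_of_ne hne]
          exact (diagG F (k κ)).one_mem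
      · show (ψ (Pi.mulSingle ι z)).val = _
        rw [← hU_simple_eq h m u, hψs]
        have hXi : ∀ t : F, φ ι (tv i j t) = X D (T.simple m) (E * t) := fun t => by
          rw [hφ ι i j hij, ← hR]
        have hXj : ∀ t : F, φ ι (tv j i t) = X D (T.neg (T.simple m)) (E * t) := fun t => by
          rw [hφ ι j i hij.symm]
          obtain ⟨-, -, -, e1, e2, -⟩ := hroot ι p hpp
          rw [show (L.comp ι).R (j : ℕ) (i : ℕ) = T.neg (T.simple m) by rw [← hR]; exact e1,
            show (L.comp ι).ε (j : ℕ) (i : ℕ) = (L.comp ι).ε i j from e2]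
        have hW : ∀ t : F, t ≠ 0 → φ ι (pad hvinj (wt t)) = nU D (T.simple m) (E * t) := fun t ht => by
          simp only [CfsgLib.Schur.SLFam.wt, map_mul, pad_tv hvinj (show (0 : Fin 2) ≠ 1 by decide),
            pad_tv hvinj (show (1 : Fin 2) ≠ 0 by decide), show vv 0 = i from rfl, show vv 1 = j from rfl,
            hXi, hXj, nU, h.neg_eq (h.simple_lt m.2)]
          congr 2
          congr 1
          rw [mul_inv, ← eq_inv_of_mul_eq_one_left hEE]
          ring
        rw [show z = pad hvinj (wt (E * u) * wt (-E)) from rfl, map_mul, map_mul,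
          hW _ (mul_ne_zero hE0 u.ne_zero), hW _ (neg_ne_zero.2 hE0), ← mul_assoc, mul_neg, hEE, one_mul]
        rfl
    -- split the unipotent factors
    set Jp : Set ℕ := {r | r ∈ posSet T ∧ expo T L.v r = 0} with hJp
    set Jn : Set ℕ := {r | r < T.half ∧ expo T L.v r = 0} with hJn
    have hn2 := h.two_mul_half
    obtain ⟨a, ha, b, hb, rfl⟩ : ∃ a ∈ gen D F Rn, ∃ b ∈ gen D F Jn, a' = a * b := by
      have hle : D.negUnipotent F ≤ gen D F Rn ⊔ gen D F Jn := by
        rw [h.negUnipotent_eq]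
        refine (Subgroup.closure_le _).2 ?_
        rintro _ ⟨r, (hr : r < T.half), u, rfl⟩
        by_cases h0 : expo T L.v r = 0
        · exact Subgroup.mem_sup_right (X_mem_gen D (S := Jn) ⟨hr, h0⟩ u)
        · exact Subgroup.mem_sup_left (X_mem_gen D (S := Rn)
            ⟨by omega, (ok.expo_neg r hr (by omega) h0).1⟩ u)
      have hN : gen D F Jn ≤ Subgroup.normalizer (gen D F Rn : Set (GL D.Idx F)) :=
        (Subgroup.closure_le _).2 fun _ ⟨r, hr, u, e⟩ => e ▸
          (Subgroup.mem_inf.1 (Subgroup.mem_inf.1 (hnormP r (by have := hr.1; omega) hr.2 u)).1).2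
      have := hle ha'
      rw [← SetLike.mem_coe, Subgroup.coe_mul_of_right_le_normalizer_left _ _ hN] at this
      obtain ⟨a, ha, b, hb, e⟩ := this
      exact ⟨a, ha, b, hb, e.symm⟩
    obtain ⟨cU, hcU, d, hd, rfl⟩ : ∃ cU ∈ gen D F Jp, ∃ d ∈ gen D F Rp, b' = cU * d := by
      have hle : D.posUnipotent F ≤ gen D F Jp ⊔ gen D F Rp := by
        rw [h.posUnipotent_eq]
        refine (Subgroup.closure_le _).2 ?_
        rintro _ ⟨r, hr, u, rfl⟩
        by_cases h0 : expo T L.v r = 0
        · exact Subgroup.mem_sup_left (X_mem_gen D (S := Jp) ⟨hr, h0⟩ u)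
        · exact Subgroup.mem_sup_right (X_mem_gen D (S := Rp)
            ⟨hr.2, (ok.expo_pos r hr.1 hr.2 h0).1⟩ u)
      have hN : gen D F Jp ≤ Subgroup.normalizer (gen D F Rp : Set (GL D.Idx F)) :=
        (Subgroup.closure_le _).2 fun _ ⟨r, hr, u, e⟩ => e ▸
          (Subgroup.mem_inf.1 (Subgroup.mem_inf.1 (hnormP r hr.1.2 hr.2 u)).1).1
      have := hle hb'
      rw [← SetLike.mem_coe, Subgroup.coe_mul_of_left_le_normalizer_right _ _ hN] at this
      obtain ⟨cU, hcU, d, hd, e⟩ := this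
      exact ⟨cU, hcU, d, hd, e.symm⟩
    have tri : ∀ (up : Bool) (J : Set ℕ), (∀ r ∈ J, r < T.n ∧ expo T L.v r = 0 ∧ (T.half ≤ r ↔ up = true)) →
        ∀ z ∈ gen D F J, ∃ B : ∀ ι, SL(k ι, F), (∀ ι, B ι ∈ triU F (k ι) up) ∧ (ψ B).val = z := by
      intro up J hJ z hz
      let Q : Subgroup (∀ ι, SL(k ι, F)) := Subgroup.pi Set.univ fun ι => triU F (k ι) up
      have hle : gen D F J ≤ (Q.map ψ).map (D.group F).subtype := by
        refine (Subgroup.closure_le _).2 ?_
        rintro _ ⟨r, hr, u, rfl⟩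
        obtain ⟨hrn, h0, hup⟩ := hJ r hr
        obtain ⟨ι, p, hpp, rfl⟩ := ok.expo_zero r hrn h0
        obtain ⟨hp1, hp2, hpne⟩ := (L.comp ι).mem_pairs.1 hpp
        have hij : (⟨p.1, hp1⟩ : Fin (k ι)) ≠ ⟨p.2, hp2⟩ := fun e => hpne (congrArg Fin.val e)
        refine ⟨ψ (Pi.mulSingle ι (tv (⟨p.1, hp1⟩ : Fin (k ι)) ⟨p.2, hp2⟩ (((L.comp ι).ε p.1 p.2 : F) * u))),
          ⟨_, fun κ _ => ?_, rfl⟩, ?_⟩
        · rcases eq_or_ne κ ι with rfl | hne
          · rw [Pi.mulSingle_eq_same]
            refine tv_mem_triU hij ?_ _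
            rw [(hroot _ p hpp).2.2.2.2.2.2] at hup
            cases up
            · simp only [Bool.false_eq_true, iff_false, not_lt] at hup
              show p.2 < p.1
              omega
            · exact hup.2 rfl
          · rw [Pi.mulSingle_eq_of_ne hne]
            exact (triU F (k κ) up).one_mem
        · show (ψ _).val = _
          rw [hψX _ _ _ hij, ← mul_assoc, hεε hpp, one_mul]
      obtain ⟨_, ⟨B, hB, rfl⟩, e⟩ := hle hz
      exact ⟨B, fun ι => hB ι (Set.mem_univ _), e⟩
    obtain ⟨B, hB, hBe⟩ := tri false Jn (fun r hr => ⟨by have := hr.1; omega, hr.2,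
      by have := hr.1; simp; omega⟩) b hb
    obtain ⟨U, hU, hUe⟩ := tri true Jp (fun r hr => ⟨hr.1.2, hr.2, by simpa using hr.1.1⟩) cU hcU
    have hBn : a ∈ D.group F := h.gen_le_group (fun r hr => hr.1) ha
    have hDn : d ∈ D.group F := h.gen_le_group (fun r hr => hr.1) hd
    refine ⟨⟨a, hBn⟩, ha, ⟨d, hDn⟩, hd, B * Δ * U, fun ι => Or.inr fun σ hσ => ?_, ?_⟩
    · -- not scalar
      have hΔι := eq_smul_one_of_tri (hB ι) (hΔ ι (Set.mem_univ _)) (hU ι) (by simpa using hσ)
      obtain ⟨m, hm, p, hpp, hR⟩ := ok.witness ι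
      obtain ⟨hp1, hp2, hpne⟩ := (L.comp ι).mem_pairs.1 hpp
      have hij : (⟨p.1, hp1⟩ : Fin (k ι)) ≠ ⟨p.2, hp2⟩ := fun e => hpne (congrArg Fin.val e)
      have hml := ok.wit_lt m hm
      apply hcW ⟨m, hml⟩ ((hwl _).2 hm)
      have hc : c = ch * ch * cJ := by rw [hcJ, mul_div_cancel]
      show chi' T c (T.simple m) = 1
      have h0 : expo T L.v (T.simple m) = 0 := by rw [← hR]; exact (hroot ι p hpp).2.1
      rw [hc, chi'_mul, chi'_mul, hchi, h0, zpow_zero, one_mul, one_mul]
      set τ : ∀ κ, SL(k κ, F) := Pi.mulSingle ι (tv (⟨p.1, hp1⟩ : Fin (k ι)) ⟨p.2, hp2⟩ ((L.comp ι).ε p.1 p.2 : F)) with hτ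
      have hcom : Commute Δ τ := funext fun κ => by
        simp only [Pi.mul_apply]
        rcases eq_or_ne κ ι with rfl | hne
        · refine Subtype.ext ?_
          rw [Matrix.SpecialLinearGroup.coe_mul, Matrix.SpecialLinearGroup.coe_mul, hΔι, Matrix.smul_mul,
            Matrix.mul_smul, Matrix.one_mul, Matrix.mul_one]
        · rw [hτ, Pi.mulSingle_eq_of_ne hne, mul_one, one_mul]
      have h1 := congrArg Subtype.val (hcom.map ψ).eq
      simp only [Subgroup.coe_mul, hΔe, hτ, hψX ι _ _ hij, hεε hpp, hR] at h1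
      rw [← mul_inv_eq_iff_eq_mul, torus_conj h cJ (h.simple_lt hml), mul_one] at h1
      exact h.X_inj (h.simple_lt hml) h1
    · refine isConj_iff.2 ⟨⟨y, hy⟩, Subtype.ext ?_⟩
      show y * g.val * y⁻¹ = a * (H * H * (ψ (B * Δ * U)).val) * d
      have hc : c = ch * ch * cJ := by rw [hcJ, mul_div_cancel]
      have hbH : Commute b (H * H) := by
        have h2 : Commute H (ψ B).val := congrArg Subtype.val (hηcomm B).eq
        rw [hBe] at h2
        exact h2.symm.mul_right h2.symm
      rw [hrep, hc, map_mul, map_mul, ← hH, map_mul, map_mul, Subgroup.coe_mul, Subgroup.coe_mul, hBe, hΔe,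
        hUe]
      calc a * b * (H * H * torusHom (D := D) (T := T) cJ) * (cU * d)
          = a * (b * (H * H)) * torusHom (D := D) (T := T) cJ * cU * d := by group
        _ = _ := by rw [hbH.eq]; group
  · -- reality
    intro x hx
    have hpi : ∀ ι (i : ℕ), i < k ι → (L.comp ι).π i < k ι ∧ ((L.comp ι).dd i = 1 ∨ (L.comp ι).dd i = -1) ∧
        ∀ j < k ι, (L.comp ι).π i = (L.comp ι).π j → i = j := fun ι i hi => by
      have := ok.perm ι
      simp only [CompData.chkPerm, Bool.and_eq_true, List.all_eq_true, List.mem_range, decide_eq_true_eq] at this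
      obtain ⟨⟨e1, e2⟩, e3⟩ := this.1 i hi
      exact ⟨e1, e2, e3⟩
    have hact : ∀ ι, ∀ p ∈ (L.comp ι).pairs,
        (actW T L.w ((L.comp ι).R p.1 p.2)).1 = (L.comp ι).R
          (bif (L.comp ι).tr then (L.comp ι).π p.2 else (L.comp ι).π p.1)
          (bif (L.comp ι).tr then (L.comp ι).π p.1 else (L.comp ι).π p.2) ∧
        (L.comp ι).ε (bif (L.comp ι).tr then (L.comp ι).π p.2 else (L.comp ι).π p.1)
            (bif (L.comp ι).tr then (L.comp ι).π p.1 else (L.comp ι).π p.2) *
          (actW T L.w ((L.comp ι).R p.1 p.2)).2 * (L.comp ι).ε p.1 p.2 =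
          (bif (L.comp ι).tr then
            -((L.comp ι).dd (bif (L.comp ι).tr then (L.comp ι).π p.2 else (L.comp ι).π p.1) *
              (L.comp ι).dd (bif (L.comp ι).tr then (L.comp ι).π p.1 else (L.comp ι).π p.2))
          else (L.comp ι).dd (bif (L.comp ι).tr then (L.comp ι).π p.2 else (L.comp ι).π p.1) *
              (L.comp ι).dd (bif (L.comp ι).tr then (L.comp ι).π p.1 else (L.comp ι).π p.2)) := fun ι p hpp => by
      have := ok.perm ι
      simp only [CompData.chkPerm, Bool.and_eq_true, List.all_eq_true, decide_eq_true_eq] at this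
      exact this.2 p hpp
    let σ : ∀ ι, Equiv.Perm (Fin (k ι)) := fun ι =>
      Equiv.ofBijective (fun i => ⟨(L.comp ι).π i, (hpi ι i i.2).1⟩)
        (Finite.injective_iff_bijective.1 fun i j e => Fin.ext ((hpi ι i i.2).2.2 j j.2 (congrArg Fin.val e)))
    have hdd : ∀ ι (i : Fin (k ι)), ((L.comp ι).dd i : F) ≠ 0 := fun ι i => by
      rcases (hpi ι i i.2).2.1 with e | e <;> simp [e]
    let dv : ∀ ι, Fin (k ι) → Fˣ := fun ι i => Units.mk0 _ (hdd ι i)
    let θ : ∀ ι, SL(k ι, F) →* SL(k ι, F) := fun ι =>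
      bif (L.comp ι).tr then (cjHom (monoGL (σ ι) (dv ι))).comp CfsgLib.AutPSL.invTrSL.toMonoidHom
      else cjHom (monoGL (σ ι) (dv ι))
    set n : ↥(D.group F) := ⟨nW D F L.w, h.monomial_le_group (h.nW_mem_monomial ok.word)⟩ with hn
    refine ⟨fun ι => θ ι (x ι)⁻¹, fun ι => ?_, ?_⟩
    · have hinv : RegUnip (((x ι)⁻¹ : SL(k ι, F)) : Matrix (Fin (k ι)) (Fin (k ι)) F) :=
        (hx ι).inv (by rw [← Matrix.SpecialLinearGroup.coe_mul, inv_mul_cancel, Matrix.SpecialLinearGroup.coe_one])
      show RegUnip ((θ ι (x ι)⁻¹ : SL(k ι, F)) : Matrix (Fin (k ι)) (Fin (k ι)) F)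
      cases hT : (L.comp ι).tr <;> simp only [θ, hT, cond_true, cond_false]
      · exact hinv.cj _
      · show RegUnip (cj _ (CfsgLib.AutPSL.invTr (x ι)⁻¹ : Matrix (Fin (k ι)) (Fin (k ι)) F))
        rw [CfsgLib.AutPSL.invTr_coe, inv_inv]
        exact (hx ι).transpose.cj _
    · refine isConj_iff.2 ⟨n, ?_⟩
      simp only [MonoidHom.id_apply]
      have hθψ : (MulAut.conj n).toMonoidHom.comp ψ =
          ψ.comp (MonoidHom.mk' (fun z ι => θ ι (z ι)) fun a b => funext fun ι => map_mul _ _ _) := by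
        refine MonoidHom.pi_ext fun ι z => ?_
        simp only [MonoidHom.coe_comp, Function.comp_apply, MulEquiv.coe_toMonoidHom, MonoidHom.mk'_apply]
        rw [show (fun κ => θ κ ((Pi.mulSingle ι z : ∀ κ, SL(k κ, F)) κ)) =
          Pi.mulSingle ι (θ ι z) from funext fun κ => ?_]
        · refine DFunLike.congr_fun (f := (MulAut.conj n).toMonoidHom.comp
            (ψ.comp (MonoidHom.mulSingle _ ι)))
            (g := (ψ.comp (MonoidHom.mulSingle _ ι)).comp (θ ι)) ?_ z
          refine hom_ext_tv (hk2 ι) fun i j hij t => Subtype.ext ?_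
          simp only [MonoidHom.coe_comp, Function.comp_apply, MulEquiv.coe_toMonoidHom,
            MonoidHom.mulSingle_apply, MulAut.conj_apply]
          show nW D F L.w * (ψ (Pi.mulSingle ι (tv i j t))).val * (nW D F L.w)⁻¹ = _
          rw [hψX ι i j hij, nW_conj_X h ok.word (hroot ι _ (hp hij)).1]
          obtain ⟨hA, hA2⟩ := hact ι _ (hp hij)
          simp only [θ]
          generalize hTr : (L.comp ι).tr = tr at hA hA2
          cases tr <;> simp only [cond_true, cond_false] at hA hA2 ⊢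
          · have hab : σ ι i ≠ σ ι j := (σ ι).injective.ne hij
            rw [cjHom_tv _ hij hab (monoGL_single (σ ι) (dv ι) i j t), hψX ι _ _ hab, hA]
            congr 1
            show _ = ((L.comp ι).ε ((L.comp ι).π i) ((L.comp ι).π j) : F) *
              (((L.comp ι).dd ((L.comp ι).π j) : F) * t / ((L.comp ι).dd ((L.comp ι).π i) : F))
            have hA3 := congrArg (fun z : ℤ => (z : F)) hA2
            push_cast at hA3
            have e1 := hεε (hp hij)
            have e2 := hεε (hp hab)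
            have e2' : ((L.comp ι).ε ((L.comp ι).π i) ((L.comp ι).π j) : F) *
                ((L.comp ι).ε ((L.comp ι).π i) ((L.comp ι).π j) : F) = 1 := e2
            rcases (hpi ι _ (σ ι i).2).2.1 with ei | ei <;>
              (rw [show (σ ι i).val = (L.comp ι).π i from rfl] at ei; rw [ei] at hA3 ⊢; push_cast at hA3 ⊢;
               field_simp; linear_combination
                ((L.comp ι).ε ((L.comp ι).π i) ((L.comp ι).π j) : F) * t * hA3 -
                ((actW T L.w ((L.comp ι).R i j)).2 : F) * ((L.comp ι).ε i j : F) * t * e2')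
          · have hab : σ ι j ≠ σ ι i := (σ ι).injective.ne hij.symm
            have hinvtr : CfsgLib.AutPSL.invTrSL (tv i j t) = tv j i (-t) := by
              refine Subtype.ext ?_
              show ((CfsgLib.AutPSL.invTr (tv i j t) : SL(k ι, F)) : Matrix (Fin (k ι)) (Fin (k ι)) F) = _
              rw [CfsgLib.AutPSL.invTr_coe, show (tv i j t)⁻¹ = tv i j (-t) from
                inv_eq_of_mul_eq_one_right (by
                  rw [← CfsgLib.Schur.SLFam.tv_add hij, add_neg_cancel, CfsgLib.Schur.SLFam.tv_zero]),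
                coe_tv hij, coe_tv hij.symm, Matrix.transpose_add, Matrix.transpose_one, Matrix.transpose_single]
            rw [MonoidHom.comp_apply, MulEquiv.coe_toMonoidHom, hinvtr,
              cjHom_tv _ hij.symm hab (monoGL_single (σ ι) (dv ι) j i (-t)), hψX ι _ _ hab, hA]
            congr 1
            show _ = ((L.comp ι).ε ((L.comp ι).π j) ((L.comp ι).π i) : F) *
              (((L.comp ι).dd ((L.comp ι).π i) : F) * -t / ((L.comp ι).dd ((L.comp ι).π j) : F))
            have hA3 := congrArg (fun z : ℤ => (z : F)) hA2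
            push_cast at hA3
            have e1 := hεε (hp hij)
            have e2' : ((L.comp ι).ε ((L.comp ι).π j) ((L.comp ι).π i) : F) *
                ((L.comp ι).ε ((L.comp ι).π j) ((L.comp ι).π i) : F) = 1 := hεε (hp hab)
            rcases (hpi ι _ (σ ι j).2).2.1 with ei | ei <;>
              (rw [show (σ ι j).val = (L.comp ι).π j from rfl] at ei; rw [ei] at hA3 ⊢; push_cast at hA3 ⊢;
               field_simp; linear_combination
                ((L.comp ι).ε ((L.comp ι).π j) ((L.comp ι).π i) : F) * t * hA3 -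
                ((actW T L.w ((L.comp ι).R i j)).2 : F) * ((L.comp ι).ε i j : F) * t * e2')
        · rcases eq_or_ne κ ι with rfl | hne
          · rw [Pi.mulSingle_eq_same, Pi.mulSingle_eq_same]
          · rw [Pi.mulSingle_eq_of_ne hne, Pi.mulSingle_eq_of_ne hne, map_one]
      have hnη : n * η * n⁻¹ = η⁻¹ := by
        refine Subtype.ext ?_
        show nW D F L.w * H * (nW D F L.w)⁻¹ = H⁻¹
        let Lm : (Fin T.l → Fˣ) →* (Fin T.l → Fˣ) :=
          MonoidHom.mk' (fun c i => ∏ m, c m ^ T.cor (actW T L.w (T.simple m)).1 i) fun a b => funext fun i => by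
            simp only [Pi.mul_apply, mul_zpow, Finset.prod_mul_distrib]
        have hf : (MulAut.conj (nW D F L.w)).toMonoidHom.comp (torusHom (D := D) (T := T)) =
            (torusHom (D := D) (T := T)).comp Lm := by
          refine MonoidHom.pi_ext fun m u => ?_
          simp only [MonoidHom.coe_comp, Function.comp_apply, MulEquiv.coe_toMonoidHom, MulAut.conj_apply]
          rw [← hU_simple_eq h m u, h.nW_conj_hU ok.word (h.simple_lt m.2) u.ne_zero,
            h.hU_eq_torusHom (h.rword_lt ok.word (h.simple_lt m.2))]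
          congr 1
          funext i
          show _ = ∏ m', (Pi.mulSingle m u : Fin T.l → Fˣ) m' ^ T.cor (actW T L.w (T.simple m')).1 i
          rw [Finset.prod_eq_single m, Pi.mulSingle_eq_same, actW_fst]
          · intro m' _ hne; rw [Pi.mulSingle_eq_of_ne hne, _root_.one_zpow]
          · simp
        have e := DFunLike.congr_fun hf ch
        simp only [MonoidHom.coe_comp, Function.comp_apply, MulEquiv.coe_toMonoidHom, MulAut.conj_apply] at e
        rw [hH, e, ← map_inv]
        congr 1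
        funext i
        show ∏ m : Fin T.l, (s ^ v m) ^ T.cor (actW T L.w (T.simple m)).1 i = (s ^ v i)⁻¹
        rw [← _root_.zpow_neg, hv, ← ok.word_v i i.2, ← zpow_finset_sum, ← Fin.prod_univ_eq_prod_range]
        exact Finset.prod_congr rfl fun m _ => (_root_.zpow_mul _ _ _).symm
      calc n * (η * ψ x)⁻¹ * n⁻¹ = (n * ψ x⁻¹ * n⁻¹) * (n * η * n⁻¹)⁻¹ := by rw [map_inv]; group
        _ = ψ (fun ι => θ ι (x ι)⁻¹) * η := by
          rw [hnη, _root_.inv_inv]
          congr 1
          exact DFunLike.congr_fun hθψ x⁻¹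
        _ = _ := (hηcomm _).symm.eq

end CfsgLib.ClassSquare
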