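import Cfsg.Agent.Lib.ClassSquare.ChevLevi

/-!
The images of the special linear groups in a Chevalley group with certified Levi data.
-/

set_option autoImplicit false
set_option linter.unusedSectionVars false

namespace CfsgLib.ClassSquare

open Cfsg.Lie CfsgLib.Chev CfsgLib.Chev.Cert
open CfsgLib.Schur.SLFam (tv coe_tv tv_def)
open CfsgLib.SLPres.Steinberg (St presentation lift_rels)
open scoped MatrixGroups commutatorElement

variable {D : ChevalleyDatum} {T : Tab} {C : Tab.Cover} (h : Cert D T C) {F : Type*} [Field F]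
include h

theorem commute_X {r s : ℕ} (hr : r < T.n) (hs : s < T.n) (hne : s ≠ r) (hneg : s ≠ T.neg r)
    (hc : T.commTerms r s = []) (t u : F) : Commute (X D r t) (X D s u) := by
  have := h.X_conj hr hs hne hneg (-t) u
  rw [_root_.neg_neg, hc, List.map_nil, List.prod_nil, mul_one] at this
  rw [← h.X_inv hr] at this
  exact mul_inv_eq_iff_eq_mul.1 this

theorem commutator_X {r s q : ℕ} (hr : r < T.n) (hs : s < T.n) (hne : s ≠ r) (hneg : s ≠ T.neg r)
    {M : ℤ} (hc : T.commTerms r s = [(q, M, 1, 1)]) (hsq : ∀ t u : F, Commute (X D s t) (X D q u))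
    (t u : F) : ⁅X D r t, X D s u⁆ = X D q ((M : F) * t * u) := by
  have := h.X_conj hr hs hne hneg (-t) u
  rw [_root_.neg_neg, hc] at this
  simp only [List.map_cons, List.map_nil, List.prod_cons, List.prod_nil, mul_one, pow_one] at this
  rw [commutatorElement_def, h.X_inv hr, this, (hsq u _).eq, mul_inv_cancel_right]

omit h in
theorem actW_fst (w : List ℕ) (r : ℕ) : (actW T w r).1 = rword T w r := by
  induction w with
  | nil => rfl
  | cons i w ih => rw [rword_cons, ← ih]; rfl

theorem nW_conj_X {w : List ℕ} (hw : WordOK T w) {r : ℕ} (hr : r < T.n) (t : F) :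
    nW D F w * X D r t * (nW D F w)⁻¹ = X D (actW T w r).1 (((actW T w r).2 : F) * t) := by
  induction w with
  | nil => simp [nW, actW]
  | cons i w ih =>
    rw [nW_cons, show nS D F i * nW D F w * X D r t * (nS D F i * nW D F w)⁻¹ =
      nS D F i * (nW D F w * X D r t * (nW D F w)⁻¹) * (nS D F i)⁻¹ by group, ih hw.tail,
      h.nS_conj_X hw.head (by rw [actW_fst]; exact h.rword_lt hw.tail hr)]
    show _ = X D (T.refl i (actW T w r).1) (((T.eta i (actW T w r).1 * (actW T w r).2 : ℤ) : F) * t)
    push_cast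
    rw [mul_assoc]

/-- The homomorphism of one component. -/
theorem exists_compHom [Fintype F] (c : CompData) {v : List ℤ} (hR : c.chkRoots T v = true)
    (hS : c.chkRels T = true) :
    ∃ φ : SL(c.k, F) →* GL D.Idx F, ∀ i j : Fin c.k, i ≠ j → ∀ t : F,
      φ (tv i j t) = X D (c.R i j) ((c.ε i j : F) * t) := by
  simp only [CompData.chkRoots, CompData.chkRels, Bool.and_eq_true, List.all_eq_true, decide_eq_true_eq,
    Bool.or_eq_true] at hR hS
  obtain ⟨hk, hR⟩ := hR
  suffices ∀ n, n = c.k → ∃ φ : SL(n, F) →* GL D.Idx F, ∀ i j : Fin n, i ≠ j → ∀ t : F,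
      φ (tv i j t) = X D (c.R i j) ((c.ε i j : F) * t) from this c.k rfl
  intro n hn
  have hp : ∀ {i j : Fin n}, i ≠ j → ((i : ℕ), (j : ℕ)) ∈ c.pairs := fun {i j} hij =>
    c.mem_pairs.2 ⟨hn ▸ i.2, hn ▸ j.2, Fin.val_ne_of_ne hij⟩
  rcases Nat.lt_or_ge n 3 with h3 | h3
  · obtain rfl : n = 2 := by omega
    have h01 := hR _ (hp (i := (0 : Fin 2)) (j := 1) (by decide))
    obtain ⟨φ, -, hu, hv⟩ := h.exists_sl2_hom (F := F) h01.1
    refine ⟨φ, fun i j hij t => ?_⟩
    rw [tv_def hij, CfsgLib.CTBond.transvection_two hij]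
    have hε : c.ε i j = 1 := (hR _ (hp hij)).2.2.2.2.2.1 hn.symm
    rw [hε, Int.cast_one, one_mul]
    fin_cases i <;> fin_cases j <;> first | exact absurd rfl hij | skip
    · exact hu _ t rfl
    · have h10 : c.R 1 0 = T.neg (c.R 0 1) := h01.2.2.2.1
      show φ (CfsgLib.CTBond.tLo t) = X D (c.R 1 0) t
      rw [h10]
      exact hv _ t rfl
  · let Y : Fin n → Fin n → F → GL D.Idx F := fun i j t => X D (c.R i j) ((c.ε i j : F) * t)
    have hlt : ∀ {i j : Fin n}, i ≠ j → c.R i j < T.n := fun hij => (hR _ (hp hij)).1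
    have hcomm : ∀ i j k l : Fin n, i ≠ j → k ≠ l → j ≠ k → i ≠ l → ∀ s t,
        Commute (Y i j s) (Y k l t) := by
      intro i j k l hij hkl hjk hil s t
      rcases hS _ (hp hij) _ (hp hkl) with ((e | ⟨e, -⟩) | e)
      · rw [Prod.mk.injEq] at e
        obtain ⟨rfl, rfl⟩ : i = k ∧ j = l := ⟨Fin.ext e.1, Fin.ext e.2⟩
        show _ * _ = _ * _
        rw [h.X_add (hlt hij), h.X_add (hlt hij), add_comm]
      · exact absurd (Fin.ext e) hil
      · rw [decide_eq_false (fun e' => hjk (Fin.ext e')), cond_false] at e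
        simp only [Bool.or_eq_true, decide_eq_true_eq] at e
        obtain ⟨h1, h2, h3⟩ := e.resolve_left fun e' => hil (Fin.ext e')
        exact commute_X h (hlt hij) (hlt hkl) h1 h2 h3 _ _
    have R : St Y := by
      refine ⟨fun i j hij s t => ?_, hcomm, fun i j k hij hjk hik s t => ?_⟩
      · show X D _ _ = X D _ _ * X D _ _
        rw [h.X_add (hlt hij), mul_add]
      · rcases hS _ (hp hij) _ (hp hjk) with ((e | ⟨e, -⟩) | e)
        · rw [Prod.mk.injEq] at e; exact absurd (Fin.ext e.1) hij
        · exact absurd (Fin.ext e) hik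
        · rw [decide_eq_true rfl, cond_true, decide_eq_true_eq] at e
          obtain ⟨h1, h2, h3, h4⟩ := e
          obtain ⟨q, hq⟩ : ∃ q, T.commTerms (c.R i j) (c.R j k) = [q] := by
            match hL : T.commTerms (c.R i j) (c.R j k) with
            | [] => rw [hL] at h3; simp at h3
            | [q] => exact ⟨q, rfl⟩
            | _ :: _ :: _ => rw [hL] at h3; simp at h3
          obtain ⟨q1, M, a, b⟩ := q
          rw [hq] at h3 h4
          simp only [List.map_cons, List.map_nil, List.cons.injEq, and_true, Prod.mk.injEq] at h3 h4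
          obtain ⟨rfl, rfl, rfl⟩ := h3
          have hε : ∀ {i j : Fin n}, i ≠ j → (c.ε i j : F) * (c.ε i j : F) = 1 := fun {i j} hij => by
            rcases (hR _ (hp hij)).2.2.1 with e | e <;> simp [e]
          have hsq : ∀ t u : F, Commute (X D (c.R j k) t) (X D (c.R i k) u) := fun t u => by
            have := hcomm j k i k hjk hik (Ne.symm hik) hjk ((c.ε j k : F) * t) ((c.ε i k : F) * u)
            simpa only [Y, ← mul_assoc, hε hjk, hε hik, one_mul] using this
          show ⁅X D _ _, X D _ _⁆ = X D _ _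
          rw [commutator_X h (hlt hij) (hlt hjk) h1 h2 hq hsq, ← h4]
          congr 1
          push_cast
          ring
    obtain ⟨e, he⟩ := presentation (K := F) n h3
    refine ⟨(PresentedGroup.toGroup (lift_rels R)).comp e.symm.toMonoidHom, fun i j hij t => ?_⟩
    show PresentedGroup.toGroup (lift_rels R) (e.symm (tv i j t)) = _
    rw [← he ⟨(i, j), hij⟩ t, e.symm_apply_apply, PresentedGroup.toGroup.of]

omit h in
theorem zpow_finset_sum {G : Type*} [CommGroup G] {α : Type*} (s : Finset α) (g : G) (f : α → ℤ) :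
    ∏ a ∈ s, g ^ f a = g ^ ∑ a ∈ s, f a := by
  classical
  induction s using Finset.cons_induction with
  | empty => simp
  | cons a s ha ih => rw [Finset.sum_cons, Finset.prod_cons, ih, _root_.zpow_add]

omit h in
theorem chi'_zpow (v : ℕ → ℤ) (u : Fˣ) (r : ℕ) :
    chi' T (fun m : Fin T.l => u ^ v m) r = (u : F) ^ expoF T v r := by
  rw [← Units.val_zpow_eq_zpow_val, expoF, ← zpow_finset_sum (G := Fˣ), Units.coe_prod]
  unfold chi' charOf
  refine Finset.prod_congr rfl fun i hi => ?_
  simp [extC, Finset.mem_range.1 hi, ← _root_.zpow_mul, Units.val_zpow_eq_zpow_val]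

omit h in
theorem chi'_prod {α : Type*} (s : Finset α) (c : α → Fin T.l → Fˣ) (r : ℕ) :
    chi' T (∏ a ∈ s, c a) r = ∏ a ∈ s, chi' T (c a) r := by
  classical
  induction s using Finset.cons_induction with
  | empty => simp [chi', charOf, extC]
  | cons a s ha ih => rw [Finset.prod_cons, Finset.prod_cons, chi'_mul, ih]

end CfsgLib.ClassSquare
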