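import Cfsg.Agent.Lib.ClassSquare.ChevClassSq
import Cfsg.Agent.Lib.Chev.SimpleData
import Cfsg.Agent.Lib.Chev.All

/-! The Levi data of the exceptional types (generated, checked by the kernel). -/

set_option autoImplicit false
set_option maxRecDepth 100000

namespace CfsgLib.ClassSquare

open CfsgLib.Chev

/-- The Levi data of type G2. -/
def leviG2 : LeviData where
  comps := [
    { k := 2
      rt := [[0, 7], [4, 0]]
      sg := [[1, 1], [1, 1]]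
      tau := [0, 1]
      tr := true
      perm := [0, 1]
      d := [1, 1] }]
  v := [1, 2]
  w := [0, 1, 0, 1, 0, 1]
  rem := [1]
  wit := [0]

theorem chkLeviG2 : leviG2.chk tabG2 = true := by
  decide +kernel

/-- The Levi data of type F4. -/
def leviF4 : LeviData where
  comps := [
    { k := 2
      rt := [[0, 33], [14, 0]]
      sg := [[1, 1], [1, 1]]
      tau := [1, 3, 4, 2]
      tr := true
      perm := [0, 1]
      d := [1, 1] },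
    { k := 3
      rt := [[0, 25, 26], [22, 0, 24], [21, 23, 0]]
      sg := [[1, 1, -1], [1, 1, 1], [-1, 1, 1]]
      tau := [1, 2, 2, 1]
      tr := true
      perm := [0, 1, 2]
      d := [1, 1, 1] }]
  v := [3, 6, 8, 4]
  w := [0, 1, 0, 2, 1, 0, 2, 1, 2, 3, 2, 1, 0, 2, 1, 2, 3, 2, 1, 0, 2, 1, 2, 3]
  rem := [1]
  wit := [0, 3]

theorem chkLeviF4 : leviF4.chk tabF4 = true := by
  decide +kernel

/-- The Levi data of type E6. -/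
def leviE6 : LeviData where
  comps := [
    { k := 4
      rt := [[0, 42, 43, 44], [29, 0, 39, 40], [28, 32, 0, 37], [27, 31, 34, 0]]
      sg := [[1, 1, -1, 1], [1, 1, 1, -1], [-1, 1, 1, 1], [1, -1, 1, 1]]
      tau := [1, 0, 0, 0, 0, 0]
      tr := false
      perm := [3, 2, 1, 0]
      d := [1, -1, 1, -1] }]
  v := [3, 4, 5, 7, 5, 3]
  w := [0, 1, 2, 0, 3, 1, 2, 0, 3, 2, 4, 3, 1, 2, 0, 3, 2, 4, 3, 1, 5, 4, 3, 1, 2, 0, 3, 2, 4, 3, 1, 5, 4, 3, 2, 0]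
  rem := [0, 1, 5]
  wit := [4]

theorem chkLeviE6 : leviE6.chk tabE6 = true := by
  decide +kernel

/-- The Levi data of type E7. -/
def leviE7 : LeviData where
  comps := [
    { k := 7
      rt := [[0, 93, 94, 95, 96, 97, 98], [32, 0, 73, 74, 75, 76, 77], [31, 52, 0, 69, 70, 71, 72], [30, 51, 56, 0, 66, 67, 68], [29, 50, 55, 59, 0, 64, 65], [28, 49, 54, 58, 61, 0, 63], [27, 48, 53, 57, 60, 62, 0]]
      sg := [[1, 1, -1, 1, -1, 1, -1], [1, 1, 1, -1, 1, -1, 1], [-1, 1, 1, 1, -1, 1, -1], [1, -1, 1, 1, 1, -1, 1], [-1, 1, -1, 1, 1, 1, -1], [1, -1, 1, -1, 1, 1, 1], [-1, 1, -1, 1, -1, 1, 1]]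
      tau := [-2, -2, -3, -4, -3, -2, -1]
      tr := true
      perm := [0, 1, 2, 3, 4, 5, 6]
      d := [1, 1, 1, 1, 1, 1, 1] }]
  v := [4, 7, 8, 12, 9, 6, 3]
  w := [0, 1, 2, 0, 3, 1, 2, 0, 3, 2, 4, 3, 1, 2, 0, 3, 2, 4, 3, 1, 5, 4, 3, 1, 2, 0, 3, 2, 4, 3, 1, 5, 4, 3, 2, 0, 6, 5, 4, 3, 1, 2, 0, 3, 2, 4, 3, 1, 5, 4, 3, 2, 0, 6, 5, 4, 3, 1, 2, 3, 4, 5, 6]
  rem := [1]
  wit := [0]

theorem chkLeviE7 : leviE7.chk tabE7 = true := by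
  decide +kernel

/-- The Levi data of type E8. -/
def leviE8 : LeviData where
  comps := [
    { k := 8
      rt := [[0, 162, 163, 164, 165, 166, 167, 168], [77, 0, 135, 136, 137, 138, 139, 140], [76, 104, 0, 130, 131, 132, 133, 134], [75, 103, 109, 0, 126, 127, 128, 129], [74, 102, 108, 113, 0, 123, 124, 125], [73, 101, 107, 112, 116, 0, 121, 122], [72, 100, 106, 111, 115, 118, 0, 120], [71, 99, 105, 110, 114, 117, 119, 0]]
      sg := [[1, 1, -1, 1, -1, 1, -1, 1], [1, 1, 1, -1, 1, -1, 1, -1], [-1, 1, 1, 1, -1, 1, -1, 1], [1, -1, 1, 1, 1, -1, 1, -1], [-1, 1, -1, 1, 1, 1, -1, 1], [1, -1, 1, -1, 1, 1, 1, -1], [-1, 1, -1, 1, -1, 1, 1, 1], [1, -1, 1, -1, 1, -1, 1, 1]]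
      tau := [1, 3, 3, 5, 4, 3, 2, 1]
      tr := true
      perm := [0, 1, 2, 3, 4, 5, 6, 7]
      d := [1, 1, 1, 1, 1, 1, 1, 1] }]
  v := [5, 8, 10, 15, 12, 9, 6, 3]
  w := [0, 1, 2, 0, 3, 1, 2, 0, 3, 2, 4, 3, 1, 2, 0, 3, 2, 4, 3, 1, 5, 4, 3, 1, 2, 0, 3, 2, 4, 3, 1, 5, 4, 3, 2, 0, 6, 5, 4, 3, 1, 2, 0, 3, 2, 4, 3, 1, 5, 4, 3, 2, 0, 6, 5, 4, 3, 1, 2, 3, 4, 5, 6, 7, 6, 5, 4, 3, 1, 2, 0, 3, 2, 4, 3, 1, 5, 4, 3, 2, 0, 6, 5, 4, 3, 1, 2, 3, 4, 5, 6, 7, 6, 5, 4, 3, 1, 2, 0, 3, 2, 4, 3, 1, 5, 4, 3, 2, 0, 6, 5, 4, 3, 1, 2, 3, 4, 5, 6, 7]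
  rem := [1]
  wit := [0]

theorem chkLeviE8 : leviE8.chk tabE8 = true := by
  decide +kernel

end CfsgLib.ClassSquare
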