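import Cfsg.Agent.Lib.ClassSquare.ChevGauss

/-!
Linear functions on the roots, and fixed points of diagonal actions on unipotent subgroups.
-/

set_option autoImplicit false
set_option linter.unusedSectionVars false

namespace CfsgLib.ClassSquare

open Cfsg.Lie CfsgLib.Chev CfsgLib.Chev.Cert

/-- The combination of the coordinates of a root with coefficients `v`. -/
def expoF (T : Tab) (v : ℕ → ℤ) (r : ℕ) : ℤ := ∑ m ∈ Finset.range T.l, v m * T.car m r

/-- The same with a list of coefficients, for evaluation. -/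
def expo (T : Tab) (v : List ℤ) (r : ℕ) : ℤ :=
  ((List.range T.l).map fun m => v.getD m 0 * T.car m r).sum

theorem expo_eq (T : Tab) (v : List ℤ) (r : ℕ) : expo T v r = expoF T (fun m => v.getD m 0) r := by
  unfold expo expoF
  rw [← List.sum_toFinset _ List.nodup_range, List.toFinset_range]

variable {D : ChevalleyDatum} {T : Tab} {C : Tab.Cover} (h : Cert D T C) {F : Type*} [Field F]
include h

theorem expoF_neg (v : ℕ → ℤ) {r : ℕ} (hr : r < T.n) : expoF T v (T.neg r) = -expoF T v r := by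
  simp only [expoF, ← Finset.sum_neg_distrib]
  exact Finset.sum_congr rfl fun j hj => by
    rw [(h.root_spec hr (Finset.mem_range.1 hj)).2.2.2, mul_neg]

theorem expoF_refl (v : ℕ → ℤ) {i r : ℕ} (hi : i < T.l) (hr : r < T.n) :
    expoF T v (T.refl i r) =
      expoF T (fun m => v m - if m = i then expoF T v (T.simple i) else 0) r := by
  unfold expoF
  rw [Finset.sum_congr rfl fun m (hm : m ∈ Finset.range T.l) => (show v m * T.car m (T.refl i r) =
      v m * T.car m r - T.car i r * (v m * T.car m (T.simple i)) by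
    rw [(h.refl_spec hi hr).2.2.2.2.2.2.2.1 m (Finset.mem_range.1 hm)]; ring)]
  simp only [sub_mul, Finset.sum_sub_distrib, ite_mul, zero_mul, Finset.sum_ite_eq', Finset.mem_range,
    hi, if_true, ← Finset.mul_sum]
  ring

theorem exists_expoF_rword {w : List ℕ} (hw : WordOK T w) (v : ℕ → ℤ) :
    ∃ v' : ℕ → ℤ, ∀ r < T.n, expoF T v (rword T w r) = expoF T v' r := by
  induction w generalizing v with
  | nil => exact ⟨v, fun r _ => rfl⟩
  | cons i w ih =>
    obtain ⟨v', hv'⟩ := ih hw.tail (fun m => v m - if m = i then expoF T v (T.simple i) else 0)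
    refine ⟨v', fun r hr => ?_⟩
    rw [rword_cons, expoF_refl h v hw.head (h.rword_lt hw.tail hr), hv' r hr]

theorem expoF_chainRoot (v : ℕ → ℤ) {r s i u : ℕ} (hr : r < T.n) (hs : s < T.n) (hi : 1 ≤ i)
    (e : T.chainRoot r s i = some u) : expoF T v u = expoF T v s + i * expoF T v r := by
  simp only [Tab.chainRoot, Option.map_eq_some_iff] at e
  obtain ⟨a, ha, rfl⟩ := e
  have hq : ((a.1, a.2), i) ∈ (T.entry r s).zipIdx 1 :=
    List.mk_mem_zipIdx_iff_le_and_getElem?_sub.2 ⟨hi, ha⟩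
  simp only [expoF, Finset.mul_sum, ← Finset.sum_add_distrib]
  refine Finset.sum_congr rfl fun j hj => ?_
  rw [show T.car j a.1 = T.car j s + (i : ℤ) * T.car j r from h.lin_spec hr hs hq (Finset.mem_range.1 hj)]
  ring

theorem commTerms_expoF (v : ℕ → ℤ) {r s : ℕ} (hr : r < T.n) (hs : s < T.n) {q : ℕ × ℤ × ℕ × ℕ}
    (hq : q ∈ T.commTerms r s) :
    ∃ a b : ℕ, 0 < a ∧ 0 < b ∧ expoF T v q.1 = a * expoF T v r + b * expoF T v s := by
  rcases T.mem_commTerms hq with e | e | e | e | e | ⟨m, e, e'⟩ | ⟨m, e, e'⟩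
  · exact ⟨1, 1, one_pos, one_pos, by rw [expoF_chainRoot h v hr hs le_rfl e]; ring⟩
  · exact ⟨2, 1, two_pos, one_pos, by rw [expoF_chainRoot h v hr hs (by omega) e]; ring⟩
  · exact ⟨1, 2, one_pos, two_pos, by rw [expoF_chainRoot h v hs hr (by omega) e]; ring⟩
  · exact ⟨3, 1, by omega, one_pos, by rw [expoF_chainRoot h v hr hs (by omega) e]; ring⟩
  · exact ⟨1, 3, one_pos, by omega, by rw [expoF_chainRoot h v hs hr (by omega) e]; ring⟩
  · refine ⟨3, 2, by omega, two_pos, ?_⟩
    rw [expoF_chainRoot h v (h.chainRoot_lt hr hs e) hs le_rfl e', expoF_chainRoot h v hr hs (by omega) e]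
    push_cast; ring
  · refine ⟨2, 3, two_pos, by omega, ?_⟩
    rw [expoF_chainRoot h v (h.chainRoot_lt hs hr e) hr le_rfl e', expoF_chainRoot h v hs hr (by omega) e]
    push_cast; ring

/-- Sums keep the sign. -/
theorem commTerms_expoF_pos (v : ℕ → ℤ) {r s : ℕ} (hr : r < T.n) (hs : s < T.n) {q : ℕ × ℤ × ℕ × ℕ}
    (hq : q ∈ T.commTerms r s) (h1 : 0 ≤ expoF T v r) (h2 : 0 < expoF T v s) : 0 < expoF T v q.1 := by
  obtain ⟨a, b, ha, hb, e⟩ := commTerms_expoF h v hr hs hq
  rw [e]
  have : (0 : ℤ) < b * expoF T v s := mul_pos (by exact_mod_cast hb) h2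
  have : (0 : ℤ) ≤ a * expoF T v r := mul_nonneg (by positivity) h1
  omega

theorem commTerms_expoF_neg (v : ℕ → ℤ) {r s : ℕ} (hr : r < T.n) (hs : s < T.n) {q : ℕ × ℤ × ℕ × ℕ}
    (hq : q ∈ T.commTerms r s) (h1 : expoF T v r ≤ 0) (h2 : expoF T v s < 0) : expoF T v q.1 < 0 := by
  obtain ⟨a, b, ha, hb, e⟩ := commTerms_expoF h v hr hs hq
  rw [e]
  have : (b : ℤ) * expoF T v s < 0 := mul_neg_of_pos_of_neg (by exact_mod_cast hb) h2
  have : (a : ℤ) * expoF T v r ≤ 0 := mul_nonpos_of_nonneg_of_nonpos (by positivity) h1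
  omega

/-- What commutes with an action by scalars different from one on a closed set of positive roots. -/
theorem eq_one_of_commute {S : Set ℕ} (hS : S ⊆ posSet T) (hcl : CommClosed T S) {g : GL D.Idx F}
    {χ : ℕ → F} (hg : ∀ r ∈ S, ∀ t, g * X D r t * g⁻¹ = X D r (χ r * t)) (hχ : ∀ r ∈ S, χ r ≠ 1)
    {u : GL D.Idx F} (hu : u ∈ gen D F S) (hc : g * u * g⁻¹ = u) : u = 1 := by
  classical
  set L := (posList T).filter fun r => decide (r ∈ S) with hL
  have hmem : ∀ {r}, r ∈ L ↔ r ∈ S := fun {r} => by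
    rw [hL, List.mem_filter, mem_posList, decide_eq_true_eq]
    exact ⟨fun e => e.2, fun e => ⟨hS e, e⟩⟩
  have hset : {r | r ∈ L} = S := Set.ext fun r => hmem
  have hsort : L.SortedLT := ((sortedLT_posList (T := T)).pairwise.filter _).sortedLT
  have hpos : ∀ r ∈ L, r ∈ posSet T := fun r hr => hS (hmem.1 hr)
  obtain ⟨t, rfl⟩ := h.exists_prodX L hsort hpos (by rwa [hset]) u (by rwa [hset])
  have e1 : g * prodX D L t * g⁻¹ = prodX D L fun r => χ r * t r := by
    rw [prodX, ← MulAut.conj_apply, map_list_prod, prodX, List.map_map]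
    congr 1
    exact List.map_congr_left fun r hr => hg r (hmem.1 hr) _
  rw [hc] at e1
  have h0 := h.prodX_inj L hsort hpos _ _ e1
  refine List.prod_eq_one fun x hx => ?_
  obtain ⟨r, hr, rfl⟩ := List.mem_map.1 hx
  have h1 := h0 r hr
  have : t r = 0 := by
    by_contra hne
    exact hχ r (hmem.1 hr) ((mul_eq_right₀ hne).1 h1.symm)
  rw [this, h.X_zero (hS (hmem.1 hr)).2]

end CfsgLib.ClassSquare
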