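import Cfsg.Agent.Lib.Chev.BN
import Cfsg.Agent.Lib.Chev.SL2
import Cfsg.Agent.Lib.Chev.RadicalCentralizer
import Cfsg.Agent.Lib.Chev.Simple
import Cfsg.Agent.Lib.Chev.TwistWord
import Cfsg.Agent.Lib.Chev.GTorus.Weyl

/-!
Gauss decompositions with prescribed toral part in Chevalley groups: every element other than `1` is
conjugate into `U⁻ t U` for a toral element `t` with prescribed coordinates.
-/

set_option autoImplicit false
set_option linter.unusedSectionVars false

namespace CfsgLib.ClassSquare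

open Cfsg.Lie CfsgLib.Chev CfsgLib.Chev.Cert
open scoped MatrixGroups

/-- The value of the character of the parameters `c` at the root `r`. -/
def chi' (T : Tab) {F : Type*} [Field F] (c : Fin T.l → Fˣ) (r : ℕ) : F := charOf T (extC T c) r

/-- The negative roots other than the negative of the `i`-th simple root. -/
def negBut (T : Tab) (i : ℕ) : Set ℕ := {s | s < T.half ∧ s ≠ T.neg (T.simple i)}

/-- Conjugate to an element of `U⁻ t(c) U`. -/
def InGauss (D : ChevalleyDatum) (T : Tab) {F : Type*} [Field F] (g : GL D.Idx F) (c : Fin T.l → Fˣ) :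
    Prop :=
  ∃ y ∈ D.group F, ∃ a ∈ D.negUnipotent F, ∃ b ∈ D.posUnipotent F,
    y * g * y⁻¹ = a * torusHom (D := D) (T := T) c * b

section Units

variable {F : Type*} [Field F] [Fintype F]

/-- A unit avoiding finitely many equations `b λ ^ A = 1`. -/
theorem exists_lambda {m : ℕ} (A : Fin m → ℤ) (b : Fin m → F)
    (hA : ∑ j, (A j).natAbs + 1 < Fintype.card F) :
    ∃ u : Fˣ, ∀ j, A j ≠ 0 → b j * (u : F) ^ A j ≠ 1 := by
  classical
  let Z : Fin m → Finset F := fun j =>
    if A j = 0 then ∅ else (Polynomial.nthRoots (A j).natAbs (if 0 < A j then (b j)⁻¹ else b j)).toFinset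
  have hZ : ((Finset.univ.biUnion Z) ∪ {0}).card < Fintype.card F := by
    refine lt_of_le_of_lt ((Finset.card_union_le _ _).trans (Nat.add_le_add_right
      (Finset.card_biUnion_le.trans (Finset.sum_le_sum fun j _ => ?_)) _)) hA
    simp only [Z]
    split_ifs
    · simp
    all_goals exact (Multiset.toFinset_card_le _).trans (Polynomial.card_nthRoots _ _)
  obtain ⟨x, -, hx⟩ := Finset.exists_mem_notMem_of_card_lt_card (hZ.trans_eq Finset.card_univ.symm)
  simp only [Finset.mem_union, Finset.mem_biUnion, Finset.mem_univ, true_and, not_or, not_exists,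
    Finset.mem_singleton] at hx
  refine ⟨Units.mk0 x hx.2, fun j hj e => hx.1 j ?_⟩
  have hk : 0 < (A j).natAbs := Int.natAbs_pos.2 hj
  simp only [Z, if_neg hj, Multiset.mem_toFinset, Polynomial.mem_nthRoots hk]
  rw [Units.val_mk0] at e
  split_ifs with hp
  · rw [eq_inv_of_mul_eq_one_right (by
      rwa [← zpow_natCast, Int.natAbs_of_nonneg hp.le] : b j * x ^ (A j).natAbs = 1)]
  · rw [← Int.neg_neg (A j), _root_.zpow_neg, show -A j = ((A j).natAbs : ℤ) by omega, zpow_natCast] at e
    exact ((mul_inv_eq_one₀ (pow_ne_zero _ hx.2)).1 e).symm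

end Units

variable {D : ChevalleyDatum} {T : Tab} {C : Tab.Cover} (h : Cert D T C) {F : Type*} [Field F]
include h

omit h in
theorem chi'_mul (c d : Fin T.l → Fˣ) (r : ℕ) : chi' T (c * d) r = chi' T c r * chi' T d r := by
  unfold chi' charOf
  rw [← Finset.prod_mul_distrib]
  refine Finset.prod_congr rfl fun i hi => ?_
  rw [← mul_zpow]
  simp [extC, Finset.mem_range.1 hi]

omit h in
theorem chi'_single (i : Fin T.l) (u : Fˣ) (r : ℕ) :
    chi' T (Pi.mulSingle i u) r = (u : F) ^ T.car i r := by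
  unfold chi' charOf
  rw [Finset.prod_eq_single (i : ℕ)]
  · simp [extC, i.2]
  · intro j hj hne
    have hj' := Finset.mem_range.1 hj
    have : (⟨j, hj'⟩ : Fin T.l) ≠ i := fun e => hne (congrArg Fin.val e)
    simp [extC, hj', Pi.mulSingle_eq_of_ne this]
  · intro hni
    exact absurd (Finset.mem_range.2 i.2) hni

theorem chi'_ne_zero (c : Fin T.l → Fˣ) (r : ℕ) : chi' T c r ≠ 0 :=
  charOf_ne_zero (fun i _ => extC_ne_zero c i) r

theorem torus_conj (c : Fin T.l → Fˣ) {r : ℕ} (hr : r < T.n) (t : F) :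
    torusHom (D := D) (T := T) c * X D r t * (torusHom (D := D) (T := T) c)⁻¹ = X D r (chi' T c r * t) :=
  GTorus.torusHom_conj_X h c hr t

theorem hU_simple_eq (i : Fin T.l) (u : Fˣ) :
    hU D (T.simple i) (u : F) = torusHom (D := D) (T := T) (Pi.mulSingle i u) := by
  rw [h.hU_eq_torusHom (h.simple_lt i.2)]
  congr 1
  funext j
  rw [(h.simple_spec i.2).2.2.2 j j.2]
  by_cases e : i = j
  · subst e; simp
  · rw [if_neg fun e' => e (Fin.ext e'), Pi.mulSingle_eq_of_ne (Ne.symm e), zpow_zero]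

theorem torusHom_mem_group (c : Fin T.l → Fˣ) : torusHom (D := D) (T := T) c ∈ D.group F :=
  h.diagonal_le_group (h.range_torusHom.le ⟨c, rfl⟩)

theorem torusHom_eq_one {c : Fin T.l → Fˣ} (hc : ∀ i : Fin T.l, chi' T c (T.simple i) = 1) :
    torusHom (D := D) (T := T) c = 1 := by
  rw [← MonoidHom.mem_ker, h.ker_torusHom, MonoidHom.mem_ker]
  funext j
  refine Units.ext ?_
  rw [coe_matHom_cartanT]
  exact hc j

/-! ### The parts away from a simple root -/

theorem neg_commTerms_simple {i r s : ℕ} (hi : i < T.l) (hr : r < T.n)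
    (hrp : ∀ k < T.l, k ≠ i → h.wt k r = 0) (hs : s ∈ negBut T i) {q : ℕ × ℤ × ℕ × ℕ}
    (hq : q ∈ T.commTerms r s) : q.1 ∈ negBut T i := by
  have hsn : s < T.n := by have := h.two_mul_half; have := hs.1; omega
  obtain ⟨k, hk, hki, hpos⟩ := h.exists_wt_pos_of_ne_simple ((h.half_le_neg_iff hsn).2 hs.1)
    (neg_lt (T := T) hsn) hi (fun e => hs.2 (by rw [← e, neg_neg (T := T) hsn]))
  rw [h.wt_neg hsn] at hpos
  obtain ⟨a, b, -, hb, he⟩ := h.commTerms_wt hr hsn hq
  have hlt := h.commTerms_lt hr hsn hq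
  have hq' : h.wt k q.1 < 0 := by
    rw [he k, hrp k hk hki, mul_zero, zero_add]
    exact mul_neg_of_pos_of_neg (by exact_mod_cast hb) (by omega)
  refine ⟨h.neg_of_wt_neg hk hlt hq', fun e => ?_⟩
  rw [e, (h.wt_simple_zero hi).2 k hk hki] at hq'
  exact lt_irrefl 0 hq'

theorem simple_normalizes_negBut {i : ℕ} (hi : i < T.l) {r : ℕ} (hr : r < T.n)
    (hw : ∀ k < T.l, k ≠ i → h.wt k r = 0) :
    gen D F {r} ≤ Subgroup.normalizer (gen D F (negBut T i) : Set (GL D.Idx F)) := by
  refine le_normalizer_closure fun g hg a ha => ?_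
  obtain ⟨b, rfl⟩ := (h.gen_singleton hr).1 hg
  obtain ⟨s, hs, u, rfl⟩ := ha
  have hsn : s < T.n := by have := h.two_mul_half; have := hs.1; omega
  obtain ⟨k, hk, hki, hpos⟩ := h.exists_wt_pos_of_ne_simple ((h.half_le_neg_iff hsn).2 hs.1)
    (neg_lt (T := T) hsn) hi (fun e => hs.2 (by rw [← e, neg_neg (T := T) hsn]))
  rw [h.wt_neg hsn] at hpos
  have h0 := hw k hk hki
  refine h.X_conj_mem (S := negBut T i) hr hsn ?_ ?_ hs (fun q hq => (neg_commTerms_simple h) hi hr hw hs hq) b u
  · intro e; rw [e, h0] at hpos; omega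
  · intro e; rw [e, h.wt_neg hr, h0] at hpos; omega

theorem gen_negBut_le {i : ℕ} : gen D F (negBut T i) ≤ D.negUnipotent F :=
  h.gen_neg_le fun _ hs => hs.1

theorem gen_posBut_le {i : ℕ} : gen D F (posBut T i) ≤ D.posUnipotent F :=
  h.gen_pos_le fun _ hs => hs.1

theorem neg_simple_lt_half {i : ℕ} (hi : i < T.l) : T.neg (T.simple i) < T.half := by
  have := (h.simple_spec hi).1
  have := h.simple_lt hi
  have := h.two_mul_half
  unfold Tab.neg; omega

theorem exists_negBut_mul {i : ℕ} (hi : i < T.l) {a : GL D.Idx F} (ha : a ∈ D.negUnipotent F) :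
    ∃ v ∈ gen D F (negBut T i), ∃ e : F, a = v * X D (T.neg (T.simple i)) e := by
  have hp := neg_lt (T := T) (h.simple_lt hi)
  have hle : D.negUnipotent F ≤ gen D F (negBut T i) ⊔ gen D F {T.neg (T.simple i)} := by
    rw [h.negUnipotent_eq]
    refine (Subgroup.closure_le _).2 ?_
    rintro _ ⟨s, hs, u, rfl⟩
    by_cases e : s = T.neg (T.simple i)
    · exact Subgroup.mem_sup_right (X_mem_gen D (show s ∈ ({T.neg (T.simple i)} : Set ℕ) from e) u)
    · exact Subgroup.mem_sup_left (X_mem_gen D (S := negBut T i) ⟨hs, e⟩ u)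
  have ha' := hle ha
  rw [← SetLike.mem_coe, Subgroup.coe_mul_of_right_le_normalizer_left _ _
    ((simple_normalizes_negBut h) hi hp (h.wt_simple_zero hi).2)] at ha'
  obtain ⟨v, hv, x, hx, rfl⟩ := ha'
  obtain ⟨e, rfl⟩ := (h.gen_singleton hp).1 hx
  exact ⟨v, hv, e, rfl⟩

theorem exists_mul_posBut {i : ℕ} (hi : i < T.l) {b : GL D.Idx F} (hb : b ∈ D.posUnipotent F) :
    ∃ v ∈ gen D F (posBut T i), ∃ e : F, b = X D (T.simple i) e * v := by
  obtain ⟨v, hv, e, he⟩ := h.exists_posBut_mul hi (inv_mem hb)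
  refine ⟨v⁻¹, inv_mem hv, -e, ?_⟩
  rw [← _root_.inv_inv b, he, _root_.mul_inv_rev, h.X_inv (h.simple_lt hi)]

/-! ### The moves -/

/-- The identity of the rank one group. -/
theorem X_mul_X_neg {i : ℕ} (hi : i < T.l) (t c : F) (hl : 1 + t * c ≠ 0) :
    X D (T.simple i) t * X D (T.neg (T.simple i)) c = X D (T.neg (T.simple i)) (c / (1 + t * c)) *
      hU D (T.simple i) (1 + t * c) * X D (T.simple i) (t / (1 + t * c)) := by
  have hp := h.simple_lt hi
  obtain ⟨φ, -, hu, hv⟩ := h.exists_sl2_hom (F := F) hp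
  let up : F → SL(2, F) := fun s => ⟨!![1, s; 0, 1], by simp [Matrix.det_fin_two_of]⟩
  let lo : F → SL(2, F) := fun s => ⟨!![1, 0; s, 1], by simp [Matrix.det_fin_two_of]⟩
  have eu : ∀ s, X D (T.simple i) s = φ (up s) := fun s => (hu (up s) s rfl).symm
  have el : ∀ s, X D (T.neg (T.simple i)) s = φ (lo s) := fun s => (hv (lo s) s rfl).symm
  simp only [hU, nU, h.neg_eq hp, eu, el, ← map_mul]
  congr 1
  refine Subtype.ext ?_
  have cu : ∀ s, (up s).1 = !![1, s; 0, 1] := fun _ => rfl
  have cl : ∀ s, (lo s).1 = !![1, 0; s, 1] := fun _ => rfl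
  simp only [Matrix.SpecialLinearGroup.coe_mul, cu, cl]
  ext a b
  generalize hl' : 1 + t * c = l at hl ⊢
  fin_cases a <;> fin_cases b <;> simp [Matrix.mul_apply, Fin.sum_univ_two] <;> field_simp <;>
    first | linear_combination hl' | linear_combination -hl' | linear_combination (0 : F)

/-- The move at a node. -/
theorem move {i : Fin T.l} {g y v' v : GL D.Idx F} {c : Fin T.l → Fˣ} {e f : F} (hy : y ∈ D.group F)
    (hv' : v' ∈ gen D F (negBut T i)) (hv : v ∈ gen D F (posBut T i))
    (hrep : y * g * y⁻¹ = v' * X D (T.neg (T.simple i)) e * torusHom (D := D) (T := T) c *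
      (X D (T.simple i) f * v))
    (hmov : e ≠ 0 ∨ f ≠ 0 ∨ chi' T c (T.simple i) ≠ 1) (u : Fˣ) :
    InGauss D T g (c * Pi.mulSingle i u) := by
  have hp := h.simple_lt i.2
  have hm := neg_lt (T := T) hp
  set H := torusHom (D := D) (T := T) c with hH
  have hHX : ∀ {r : ℕ}, r < T.n → ∀ s : F, H * X D r s = X D r (chi' T c r * s) * H := fun hr s => by
    rw [← mul_inv_eq_iff_eq_mul]; exact (torus_conj h) c hr s
  have hXH : ∀ {r : ℕ}, r < T.n → ∀ s : F, X D r s * H = H * X D r ((chi' T c r)⁻¹ * s) := fun hr s => by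
    rw [hHX hr, mul_inv_cancel_left₀ ((chi'_ne_zero h) c _)]
  have hT : hU D (T.simple i) (u : F) * H = torusHom (D := D) (T := T) (c * Pi.mulSingle i u) := by
    rw [(hU_simple_eq h) i u, hH, mul_comm c, map_mul]
  -- conjugate by a root element and finish
  have fin : ∀ (r : ℕ) (t e' f' : F), (r = T.simple i ∨ r = T.neg (T.simple i)) →
      X D r t * (X D (T.neg (T.simple i)) e * H * X D (T.simple i) f) * (X D r t)⁻¹ =
        X D (T.neg (T.simple i)) e' * torusHom (D := D) (T := T) (c * Pi.mulSingle i u) *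
          X D (T.simple i) f' → InGauss D T g (c * Pi.mulSingle i u) := by
    intro r t e' f' hr hM
    have hrn : r < T.n := by rcases hr with rfl | rfl <;> assumption
    have hw : ∀ k < T.l, k ≠ (i : ℕ) → h.wt k r = 0 := by
      rcases hr with rfl | rfl
      · exact (h.wt_simple_zero i.2).1
      · exact (h.wt_simple_zero i.2).2
    have hx : X D r t ∈ gen D F {r} := X_mem_gen D (Set.mem_singleton r) t
    have h1 := (Subgroup.mem_normalizer_iff.1 ((simple_normalizes_negBut h) i.2 hrn hw hx) _).1 hv'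
    have h2 := (Subgroup.mem_normalizer_iff.1 (h.simple_normalizes_posBut i.2 hrn hw hx) _).1 hv
    refine ⟨X D r t * y, mul_mem (h.X_mem_group hrn t) hy,
      X D r t * v' * (X D r t)⁻¹ * X D (T.neg (T.simple i)) e', mul_mem ((gen_negBut_le h) h1) ?_,
      X D (T.simple i) f' * (X D r t * v * (X D r t)⁻¹), mul_mem (h.X_simple_mem_posUnipotent i.2 f')
        ((gen_posBut_le h) h2), ?_⟩
    · rw [h.negUnipotent_eq]
      exact X_mem_gen D (S := {r | r < T.half}) ((neg_simple_lt_half h) i.2) _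
    calc X D r t * y * g * (X D r t * y)⁻¹ = X D r t * (y * g * y⁻¹) * (X D r t)⁻¹ := by group
      _ = (X D r t * v' * (X D r t)⁻¹) *
          (X D r t * (X D (T.neg (T.simple i)) e * H * X D (T.simple i) f) * (X D r t)⁻¹) *
          (X D r t * v * (X D r t)⁻¹) := by rw [hrep]; group
      _ = _ := by rw [hM]; group
  by_cases he : e ≠ 0
  · obtain ⟨t, ht⟩ : ∃ t : F, 1 + t * e = u :=
      ⟨((u : F) - 1) / e, by rw [div_mul_cancel₀ _ he]; ring⟩
    have hne : (1 + t * e) ≠ 0 := by rw [ht]; exact u.ne_zero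
    refine fin (T.simple i) t (e / u) ((chi' T c (T.simple i))⁻¹ * (t / u) + (f + -t)) (Or.inl rfl) ?_
    rw [h.X_inv hp, show X D (T.simple i) t * (X D (T.neg (T.simple i)) e * H * X D (T.simple i) f) *
        X D (T.simple i) (-t) = X D (T.simple i) t * X D (T.neg (T.simple i)) e *
          (H * (X D (T.simple i) f * X D (T.simple i) (-t))) by group,
      (X_mul_X_neg h) i.2 t e hne, h.X_add hp, ht, ← hT, ← h.X_add hp ((chi' T c (T.simple i))⁻¹ * (t / u))]
    simp only [mul_assoc]
    rw [← mul_assoc (X D (T.simple i) (t / (u : F))) H, hXH hp]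
    simp only [mul_assoc]
  rw [not_not] at he
  subst he
  -- a nonzero upper entry
  have upper : ∀ (f : F), f ≠ 0 → ∃ t e' f' : F,
      X D (T.neg (T.simple i)) t * (H * X D (T.simple i) f) * (X D (T.neg (T.simple i)) t)⁻¹ =
        X D (T.neg (T.simple i)) e' * torusHom (D := D) (T := T) (c * Pi.mulSingle i u) *
          X D (T.simple i) f' := by
    intro f hf
    obtain ⟨t, ht⟩ : ∃ t : F, 1 + f * -t = u :=
      ⟨(1 - (u : F)) / f, by field_simp; ring⟩
    refine ⟨t, t + chi' T c (T.neg (T.simple i)) * (-t / u), f / u, ?_⟩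
    rw [h.X_inv hm, show X D (T.neg (T.simple i)) t * (H * X D (T.simple i) f) *
        X D (T.neg (T.simple i)) (-t) = X D (T.neg (T.simple i)) t *
          (H * (X D (T.simple i) f * X D (T.neg (T.simple i)) (-t))) by group,
      (X_mul_X_neg h) i.2 f (-t) (by rw [ht]; exact u.ne_zero), ht, ← h.X_add hm, mul_comm c, map_mul,
      ← (hU_simple_eq h) i u, ← hH]
    have hc : hU D (T.simple i) (u : F) * H = H * hU D (T.simple i) (u : F) := by
      rw [(hU_simple_eq h) i u, hH, ← map_mul, ← map_mul, mul_comm]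
    rw [hc]
    simp only [← mul_assoc]
    rw [mul_assoc _ H, hHX hm]
    simp only [mul_assoc]
  by_cases hf : f ≠ 0
  · obtain ⟨t, e', f', hM⟩ := upper f hf
    refine fin _ t e' f' (Or.inr rfl) ?_
    rw [h.X_zero hm, one_mul]
    exact hM
  rw [not_not] at hf
  subst hf
  have hχ : chi' T c (T.simple i) ≠ 1 := by simpa using hmov
  -- first make the upper entry nonzero
  set χ := chi' T c (T.simple i) with hχdef
  obtain ⟨t', e', f', hM⟩ := upper (χ⁻¹ - 1) (sub_ne_zero.2 fun e1 => hχ (inv_eq_one.1 e1))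
  have hone : X D (T.simple i) (1 : F) * H * (X D (T.simple i) 1)⁻¹ = H * X D (T.simple i) (χ⁻¹ - 1) := by
    rw [h.X_inv hp, hXH hp, mul_assoc, h.X_add hp, mul_one, ← hχdef, sub_eq_add_neg]
  have hx : X D (T.simple i) (1 : F) ∈ gen D F {T.simple i} := X_mem_gen D (Set.mem_singleton _) 1
  have hy' : X D (T.neg (T.simple i)) t' ∈ gen D F {T.neg (T.simple i)} :=
    X_mem_gen D (Set.mem_singleton _) t'
  have h1 := (Subgroup.mem_normalizer_iff.1 ((simple_normalizes_negBut h) i.2 hm (h.wt_simple_zero i.2).2 hy') _).1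
    ((Subgroup.mem_normalizer_iff.1 ((simple_normalizes_negBut h) i.2 hp (h.wt_simple_zero i.2).1 hx) _).1 hv')
  have h2 := (Subgroup.mem_normalizer_iff.1 (h.simple_normalizes_posBut i.2 hm (h.wt_simple_zero i.2).2 hy') _).1
    ((Subgroup.mem_normalizer_iff.1 (h.simple_normalizes_posBut i.2 hp (h.wt_simple_zero i.2).1 hx) _).1 hv)
  set P := X D (T.simple i) (1 : F)
  set Q := X D (T.neg (T.simple i)) t'
  refine ⟨Q * P * y, mul_mem (mul_mem (h.X_mem_group hm _) (h.X_mem_group hp _)) hy,
    Q * (P * v' * P⁻¹) * Q⁻¹ * X D (T.neg (T.simple i)) e', mul_mem ((gen_negBut_le h) h1) ?_,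
    X D (T.simple i) f' * (Q * (P * v * P⁻¹) * Q⁻¹), mul_mem (h.X_simple_mem_posUnipotent i.2 f')
      ((gen_posBut_le h) h2), ?_⟩
  · rw [h.negUnipotent_eq]
    exact X_mem_gen D (S := {r | r < T.half}) ((neg_simple_lt_half h) i.2) _
  rw [h.X_zero hm, h.X_zero hp, one_mul, mul_one] at hrep
  calc Q * P * y * g * (Q * P * y)⁻¹ = Q * (P * (y * g * y⁻¹) * P⁻¹) * Q⁻¹ := by group
    _ = (Q * (P * v' * P⁻¹) * Q⁻¹) * (Q * (P * H * P⁻¹) * Q⁻¹) * (Q * (P * v * P⁻¹) * Q⁻¹) := by
      rw [hrep]; group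
    _ = _ := by rw [hone, hM]; group

theorem move_good {i : Fin T.l} {g : GL D.Idx F} {c : Fin T.l → Fˣ} (hg : InGauss D T g c)
    (hc : chi' T c (T.simple i) ≠ 1) (u : Fˣ) : InGauss D T g (c * Pi.mulSingle i u) := by
  obtain ⟨y, hy, a, ha, b, hb, hrep⟩ := hg
  obtain ⟨v', hv', e, rfl⟩ := (exists_negBut_mul h) i.2 ha
  obtain ⟨v, hv, f, rfl⟩ := (exists_mul_posBut h) i.2 hb
  exact (move h) hy hv' hv hrep (Or.inr (Or.inr hc)) u

/-! ### Existence -/

theorem nS_conj_negBut {i : ℕ} (hi : i < T.l) {v : GL D.Idx F} (hv : v ∈ gen D F (negBut T i)) :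
    nS D F i * v * (nS D F i)⁻¹ ∈ D.negUnipotent F := by
  rw [h.negUnipotent_eq]
  refine conj_gen_le (fun r hr => ?_) hv
  have hrn : r < T.n := by have := h.two_mul_half; have := hr.1; omega
  refine ⟨T.refl i r, ?_, h.Maps_nS hi hrn⟩
  have h1 := (h.refl_spec hi (neg_lt (T := T) hrn)).2.2.2.1 ((h.half_le_neg_iff hrn).2 hr.1)
    (fun e => hr.2 (by rw [← e, neg_neg (T := T) hrn]))
  rw [(h.refl_spec hi hrn).2.2.1] at h1
  exact (h.half_le_neg_iff (h.refl_lt hi hrn)).1 h1

theorem rword_reverse' {w : List ℕ} (hw : WordOK T w) {r : ℕ} (hr : r < T.n) :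
    rword T w.reverse (rword T w r) = r := by
  have := h.rword_reverse (w := w.reverse) (fun i hi => hw i (List.mem_reverse.1 hi)) hr
  rwa [List.reverse_reverse] at this

/-- A movable node. -/
theorem exists_move {g : GL D.Idx F} {c : Fin T.l → Fˣ} (hg : InGauss D T g c) (hne : g ≠ 1) :
    ∃ (c' : Fin T.l → Fˣ) (i : Fin T.l), ∀ u : Fˣ, InGauss D T g (c' * Pi.mulSingle i u) := by
  by_contra hno
  push Not at hno
  have key : ∀ {y a b : GL D.Idx F} {c : Fin T.l → Fˣ}, y ∈ D.group F → a ∈ D.negUnipotent F →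
      b ∈ D.posUnipotent F → y * g * y⁻¹ = a * torusHom (D := D) (T := T) c * b → ∀ i : Fin T.l,
      chi' T c (T.simple i) = 1 ∧ a ∈ gen D F (negBut T i) ∧ b ∈ gen D F (posBut T i) := by
    intro y a b c hy ha hb hrep i
    obtain ⟨u, hu⟩ := hno c i
    obtain ⟨v', hv', e, rfl⟩ := (exists_negBut_mul h) i.2 ha
    obtain ⟨v, hv, f, rfl⟩ := (exists_mul_posBut h) i.2 hb
    have h0 : ¬(e ≠ 0 ∨ f ≠ 0 ∨ chi' T c (T.simple i) ≠ 1) := fun hm => hu ((move h) hy hv' hv hrep hm u)
    push Not at h0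
    obtain ⟨rfl, rfl, h3⟩ := h0
    refine ⟨h3, ?_, ?_⟩
    · rwa [h.X_zero (neg_lt (T := T) (h.simple_lt i.2)), mul_one]
    · rwa [h.X_zero (h.simple_lt i.2), one_mul]
  obtain ⟨y, hy, a, ha, b, hb, hrep⟩ := hg
  have h1 : torusHom (D := D) (T := T) c = 1 := (torusHom_eq_one h) fun i => (key hy ha hb hrep i).1
  rw [h1, mul_one] at hrep
  have hword : ∀ w, WordOK T w → nW D F w * a * (nW D F w)⁻¹ ∈ D.negUnipotent F ∧
      nW D F w * b * (nW D F w)⁻¹ ∈ D.posUnipotent F := by
    intro w
    induction w with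
    | nil => intro _; simpa [nW] using And.intro ha hb
    | cons i w ih =>
      intro hw
      obtain ⟨h2, h3⟩ := ih hw.tail
      have hr : nW D F w * y * g * (nW D F w * y)⁻¹ =
          (nW D F w * a * (nW D F w)⁻¹) * torusHom (D := D) (T := T) (1 : Fin T.l → Fˣ) *
            (nW D F w * b * (nW D F w)⁻¹) := by
        rw [map_one, mul_one,
          show nW D F w * y * g * (nW D F w * y)⁻¹ = nW D F w * (y * g * y⁻¹) * (nW D F w)⁻¹ by group, hrep]
        group
      obtain ⟨-, h4, h5⟩ := key (mul_mem (h.monomial_le_group (h.nW_mem_monomial hw.tail)) hy) h2 h3 hr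
        ⟨i, hw.head⟩
      constructor
      · rw [nW_cons, show nS D F i * nW D F w * a * (nS D F i * nW D F w)⁻¹ =
          nS D F i * (nW D F w * a * (nW D F w)⁻¹) * (nS D F i)⁻¹ by group]
        exact (nS_conj_negBut h) hw.head h4
      · rw [nW_cons, show nS D F i * nW D F w * b * (nS D F i * nW D F w)⁻¹ =
          nS D F i * (nW D F w * b * (nW D F w)⁻¹) * (nS D F i)⁻¹ by group]
        exact (gen_posBut_le h) (h.nS_conj_posBut hw.head h5)
  obtain ⟨w₀, hw₀, hneg⟩ := h.exists_longest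
  obtain ⟨h2, h3⟩ := hword w₀ hw₀
  have hinf : D.posUnipotent F ⊓ D.negUnipotent F = ⊥ :=
    eq_bot_iff.2 (le_trans (inf_le_inf_right _ le_sup_left) h.borel_inf_negUnipotent.le)
  have hb1 : nW D F w₀ * b * (nW D F w₀)⁻¹ ∈ D.posUnipotent F ⊓ D.negUnipotent F := by
    refine ⟨h3, ?_⟩
    rw [h.posUnipotent_eq] at hb
    rw [h.negUnipotent_eq]
    exact conj_gen_le (fun r hr => ⟨_, hneg r hr.1 hr.2, h.Maps_nW hw₀ hr.2⟩) hb
  have ha1 : nW D F w₀ * a * (nW D F w₀)⁻¹ ∈ D.posUnipotent F ⊓ D.negUnipotent F := by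
    refine ⟨?_, h2⟩
    rw [h.negUnipotent_eq] at ha
    rw [h.posUnipotent_eq]
    refine conj_gen_le (fun r (hr : r < T.half) => ?_) ha
    have hrn : r < T.n := by have := h.two_mul_half; omega
    refine ⟨rword T w₀ r, ⟨?_, h.rword_lt hw₀ hrn⟩, h.Maps_nW hw₀ hrn⟩
    have h6 := hneg _ ((h.half_le_neg_iff hrn).2 hr) (neg_lt (T := T) hrn)
    rw [h.rword_neg hw₀ hrn] at h6
    by_contra hlt
    have := (h.half_le_neg_iff (h.rword_lt hw₀ hrn)).2 (not_le.1 hlt)
    omega
  rw [hinf, Subgroup.mem_bot, conj_eq_one_iff] at hb1 ha1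
  rw [ha1, hb1, one_mul, conj_eq_one_iff] at hrep
  exact hne hrep

/-- Multiplying by a simple reflection that lengthens. -/
theorem inCell_step {i : ℕ} (hi : i < T.l) {w : List ℕ} (hw : WordOK T w)
    (hq : T.half ≤ rword T w.reverse (T.simple i)) {b : GL D.Idx F} (hb : b ∈ D.borelSubgroup F) :
    InCell D (nW D F (i :: w)) (nS D F i * b * nW D F w) := by
  obtain ⟨u, hu, t, ht, rfl⟩ := h.mem_borel_iff.1 hb
  obtain ⟨v, hv, a, rfl⟩ := h.exists_posBut_mul hi hu
  have hp := h.simple_lt hi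
  set s := nS D F i
  set n := nW D F w
  have hv' : s * v * s⁻¹ ∈ D.borelSubgroup F :=
    Subgroup.mem_sup_left ((gen_posBut_le h) (h.nS_conj_posBut hi hv))
  have ht' : n⁻¹ * t * n ∈ D.borelSubgroup F :=
    Subgroup.mem_sup_right
      ((Subgroup.mem_normalizer_iff''.1 (h.monomial_le_normalizer_diagonal (h.nW_mem_monomial hw)) t).1 ht)
  have hwr : WordOK T w.reverse := fun j hj => hw j (List.mem_reverse.1 hj)
  set q := rword T w.reverse (T.simple i) with hqdef
  have hqn : q < T.n := h.rword_lt hwr hp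
  obtain ⟨c, hc, e⟩ := h.Maps_nW (F := F) hw hqn
  rw [hqdef, h.rword_reverse hw hp] at e
  refine ⟨s * v * s⁻¹, hv', X D q (c⁻¹ * a) * (n⁻¹ * t * n), mul_mem (h.X_mem_borel hq hqn _) ht', ?_⟩
  have e1 := e (c⁻¹ * a)
  rw [mul_inv_cancel_left₀ hc] at e1
  simp only [s, n]
  rw [nW_cons, ← e1, hqdef]
  group

/-- Every element is conjugate into the big cell. -/
theorem exists_inGauss {g : GL D.Idx F} (hg : g ∈ D.group F) : ∃ c, InGauss D T g c := by
  classical
  obtain ⟨w₀, hw₀, hneg⟩ := h.exists_longest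
  set n₀ := nW D F w₀ with hn₀
  have hn₀g : n₀ ∈ D.group F := h.monomial_le_group (h.nW_mem_monomial hw₀)
  have hw₀r : WordOK T w₀.reverse := fun j hj => hw₀ j (List.mem_reverse.1 hj)
  have rev_pos : ∀ r < T.half, T.half ≤ rword T w₀.reverse r := by
    intro r hr
    have hrn : r < T.n := by have := h.two_mul_half; omega
    by_contra hlt
    have hs := h.rword_lt hw₀r hrn
    have h1 := hneg _ ((h.half_le_neg_iff hs).2 (not_le.1 hlt)) (neg_lt (T := T) hs)
    rw [h.rword_neg hw₀ hs, h.rword_reverse hw₀ hrn] at h1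
    have := (h.half_le_neg_iff hrn).2 hr
    omega
  have rev_neg : ∀ r, T.half ≤ r → r < T.n → rword T w₀.reverse r < T.half := by
    intro r hr hrn
    by_contra hlt
    have h1 := hneg _ (not_lt.1 hlt) (h.rword_lt hw₀r hrn)
    rw [h.rword_reverse hw₀ hrn] at h1
    omega
  let S : List ℕ → Finset ℕ := fun w => (Finset.Ico T.half T.n).filter fun r => rword T w r < T.half
  have main : ∀ k, ∀ w, WordOK T w → T.n - (S w).card = k → ∀ y ∈ D.group F,
      InCell D (nW D F w) (n₀ * (y * g * y⁻¹)) → ∃ c, InGauss D T g c := by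
    intro k
    induction k using Nat.strong_induction_on with
    | _ k ih =>
      intro w hw hk y hy hcell
      have hwr : WordOK T w.reverse := fun j hj => hw j (List.mem_reverse.1 hj)
      obtain ⟨b, hb, b', hb', e⟩ := hcell
      by_cases hex : ∃ i < T.l, T.half ≤ rword T w.reverse (T.simple i)
      · obtain ⟨i, hi, hq⟩ := hex
        have hp := h.simple_lt hi
        set q := rword T w.reverse (T.simple i) with hqdef
        have hqn : q < T.n := h.rword_lt hwr hp
        have hwi : WordOK T (i :: w) := fun j hj => by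
          rcases List.mem_cons.1 hj with rfl | hj
          · exact hi
          · exact hw j hj
        -- the conjugating element
        set q₀ := rword T w₀.reverse (T.neg (T.simple i)) with hq₀def
        have hq₀ : T.half ≤ q₀ := rev_pos _ ((neg_simple_lt_half h) hi)
        have hq₀n : q₀ < T.n := h.rword_lt hw₀r (neg_lt (T := T) hp)
        obtain ⟨c, hc, e0⟩ := h.Maps_nW (F := F) hw₀ hq₀n
        rw [hq₀def, h.rword_reverse hw₀ (neg_lt (T := T) hp)] at e0
        have e1 := e0 (c⁻¹ * 1)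
        rw [mul_inv_cancel_left₀ hc] at e1
        set z := X D q₀ (c⁻¹ * 1)
        have hz : z ∈ D.borelSubgroup F := h.X_mem_borel hq₀ hq₀n _
        refine ih _ ?_ (i :: w) hwi rfl (z * y) (mul_mem (h.borel_le_group hz) hy) ?_
        · have hlt : (S w).card < (S (i :: w)).card := by
            refine Finset.card_lt_card (Finset.ssubset_iff_subset_ne.2 ⟨fun r hr => ?_, fun e' => ?_⟩)
            · obtain ⟨hr1, hr2⟩ := Finset.mem_filter.1 hr
              have hrn := (Finset.mem_Ico.1 hr1).2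
              refine Finset.mem_filter.2 ⟨hr1, ?_⟩
              rw [rword_cons]
              have hs := h.rword_lt hw hrn
              have hne : rword T w r ≠ T.neg (T.simple i) := fun e'' => by
                have e2 := congrArg (rword T w.reverse) e''
                rw [(rword_reverse' h) hw hrn, h.rword_neg hwr hp, ← hqdef] at e2
                have := (Finset.mem_Ico.1 hr1).1
                rw [e2, h.half_le_neg_iff hqn] at this
                omega
              have h7 := (h.refl_spec hi (neg_lt (T := T) hs)).2.2.2.1 ((h.half_le_neg_iff hs).2 hr2)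
                (fun e'' => hne (by rw [← e'', neg_neg (T := T) hs]))
              rw [(h.refl_spec hi hs).2.2.1] at h7
              exact (h.half_le_neg_iff (h.refl_lt hi hs)).1 h7
            · have hqS : q ∈ S (i :: w) := by
                refine Finset.mem_filter.2 ⟨Finset.mem_Ico.2 ⟨hq, hqn⟩, ?_⟩
                rw [rword_cons, hqdef, h.rword_reverse hw hp, h.refl_simple hi]
                exact (neg_simple_lt_half h) hi
              rw [← e'] at hqS
              have := (Finset.mem_filter.1 hqS).2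
              rw [hqdef, h.rword_reverse hw hp] at this
              have := (h.simple_spec hi).1
              omega
          have : (S (i :: w)).card ≤ T.n := (Finset.card_filter_le _ _).trans (by simp)
          omega
        · have e2 : n₀ * (z * y * g * (z * y)⁻¹) =
              X D (T.neg (T.simple i)) 1 * (b * nW D F w * b') * z⁻¹ := by
            rw [← e, ← e1]; simp only [hn₀]; group
          obtain ⟨d, hd, d', hd', e3⟩ := (inCell_step h) hi hw hq
            (mul_mem (h.X_mem_borel (h.simple_spec hi).1 hp (1 : F)⁻¹) hb)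
          refine ⟨X D (T.simple i) (1 : F)⁻¹ * hU D (T.simple i) (-(1 : F)⁻¹) * d, ?_, d' * b' * z⁻¹,
            mul_mem (mul_mem hd' hb') (inv_mem hz), ?_⟩
          · exact mul_mem (mul_mem (h.X_mem_borel (h.simple_spec hi).1 hp _)
              (Subgroup.mem_sup_right (h.hU_mem hp (by simp)))) hd
          rw [e2, h.X_neg_simple_eq hi]
          calc X D (T.simple i) (1 : F)⁻¹ * (hU D (T.simple i) (-(1 : F)⁻¹) * nS D F i) *
                X D (T.simple i) (1 : F)⁻¹ * (b * nW D F w * b') * z⁻¹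
              = X D (T.simple i) (1 : F)⁻¹ * hU D (T.simple i) (-(1 : F)⁻¹) *
                (nS D F i * (X D (T.simple i) (1 : F)⁻¹ * b) * nW D F w) * b' * z⁻¹ := by group
            _ = _ := by rw [e3]; group
      · push Not at hex
        have hall : ∀ r, T.half ≤ r → r < T.n → rword T w.reverse r < T.half :=
          fun r hr hrn => h.rword_neg_of_simple hwr hex hr hrn
        obtain ⟨u, hu, t, ht, rfl⟩ := h.mem_borel_iff.1 hb
        obtain ⟨u', hu', t', ht', rfl⟩ := h.mem_borel_iff.1 hb'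
        have hmon : n₀⁻¹ * nW D F w ∈ D.monomialSubgroup F :=
          mul_mem (inv_mem (h.nW_mem_monomial hw₀)) (h.nW_mem_monomial hw)
        have hd : n₀⁻¹ * nW D F w ∈ D.diagonalSubgroup F := by
          refine h.mem_diagonal_of_perm hmon fun j hj s hs hm => ?_
          have hp := h.simple_lt hj
          have hr : rword T w (T.simple j) < T.half := by
            by_contra hge
            have := hall _ (not_lt.1 hge) (h.rword_lt hw hp)
            rw [(rword_reverse' h) hw hp] at this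
            have := (h.simple_spec hj).1
            omega
          have hrn := h.rword_lt hw hp
          have h1 : Maps D (n₀⁻¹ * nW D F w) (T.simple j) (rword T w₀.reverse (rword T w (T.simple j))) := by
            refine Maps_mul (h.Maps_nW hw hp) (Maps_inv ?_)
            have h2 := h.Maps_nW (F := F) hw₀ (h.rword_lt hw₀r hrn)
            rwa [h.rword_reverse hw₀ hrn] at h2
          have hsn : s < T.n := by have := h.two_mul_half; omega
          have h3 := h.Maps_unique hsn (h.rword_lt hw₀r hrn) hm h1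
          have := rev_pos _ hr
          omega
        have hnorm : n₀⁻¹ * t * n₀ ∈ D.diagonalSubgroup F :=
          (Subgroup.mem_normalizer_iff''.1 (h.monomial_le_normalizer_diagonal (h.nW_mem_monomial hw₀)) t).1 ht
        obtain ⟨c, hc⟩ := h.range_torusHom.ge (mul_mem (mul_mem hnorm hd) ht')
        refine ⟨c, y, hy, n₀⁻¹ * u * n₀, ?_, t'⁻¹ * u' * t', ?_, ?_⟩
        · rw [h.negUnipotent_eq]
          rw [h.posUnipotent_eq] at hu
          have := conj_gen_le (g := n₀⁻¹) (S' := {r | r < T.half}) (fun r hr => ?_) hu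
          · simpa using this
          refine ⟨rword T w₀.reverse r, rev_neg r hr.1 hr.2, Maps_inv ?_⟩
          have h2 := h.Maps_nW (F := F) hw₀ (h.rword_lt hw₀r hr.2)
          rwa [h.rword_reverse hw₀ hr.2] at h2
        · exact (Subgroup.mem_normalizer_iff''.1 (h.diagonal_le_normalizer_posUnipotent ht') u').1 hu'
        · rw [hc, ← inv_mul_cancel_left n₀ (y * g * y⁻¹), e]; group
  obtain ⟨b, hb, n, hn, u, hu, e⟩ := h.bruhat_exists (mul_mem hn₀g hg)
  obtain ⟨w, hw, t, ht, rfl⟩ := h.exists_word_of_monomial hn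
  refine main _ w hw rfl 1 (one_mem _) ⟨b, hb, t * u, mul_mem (Subgroup.mem_sup_right ht) ?_, ?_⟩
  · obtain ⟨π, hπ, -⟩ := h.exists_perm hn
    rw [h.cellUnipotent_eq fun r hr => ⟨(hπ r hr).1, (hπ r hr).2.1⟩] at hu
    exact Subgroup.mem_sup_left (h.gen_pos_le (fun r hr => hr.1) hu)
  · rw [one_mul, inv_one, mul_one, e]; group

section Target

variable [Fintype F] (hconn : Connected T)
  (hdeg : ∀ a : Fin T.l, ∑ m : Fin T.l, (T.car a (T.simple m)).natAbs + 1 < Fintype.card F)
include hconn hdeg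

/-- Every node can be made movable. -/
theorem exists_good {g : GL D.Idx F} (hg : g ∈ D.group F) (hne : g ≠ 1) :
    ∃ c, InGauss D T g c ∧ ∀ i : Fin T.l, chi' T c (T.simple i) ≠ 1 := by
  classical
  obtain ⟨c₀, hc₀⟩ := (exists_inGauss h) hg
  obtain ⟨c₁, a, ha⟩ := (exists_move h) hc₀ hne
  let Bad : (Fin T.l → Fˣ) → Finset (Fin T.l) := fun c =>
    Finset.univ.filter fun m => chi' T c (T.simple m) = 1
  have haa : T.car a (T.simple a) ≠ 0 := by rw [(h.simple_spec a.2).2.2.1]; norm_num
  obtain ⟨u, hu⟩ := exists_lambda (fun m : Fin T.l => T.car a (T.simple m))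
    (fun m : Fin T.l => chi' T c₁ (T.simple m)) (hdeg a)
  have h1 : chi' T (c₁ * Pi.mulSingle a u) (T.simple a) ≠ 1 := by
    rw [chi'_mul, chi'_single]; exact hu a haa
  suffices ∀ k, ∀ c, InGauss D T g c → (∃ i : Fin T.l, chi' T c (T.simple i) ≠ 1) → (Bad c).card = k →
      ∃ c, InGauss D T g c ∧ ∀ i : Fin T.l, chi' T c (T.simple i) ≠ 1 from
    this _ _ (ha u) ⟨a, h1⟩ rfl
  intro k
  induction k using Nat.strong_induction_on with
  | _ k ih =>
    intro c hc ⟨i, hi⟩ hk
    by_cases hall : ∀ j : Fin T.l, chi' T c (T.simple j) ≠ 1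
    · exact ⟨c, hc, hall⟩
    push Not at hall
    obtain ⟨j, hj⟩ := hall
    obtain ⟨p, q, hp, hq, hadj⟩ : ∃ p q : Fin T.l, chi' T c (T.simple p) ≠ 1 ∧
        chi' T c (T.simple q) = 1 ∧ (T.car p (T.simple q) ≠ 0 ∨ T.car q (T.simple p) ≠ 0) := by
      by_contra hcon
      push Not at hcon
      refine (hconn (fun x => ∃ hx : x < T.l, chi' T c (T.simple (⟨x, hx⟩ : Fin T.l)) ≠ 1) ?_ i j i.2 j.2
        ⟨i.2, hi⟩).choose_spec hj
      intro x y hx hy hxy
      constructor
      · rintro ⟨_, hh⟩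
        exact ⟨hy, fun e => hxy ((hcon ⟨x, hx⟩ ⟨y, hy⟩ hh e).1)⟩
      · rintro ⟨_, hh⟩
        exact ⟨hx, fun e => hxy ((hcon ⟨y, hy⟩ ⟨x, hx⟩ hh e).2)⟩
    have hsymm : T.car p (T.simple q) ≠ 0 := by
      rcases hadj with e | e
      · exact e
      · intro e0
        exact e (h.car_symm q.2 p.2 e0)
    obtain ⟨u, hu⟩ := exists_lambda (fun m : Fin T.l => T.car p (T.simple m))
      (fun m : Fin T.l => chi' T c (T.simple m)) (hdeg p)
    have hnew : ∀ m : Fin T.l, T.car p (T.simple m) ≠ 0 →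
        chi' T (c * Pi.mulSingle p u) (T.simple m) ≠ 1 := fun m hm => by
      rw [chi'_mul, chi'_single]; exact hu m hm
    refine ih _ ?_ _ ((move_good h) hc hp u) ⟨q, hnew q hsymm⟩ rfl
    rw [← hk]
    refine Finset.card_lt_card (Finset.ssubset_iff_subset_ne.2 ⟨fun m hm => ?_, fun e => ?_⟩)
    · simp only [Bad, Finset.mem_filter, Finset.mem_univ, true_and] at hm ⊢
      by_cases hpm : T.car p (T.simple m) = 0
      · rwa [chi'_mul, chi'_single, hpm, zpow_zero, mul_one] at hm
      · exact absurd hm (hnew m hpm)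
    · have : q ∈ Bad c := by simp [Bad, hq]
      rw [← e] at this
      simp only [Bad, Finset.mem_filter] at this
      exact hnew q hsymm this.2

/-- Prescribed coordinates on `R`, and prescribed nontrivial characters on `W`. -/
theorem exists_target {g : GL D.Idx F} (hg : g ∈ D.group F) (hne : g ≠ 1) (target : Fin T.l → Fˣ)
    (R W : List (Fin T.l)) (hR : R.Nodup) (hW : W.Nodup) (hRW : ∀ a ∈ W, a ∉ R)
    (hRR : ∀ a ∈ R, ∀ b ∈ R, a ≠ b → T.car a (T.simple b) = 0)
    (hWW : ∀ a ∈ W, ∀ b ∈ W, a ≠ b → T.car a (T.simple b) = 0) :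
    ∃ c, InGauss D T g c ∧ (∀ r ∈ R, c r = target r) ∧ ∀ a ∈ W, chi' T c (T.simple a) ≠ 1 := by
  obtain ⟨c₀, hc₀, hgood⟩ := (exists_good h) hconn hdeg hg hne
  let δ : (Fin T.l → Fˣ) → (Fin T.l → Fˣ) := fun c m => if m ∈ R then target m / c m else 1
  have step1 : ∀ L : List (Fin T.l), L.Nodup → (∀ a ∈ L, a ∈ W) → ∃ c, InGauss D T g c ∧
      (∀ r ∈ R, chi' T c (T.simple r) ≠ 1) ∧
      ∀ a ∈ W, (a ∈ L → chi' T (c * δ c) (T.simple a) ≠ 1) ∧ (a ∉ L → chi' T c (T.simple a) ≠ 1) := by
    intro L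
    induction L with
    | nil =>
      exact fun _ _ => ⟨c₀, hc₀, fun r _ => hgood r, fun a _ => ⟨fun e => absurd e List.not_mem_nil,
        fun _ => hgood a⟩⟩
    | cons a L ih =>
      intro hnd hsub
      obtain ⟨haL, hnd'⟩ := List.nodup_cons.1 hnd
      obtain ⟨c, hc, hcR, hcW⟩ := ih hnd' fun b hb => hsub b (List.mem_cons_of_mem _ hb)
      have haW := hsub a List.mem_cons_self
      have hgood' := (hcW a haW).2 haL
      obtain ⟨u, hu⟩ := exists_lambda (fun m : Fin T.l => T.car a (T.simple m))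
        (fun m : Fin T.l => if m = a then chi' T (c * δ c) (T.simple m) else chi' T c (T.simple m)) (hdeg a)
      have hδ : δ (c * Pi.mulSingle a u) = δ c := by
        funext m
        simp only [δ]
        split_ifs with hm
        · rw [Pi.mul_apply, Pi.mulSingle_eq_of_ne (fun e => hRW a haW (by rw [← e]; exact hm)), mul_one]
        · rfl
      have hmv := move_good (D := D) (T := T) (i := a) (g := g) (c := c) h hc hgood' u
      refine ⟨_, hmv, fun r hr => ?_, fun b hb => ?_⟩
      · rw [chi'_mul, chi'_single]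
        by_cases e0 : T.car a (T.simple r) = 0
        · rw [e0, zpow_zero, mul_one]; exact hcR r hr
        · have := hu r e0
          rwa [if_neg (fun e => hRW a haW (by rw [← e]; exact hr))] at this
      · rw [hδ, mul_right_comm, chi'_mul (c * δ c), chi'_single, chi'_mul c (Pi.mulSingle a u), chi'_single]
        by_cases hba : b = a
        · subst hba
          have := hu b (by rw [(h.simple_spec b.2).2.2.1]; norm_num)
          rw [if_pos rfl] at this
          exact ⟨fun _ => this, fun e => absurd List.mem_cons_self e⟩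
        · rw [hWW a haW b hb (Ne.symm hba), zpow_zero, mul_one, mul_one]
          refine ⟨fun e => (hcW b hb).1 ((List.mem_cons.1 e).resolve_left hba),
            fun e => (hcW b hb).2 fun e' => e (List.mem_cons_of_mem _ e')⟩
  obtain ⟨c, hc, hcR, hcW⟩ := step1 W hW fun a ha => ha
  have step2 : ∀ L : List (Fin T.l), L.Nodup → (∀ r ∈ L, r ∈ R) →
      InGauss D T g (c * fun m => if m ∈ L then δ c m else 1) := by
    intro L
    induction L with
    | nil =>
      intro _ _
      simp only [List.not_mem_nil, if_false]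
      rwa [← Pi.one_def, mul_one]
    | cons r L ih =>
      intro hnd hsub
      obtain ⟨hrL, hnd'⟩ := List.nodup_cons.1 hnd
      have hrR := hsub r List.mem_cons_self
      have e : (fun m => if m ∈ r :: L then δ c m else 1) =
          (fun m => if m ∈ L then δ c m else 1) * Pi.mulSingle r (δ c r) := by
        funext m
        rw [Pi.mul_apply]
        by_cases hm : m = r
        · subst hm; simp [hrL]
        · simp [hm, Pi.mulSingle_eq_of_ne hm]
      rw [e, ← mul_assoc]
      refine (move_good h) (ih hnd' fun s hs => hsub s (List.mem_cons_of_mem _ hs)) ?_ _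
      rw [chi'_mul]
      have h1 : chi' T (fun m => if m ∈ L then δ c m else 1) (T.simple r) = 1 := by
        unfold chi' charOf
        refine Finset.prod_eq_one fun m hm => ?_
        have hm' := Finset.mem_range.1 hm
        simp only [extC, dif_pos hm']
        by_cases hmL : (⟨m, hm'⟩ : Fin T.l) ∈ L
        · have := hRR _ (hsub _ (List.mem_cons_of_mem _ hmL)) r hrR (fun e' => hrL (e' ▸ hmL))
          simp only at this
          rw [this, zpow_zero]
        · simp [hmL]
      rw [h1, mul_one]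
      exact hcR r hrR
  have e : (fun m => if m ∈ R then δ c m else 1) = δ c := by
    funext m; simp only [δ]; split_ifs <;> rfl
  have h2 := step2 R hR fun r hr => hr
  rw [e] at h2
  refine ⟨c * δ c, h2, fun r hr => ?_, fun a ha => (hcW a ha).1 ha⟩
  simp only [Pi.mul_apply, δ, if_pos hr]
  exact mul_div_cancel _ _

end Target

end CfsgLib.ClassSquare
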