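import Cfsg.Agent.Lib.ClassSquare.Criterion

/-!
The criterion for groups of matrices with a grading of the coordinates.
-/

set_option autoImplicit false
set_option linter.unusedSectionVars false

namespace CfsgLib.ClassSquare

open Matrix

section Reg

variable {F : Type*} [Field F] {k : ℕ}

theorem RegUnip.inv {A B : Matrix (Fin k) (Fin k) F} (h : RegUnip A) (hBA : B * A = 1) : RegUnip B := by
  obtain ⟨⟨j, hj⟩, e, he⟩ := h
  have hAB : A * B = 1 := mul_eq_one_comm.1 hBA
  refine ⟨⟨j, ?_⟩, e, fun w hw => he w ?_⟩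
  · have hc : Commute (-B) (A - 1) := by
      show -B * (A - 1) = (A - 1) * -B
      rw [mul_sub, sub_mul, mul_one, one_mul, neg_mul, hBA, mul_neg, hAB]
    rw [show B - 1 = -B * (A - 1) by rw [mul_sub, neg_mul, hBA, mul_one]; abel, hc.mul_pow, hj, mul_zero]
  · conv_lhs => rw [← hw]
    rw [Matrix.mulVec_mulVec, hAB, Matrix.one_mulVec]

theorem regUnip_of_rank {X : Matrix (Fin (k + 1)) (Fin (k + 1)) F} (hn : IsNilpotent (X - 1))
    (hr : k ≤ (X - 1).rank) : RegUnip X := by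
  refine ⟨hn, ?_⟩
  have h1 := LinearMap.finrank_range_add_finrank_ker (Matrix.mulVecLin (X - 1))
  rw [Module.finrank_fin_fun] at h1
  rw [Matrix.rank] at hr
  obtain ⟨e, he⟩ : ∃ e, LinearMap.ker (Matrix.mulVecLin (X - 1)) ≤ Submodule.span F {e} := by
    rcases eq_or_ne (LinearMap.ker (Matrix.mulVecLin (X - 1))) ⊥ with hb | hb
    · exact ⟨0, by rw [hb]; exact bot_le⟩
    obtain ⟨e, he, he0⟩ := Submodule.exists_mem_ne_zero_of_ne_bot hb
    refine ⟨e, ge_of_eq (Submodule.eq_of_le_of_finrank_le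
      ((Submodule.span_singleton_le_iff_mem _ _).2 he) ?_)⟩
    rw [finrank_span_singleton he0]
    omega
  refine ⟨e, fun w hw => ?_⟩
  obtain ⟨c, hc⟩ := Submodule.mem_span_singleton.1 (he (show w ∈ LinearMap.ker (Matrix.mulVecLin (X - 1)) by
    simp [Matrix.sub_mulVec, hw]))
  exact ⟨c, hc.symm⟩

theorem RegUnip.transpose {X : Matrix (Fin k) (Fin k) F} (h : RegUnip X) : RegUnip Xᵀ := by
  cases k with
  | zero => exact ⟨⟨1, Subsingleton.elim _ _⟩, 0, fun w _ => ⟨0, Subsingleton.elim _ _⟩⟩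
  | succ k =>
    have e : Xᵀ - 1 = (X - 1)ᵀ := by rw [Matrix.transpose_sub, Matrix.transpose_one]
    refine regUnip_of_rank ⟨k + 1, ?_⟩ ?_
    · rw [e, ← Matrix.transpose_pow, h.pow_eq_zero, Matrix.transpose_zero]
    · rw [e, Matrix.rank_transpose, h.rank_eq]; omega

end Reg

variable {F : Type*} [Field F] {ι : Type*} [Fintype ι] [DecidableEq ι]

/-- Block diagonal for the grading `w`. -/
def Graded (w : ι → ℤ) (M : Matrix ι ι F) : Prop := ∀ i j, M i j ≠ 0 → w i = w j

theorem graded_diagonal (w : ι → ℤ) (d : ι → F) : Graded w (Matrix.diagonal d) := fun i j h => by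
  rcases eq_or_ne i j with rfl | hij
  · rfl
  · exact absurd (Matrix.diagonal_apply_ne d hij) h

theorem exists_of_mul_ne {A B : Matrix ι ι F} {i j : ι} (h : (A * B) i j ≠ 0) :
    ∃ k, A i k ≠ 0 ∧ B k j ≠ 0 := by
  by_contra hc
  push Not at hc
  exact h (by
    rw [Matrix.mul_apply]
    exact Finset.sum_eq_zero fun k _ => by
      rcases eq_or_ne (A i k) 0 with h0 | h0
      · rw [h0, zero_mul]
      · rw [hc k h0, mul_zero])

theorem Graded.mul {w : ι → ℤ} {A B : Matrix ι ι F} (hA : Graded w A) (hB : Graded w B) :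
    Graded w (A * B) := fun i j h => by
  obtain ⟨k, h1, h2⟩ := exists_of_mul_ne h
  exact (hA i k h1).trans (hB k j h2)

theorem graded_one (w : ι → ℤ) : Graded w (1 : Matrix ι ι F) := by
  rw [← Matrix.diagonal_one]; exact graded_diagonal w _

variable [Fintype F]

theorem Graded.inv {w : ι → ℤ} {M : GL ι F} (h : Graded w (M : Matrix ι ι F)) :
    Graded w ((M⁻¹ : GL ι F) : Matrix ι ι F) := by
  obtain ⟨n, hn⟩ : M⁻¹ ∈ Submonoid.powers M :=
    mem_powers_iff_mem_zpowers.2 (inv_mem (Subgroup.mem_zpowers M))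
  simp only at hn
  rw [← hn]
  clear hn
  induction n with
  | zero => rw [pow_zero]; exact graded_one w
  | succ n ih => rw [pow_succ, Units.val_mul]; exact ih.mul h

/-- The unipotent radical attached to the grading. -/
def rad (w : ι → ℤ) : Subgroup (GL ι F) where
  carrier := {g | ∀ i j, ((g : Matrix ι ι F) - 1) i j ≠ 0 → w j < w i}
  one_mem' := fun i j h => by simp at h
  mul_mem' {a b} ha hb i j h := by
    have e : ((a * b : GL ι F) : Matrix ι ι F) - 1 =
        ((a : Matrix ι ι F) - 1) * ((b : Matrix ι ι F) - 1) + ((a : Matrix ι ι F) - 1) + ((b : Matrix ι ι F) - 1) := by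
      rw [Units.val_mul]; noncomm_ring
    rw [e, Matrix.add_apply, Matrix.add_apply] at h
    by_cases h1 : ((a : Matrix ι ι F) - 1) i j = 0
    · by_cases h2 : ((b : Matrix ι ι F) - 1) i j = 0
      · obtain ⟨k, k1, k2⟩ := exists_of_mul_ne (by rwa [h1, h2, add_zero, add_zero] at h)
        exact (hb k j k2).trans (ha i k k1)
      · exact hb i j h2
    · exact ha i j h1
  inv_mem' {a} ha := by
    obtain ⟨n, hn⟩ : a⁻¹ ∈ Submonoid.powers a :=
      mem_powers_iff_mem_zpowers.2 (inv_mem (Subgroup.mem_zpowers a))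
    simp only at hn
    rw [← hn]
    clear hn
    induction n with
    | zero => intro i j h; simp at h
    | succ n ih =>
      intro i j h
      have e : ((a ^ (n + 1) : GL ι F) : Matrix ι ι F) - 1 =
          (((a ^ n : GL ι F) : Matrix ι ι F) - 1) * ((a : Matrix ι ι F) - 1) +
            (((a ^ n : GL ι F) : Matrix ι ι F) - 1) + ((a : Matrix ι ι F) - 1) := by
        rw [pow_succ, Units.val_mul]; noncomm_ring
      rw [e, Matrix.add_apply, Matrix.add_apply] at h
      by_cases h1 : (((a ^ n : GL ι F) : Matrix ι ι F) - 1) i j = 0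
      · by_cases h2 : ((a : Matrix ι ι F) - 1) i j = 0
        · obtain ⟨k, k1, k2⟩ := exists_of_mul_ne (by rwa [h1, h2, add_zero, add_zero] at h)
          exact (ha k j k2).trans (ih i k k1)
        · exact ha i j h2
      · exact ih i j h1

theorem mem_rad {w : ι → ℤ} {g : GL ι F} :
    g ∈ rad w ↔ ∀ i j, ((g : Matrix ι ι F) - 1) i j ≠ 0 → w j < w i := by simp [rad]

theorem rad_conj {w : ι → ℤ} {M u : GL ι F} (hM : Graded w (M : Matrix ι ι F)) (hu : u ∈ rad w) :
    M * u * M⁻¹ ∈ rad w := by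
  rw [mem_rad] at hu ⊢
  intro i j h
  have e : ((M * u * M⁻¹ : GL ι F) : Matrix ι ι F) - 1 =
      (M : Matrix ι ι F) * ((u : Matrix ι ι F) - 1) * ((M⁻¹ : GL ι F) : Matrix ι ι F) := by
    rw [Units.val_mul, Units.val_mul, mul_sub, sub_mul, mul_one, Units.mul_inv]
  rw [e] at h
  obtain ⟨l, hl1, hl2⟩ := exists_of_mul_ne h
  obtain ⟨k, hk1, hk2⟩ := exists_of_mul_ne hl1
  rw [hM i k hk1, ← hM.inv l j hl2]
  exact hu k l hk2

theorem rad_fix {w : ι → ℤ} {h u : GL ι F} {d : ι → F} (hd : (h : Matrix ι ι F) = Matrix.diagonal d)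
    (hwd : ∀ i j, w j < w i → d i ≠ d j) (hu : u ∈ rad w) (hc : Commute u h) : u = 1 := by
  rw [mem_rad] at hu
  apply Units.ext
  rw [← sub_eq_zero, Units.val_one]
  ext i j
  simp only [Matrix.zero_apply]
  by_contra hne
  have hlt := hu i j hne
  have e := Matrix.ext_iff.2 (congrArg Units.val hc.eq) i j
  rw [Units.val_mul, Units.val_mul, hd, Matrix.diagonal_mul, Matrix.mul_diagonal] at e
  have hij : i ≠ j := fun h' => lt_irrefl _ (h' ▸ hlt)
  rw [Matrix.sub_apply, Matrix.one_apply_ne hij, sub_zero] at hne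
  exact hwd i j hlt (mul_right_cancel₀ hne (by rw [← e, mul_comm]))

theorem commute_diagonal {w : ι → ℤ} {M : Matrix ι ι F} {d : ι → F} (hM : Graded w M)
    (hwd : ∀ i j, w i = w j → d i = d j) : M * Matrix.diagonal d = Matrix.diagonal d * M := by
  ext i j
  rw [Matrix.mul_diagonal, Matrix.diagonal_mul]
  by_cases h : M i j = 0
  · simp [h]
  · rw [hwd i j (hM i j h), mul_comm]

variable {κ : Type*} [Fintype κ] {k : κ → ℕ}

/-- The criterion for graded matrix groups. -/
theorem class_sq_of_graded (hF : 6 ≤ Fintype.card F) {Γ G : Type*} [Group Γ] [Finite Γ] [Group G]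
    (π : Γ →* G) (hπ : Function.Surjective π) (ρ : Γ →* GL ι F) (hρ : Function.Injective ρ)
    (ψ : (∀ i, Matrix.SpecialLinearGroup (Fin (k i)) F) →* Γ) (h : Γ) (w : ι → ℤ) (d : ι → F)
    (hd : (ρ h : Matrix ι ι F) = Matrix.diagonal d)
    (hw1 : ∀ i j, w i = w j → d i = d j) (hw2 : ∀ i j, w i ≠ w j → d i ≠ d j)
    (hψ : ∀ x, Graded w (ρ (ψ x) : Matrix ι ι F))
    (hfuse : ∀ e : κ → Fˣ, ∃ τ : Γ, Graded w (ρ τ : Matrix ι ι F) ∧ ∃ D : ∀ i, GL (Fin (k i)) F,
      (∀ i, k i ≠ 0 → (D i : Matrix (Fin (k i)) (Fin (k i)) F).det = e i) ∧ ∀ x y,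
      (∀ i, (y i : Matrix (Fin (k i)) (Fin (k i)) F) = cj (D i) (x i : Matrix (Fin (k i)) (Fin (k i)) F)) →
      τ * ψ x * τ⁻¹ = ψ y)
    (hgauss : ∀ g, π g ≠ 1 → ∃ u v, ρ u ∈ rad (fun i => -w i) ∧ ρ v ∈ rad w ∧ ∃ x,
      (∀ i, (x i : Matrix (Fin (k i)) (Fin (k i)) F) = 1 ∨ Nonscalar (x i : Matrix (Fin (k i)) (Fin (k i)) F)) ∧
        IsConj g (u * (h * h * ψ x) * v))
    (hreal : ∀ x ∈ regTuples F k, ∃ y ∈ regTuples F k, IsConj (π (h * ψ x))⁻¹ (π (h * ψ y))) :
    ∃ c : G, ∀ g : G, ∃ x y : G, g = (x * c * x⁻¹) * (y * c * y⁻¹) := by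
  have hcomm : ∀ z : Γ, Graded w (ρ z : Matrix ι ι F) → Commute z h := fun z hz => by
    refine hρ ?_
    rw [map_mul, map_mul]
    exact Units.ext (by rw [Units.val_mul, Units.val_mul, hd, commute_diagonal hz hw1])
  have hneg : ∀ M : Matrix ι ι F, Graded w M → Graded (fun i => -w i) M := fun M hM i j h => by
    simp only [hM i j h]
  have hg0 : Graded w (ρ h : Matrix ι ι F) := hd ▸ graded_diagonal w d
  have hh1 : h ^ (Fintype.card F - 1) = 1 := by
    refine hρ (Units.ext ?_)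
    rw [map_pow, map_one, Units.val_pow_eq_pow_val, hd, Matrix.diagonal_pow, Units.val_one, ← Matrix.diagonal_one]
    refine congrArg _ (funext fun i => ?_)
    refine FiniteField.pow_card_sub_one_eq_one _ fun h0 => ?_
    have := det_ne_zero_of_diag hd i
    exact this h0
  refine class_sq_of_levi hF π hπ ψ h ((rad fun i => -w i).comap ρ) ((rad w).comap ρ)
    (fun x => (hcomm _ (hψ x)).symm) hh1 ?_ ?_ ?_ ?_ ?_ ?_ ?_ ?_ hreal
  · intro u hu; simp only [Subgroup.mem_comap, map_mul, map_inv]; exact rad_conj hg0 hu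
  · intro u hu; simp only [Subgroup.mem_comap, map_mul, map_inv]; exact rad_conj (hneg _ hg0) hu
  · intro x u hu; simp only [Subgroup.mem_comap, map_mul, map_inv]; exact rad_conj (hψ x) hu
  · intro x u hu; simp only [Subgroup.mem_comap, map_mul, map_inv]; exact rad_conj (hneg _ (hψ x)) hu
  · intro u hu hc
    exact hρ ((rad_fix hd (fun i j hij => hw2 i j (ne_of_gt hij)) hu (hc.map ρ)).trans (map_one ρ).symm)
  · intro u hu hc
    exact hρ ((rad_fix hd (fun i j hij => hw2 i j (by intro e; simp [e] at hij)) hu (hc.map ρ)).trans (map_one ρ).symm)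
  · intro e
    obtain ⟨τ, hτ, D, hD, hD'⟩ := hfuse e
    exact ⟨τ, hcomm τ hτ, D, hD, hD'⟩
  · intro g hg
    obtain ⟨u, v, hu, hv, x, hx, hgc⟩ := hgauss g hg
    exact ⟨u, hu, v, hv, x, hx, hgc⟩
where
  det_ne_zero_of_diag {g : GL ι F} {d : ι → F} (hd : (g : Matrix ι ι F) = Matrix.diagonal d) (i : ι) :
      d i ≠ 0 := by
    have h := g.det_ne_zero
    rw [hd, Matrix.det_diagonal, Finset.prod_ne_zero_iff] at h
    exact h i (Finset.mem_univ i)

end CfsgLib.ClassSquare
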