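import Cfsg.Agent.Lib.ClassSquare.ChevExpo
import Cfsg.Agent.Lib.ClassSquare.Graded
import Cfsg.Agent.Lib.SLPres.SteinbergRel
import Cfsg.Agent.Lib.AutPSL.Structure
import Cfsg.Agent.Lib.CTBond.Basic

/-!
A Chevalley group with a Levi subgroup whose components have type A: certified data give the images
of the special linear groups, the toral element and the monomial element inverting it.
-/

set_option autoImplicit false
set_option linter.unusedSectionVars false

namespace CfsgLib.ClassSquare

open Cfsg.Lie CfsgLib.Chev CfsgLib.Chev.Cert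
open CfsgLib.Schur.SLFam (tv coe_tv tv_def pad pad_tv pad_apply pad_apply_out coe_wt)
open scoped MatrixGroups

/-- The root and sign reached along a word. -/
def actW (T : Tab) : List ℕ → ℕ → ℕ × ℤ
  | [], r => (r, 1)
  | i :: w, r => (T.refl i (actW T w r).1, T.eta i (actW T w r).1 * (actW T w r).2)

/-- A component of type A: its roots and signs, a toral cocharacter and the action of the reversing word. -/
structure CompData where
  /-- the size -/
  k : ℕ
  /-- the roots -/
  rt : List (List ℕ)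
  /-- the signs -/
  sg : List (List ℤ)
  /-- a cocharacter with prescribed determinant -/
  tau : List ℤ
  /-- whether the word inverts and transposes -/
  tr : Bool
  /-- the permutation of the coordinates -/
  perm : List ℕ
  /-- the signs of the coordinates -/
  d : List ℤ

namespace CompData

variable (c : CompData)

/-- The root of an entry. -/
def R (i j : ℕ) : ℕ := (c.rt.getD i []).getD j 0

/-- The sign of an entry. -/
def ε (i j : ℕ) : ℤ := (c.sg.getD i []).getD j 1

/-- The image of a coordinate. -/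
def π (i : ℕ) : ℕ := c.perm.getD i 0

/-- The sign of a coordinate. -/
def dd (i : ℕ) : ℤ := c.d.getD i 1

/-- The pairs of distinct indices. -/
def pairs : List (ℕ × ℕ) :=
  (List.range c.k).flatMap fun i => ((List.range c.k).filter fun j => decide (i ≠ j)).map fun j => (i, j)

theorem mem_pairs {i j : ℕ} : (i, j) ∈ c.pairs ↔ i < c.k ∧ j < c.k ∧ i ≠ j := by
  simp [pairs]

/-- The roots of the component. -/
def chkRoots (T : Tab) (v : List ℤ) : Bool :=
  decide (2 ≤ c.k) && c.pairs.all fun p =>
    decide (c.R p.1 p.2 < T.n ∧ expo T v (c.R p.1 p.2) = 0 ∧ (c.ε p.1 p.2 = 1 ∨ c.ε p.1 p.2 = -1) ∧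
      c.R p.2 p.1 = T.neg (c.R p.1 p.2) ∧ c.ε p.2 p.1 = c.ε p.1 p.2 ∧ (c.k = 2 → c.ε p.1 p.2 = 1) ∧
      (T.half ≤ c.R p.1 p.2 ↔ p.1 < p.2))

/-- The Steinberg relations. -/
def chkRels (T : Tab) : Bool :=
  c.pairs.all fun p => c.pairs.all fun q => decide (p = q) || decide (p.1 = q.2 ∧ p.2 = q.1) ||
    bif decide (p.2 = q.1) then
      decide (c.R q.1 q.2 ≠ c.R p.1 p.2 ∧ c.R q.1 q.2 ≠ T.neg (c.R p.1 p.2) ∧
        (T.commTerms (c.R p.1 p.2) (c.R q.1 q.2)).map (fun e => (e.1, e.2.2)) = [(c.R p.1 q.2, (1, 1))] ∧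
        (T.commTerms (c.R p.1 p.2) (c.R q.1 q.2)).map (fun e => e.2.1 * c.ε p.1 p.2 * c.ε q.1 q.2) =
          [c.ε p.1 q.2])
    else decide (p.1 = q.2) ||
      decide (c.R q.1 q.2 ≠ c.R p.1 p.2 ∧ c.R q.1 q.2 ≠ T.neg (c.R p.1 p.2) ∧
        T.commTerms (c.R p.1 p.2) (c.R q.1 q.2) = [])

/-- The action of the word. -/
def chkPerm (T : Tab) (w : List ℕ) : Bool :=
  ((List.range c.k).all fun i => decide (c.π i < c.k ∧ (c.dd i = 1 ∨ c.dd i = -1)) &&
      (List.range c.k).all fun j => decide (c.π i = c.π j → i = j)) &&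
    c.pairs.all fun p =>
      let a := bif c.tr then c.π p.2 else c.π p.1
      let b := bif c.tr then c.π p.1 else c.π p.2
      decide ((actW T w (c.R p.1 p.2)).1 = c.R a b ∧
        c.ε a b * (actW T w (c.R p.1 p.2)).2 * c.ε p.1 p.2 =
          (bif c.tr then -(c.dd a * c.dd b) else c.dd a * c.dd b))

/-- Two components commute. -/
def chkApart (T : Tab) (c' : CompData) : Bool :=
  c.pairs.all fun p => c'.pairs.all fun q =>
    decide (c'.R q.1 q.2 ≠ c.R p.1 p.2 ∧ c'.R q.1 q.2 ≠ T.neg (c.R p.1 p.2) ∧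
      T.commTerms (c.R p.1 p.2) (c'.R q.1 q.2) = [])

end CompData

/-- The data of a type. -/
structure LeviData where
  /-- the components -/
  comps : List CompData
  /-- the coefficients of the toral element -/
  v : List ℤ
  /-- the inverting word -/
  w : List ℕ
  /-- the simple roots outside the Levi subgroup -/
  rem : List ℕ
  /-- the witnesses of the components -/
  wit : List ℕ

namespace LeviData

variable (L : LeviData)

/-- The component of index `ι`. -/
def comp (ι : Fin L.comps.length) : CompData := L.comps.get ι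

/-- The signs of the exponents. -/
def chkExpo (T : Tab) : Bool :=
  (List.range T.n).all fun r =>
    bif decide (expo T L.v r = 0) then
      L.comps.any fun c => c.pairs.any fun p => decide (c.R p.1 p.2 = r)
    else decide ((T.half ≤ r → 0 < expo T L.v r ∧ expo T L.v r ≤ 7) ∧
      (r < T.half → expo T L.v r < 0 ∧ -7 ≤ expo T L.v r))

/-- The conditions on the nodes. -/
def chkNodes (T : Tab) : Bool :=
  decide (L.rem.Nodup ∧ L.wit.Nodup) &&
  (L.rem.all fun r => decide (r < T.l ∧ r ∉ L.wit)) && (L.wit.all fun r => decide (r < T.l)) &&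
  (L.rem.all fun a => L.rem.all fun b => decide (a = b ∨ T.car a (T.simple b) = 0)) &&
  (L.wit.all fun a => L.wit.all fun b => decide (a = b ∨ T.car a (T.simple b) = 0)) &&
  ((List.range T.l).all fun m => decide (m ∈ L.rem ∨ expo T L.v (T.simple m) = 0)) &&
  (L.comps.all fun c => L.wit.any fun a => c.pairs.any fun p => decide (c.R p.1 p.2 = T.simple a)) &&
  ((List.range T.l).all fun a =>
    decide (((List.range T.l).map fun m => (T.car a (T.simple m)).natAbs).sum ≤ 7))

/-- The cocharacters. -/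
def chkTau (T : Tab) : Bool :=
  (List.range L.comps.length).all fun i => (List.range L.comps.length).all fun i' =>
    match L.comps[i]?, L.comps[i']? with
    | some c, some c' => c'.pairs.all fun p => decide (expo T c.tau (c'.R p.1 p.2) =
        bif decide (i = i') then (if p.2 = 0 then 1 else 0) - (if p.1 = 0 then 1 else 0) else 0)
    | _, _ => true

/-- The word inverts the toral element. -/
def chkWord (T : Tab) : Bool :=
  (L.w.all fun i => decide (i < T.l)) && (List.range T.l).all fun i =>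
    decide (((List.range T.l).map fun m => L.v.getD m 0 * T.cor (actW T L.w (T.simple m)).1 i).sum =
      -L.v.getD i 0)

/-- Everything. -/
def chk (T : Tab) : Bool :=
  L.chkExpo T && L.chkNodes T && L.chkTau T && L.chkWord T &&
  (L.comps.all fun c => c.chkRoots T L.v && c.chkRels T && c.chkPerm T L.w) &&
  (List.range L.comps.length).all fun i => (List.range L.comps.length).all fun i' =>
    match L.comps[i]?, L.comps[i']? with
    | some c, some c' => decide (i = i') || c.chkApart T c'
    | _, _ => true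

/-- What the checks say. -/
structure OK (T : Tab) : Prop where
  roots : ∀ ι, (L.comp ι).chkRoots T L.v = true
  rels : ∀ ι, (L.comp ι).chkRels T = true
  perm : ∀ ι, (L.comp ι).chkPerm T L.w = true
  apart : ∀ ι ι', ι ≠ ι' → (L.comp ι).chkApart T (L.comp ι') = true
  expo_pos : ∀ r, T.half ≤ r → r < T.n → expo T L.v r ≠ 0 → 0 < expo T L.v r ∧ expo T L.v r ≤ 7
  expo_neg : ∀ r, r < T.half → r < T.n → expo T L.v r ≠ 0 → expo T L.v r < 0 ∧ -7 ≤ expo T L.v r
  expo_zero : ∀ r < T.n, expo T L.v r = 0 → ∃ ι, ∃ p ∈ (L.comp ι).pairs, (L.comp ι).R p.1 p.2 = r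
  tau : ∀ ι ι', ∀ p ∈ (L.comp ι').pairs, expo T (L.comp ι).tau ((L.comp ι').R p.1 p.2) =
    if ι = ι' then (if p.2 = 0 then 1 else 0) - (if p.1 = 0 then 1 else 0) else 0
  word : WordOK T L.w
  word_v : ∀ i < T.l,
    ∑ m ∈ Finset.range T.l, L.v.getD m 0 * T.cor (actW T L.w (T.simple m)).1 i = -L.v.getD i 0
  nodup : L.rem.Nodup ∧ L.wit.Nodup
  rem_lt : ∀ r ∈ L.rem, r < T.l ∧ r ∉ L.wit
  wit_lt : ∀ r ∈ L.wit, r < T.l
  rem_rem : ∀ a ∈ L.rem, ∀ b ∈ L.rem, a ≠ b → T.car a (T.simple b) = 0
  wit_wit : ∀ a ∈ L.wit, ∀ b ∈ L.wit, a ≠ b → T.car a (T.simple b) = 0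
  levi : ∀ m < T.l, m ∉ L.rem → expo T L.v (T.simple m) = 0
  witness : ∀ ι, ∃ a ∈ L.wit, ∃ p ∈ (L.comp ι).pairs, (L.comp ι).R p.1 p.2 = T.simple a
  deg : ∀ a < T.l, ∑ m ∈ Finset.range T.l, (T.car a (T.simple m)).natAbs ≤ 7

theorem ok_of_chk {T : Tab} (hc : L.chk T = true) : L.OK T := by
  simp only [chk, chkExpo, chkNodes, chkTau, chkWord, Bool.and_eq_true, List.all_eq_true, List.mem_range,
    decide_eq_true_eq, List.any_eq_true] at hc
  obtain ⟨⟨⟨⟨⟨hE, ⟨⟨⟨⟨⟨⟨hnd, hr⟩, hw⟩, hrr⟩, hww⟩, hlevi⟩, hwit⟩, hdeg⟩, htau⟩, hword⟩, hcomp⟩, hap⟩ := hc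
  have hmem : ∀ ι, L.comp ι ∈ L.comps := fun ι => List.get_mem _ _
  have hget : ∀ ι : Fin L.comps.length, L.comps[(ι : ℕ)]? = some (L.comp ι) := fun ι =>
    List.getElem?_eq_getElem ι.2
  refine ⟨fun ι => (hcomp _ (hmem ι)).1.1, fun ι => (hcomp _ (hmem ι)).1.2, fun ι => (hcomp _ (hmem ι)).2,
    fun ι ι' hne => ?_, fun r hh hr' h0 => ?_, fun r hh hr' h0 => ?_, fun r hr' h0 => ?_, fun ι ι' p hp => ?_,
    hword.1, fun i hi => ?_, hnd, hr, hw, fun a ha b hb hne => (hrr a ha b hb).resolve_left hne,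
    fun a ha b hb hne => (hww a ha b hb).resolve_left hne,
    fun m hm hmr => (hlevi m hm).resolve_left hmr, fun ι => hwit _ (hmem ι), fun a ha => ?_⟩
  · have := hap ι ι.2 ι' ι'.2
    rw [hget ι, hget ι'] at this
    simpa [Fin.val_ne_of_ne hne] using this
  · have := hE r hr'
    rw [decide_eq_false h0, cond_false, decide_eq_true_eq] at this
    exact this.1 hh
  · have := hE r hr'
    rw [decide_eq_false h0, cond_false, decide_eq_true_eq] at this
    exact this.2 hh
  · have := hE r hr'
    rw [decide_eq_true h0, cond_true, List.any_eq_true] at this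
    obtain ⟨c, hc, hp⟩ := this
    obtain ⟨ι, rfl⟩ := List.get_of_mem hc
    simp only [List.any_eq_true, decide_eq_true_eq] at hp
    exact ⟨ι, hp⟩
  · have := htau ι ι.2 ι' ι'.2
    rw [hget ι, hget ι'] at this
    simp only [List.all_eq_true, decide_eq_true_eq] at this
    rw [this p hp]
    by_cases e : ι = ι'
    · subst e; simp
    · simp [e, Fin.val_ne_of_ne e]
  · rw [← hword.2 i hi, ← List.sum_toFinset _ List.nodup_range, List.toFinset_range]
  · rw [← List.toFinset_range, List.sum_toFinset _ List.nodup_range]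
    exact hdeg a ha

end LeviData

/-! ### Matrices -/

section Mat

variable {F : Type*} [Field F] {k : ℕ}

/-- Two homomorphisms agreeing on transvections are equal. -/
theorem hom_ext_tv (hk : 2 ≤ k) {M : Type*} [Group M] {f g : SL(k, F) →* M}
    (he : ∀ i j : Fin k, i ≠ j → ∀ t, f (tv i j t) = g (tv i j t)) : f = g := by
  haveI : Nontrivial (Fin k) := Fin.nontrivial_iff_two_le.2 hk
  refine MonoidHom.eq_of_eqOn_top fun x _ => ?_
  have := (CfsgLib.Classical.eq_top_of_transvection_mem (f.eqLocus g) fun i j hij c => ?_).ge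
    (Subgroup.mem_top x)
  · exact this
  · show f _ = g _
    rw [← tv_def hij]
    exact he i j hij c

/-- The images of the transvections are in a subgroup, so all images are. -/
theorem hom_mem_of_tv (hk : 2 ≤ k) {M : Type*} [Group M] {f : SL(k, F) →* M} {K : Subgroup M}
    (he : ∀ i j : Fin k, i ≠ j → ∀ t, f (tv i j t) ∈ K) (x : SL(k, F)) : f x ∈ K := by
  haveI : Nontrivial (Fin k) := Fin.nontrivial_iff_two_le.2 hk
  refine (CfsgLib.Classical.eq_top_of_transvection_mem (K.comap f) fun i j hij c => ?_).ge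
    (Subgroup.mem_top x)
  rw [Subgroup.mem_comap, ← tv_def hij]
  exact he i j hij c

/-- Similarity as a homomorphism. -/
def cjHom (P : GL (Fin k) F) : SL(k, F) →* SL(k, F) where
  toFun x := ⟨cj P (x : Matrix (Fin k) (Fin k) F), by rw [det_cj]; exact x.2⟩
  map_one' := Subtype.ext (cj_one P)
  map_mul' x y := Subtype.ext (cj_mul P _ _)

theorem cjHom_tv (P : GL (Fin k) F) {i j a b : Fin k} (hij : i ≠ j) (hab : a ≠ b) {t c : F}
    (e : (Matrix.single i j t : Matrix (Fin k) (Fin k) F) * (P : Matrix (Fin k) (Fin k) F) =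
      (P : Matrix (Fin k) (Fin k) F) * Matrix.single a b c) :
    cjHom P (tv i j t) = tv a b c := by
  refine Subtype.ext ?_
  show cj P (tv i j t : Matrix (Fin k) (Fin k) F) = _
  rw [coe_tv hij, coe_tv hab, cj, Matrix.mul_add, Matrix.add_mul, Matrix.mul_one, Units.inv_mul,
    Matrix.mul_assoc, e, Units.inv_mul_cancel_left]

theorem diagGL_single (dv : Fin k → Fˣ) (i j : Fin k) (t : F) :
    (Matrix.single i j t : Matrix (Fin k) (Fin k) F) * (CfsgLib.AutPSL.diagGL dv : GL (Fin k) F).val =
      (CfsgLib.AutPSL.diagGL dv : GL (Fin k) F).val * Matrix.single i j ((dv j : F) * t / (dv i : F)) := by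
  show Matrix.single i j t * Matrix.diagonal _ = Matrix.diagonal _ * _
  ext x y
  rw [Matrix.mul_diagonal, Matrix.diagonal_mul, Matrix.single_apply, Matrix.single_apply]
  by_cases e : i = x ∧ j = y
  · obtain ⟨rfl, rfl⟩ := e
    rw [if_pos ⟨rfl, rfl⟩, if_pos ⟨rfl, rfl⟩]
    field_simp
  · rw [if_neg e, if_neg e, zero_mul, mul_zero]

/-- Permutation of the coordinates, with signs. -/
def monoGL (p : Equiv.Perm (Fin k)) (d : Fin k → Fˣ) : GL (Fin k) F where
  val := Matrix.of fun x y => if p x = y then (d y : F) else 0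
  inv := Matrix.of fun x y => if p y = x then (((d x)⁻¹ : Fˣ) : F) else 0
  val_inv := by
    ext x y
    rw [Matrix.mul_apply, Finset.sum_eq_single (p x)]
    · simp [Matrix.one_apply, p.injective.eq_iff, eq_comm]
    · intro z _ hz; simp [Ne.symm hz]
    · simp
  inv_val := by
    ext x y
    rw [Matrix.mul_apply, Finset.sum_eq_single (p.symm x)]
    · simp only [Matrix.of_apply, Equiv.apply_symm_apply, if_pos, Matrix.one_apply]
      split_ifs with e
      · subst e; simp
      · simp
    · intro z _ hz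
      have : p z ≠ x := fun e => hz (by rw [← e, Equiv.symm_apply_apply])
      simp [this]
    · simp

theorem monoGL_single (p : Equiv.Perm (Fin k)) (d : Fin k → Fˣ) (i j : Fin k) (t : F) :
    (Matrix.single i j t : Matrix (Fin k) (Fin k) F) * (monoGL p d).val =
      (monoGL p d).val * Matrix.single (p i) (p j) ((d (p j) : F) * t / (d (p i) : F)) := by
  ext x y
  simp only [monoGL, Matrix.mul_apply, Matrix.of_apply, Matrix.single_apply]
  by_cases hx : i = x
  · subst hx
    rw [Finset.sum_eq_single j, Finset.sum_eq_single (p i)]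
    · by_cases hy : p j = y
      · subst hy
        simp only [and_self, if_true]
        field_simp
      · simp [hy]
    all_goals intros; simp_all [eq_comm]
  · rw [Finset.sum_eq_zero fun z _ => by simp [hx], Finset.sum_eq_zero fun z _ => ?_]
    by_cases hz : p x = z
    · have : p i ≠ z := fun e => hx (p.injective (e.trans hz.symm))
      simp [this]
    · simp [hz]

variable [Fintype F]

/-- The upper or lower unitriangular matrices. -/
def triU (F : Type*) [Field F] [Fintype F] (k : ℕ) (up : Bool) : Subgroup SL(k, F) :=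
  (rad (F := F) fun i : Fin k => bif up then -((i : ℕ) : ℤ) else ((i : ℕ) : ℤ)).comap
    Matrix.SpecialLinearGroup.toGL

theorem mem_triU_up {x : SL(k, F)} :
    x ∈ triU F k true ↔ ∀ i j, ((x : Matrix (Fin k) (Fin k) F) - 1) i j ≠ 0 → i < j := by
  rw [triU, Subgroup.mem_comap, mem_rad]
  simp only [cond_true, neg_lt_neg_iff, Nat.cast_lt, Fin.val_fin_lt]
  rfl

theorem mem_triU_low {x : SL(k, F)} :
    x ∈ triU F k false ↔ ∀ i j, ((x : Matrix (Fin k) (Fin k) F) - 1) i j ≠ 0 → j < i := by
  rw [triU, Subgroup.mem_comap, mem_rad]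
  simp only [cond_false, Nat.cast_lt, Fin.val_fin_lt]
  rfl

theorem tv_mem_triU {i j : Fin k} (hij : i ≠ j) {up : Bool} (hlt : bif up then i < j else j < i) (t : F) :
    tv i j t ∈ triU F k up := by
  have key : ∀ a b : Fin k, ((tv i j t : Matrix (Fin k) (Fin k) F) - 1) a b ≠ 0 → a = i ∧ b = j := by
    intro a b hab
    rw [coe_tv hij, add_sub_cancel_left, Matrix.single_apply] at hab
    by_contra hc
    exact hab (if_neg fun e => hc ⟨e.1.symm, e.2.symm⟩)
  cases up
  · rw [mem_triU_low]; intro a b hab; obtain ⟨rfl, rfl⟩ := key a b hab; exact hlt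
  · rw [mem_triU_up]; intro a b hab; obtain ⟨rfl, rfl⟩ := key a b hab; exact hlt

/-- The diagonal matrices. -/
def diagG (F : Type*) [Field F] [Fintype F] (k : ℕ) : Subgroup SL(k, F) where
  carrier := {x | Graded (fun i : Fin k => ((i : ℕ) : ℤ)) (x : Matrix (Fin k) (Fin k) F)}
  one_mem' := graded_one _
  mul_mem' := fun ha hb => by
    show Graded _ _
    rw [Matrix.SpecialLinearGroup.coe_mul]
    exact Graded.mul ha hb
  inv_mem' := fun {a} ha => by
    have h1 := Graded.inv (M := Matrix.SpecialLinearGroup.toGL a) ha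
    rw [← map_inv] at h1
    exact h1

theorem diagG_apply {x : SL(k, F)} (hx : x ∈ diagG F k) {i j : Fin k} (hij : i ≠ j) :
    (x : Matrix (Fin k) (Fin k) F) i j = 0 := by
  by_contra hne
  have : ((i : ℕ) : ℤ) = ((j : ℕ) : ℤ) := hx i j hne
  exact hij (Fin.ext (by exact_mod_cast this))

/-- A triangular product is scalar only if the diagonal factor is. -/
theorem eq_smul_one_of_tri {B Δ U : SL(k, F)} (hB : B ∈ triU F k false) (hΔ : Δ ∈ diagG F k)
    (hU : U ∈ triU F k true) {s : F} (e : ((B * Δ * U : SL(k, F)) : Matrix (Fin k) (Fin k) F) = s • 1) :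
    (Δ : Matrix (Fin k) (Fin k) F) = s • 1 := by
  have hUi := mem_triU_up.1 (inv_mem hU)
  have hBi := mem_triU_low.1 hB
  have h1 : (B : Matrix (Fin k) (Fin k) F) * (Δ : Matrix (Fin k) (Fin k) F) =
      s • ((U⁻¹ : SL(k, F)) : Matrix (Fin k) (Fin k) F) := by
    calc (B : Matrix (Fin k) (Fin k) F) * (Δ : Matrix (Fin k) (Fin k) F)
        = ((B * Δ * U : SL(k, F)) : Matrix (Fin k) (Fin k) F) * ((U⁻¹ : SL(k, F)) : Matrix (Fin k) (Fin k) F) := by
          rw [← Matrix.SpecialLinearGroup.coe_mul, ← Matrix.SpecialLinearGroup.coe_mul, mul_inv_cancel_right]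
      _ = _ := by rw [e, Matrix.smul_mul, Matrix.one_mul]
  ext i j
  by_cases hij : i = j
  swap
  · rw [diagG_apply hΔ hij, Matrix.smul_apply, Matrix.one_apply_ne hij, smul_zero]
  subst hij
  have h2 := congrFun (congrFun h1 i) i
  rw [Matrix.mul_apply, Finset.sum_eq_single i (fun z _ hz => by rw [diagG_apply hΔ hz, mul_zero]) (by simp),
    Matrix.smul_apply] at h2
  have hone : ∀ {x : SL(k, F)}, (¬ ((x : Matrix (Fin k) (Fin k) F) - 1) i i ≠ 0) →
      (x : Matrix (Fin k) (Fin k) F) i i = 1 := fun hx => by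
    have := not_not.1 hx
    rwa [Matrix.sub_apply, Matrix.one_apply_eq, sub_eq_zero] at this
  rw [hone (fun hne => lt_irrefl i (hBi i i hne)), hone (fun hne => lt_irrefl i (hUi i i hne)), one_mul] at h2
  rw [h2, Matrix.smul_apply, Matrix.one_apply_eq]

end Mat

end CfsgLib.ClassSquare
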