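import Cfsg.Agent.Lib.ClassSquare.Factor

/-!
A criterion for a group to be the square of one conjugacy class: the class of `h r` with `h` a toral
element and `r` a regular unipotent element of its centraliser of type A.
-/

set_option autoImplicit false
set_option linter.unusedSectionVars false

namespace CfsgLib.ClassSquare

open Matrix

section Abstract

variable {Γ : Type*} [Group Γ]

theorem isConj_mul_of_fix {U : Subgroup Γ} [Finite U] {c : Γ} (hn : ∀ u ∈ U, c * u * c⁻¹ ∈ U)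
    (hfix : ∀ u ∈ U, Commute u c → u = 1) {u : Γ} (hu : u ∈ U) : IsConj c (u * c) := by
  let φ : U → U := fun x => ⟨x * (c * (x : Γ)⁻¹ * c⁻¹), U.mul_mem x.2 (hn _ (U.inv_mem x.2))⟩
  have hφ : Function.Injective φ := fun x y e => by
    have h := congrArg Subtype.val e
    simp only [φ] at h
    have h1 : (x : Γ) * c * (x : Γ)⁻¹ = y * c * (y : Γ)⁻¹ := by
      rw [show (x : Γ) * c * (x : Γ)⁻¹ = x * (c * (x : Γ)⁻¹ * c⁻¹) * c by group, h]; group
    have h2 : Commute ((y : Γ)⁻¹ * x) c := by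
      show (y : Γ)⁻¹ * x * c = c * ((y : Γ)⁻¹ * x)
      calc (y : Γ)⁻¹ * x * c = (y : Γ)⁻¹ * (x * c * (x : Γ)⁻¹) * x := by group
        _ = c * ((y : Γ)⁻¹ * x) := by rw [h1]; group
    exact (Subtype.ext (inv_mul_eq_one.1 (hfix _ (U.mul_mem (U.inv_mem y.2) x.2) h2))).symm
  obtain ⟨x, hx⟩ := Finite.injective_iff_surjective.1 hφ ⟨u, hu⟩
  refine isConj_iff.2 ⟨x, ?_⟩
  rw [← show (x : Γ) * (c * (x : Γ)⁻¹ * c⁻¹) = u from congrArg Subtype.val hx]
  group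

theorem isConj_mul_right_of_fix {U : Subgroup Γ} [Finite U] {c : Γ} (hn : ∀ u ∈ U, c * u * c⁻¹ ∈ U)
    (hfix : ∀ u ∈ U, Commute u c → u = 1) {u : Γ} (hu : u ∈ U) : IsConj c (c * u) := by
  have := isConj_mul_of_fix hn hfix (hn u hu)
  rwa [inv_mul_cancel_right] at this

theorem class_sq_of_conditions [Finite Γ] {G : Type*} [Group G] (π : Γ →* G)
    (hπ : Function.Surjective π) (Um Up : Subgroup Γ) (c₀ : Γ) (S : Set Γ)
    (hconj : ∀ c ∈ S, IsConj c₀ c)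
    (hnp : ∀ c ∈ S, ∀ u ∈ Up, c * u * c⁻¹ ∈ Up) (hnm : ∀ c ∈ S, ∀ u ∈ Um, c * u * c⁻¹ ∈ Um)
    (hfp : ∀ c ∈ S, ∀ u ∈ Up, Commute u c → u = 1) (hfm : ∀ c ∈ S, ∀ u ∈ Um, Commute u c → u = 1)
    (hgauss : ∀ g, π g ≠ 1 → ∃ u ∈ Um, ∃ v ∈ Up, ∃ a ∈ S, ∃ b ∈ S, IsConj g (u * a * b * v))
    (hreal : ∃ c ∈ S, IsConj (π c₀)⁻¹ (π c)) :
    ∃ c : G, ∀ g : G, ∃ x y : G, g = (x * c * x⁻¹) * (y * c * y⁻¹) := by
  refine ⟨π c₀, fun g => ?_⟩
  obtain ⟨g, rfl⟩ := hπ g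
  by_cases hg : π g = 1
  · obtain ⟨c, hc, hcc⟩ := hreal
    obtain ⟨y, hy⟩ := isConj_iff.1 ((π.map_isConj (hconj c hc)).trans hcc.symm)
    exact ⟨1, y, by rw [hg, hy]; simp⟩
  obtain ⟨u, hu, v, hv, a, ha, b, hb, he⟩ := hgauss g hg
  obtain ⟨t, ht⟩ := isConj_iff.1 he.symm
  obtain ⟨x, hx⟩ := isConj_iff.1 ((hconj a ha).trans (isConj_mul_of_fix (hnm a ha) (hfm a ha) hu))
  obtain ⟨y, hy⟩ := isConj_iff.1 ((hconj b hb).trans (isConj_mul_right_of_fix (hnp b hb) (hfp b hb) hv))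
  refine ⟨π (t * x), π (t * y), ?_⟩
  rw [← map_inv, ← map_inv, ← map_mul, ← map_mul, ← map_mul, ← map_mul, ← map_mul, ← ht]
  congr 1
  calc t * (u * a * b * v) * t⁻¹ = t * (u * a) * t⁻¹ * (t * (b * v) * t⁻¹) := by group
    _ = t * x * c₀ * (t * x)⁻¹ * (t * y * c₀ * (t * y)⁻¹) := by rw [← hx, ← hy]; group

theorem commute_left_of_pow {u h r : Γ} (hhr : Commute h r) {a m : ℕ} (hh : h ^ a = 1) (hr : r ^ m = 1)
    (hcop : Nat.Coprime m a) (hu : Commute u (h * r)) : Commute u h := by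
  rcases Nat.eq_zero_or_pos a with rfl | ha
  · have hm : m = 1 := by simpa using hcop
    rw [hm, pow_one] at hr
    simpa [hr] using hu
  rcases Nat.lt_or_ge 1 a with ha1 | ha1
  swap
  · obtain rfl : a = 1 := by omega
    rw [pow_one] at hh
    rw [hh]; exact Commute.one_right u
  obtain ⟨j, -, hj⟩ := Nat.exists_mul_mod_eq_one_of_coprime hcop ha1
  have h1 : (h * r) ^ (m * j) = h := by
    rw [hhr.mul_pow, pow_mul r, hr, one_pow, mul_one]
    exact (pow_eq_pow_mod (m * j) hh).trans (by rw [hj, pow_one])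
  rw [← h1]
  exact hu.pow_right _

end Abstract

section TypeA

variable {F : Type*} [Field F] {ι : Type*} {k : ι → ℕ}

/-- Tuples of regular unipotent matrices. -/
def regTuples (F : Type*) [Field F] (k : ι → ℕ) : Set (∀ i, Matrix.SpecialLinearGroup (Fin (k i)) F) :=
  {x | ∀ i, RegUnip (x i : Matrix (Fin (k i)) (Fin (k i)) F)}

theorem exists_regTuple_factor [Fintype F] (hF : 6 ≤ Fintype.card F)
    (x : ∀ i, Matrix.SpecialLinearGroup (Fin (k i)) F)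
    (hx : ∀ i, (x i : Matrix (Fin (k i)) (Fin (k i)) F) = 1 ∨ Nonscalar (x i : Matrix (Fin (k i)) (Fin (k i)) F)) :
    ∃ r ∈ regTuples F k, ∃ s ∈ regTuples F k, r * s = x := by
  choose A B hA hB hAB using fun i => exists_factor hF _ (x i).2 (hx i)
  exact ⟨fun i => ⟨A i, (hA i).det⟩, hA, fun i => ⟨B i, (hB i).det⟩, hB,
    funext fun i => Subtype.ext (hAB i)⟩

theorem regUnip_pow_eq_one [Fintype F] {k : ℕ} {X : Matrix (Fin k) (Fin k) F} (hX : RegUnip X) :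
    X ^ Fintype.card F ^ k = 1 := by
  obtain ⟨p', hchar, f, hp, hcard⟩ := FiniteField.card' F
  haveI := Fact.mk hp
  haveI := hchar
  rcases Nat.eq_zero_or_pos k with rfl | hk
  · exact Subsingleton.elim _ _
  haveI : Nonempty (Fin k) := ⟨⟨0, hk⟩⟩
  have h := sub_pow_char_pow_of_commute (n := (f : ℕ) * k) p' (Commute.one_right X)
  rw [one_pow, pow_eq_zero_of_le (le_trans (Nat.le_mul_of_pos_left k f.pos)
    (Nat.lt_pow_self hp.one_lt).le) hX.pow_eq_zero] at h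
  rw [hcard, ← pow_mul]
  exact sub_eq_zero.1 h.symm

theorem regTuple_pow_eq_one [Fintype F] [Fintype ι] {x : ∀ i, Matrix.SpecialLinearGroup (Fin (k i)) F}
    (hx : x ∈ regTuples F k) : x ^ Fintype.card F ^ (∑ i, k i) = 1 := by
  funext i
  obtain ⟨j, hj⟩ := Nat.exists_eq_add_of_le (Finset.single_le_sum (f := k) (fun i _ => Nat.zero_le _)
    (Finset.mem_univ i))
  refine Subtype.ext ?_
  rw [Pi.pow_apply, hj, pow_add, pow_mul, Pi.one_apply, Matrix.SpecialLinearGroup.coe_one,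
    Matrix.SpecialLinearGroup.coe_pow, Matrix.SpecialLinearGroup.coe_pow, regUnip_pow_eq_one (hx i), one_pow]

/-- Toral elements commuting with `h` that induce every determinant on the components. -/
def Fuses {Γ : Type*} [Group Γ] (ψ : (∀ i, Matrix.SpecialLinearGroup (Fin (k i)) F) →* Γ) (h : Γ) : Prop :=
  ∀ d : ι → Fˣ, ∃ τ : Γ, Commute τ h ∧ ∃ D : ∀ i, GL (Fin (k i)) F,
    (∀ i, k i ≠ 0 → (D i : Matrix (Fin (k i)) (Fin (k i)) F).det = d i) ∧ ∀ x y,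
      (∀ i, (y i : Matrix (Fin (k i)) (Fin (k i)) F) = cj (D i) (x i : Matrix (Fin (k i)) (Fin (k i)) F)) →
      τ * ψ x * τ⁻¹ = ψ y

theorem isConj_of_regTuples {Γ : Type*} [Group Γ] (ψ : (∀ i, Matrix.SpecialLinearGroup (Fin (k i)) F) →* Γ)
    {h : Γ} (hh : ∀ x, Commute h (ψ x)) (hfuse : Fuses ψ h) {x y : ∀ i, Matrix.SpecialLinearGroup (Fin (k i)) F}
    (hx : x ∈ regTuples F k) (hy : y ∈ regTuples F k) : IsConj (h * ψ x) (h * ψ y) := by
  choose P hP using fun i => (hx i).exists_cj (hy i)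
  obtain ⟨τ, hτ, D, hD, hτψ⟩ := hfuse fun i => Matrix.GeneralLinearGroup.det (P i)
  have hE : ∀ i, ((((D i)⁻¹ * P i : GL (Fin (k i)) F)) : Matrix (Fin (k i)) (Fin (k i)) F).det = 1 := fun i => by
    rcases Nat.eq_zero_or_pos (k i) with h0 | h0
    · haveI : IsEmpty (Fin (k i)) := by rw [h0]; infer_instance
      exact Matrix.det_isEmpty
    have e := hD i h0.ne'
    rw [Units.val_mul, Matrix.det_mul, Matrix.coe_units_inv, Matrix.det_nonsing_inv, e,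
      Matrix.GeneralLinearGroup.val_det_apply, Ring.inverse_eq_inv', inv_mul_cancel₀ (det_units_ne (P i))]
  let E : ∀ i, Matrix.SpecialLinearGroup (Fin (k i)) F := fun i => ⟨_, hE i⟩
  let z : ∀ i, Matrix.SpecialLinearGroup (Fin (k i)) F := fun i =>
    ⟨cj (D i) (x i : Matrix (Fin (k i)) (Fin (k i)) F), by rw [det_cj]; exact (x i).2⟩
  have hz : τ * ψ x * τ⁻¹ = ψ z := hτψ x z fun i => rfl
  have hzy : E⁻¹ * z * E = y := by
    have : z * E = E * y := funext fun i => Subtype.ext (by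
      show cj (D i) (x i : Matrix (Fin (k i)) (Fin (k i)) F) * _ = _ * (y i : Matrix (Fin (k i)) (Fin (k i)) F)
      rw [← hP i]
      show ((D i)⁻¹).val * (x i).1 * (D i).val * (((D i)⁻¹).val * (P i).val) =
        ((D i)⁻¹).val * (P i).val * (((P i)⁻¹).val * (x i).1 * (P i).val)
      simp only [Matrix.mul_assoc, Units.mul_inv_cancel_left])
    rw [mul_assoc, this, inv_mul_cancel_left]
  refine isConj_iff.2 ⟨(ψ E)⁻¹ * τ, ?_⟩
  have e1 : τ * h * τ⁻¹ = h := by rw [hτ.eq, mul_inv_cancel_right]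
  calc (ψ E)⁻¹ * τ * (h * ψ x) * ((ψ E)⁻¹ * τ)⁻¹
      = (ψ E)⁻¹ * ((τ * h * τ⁻¹) * (τ * ψ x * τ⁻¹)) * ψ E := by group
    _ = (ψ E)⁻¹ * h * (ψ z * ψ E) := by rw [e1, hz]; group
    _ = h * ((ψ E)⁻¹ * (ψ z * ψ E)) := by rw [((hh E).symm.inv_left).eq, mul_assoc]
    _ = h * ψ y := by rw [← map_inv, ← map_mul, ← map_mul, ← mul_assoc, hzy]

/-- The criterion. -/
theorem class_sq_of_levi [Fintype F] [Fintype ι] (hF : 6 ≤ Fintype.card F) {Γ G : Type*} [Group Γ]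
    [Finite Γ] [Group G] (π : Γ →* G) (hπ : Function.Surjective π)
    (ψ : (∀ i, Matrix.SpecialLinearGroup (Fin (k i)) F) →* Γ) (h : Γ) (Um Up : Subgroup Γ)
    (hh : ∀ x, Commute h (ψ x)) (hh1 : h ^ (Fintype.card F - 1) = 1)
    (hnp : ∀ u ∈ Up, h * u * h⁻¹ ∈ Up) (hnm : ∀ u ∈ Um, h * u * h⁻¹ ∈ Um)
    (hψp : ∀ x, ∀ u ∈ Up, ψ x * u * (ψ x)⁻¹ ∈ Up) (hψm : ∀ x, ∀ u ∈ Um, ψ x * u * (ψ x)⁻¹ ∈ Um)
    (hfp : ∀ u ∈ Up, Commute u h → u = 1) (hfm : ∀ u ∈ Um, Commute u h → u = 1)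
    (hfuse : Fuses ψ h)
    (hgauss : ∀ g, π g ≠ 1 → ∃ u ∈ Um, ∃ v ∈ Up, ∃ x,
      (∀ i, (x i : Matrix (Fin (k i)) (Fin (k i)) F) = 1 ∨ Nonscalar (x i : Matrix (Fin (k i)) (Fin (k i)) F)) ∧
        IsConj g (u * (h * h * ψ x) * v))
    (hreal : ∀ x ∈ regTuples F k, ∃ y ∈ regTuples F k, IsConj (π (h * ψ x))⁻¹ (π (h * ψ y))) :
    ∃ c : G, ∀ g : G, ∃ x y : G, g = (x * c * x⁻¹) * (y * c * y⁻¹) := by
  obtain ⟨r, hr, -, -, -⟩ := exists_regTuple_factor (k := k) hF 1 fun i => Or.inl rfl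
  have hfix : ∀ {U : Subgroup Γ}, (∀ u ∈ U, Commute u h → u = 1) → ∀ x ∈ regTuples F k, ∀ u ∈ U,
      Commute u (h * ψ x) → u = 1 := fun hf x hx u hu hc => hf u hu (commute_left_of_pow (hh x) hh1
        (by rw [← map_pow, regTuple_pow_eq_one hx, map_one])
        (Nat.Coprime.pow_left _ (by
          have := Fintype.card_pos (α := F)
          rw [Nat.coprime_self_sub_right (by omega)]
          exact Nat.coprime_one_right _)) hc)
  refine class_sq_of_conditions π hπ Um Up (h * ψ r) ((fun x => h * ψ x) '' regTuples F k)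
    ?_ ?_ ?_ ?_ ?_ ?_ ?_
  · rintro _ ⟨x, hx, rfl⟩
    exact isConj_of_regTuples ψ hh hfuse hr hx
  · rintro _ ⟨x, -, rfl⟩ u hu
    have := hnp _ (hψp x u hu)
    convert this using 1; group
  · rintro _ ⟨x, -, rfl⟩ u hu
    have := hnm _ (hψm x u hu)
    convert this using 1; group
  · rintro _ ⟨x, hx, rfl⟩ u hu
    exact hfix hfp x hx u hu
  · rintro _ ⟨x, hx, rfl⟩ u hu
    exact hfix hfm x hx u hu
  · intro g hg
    obtain ⟨u, hu, v, hv, x, hx, hgc⟩ := hgauss g hg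
    obtain ⟨a, ha, b, hb, rfl⟩ := exists_regTuple_factor hF x hx
    refine ⟨u, hu, v, hv, h * ψ a, ⟨a, ha, rfl⟩, h * ψ b, ⟨b, hb, rfl⟩, ?_⟩
    convert hgc using 1
    rw [map_mul, mul_assoc u (h * ψ a), mul_assoc h (ψ a) (h * ψ b), ← mul_assoc (ψ a) h, ← (hh a).eq]
    group
  · obtain ⟨y, hy, hyc⟩ := hreal r hr
    exact ⟨_, ⟨y, hy, rfl⟩, hyc⟩

end TypeA

end CfsgLib.ClassSquare
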