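import Cfsg.Agent.Lib.ClassSquare.Regular

/-!
Over a field with at least six elements, a matrix of determinant one that is trivial or not scalar
is the product of two regular unipotent matrices.
-/

set_option autoImplicit false
set_option linter.unusedSectionVars false

namespace CfsgLib.ClassSquare

open Matrix

variable {K : Type*} [Field K] {k : ℕ}

/-- `X - 1` has rank at most one. -/
def Small (X : Matrix (Fin k) (Fin k) K) : Prop := ∃ a b : Fin k → K, X - 1 = vecMulVec a b

/-- Neither scalar nor small. -/
def Good (X : Matrix (Fin k) (Fin k) K) : Prop := Nonscalar X ∧ ¬Small X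

theorem Small.cj {X : Matrix (Fin k) (Fin k) K} (h : Small X) (P : GL (Fin k) K) : Small (cj P X) := by
  obtain ⟨a, b, e⟩ := h
  refine ⟨((P⁻¹ : GL (Fin k) K) : Matrix (Fin k) (Fin k) K) *ᵥ a, b ᵥ* (P : Matrix (Fin k) (Fin k) K), ?_⟩
  conv_lhs => rw [← ClassSquare.cj_one P, ← cj_sub, e]
  rw [ClassSquare.cj, Matrix.mul_vecMulVec, Matrix.vecMulVec_mul]

theorem not_small_cj {X : Matrix (Fin k) (Fin k) K} (h : ¬Small X) (P : GL (Fin k) K) :
    ¬Small (cj P X) := fun h' => h (by have := h'.cj P⁻¹; rwa [cj_inv] at this)

@[simp] theorem blk_one_left (a : K) (n m : Fin (k + 1) → K) (D : Matrix (Fin (k + 1)) (Fin (k + 1)) K) :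
    blk a n m D 1 0 = m 0 := by rw [← Fin.succ_zero_eq_one, blk_succ_zero]

@[simp] theorem blk_one_succ (a : K) (n m : Fin (k + 1) → K) (D : Matrix (Fin (k + 1)) (Fin (k + 1)) K)
    (j : Fin (k + 1)) : blk a n m D 1 j.succ = D 0 j := by rw [← Fin.succ_zero_eq_one, blk_succ_succ]

theorem succ_eq_one_iff {i : Fin (k + 1)} : i.succ = 1 ↔ i = 0 := by
  rw [← Fin.succ_zero_eq_one, Fin.succ_inj]

theorem lineSmall_eigen (X : Matrix (Fin k) (Fin k) K) :
    LineSmall (K := K) {u : Fin k → K | ∀ i j, u i * (X *ᵥ u) j = u j * (X *ᵥ u) i} 2 := by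
  classical
  intro a d ha F hF
  simp only [Set.mem_setOf_eq, not_forall] at ha
  obtain ⟨i, j, hij⟩ := ha
  by_contra hcard
  obtain ⟨r, hr, s, hs, t, ht, hrs, hrt, hst⟩ := Finset.two_lt_card.1 (not_le.1 hcard)
  apply hij
  have e := fun x hx => hF x hx i j
  simp only [Matrix.mulVec_add, Matrix.mulVec_smul, Pi.add_apply, Pi.smul_apply, smul_eq_mul] at e
  have er := e r hr
  have es := e s hs
  have et := e t ht
  set A := (X *ᵥ a)
  set D := (X *ᵥ d)
  set c0 := a i * A j - a j * A i
  set c1 := a i * D j + d i * A j - a j * D i - d j * A i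
  set c2 := d i * D j - d j * D i
  have f : ∀ x, (a i + x * d i) * (A j + x * D j) = (a j + x * d j) * (A i + x * D i) →
      c0 + x * c1 + x * x * c2 = 0 := fun x hx => by
    simp only [c0, c1, c2]; linear_combination hx
  have g1 : c1 + (r + s) * c2 = 0 := by
    refine (mul_eq_zero.1 (?_ : (r - s) * _ = 0)).resolve_left (sub_ne_zero.2 hrs)
    linear_combination f r er - f s es
  have g2 : c1 + (r + t) * c2 = 0 := by
    refine (mul_eq_zero.1 (?_ : (r - t) * _ = 0)).resolve_left (sub_ne_zero.2 hrt)
    linear_combination f r er - f t et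
  have g3 : c2 = 0 := by
    refine (mul_eq_zero.1 (?_ : (s - t) * _ = 0)).resolve_left (sub_ne_zero.2 hst)
    linear_combination g1 - g2
  have g4 : c0 = 0 := by linear_combination f r er - r * g1 + r * s * g3
  exact sub_eq_zero.1 g4

theorem not_eigen {X : Matrix (Fin k) (Fin k) K} {u : Fin k → K}
    (h : u ∉ {u : Fin k → K | ∀ i j, u i * (X *ᵥ u) j = u j * (X *ᵥ u) i}) (c : K) : X *ᵥ u ≠ c • u :=
  fun e => h fun i j => by rw [e]; simp only [Pi.smul_apply, smul_eq_mul]; ring

theorem mem_eigen {X : Matrix (Fin k) (Fin k) K} {u : Fin k → K} {c : K} (e : X *ᵥ u = c • u) :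
    u ∈ {u : Fin k → K | ∀ i j, u i * (X *ᵥ u) j = u j * (X *ᵥ u) i} :=
  fun i j => by rw [e]; simp only [Pi.smul_apply, smul_eq_mul]; ring

/-- The functional given by a vector. -/
def dotLin (n : Fin k → K) : (Fin k → K) →ₗ[K] K where
  toFun v := n ⬝ᵥ v
  map_add' := dotProduct_add n
  map_smul' c v := dotProduct_smul c n v

@[simp] theorem dotLin_apply (n v : Fin k → K) : dotLin n v = n ⬝ᵥ v := rfl

theorem exists_dot_ne {n : Fin k → K} (hn : n ≠ 0) : ∃ v, n ⬝ᵥ v ≠ 0 := by
  obtain ⟨i, hi⟩ := Function.ne_iff.1 hn
  exact ⟨Pi.single i 1, by simpa using hi⟩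

theorem exists_unit_of_first {v : Fin (k + 2) → K} (hv : v ≠ 0) :
    ∃ P : GL (Fin (k + 2)) K, (P : Matrix (Fin (k + 2)) (Fin (k + 2)) K) *ᵥ Pi.single 0 1 = v := by
  obtain ⟨w, hw⟩ : ∃ w, ∀ c : K, w ≠ c • v := by
    by_contra hall
    push Not at hall
    obtain ⟨a, ha⟩ := hall (Pi.single 0 1)
    obtain ⟨b, hb⟩ := hall (Pi.single 1 1)
    have h1 := congrFun ha 0
    have h2 := congrFun hb 1
    have h3 := congrFun ha 1
    simp [Fin.ext_iff] at h1 h2 h3
    rcases h3 with h3 | h3
    · simp [h3] at h1
    · simp [h3] at h2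
  obtain ⟨P, hP, -⟩ := CfsgLib.SpPres.exists_two_col (i := (0 : Fin (k + 2))) (j := 1)
    (by simp [Fin.ext_iff]) hv (w := w) hw
  exact ⟨P, hP⟩

section Field

variable [Fintype K]

/-- The inductive statement. -/
theorem exists_factor_aux (hK : 6 ≤ Fintype.card K) : ∀ (k : ℕ) (X : Matrix (Fin (k + 1)) (Fin (k + 1)) K),
    X.det = 1 → (X = 1 ∨ Good X) → ∀ m n : Fin (k + 1) → K, m ≠ 0 → n ≠ 0 →
    ∃ A B, RegUnip A ∧ RegUnip B ∧ A * B = X ∧ (∃ l, l ᵥ* A = l ∧ l ⬝ᵥ m ≠ 0) ∧
      ∃ v, B *ᵥ v = v ∧ n ⬝ᵥ v ≠ 0 := by
  intro k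
  induction k with
  | zero =>
    intro X hd _ m n hm hn
    have hX : X = 1 := by
      ext i j
      rw [Matrix.det_fin_one] at hd
      simp [Fin.fin_one_eq_zero i, Fin.fin_one_eq_zero j, hd, Matrix.one_apply]
    have hm0 : m 0 ≠ 0 := fun h => hm (funext fun i => by rw [Fin.fin_one_eq_zero i]; exact h)
    have hn0 : n 0 ≠ 0 := fun h => hn (funext fun i => by rw [Fin.fin_one_eq_zero i]; exact h)
    exact ⟨1, 1, regUnip_one_one, regUnip_one_one, by rw [hX, mul_one],
      ⟨1, Matrix.vecMul_one _, by simpa [dotProduct] using hm0⟩,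
      ⟨1, Matrix.one_mulVec _, by simpa [dotProduct] using hn0⟩⟩
  | succ k ih =>
    intro X hd hX m n hm hn
    rcases hX with rfl | ⟨hns, hsm⟩
    · -- the identity
      have h1 : LineSmall (K := K) {v : Fin (k + 2) → K | dotLin n v + 0 ∈ (⊥ : Submodule K K)} 1 :=
        lineSmall_affine _ _ _
      have h2 : LineSmall (K := K) {v : Fin (k + 2) → K | LinearMap.id v + 0 ∈ Submodule.span K {m}} 1 :=
        lineSmall_affine _ _ _
      obtain ⟨v0, hv0⟩ := exists_dot_ne hn
      have hspan : Submodule.span K {m} ≠ ⊤ := fun h => by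
        have := congrArg (fun S : Submodule K (Fin (k + 2) → K) => Module.finrank K S) h
        simp only [finrank_top, Module.finrank_fin_fun] at this
        rw [finrank_span_singleton hm] at this
        omega
      obtain ⟨v1, hv1⟩ := exists_notMem_submodule hspan 0
      obtain ⟨v, hv⟩ := exists_avoid h1 h2 ⟨v0, by simpa using hv0⟩ ⟨v1, by simpa using hv1⟩ (by omega)
      simp only [Set.mem_union, Set.mem_setOf_eq, not_or, add_zero, Submodule.mem_bot, dotLin_apply,
        LinearMap.id_apply] at hv
      obtain ⟨hnv, hvm⟩ := hv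
      have hv' : v ≠ 0 := fun h => hnv (by rw [h, dotProduct_zero])
      obtain ⟨P, hP⟩ := exists_unit_of_first hv'
      set p := ((P⁻¹ : GL (Fin (k + 2)) K) : Matrix (Fin (k + 2)) (Fin (k + 2)) K) *ᵥ m with hp
      have hPp : (P : Matrix (Fin (k + 2)) (Fin (k + 2)) K) *ᵥ p = m := by
        rw [hp, Matrix.mulVec_mulVec, ← Units.val_mul]; simp
      have hm' : Fin.tail p ≠ 0 := fun h => by
        have he : p = p 0 • Pi.single 0 1 := by
          funext i
          cases i using Fin.cases with
          | zero => simp
          | succ i => simpa [Fin.tail, Fin.succ_ne_zero] using congrFun h i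
        rw [he, Matrix.mulVec_smul, hP] at hPp
        rcases eq_or_ne (p 0) 0 with h0 | h0
        · exact hm (by rw [← hPp, h0, zero_smul])
        · exact hvm (Submodule.mem_span_singleton.2 ⟨(p 0)⁻¹, by rw [← hPp, smul_smul, inv_mul_cancel₀ h0, one_smul]⟩)
      have ha : (Pi.single 0 1 : Fin (k + 1) → K) ≠ 0 := fun h => by simpa using congrFun h 0
      obtain ⟨A, B, hA, hB, hAB, ⟨l, hl, hlm⟩, ⟨w, hw, haw⟩⟩ := ih 1 det_one (Or.inl rfl) _ _ hm' ha
      set a : Fin (k + 1) → K := Pi.single 0 1 with hadef
      have hwA : A *ᵥ w = w := by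
        conv_lhs => rw [← hw]
        rw [Matrix.mulVec_mulVec, hAB, Matrix.one_mulVec]
      have hr1 : RegUnip (blk 1 a 0 A) := hA.blk_row hwA haw
      have hr2 : RegUnip (blk 1 (-(a ᵥ* B)) 0 B) := hB.blk_row hw (by
        rw [neg_dotProduct, ← Matrix.dotProduct_mulVec, hw]; simpa using haw)
      refine ⟨_, _, hr1.cj P⁻¹, hr2.cj P⁻¹, ?_, ⟨Fin.cons 0 l ᵥ*
        ((P⁻¹ : GL (Fin (k + 2)) K) : Matrix (Fin (k + 2)) (Fin (k + 2)) K), ?_, ?_⟩, ⟨v, ?_, hnv⟩⟩
      · rw [← cj_mul, blk_mul]
        simp only [dotProduct_zero, add_zero, mul_one, one_smul, neg_add_cancel, Matrix.mulVec_zero,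
          smul_zero, vecMulVec, Pi.zero_apply, zero_mul]
        rw [show (Matrix.of fun _ _ => (0 : K)) + A * B = (1 : Matrix (Fin (k + 1)) (Fin (k + 1)) K) by
          rw [hAB]; ext i j; simp, blk_one, cj_one]
      · simp only [ClassSquare.cj, inv_inv, Matrix.vecMul_vecMul, ← Matrix.mul_assoc, ← Units.val_mul,
          inv_mul_cancel, Units.val_one, Matrix.one_mul]
        rw [← Matrix.vecMul_vecMul, vecMul_blk]
        congr 1
        simp [hl]
      · rw [← Matrix.dotProduct_mulVec, ← hp, ← Fin.cons_self_tail p]
        simpa [dotProduct, Fin.sum_univ_succ, Fin.tail] using hlm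
      · rw [ClassSquare.cj, inv_inv, ← Matrix.mulVec_mulVec, ← Matrix.mulVec_mulVec, ← hP]
        congr 1
        rw [Matrix.mulVec_mulVec (M := (P⁻¹ : GL (Fin (k + 2)) K).val), ← Units.val_mul, inv_mul_cancel,
          Units.val_one, Matrix.one_mulVec]
        funext i
        cases i using Fin.cases <;> simp [Fin.succ_ne_zero]
    · -- the main case
      set f : (Fin (k + 2) → K) →ₗ[K] (Fin (k + 2) → K) := Matrix.mulVecLin (X - 1) with hf
      let S1 := {v : Fin (k + 2) → K | dotLin n v + 0 ∈ (⊥ : Submodule K K)}
      let S2 := {v : Fin (k + 2) → K | f v + 0 ∈ Submodule.span K {m}}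
      let S3 := {v : Fin (k + 2) → K | LinearMap.range f ≠ ⊤ ∧ v ∈ LinearMap.range f}
      let S4 := {u : Fin (k + 2) → K | ∀ i j, u i * (X *ᵥ u) j = u j * (X *ᵥ u) i}
      have l3 : LineSmall (K := K) S3 1 := by
        rcases eq_or_ne (LinearMap.range f) ⊤ with h | h
        · intro a d _ F hF
          rcases F.eq_empty_or_nonempty with rfl | ⟨s, hs⟩
          · simp
          · exact absurd h (hF s hs).1
        · have := lineSmall_affine (K := K) (LinearMap.id : (Fin (k + 2) → K) →ₗ[K] _) (LinearMap.range f) 0
          simpa [S3, h] using this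
      have p1 : ∃ v, v ∉ S1 := by
        obtain ⟨v0, hv0⟩ := exists_dot_ne hn
        exact ⟨v0, by simpa [S1] using hv0⟩
      have p2 : ∃ v, v ∉ S2 := by
        by_contra hall
        push Not at hall
        have h0 : ∀ j, ∃ c : K, c • m = f (Pi.single j 1) := fun j =>
          Submodule.mem_span_singleton.1 (by simpa [S2] using hall (Pi.single j 1))
        choose c hc using h0
        refine hsm ⟨m, c, ?_⟩
        ext i j
        have := congrFun (hc j) i
        simp only [hf, Pi.smul_apply, smul_eq_mul, Matrix.mulVecLin_apply, Matrix.mulVec_single_one,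
          Matrix.col_apply] at this
        rw [← this]; simp [vecMulVec, mul_comm]
      have p3 : ∃ v, v ∉ S3 := by
        rcases eq_or_ne (LinearMap.range f) ⊤ with h | h
        · exact ⟨0, fun hh => hh.1 h⟩
        · obtain ⟨v, hv⟩ := exists_notMem_submodule h 0
          exact ⟨v, fun hh => hv (by simpa using hh.2)⟩
      have p4 : ∃ v, v ∉ S4 := by
        obtain ⟨u, hu⟩ := exists_not_eigen hns
        refine ⟨u, fun hu4 => ?_⟩
        obtain ⟨i, hi⟩ : ∃ i, u i ≠ 0 := Function.ne_iff.1 fun h => hu 0 (by rw [show u = 0 from h, Matrix.mulVec_zero, zero_smul])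
        refine hu ((X *ᵥ u) i / u i) (funext fun j => ?_)
        simp only [Pi.smul_apply, smul_eq_mul]
        rw [div_mul_eq_mul_div, eq_div_iff hi, mul_comm, hu4 i j, mul_comm]
      have l1 : LineSmall (K := K) S1 1 := lineSmall_affine _ _ _
      have l2 : LineSmall (K := K) S2 1 := lineSmall_affine _ _ _
      have l4 : LineSmall (K := K) S4 2 := lineSmall_eigen X
      have q12 := exists_avoid l1 l2 p1 p2 (by omega)
      have q123 := exists_avoid (l1.union l2) l3 q12 p3 (by omega)
      obtain ⟨u, hu⟩ := exists_avoid ((l1.union l2).union l3) l4 q123 p4 (by omega)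
      simp only [Set.mem_union, not_or] at hu
      obtain ⟨⟨⟨hu1, hu2⟩, hu3⟩, hu4⟩ := hu
      have hnu : n ⬝ᵥ u ≠ 0 := by simpa [S1] using hu1
      have huX : X *ᵥ u - (1 : K) • u ∉ Submodule.span K {m} := by
        simpa [S2, hf, Matrix.sub_mulVec] using hu2
      obtain ⟨P, r, D, hP0, hP1, hP⟩ := exists_base X (not_eigen hu4) 1
      set L : (Fin k → K) →ₗ[K] (Fin (k + 1) → K) :=
        { toFun := fun t => Fin.cons 0 t ᵥ* D
          map_add' := fun s t => by
            rw [← Matrix.add_vecMul]; congr 1; funext i; cases i using Fin.cases <;> simp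
          map_smul' := fun c t => by
            rw [RingHom.id_apply, ← Matrix.smul_vecMul]; congr 1; funext i; cases i using Fin.cases <;> simp }
        with hL
      have hdet : ∀ t : Fin k → K, (schur 1 r (Fin.cons 0 t) D).det = 1 := fun t => by
        have h := congrArg Matrix.det (decomp_shear one_ne_zero (Fin.cons 0 t) r D)
        rw [← cj_shear _ (by simp) 1 r D, det_cj, ← hP, det_cj, hd, det_mul, det_mul, det_blk_zero_row,
          det_blk_zero_row, det_blk_zero_col] at h
        simpa using h.symm
      -- the three conditions on the shear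
      set p := ((P⁻¹ : GL (Fin (k + 2)) K) : Matrix (Fin (k + 2)) (Fin (k + 2)) K) *ᵥ m with hp
      have hPp : (P : Matrix (Fin (k + 2)) (Fin (k + 2)) K) *ᵥ p = m := by
        rw [hp, Matrix.mulVec_mulVec, ← Units.val_mul]; simp
      let T1 := {t : Fin k → K | dotLin (fun i => p i.succ.succ) t + (-p 0) ∈ (⊥ : Submodule K K)}
      let ι : (Fin k → K) →ₗ[K] (Fin (k + 1) → K) :=
        { toFun := fun t => Fin.cons 0 t
          map_add' := fun s t => by funext i; cases i using Fin.cases <;> simp
          map_smul' := fun c t => by funext i; cases i using Fin.cases <;> simp }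
      let T2 := {t : Fin k → K | (ι - L) t + r ∈ (⊥ : Submodule K (Fin (k + 1) → K))}
      have hT1 : ∃ t, t ∉ T1 := by
        by_contra hall
        push Not at hall
        simp only [T1, Set.mem_setOf_eq, Submodule.mem_bot, dotLin_apply] at hall
        have h0 : p 0 = 0 := by simpa using hall 0
        have hp1 : p = p 1 • Pi.single 1 1 := by
          funext i
          cases i using Fin.cases with
          | zero => simp [h0, Fin.ext_iff]
          | succ i =>
            cases i using Fin.cases with
            | zero => simp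
            | succ i =>
              have := hall (Pi.single i 1)
              simp only [h0, neg_zero, add_zero, dotProduct_single, mul_one] at this
              simp [this, Fin.ext_iff]
        rw [hp1, Matrix.mulVec_smul, hP1] at hPp
        rcases eq_or_ne (p 1) 0 with h | h
        · exact hm (by rw [← hPp, h, zero_smul])
        · exact huX (Submodule.mem_span_singleton.2 ⟨(p 1)⁻¹, by rw [← hPp, smul_smul, inv_mul_cancel₀ h, one_smul]⟩)
      have hrows : ∀ i : Fin k, ∀ t, schur 1 r t D i.succ = D i.succ := fun i t => funext fun j => schur_succ _ _ _ _ _ _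
      have hsm' : ¬Small (blk 1 r (Pi.single 0 1) D) := by rw [← hP]; exact not_small_cj hsm P
      have hT2 : ∃ t, t ∉ T2 := by
        by_contra hall
        push Not at hall
        simp only [T2, Set.mem_setOf_eq, Submodule.mem_bot, LinearMap.sub_apply] at hall
        have hr : r = 0 := by simpa using hall 0
        refine hsm' ⟨Pi.single 1 1, Fin.cons 1 ((D - 1) 0), ?_⟩
        rw [blk_sub_one]
        ext a b
        cases a using Fin.cases with
        | zero => cases b using Fin.cases <;> simp [hr, vecMulVec, Fin.ext_iff]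
        | succ a =>
          cases a using Fin.cases with
          | zero => cases b using Fin.cases <;> simp [vecMulVec]
          | succ a =>
            cases b using Fin.cases with
            | zero => simp [vecMulVec, Fin.succ_ne_zero, Fin.ext_iff]
            | succ b =>
              have h := congrFun (hall (Pi.single a 1)) b
              simp only [hr, add_zero, Pi.sub_apply, hL, LinearMap.coe_mk, AddHom.coe_mk, ι, Pi.zero_apply,
                show (Fin.cons 0 (Pi.single a 1) : Fin (k + 1) → K) = Pi.single a.succ 1 by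
                  funext i; cases i using Fin.cases <;> simp [Pi.single_apply, (Fin.succ_ne_zero _).symm],
                Matrix.single_one_vecMul, Matrix.row_apply, Pi.single_apply] at h
              simp only [blk_succ_succ, Matrix.sub_apply, Matrix.one_apply, vecMulVec, Matrix.of_apply]
              simp [Fin.ext_iff] at h ⊢
              rw [← sub_eq_zero.1 h]
              simp [eq_comm]
      -- the condition on the Schur complement
      have hT3 : ∃ T3 : Set (Fin k → K), LineSmall (K := K) T3 2 ∧ (∃ t, t ∉ T3) ∧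
          ∀ t, t ∉ T3 → (schur 1 r (Fin.cons 0 t) D = 1 ∨ Good (schur 1 r (Fin.cons 0 t) D)) := by
        rcases Nat.eq_zero_or_pos k with hk | hk
        · subst hk
          refine ⟨∅, fun a d _ F hF => ?_, ⟨0, fun h => h⟩, fun t _ => Or.inl ?_⟩
          · rcases F.eq_empty_or_nonempty with rfl | ⟨s, hs⟩
            · simp
            · exact (hF s hs).elim
          · have h := hdet t
            rw [Matrix.det_fin_one] at h
            ext i j
            simp [Fin.fin_one_eq_zero i, Fin.fin_one_eq_zero j, h, Matrix.one_apply]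
        obtain ⟨k', rfl⟩ : ∃ k', k = k' + 1 := ⟨k - 1, by omega⟩
        set X0 := schur 1 r 0 D with hX0
        have hlin : ∀ t, schur 1 r (Fin.cons 0 t) D = X0 + vecMulVec (Pi.single 0 1) (L t) := fun t => by
          simp only [hX0, hL, LinearMap.coe_mk, AddHom.coe_mk, schur, inv_one, one_smul, Matrix.zero_vecMul,
            sub_zero, Matrix.vecMulVec_sub]
          abel
        let M : (Fin (k' + 1) → K) →ₗ[K] Matrix (Fin (k' + 2)) (Fin (k' + 2)) K :=
          { toFun := fun t => vecMulVec (Pi.single 0 1) (L t)
            map_add' := fun s t => by rw [map_add, Matrix.vecMulVec_add]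
            map_smul' := fun c t => by rw [map_smul, Matrix.vecMulVec_smul]; rfl }
        let Tsc := {t : Fin (k' + 1) → K | M t + X0 ∈ Submodule.span K {(1 : Matrix (Fin (k' + 2)) (Fin (k' + 2)) K)}}
        have hsc : ∀ t, t ∉ Tsc → Nonscalar (schur 1 r (Fin.cons 0 t) D) := fun t ht c hc => ht (by
          simp only [Tsc, Set.mem_setOf_eq]
          rw [show M t + X0 = schur 1 r (Fin.cons 0 t) D from (add_comm _ _).trans (hlin t).symm, hc]
          exact Submodule.smul_mem _ _ (Submodule.mem_span_singleton_self _))
        have hTsc : ∃ t, t ∉ Tsc := by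
          by_contra hall
          push Not at hall
          simp only [Tsc, Set.mem_setOf_eq] at hall
          have hrow : ∀ t, L t = 0 := fun t => by
            have h := Submodule.sub_mem _ (hall t) (hall 0)
            rw [map_zero, zero_add, add_sub_cancel_right] at h
            obtain ⟨c, hc⟩ := Submodule.mem_span_singleton.1 h
            have h11 := congrFun (congrFun hc 1) 1
            simp [M, vecMulVec] at h11
            funext j
            have h0j := congrFun (congrFun hc 0) j
            simp [M, vecMulVec, h11] at h0j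
            exact h0j.symm
          have hD : D 1 = 0 := by
            have h := hrow (Pi.single 0 1)
            simp only [hL, LinearMap.coe_mk, AddHom.coe_mk] at h
            rw [show (Fin.cons 0 (Pi.single 0 1) : Fin (k' + 2) → K) = Pi.single 1 1 by
              funext i; cases i using Fin.cases <;> simp [Pi.single_apply, (Fin.succ_ne_zero _).symm, succ_eq_one_iff],
              Matrix.single_one_vecMul] at h
            exact h
          have h := hdet 0
          rw [Matrix.det_eq_zero_of_row_eq_zero 1 (fun j => by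
            rw [show (1 : Fin (k' + 2)) = (0 : Fin (k' + 1)).succ from rfl, schur_succ]
            exact congrFun hD j)] at h
          exact zero_ne_one h
        have hR : ∃ i : Fin (k' + 1), X0 i.succ ≠ (1 : Matrix (Fin (k' + 2)) (Fin (k' + 2)) K) i.succ := by
          by_contra hall
          push Not at hall
          have hDrow : ∀ i : Fin (k' + 1), D i.succ = (1 : Matrix (Fin (k' + 2)) (Fin (k' + 2)) K) i.succ :=
            fun i => by rw [← hall i, hX0, hrows]
          have htop : LinearMap.range f ≠ ⊤ := fun h => by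
            obtain ⟨w, hw⟩ := LinearMap.mem_range.1 (h ▸ Submodule.mem_top :
              (P : Matrix (Fin (k' + 3)) (Fin (k' + 3)) K) *ᵥ Pi.single (Fin.succ (Fin.succ 0)) 1 ∈ LinearMap.range f)
            have h' : (blk 1 r (Pi.single 0 1) D - 1) *ᵥ
                (((P⁻¹ : GL (Fin (k' + 3)) K) : Matrix (Fin (k' + 3)) (Fin (k' + 3)) K) *ᵥ w) = Pi.single (Fin.succ (Fin.succ 0)) 1 := by
              rw [← hP, ← cj_one P, ← cj_sub, ClassSquare.cj, ← Matrix.mulVec_mulVec, ← Matrix.mulVec_mulVec,
                Matrix.mulVec_mulVec (M := (P : Matrix (Fin (k' + 3)) (Fin (k' + 3)) K)), ← Units.val_mul,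
                mul_inv_cancel, Units.val_one, Matrix.one_mulVec]
              simp only [hf, Matrix.mulVecLin_apply] at hw
              rw [hw, Matrix.mulVec_mulVec, ← Units.val_mul, inv_mul_cancel, Units.val_one, Matrix.one_mulVec]
            have h2 := congrFun h' (Fin.succ (Fin.succ 0))
            rw [blk_sub_one, Matrix.mulVec, dotProduct, Fin.sum_univ_succ] at h2
            simp only [blk_succ_zero, blk_succ_succ, Pi.single_eq_of_ne (Fin.succ_ne_zero (0 : Fin (k' + 1))),
              Matrix.sub_apply, hDrow, sub_self, zero_mul, Finset.sum_const_zero, add_zero,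
              Pi.single_eq_same, zero_ne_one] at h2
          apply hu3
          refine ⟨htop, ?_⟩
          have hr : r ≠ 0 := fun hr => hsm' ⟨Pi.single 1 1, Fin.cons 1 ((D - 1) 0), by
            rw [blk_sub_one]
            ext a b
            cases a using Fin.cases with
            | zero => cases b using Fin.cases <;> simp [hr, vecMulVec, Fin.ext_iff]
            | succ a =>
              cases a using Fin.cases with
              | zero => cases b using Fin.cases <;> simp [vecMulVec]
              | succ a => cases b using Fin.cases <;> simp [hDrow, vecMulVec, Fin.succ_ne_zero, succ_eq_one_iff, Pi.single_apply]⟩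
          obtain ⟨v, hv⟩ := exists_dot_ne hr
          refine LinearMap.mem_range.2 ⟨(P : Matrix (Fin (k' + 3)) (Fin (k' + 3)) K) *ᵥ
            ((r ⬝ᵥ v)⁻¹ • Fin.cons (-((D - 1) *ᵥ v) 0) v), ?_⟩
          rw [hf, Matrix.mulVecLin_apply, Matrix.sub_mulVec, Matrix.one_mulVec, ← cj_mulVec, hP,
            ← Matrix.mulVec_sub]
          rw [← hP0]
          congr 1
          conv_lhs => rw [← Matrix.one_mulVec ((r ⬝ᵥ v)⁻¹ • _), Matrix.mulVec_mulVec, Matrix.mul_one,
            ← Matrix.sub_mulVec, blk_sub_one, Matrix.mulVec_smul, blk_mulVec]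
          funext i
          cases i using Fin.cases with
          | zero => simp [hv]
          | succ i =>
            cases i using Fin.cases with
            | zero => simp
            | succ i => simp [Matrix.mulVec, dotProduct, hDrow, Fin.succ_ne_zero]
        obtain ⟨i₀, hi₀⟩ := hR
        by_cases hone : ∃ ρ : Fin (k' + 2) → K, ∀ i : Fin (k' + 1), ∃ c : K, (X0 - 1) i.succ = c • ρ
        · obtain ⟨ρ, hρ⟩ := hone
          let Tsm := {t : Fin (k' + 1) → K | L t + (X0 - 1) 0 ∈ Submodule.span K {ρ}}
          have hTsm : ∃ t, t ∉ Tsm := by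
            by_contra hall
            push Not at hall
            have h0 : (X0 - 1) 0 ∈ Submodule.span K {ρ} := by simpa [Tsm] using hall 0
            simp only [Tsm, Set.mem_setOf_eq] at hall
            have hLm : ∀ t, L t ∈ Submodule.span K {ρ} := fun t => by
              have := Submodule.sub_mem _ (hall t) h0
              simpa using this
            have he : ∀ i : Fin (k' + 1), (Pi.single i.succ 1 : Fin (k' + 2) → K) ∈ Submodule.span K {ρ} := fun i => by
              obtain ⟨c, hc⟩ := hρ i
              have h1 := hLm (Pi.single i 1)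
              simp only [hL, LinearMap.coe_mk, AddHom.coe_mk] at h1
              rw [show (Fin.cons 0 (Pi.single i 1) : Fin (k' + 2) → K) = Pi.single i.succ 1 by
                funext j; cases j using Fin.cases <;> simp [Pi.single_apply, (Fin.succ_ne_zero _).symm],
                Matrix.single_one_vecMul] at h1
              have h2 := Submodule.sub_mem _ h1 (Submodule.smul_mem _ c (Submodule.mem_span_singleton_self ρ))
              rw [← hc] at h2
              convert h2 using 1
              funext j
              simp [hX0, hrows, Matrix.one_apply, Pi.single_apply, eq_comm]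
            obtain ⟨a, ha⟩ := Submodule.mem_span_singleton.1 (he 0)
            have ha0 : a ≠ 0 := fun h => by simpa [h] using congrFun ha 1
            have hρ' : ∀ j, j ≠ 1 → ρ j = 0 := fun j hj => by
              have := congrFun ha j
              rw [Pi.smul_apply, Pi.single_eq_of_ne (by simpa using hj)] at this
              exact (mul_eq_zero.1 this).resolve_left ha0
            rcases Nat.eq_zero_or_pos k' with hk' | hk'
            · subst hk'
              obtain ⟨c0, hc0⟩ := Submodule.mem_span_singleton.1 h0
              have z : ∀ i, (X0 - 1) i 0 = 0 := fun i => by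
                cases i using Fin.cases with
                | zero => rw [← hc0]; simp [hρ' 0 (by simp)]
                | succ i => obtain ⟨c, hc⟩ := hρ i; rw [hc]; simp [hρ' 0 (by simp)]
              have hdd := hdet 0
              rw [show (Fin.cons 0 (0 : Fin 1 → K) : Fin 2 → K) = 0 by funext i; fin_cases i <;> rfl,
                ← hX0, Matrix.det_fin_two] at hdd
              have z0 := z 0
              have z1 := z 1
              simp [sub_eq_zero] at z0 z1
              rw [z0, z1] at hdd
              simp at hdd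
              refine hi₀ (funext fun j => ?_)
              rw [Fin.fin_one_eq_zero i₀]
              fin_cases j <;> simp [z1, hdd, Matrix.one_apply]
            · obtain ⟨b, hb⟩ := Submodule.mem_span_singleton.1 (he ⟨1, by omega⟩)
              have := congrFun hb (Fin.succ ⟨1, by omega⟩)
              rw [Pi.smul_apply, hρ' _ (by simp [Fin.ext_iff])] at this
              simp at this
          refine ⟨Tsc ∪ Tsm, (lineSmall_affine _ _ _).union (lineSmall_affine _ _ _),
            exists_avoid (lineSmall_affine _ _ _) (lineSmall_affine _ _ _) hTsc hTsm (by omega), fun t ht => ?_⟩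
          simp only [Set.mem_union, not_or] at ht
          refine Or.inr ⟨hsc t ht.1, fun ⟨a, b, hab⟩ => ht.2 ?_⟩
          obtain ⟨c, hc⟩ := hρ i₀
          have hc0 : c ≠ 0 := fun h => hi₀ (by
            rw [h, zero_smul] at hc; exact sub_eq_zero.1 (by rw [← hc]; rfl))
          have hb : a i₀.succ • b = c • ρ := by
            rw [← hc]
            funext j
            have := congrFun (congrFun hab i₀.succ) j
            simp only [vecMulVec, Matrix.of_apply] at this
            rw [Pi.smul_apply, smul_eq_mul, ← this]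
            show schur 1 r (Fin.cons 0 t) D i₀.succ j - _ = X0 i₀.succ j - _
            rw [schur_succ, hX0, schur_succ]
          simp only [Tsm, Set.mem_setOf_eq]
          have h0 : L t + (X0 - 1) 0 = a 0 • b := funext fun j => by
            have := congrFun (congrFun hab 0) j
            simp only [vecMulVec, Matrix.of_apply] at this
            rw [Pi.smul_apply, smul_eq_mul, ← this, hlin]
            simp [vecMulVec]; ring
          rw [h0]
          have hai : a i₀.succ ≠ 0 := fun h => by
            rw [h, zero_smul] at hb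
            rcases smul_eq_zero.1 hb.symm with h' | h'
            · exact hc0 h'
            · exact hi₀ (sub_eq_zero.1 (by rw [h', smul_zero] at hc; rw [← hc]; rfl))
          rw [show b = (a i₀.succ)⁻¹ • (c • ρ) by rw [← hb, smul_smul, inv_mul_cancel₀ hai, one_smul]]
          exact Submodule.smul_mem _ _ (Submodule.smul_mem _ _ (Submodule.smul_mem _ _
            (Submodule.mem_span_singleton_self ρ)))
        · refine ⟨Tsc, (lineSmall_affine _ _ _).mono one_le_two, hTsc, fun t ht => Or.inr ⟨hsc t ht, ?_⟩⟩
          rintro ⟨a, b, hab⟩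
          refine hone ⟨b, fun i => ⟨a i.succ, funext fun j => ?_⟩⟩
          have := congrFun (congrFun hab i.succ) j
          simp only [vecMulVec, Matrix.of_apply] at this
          rw [Pi.smul_apply, smul_eq_mul, ← this]
          show X0 i.succ j - _ = schur 1 r (Fin.cons 0 t) D i.succ j - _
          rw [schur_succ, hX0, schur_succ]
      obtain ⟨T3, l3', p3', hgood⟩ := hT3
      have lT1 : LineSmall (K := K) T1 1 := lineSmall_affine _ _ _
      have lT2 : LineSmall (K := K) T2 1 := lineSmall_affine _ _ _
      obtain ⟨t, ht⟩ := exists_avoid (lT1.union lT2) l3' (exists_avoid lT1 lT2 hT1 hT2 (by omega)) p3' (by omega)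
      simp only [Set.mem_union, not_or] at ht
      obtain ⟨⟨ht1, ht2⟩, ht3⟩ := ht
      set t' : Fin (k + 1) → K := Fin.cons 0 t with ht'
      have hnt : r + (1 : K) • t' - t' ᵥ* D ≠ 0 := by
        simp only [T2, Set.mem_setOf_eq, Submodule.mem_bot, LinearMap.sub_apply] at ht2
        intro h
        apply ht2
        rw [← h, ht']
        simp only [hL, LinearMap.coe_mk, AddHom.coe_mk, ι, one_smul]
        abel
      have he0 : (Pi.single 0 1 : Fin (k + 1) → K) ≠ 0 := fun h => by simpa using congrFun h 0
      obtain ⟨A, B, hA, hB, hAB, ⟨l, hl, hlm⟩, ⟨w, hw, hnw⟩⟩ := ih _ (hdet t) (hgood t ht3) _ _ he0 hnt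
      set Q := P * shear t' with hQ
      have hQX : cj Q X = blk 1 0 (Pi.single 0 1) A * blk 1 (r + (1 : K) • t' - t' ᵥ* D) 0 B := by
        rw [hQ, ← cj_cj, hP, cj_shear t' (by simp [ht']), blk_mul, blk_inj]
        refine ⟨by simp, by simp, by simp, ?_⟩
        rw [hAB]
        simp only [schur, inv_one, one_smul, Matrix.vecMulVec_sub, Matrix.vecMulVec_add]
        rw [ht']
        abel
      refine ⟨_, _, (hA.blk_col hl hlm).cj Q⁻¹, (hB.blk_row hw hnw).cj Q⁻¹,
        by rw [← cj_mul, ← hQX, cj_inv], ⟨Fin.cons 1 0 ᵥ*
        ((Q⁻¹ : GL (Fin (k + 2)) K) : Matrix (Fin (k + 2)) (Fin (k + 2)) K), ?_, ?_⟩, ⟨u, ?_, hnu⟩⟩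
      · simp only [ClassSquare.cj, inv_inv, Matrix.vecMul_vecMul, ← Matrix.mul_assoc, ← Units.val_mul,
          inv_mul_cancel, Units.val_one, Matrix.one_mul]
        rw [← Matrix.vecMul_vecMul, vecMul_blk]
        simp
      · rw [← Matrix.dotProduct_mulVec]
        simp only [T1, Set.mem_setOf_eq, Submodule.mem_bot, dotLin_apply] at ht1
        intro h
        apply ht1
        rw [hQ, _root_.mul_inv_rev, Units.val_mul, ← Matrix.mulVec_mulVec, ← hp, coe_shear_inv,
          ← Fin.cons_self_tail p, blk_mulVec] at h
        simp [dotProduct, Fin.sum_univ_succ, Fin.tail, ht'] at h ⊢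
        rw [show (∑ i : Fin k, p i.succ.succ * t i) = ∑ i : Fin k, t i * p i.succ.succ from
          Finset.sum_congr rfl fun i _ => mul_comm _ _]
        linear_combination -h
      · have hQ0 : (Q : Matrix (Fin (k + 2)) (Fin (k + 2)) K) *ᵥ Pi.single 0 1 = u := by
          rw [hQ, Units.val_mul, ← Matrix.mulVec_mulVec, coe_shear]
          rw [show blk 1 t' 0 (1 : Matrix (Fin (k + 1)) (Fin (k + 1)) K) *ᵥ Pi.single 0 1 = Pi.single 0 1 by
            funext i; cases i using Fin.cases <;> simp [Fin.succ_ne_zero]]
          exact hP0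
        rw [ClassSquare.cj, inv_inv, ← Matrix.mulVec_mulVec, ← Matrix.mulVec_mulVec, ← hQ0]
        congr 1
        rw [Matrix.mulVec_mulVec (M := (Q⁻¹ : GL (Fin (k + 2)) K).val), ← Units.val_mul, inv_mul_cancel,
          Units.val_one, Matrix.one_mulVec]
        funext i
        cases i using Fin.cases <;> simp [Fin.succ_ne_zero]

/-- A matrix of determinant one that is trivial or not scalar is a product of two regular unipotents. -/
theorem exists_factor (hK : 6 ≤ Fintype.card K) (X : Matrix (Fin k) (Fin k) K) (hd : X.det = 1)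
    (hX : X = 1 ∨ Nonscalar X) : ∃ A B, RegUnip A ∧ RegUnip B ∧ A * B = X := by
  cases k with
  | zero => exact ⟨1, 1, ⟨by simp, 0, fun w _ => ⟨0, Subsingleton.elim _ _⟩⟩,
      ⟨by simp, 0, fun w _ => ⟨0, Subsingleton.elim _ _⟩⟩, Subsingleton.elim _ _⟩
  | succ k =>
    by_cases hgood : X = 1 ∨ Good X
    · have he : (Pi.single 0 1 : Fin (k + 1) → K) ≠ 0 := fun h => by simpa using congrFun h 0
      obtain ⟨A, B, hA, hB, hAB, -⟩ := exists_factor_aux hK k X hd hgood _ _ he he
      exact ⟨A, B, hA, hB, hAB⟩
    · simp only [not_or, Good, not_and, not_not] at hgood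
      have hns := hX.resolve_left hgood.1
      obtain ⟨a, b, hab⟩ := hgood.2 hns
      cases k with
      | zero =>
        exact absurd (show X = X 0 0 • 1 by ext i j; simp [Fin.fin_one_eq_zero i, Fin.fin_one_eq_zero j]) (hns _)
      | succ k =>
        have ha : a ≠ 0 := fun h => hns 1 (by
          rw [one_smul]; exact sub_eq_zero.1 (by rw [hab, h, Matrix.zero_vecMulVec]))
        obtain ⟨P, hP⟩ := exists_unit_of_first ha
        have hPa : ((P⁻¹ : GL (Fin (k + 2)) K) : Matrix (Fin (k + 2)) (Fin (k + 2)) K) *ᵥ a = Pi.single 0 1 := by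
          rw [← hP, Matrix.mulVec_mulVec, ← Units.val_mul, inv_mul_cancel, Units.val_one, Matrix.one_mulVec]
        set c := b ᵥ* (P : Matrix (Fin (k + 2)) (Fin (k + 2)) K) with hc
        have hcX : cj P X = blk (1 + c 0) (Fin.tail c) 0 1 := by
          have h : cj P (X - 1) = vecMulVec (Pi.single 0 1) c := by
            rw [hab, ClassSquare.cj, Matrix.mul_vecMulVec, Matrix.vecMulVec_mul, hPa]
          rw [cj_sub, cj_one, sub_eq_iff_eq_add] at h
          rw [h]
          ext i j
          cases i using Fin.cases <;> cases j using Fin.cases <;>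
            simp [vecMulVec, Fin.tail, Matrix.one_apply, Fin.succ_ne_zero, (Fin.succ_ne_zero _).symm, add_comm]
        have hc0 : c 0 = 0 := by
          have h := congrArg Matrix.det hcX
          rw [det_cj, hd, det_blk_zero_col, det_one, mul_one] at h
          linear_combination -h
        rw [hc0, add_zero] at hcX
        set ν := Fin.tail c
        have hν : ν ≠ 0 := fun h => hns 1 (by
          rw [h, blk_one] at hcX
          rw [one_smul, ← cj_inv P X, hcX, cj_one])
        have he : (Pi.single 0 1 : Fin (k + 1) → K) ≠ 0 := fun h => by simpa using congrFun h 0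
        obtain ⟨A, B, hA, hB, hAB, -, v, hv, hνv⟩ :=
          exists_factor_aux hK k 1 det_one (Or.inl rfl) _ _ he hν
        have hvA : A *ᵥ v = v := by
          conv_lhs => rw [← hv]
          rw [Matrix.mulVec_mulVec, hAB, Matrix.one_mulVec]
        classical
        obtain ⟨γ, hγ⟩ : ∃ γ : K, γ ∉ ({0, 1} : Finset K) := by
          by_contra hall
          push Not at hall
          have := Finset.card_le_card (fun x _ => hall x : (Finset.univ : Finset K) ⊆ {0, 1})
          rw [Finset.card_univ] at this
          have := Finset.card_le_two (a := (0 : K)) (b := 1)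
          omega
        simp only [Finset.mem_insert, Finset.mem_singleton, not_or] at hγ
        have h1 : RegUnip (blk 1 (γ • ν) 0 A) := hA.blk_row hvA (by
          rw [smul_dotProduct, smul_eq_mul]; exact mul_ne_zero hγ.1 hνv)
        have h2 : RegUnip (blk 1 (ν - γ • (ν ᵥ* B)) 0 B) := hB.blk_row hv (by
          rw [sub_dotProduct, smul_dotProduct, ← Matrix.dotProduct_mulVec, hv, smul_eq_mul,
            show ν ⬝ᵥ v - γ * (ν ⬝ᵥ v) = (1 - γ) * (ν ⬝ᵥ v) by ring]
          exact mul_ne_zero (sub_ne_zero.2 (Ne.symm hγ.2)) hνv)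
        refine ⟨_, _, h1.cj P⁻¹, h2.cj P⁻¹, ?_⟩
        rw [← cj_mul, blk_mul, ← cj_inv P X, hcX]
        congr 1
        rw [blk_inj]
        refine ⟨by simp, ?_, by simp, ?_⟩
        · rw [Matrix.smul_vecMul]; simp
        · rw [Matrix.zero_vecMulVec, zero_add, hAB]

end Field

end CfsgLib.ClassSquare
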