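import Cfsg.Agent.Lib.ClassSquare.Symplectic

/-!
`PSp(4, F)` for `|F| ≥ 3` is covered, apart from the identity, by the square of the class of an element of
order prime to the characteristic: an irreducible element of the Levi subgroup `GL(2, F)` of the Siegel
parabolic.
-/

set_option autoImplicit false
set_option linter.unusedSectionVars false
set_option linter.unusedSimpArgs false

namespace CfsgLib.ClassSquare.PSpFour

open Matrix CfsgLib.ClassSquare.Symp

variable {F : Type*} [Field F]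

local notation "M2" => Matrix (Fin 2) (Fin 2) F

/-! ### The parameters -/

/-- Parameters of an irreducible polynomial `X² - sX + d` with `d ≠ 1` and `s ≠ 0`. -/
theorem exists_param [Fintype F] (h3 : 3 ≤ Fintype.card F) :
    ∃ s d : F, d ≠ 0 ∧ d ≠ 1 ∧ s ≠ 0 ∧ ∀ r : F, r * r - s * r + d ≠ 0 := by
  classical
  obtain ⟨d, -, hd⟩ := Finset.exists_mem_notMem_of_card_lt_card
    (s := ({0, 1} : Finset F)) (t := Finset.univ) (lt_of_le_of_lt Finset.card_le_two (by
      rw [Finset.card_univ]; omega))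
  simp only [Finset.mem_insert, Finset.mem_singleton, not_or] at hd
  obtain ⟨hd0, hd1⟩ := hd
  by_contra hno
  push Not at hno
  have hroot : ∀ s : {s : F // s ≠ 0}, ∃ r : {r : F // r ≠ 0}, (r : F) * r - s * r + d = 0 := by
    intro s
    obtain ⟨r, hr⟩ := hno s d hd0 hd1 s.2
    exact ⟨⟨r, fun e => hd0 (by simpa [e] using hr)⟩, hr⟩
  choose f hf using hroot
  have hinj : Function.Injective f := fun a b e => by
    have h1 := hf a
    rw [e] at h1
    have h2 : ((a : F) - b) * (f b : F) = 0 := by linear_combination hf b - h1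
    exact Subtype.ext (sub_eq_zero.1 ((mul_eq_zero.1 h2).resolve_right (f b).2))
  have hsurj := Finite.injective_iff_surjective.1 hinj
  obtain ⟨a, ha⟩ := hsurj ⟨1, one_ne_zero⟩
  obtain ⟨b, hb⟩ := hsurj ⟨d, hd0⟩
  have e1 : (a : F) = 1 + d := by
    have := hf a; rw [ha] at this; linear_combination -this
  have e2 : (b : F) = 1 + d := by
    have := hf b; rw [hb] at this
    refine mul_left_cancel₀ hd0 ?_
    linear_combination -this
  have hab : a = b := Subtype.ext (e1.trans e2.symm)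
  rw [hab, hb] at ha
  exact hd1 (congrArg Subtype.val ha)

/-! ### Matrices of degree two -/

theorem sq_fin_two (y : M2) : y * y = y.trace • y - y.det • (1 : M2) := by
  ext i j
  fin_cases i <;> fin_cases j <;>
    simp [Matrix.mul_apply, Fin.sum_univ_two, Matrix.trace_fin_two, Matrix.det_fin_two] <;> ring

theorem trace_adjugate_two (y : M2) : y.adjugate.trace = y.trace := by
  simp [Matrix.adjugate_fin_two, Matrix.trace_fin_two, add_comm]

theorem det_adjugate_two (y : M2) : y.adjugate.det = y.det := by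
  simp [Matrix.adjugate_fin_two, Matrix.det_fin_two, mul_comm]

/-- The companion matrix. -/
def comp (s d : F) : M2 := !![0, -d; 1, s]

theorem trace_comp (s d : F) : (comp s d).trace = s := by simp [comp, Matrix.trace_fin_two]

theorem det_comp (s d : F) : (comp s d).det = d := by simp [comp, Matrix.det_fin_two]

theorem exists_companion {A : M2} (hA : Nonscalar A) :
    ∃ P : GL (Fin 2) F, A * (P : M2) = (P : M2) * comp A.trace A.det := by
  have key : ∀ v : Fin 2 → F, v 0 * (A 1 0 * v 0 + A 1 1 * v 1) - v 1 * (A 0 0 * v 0 + A 0 1 * v 1) ≠ 0 →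
      ∃ P : GL (Fin 2) F, A * (P : M2) = (P : M2) * comp A.trace A.det := by
    intro v hv
    let Q : M2 := !![v 0, A 0 0 * v 0 + A 0 1 * v 1; v 1, A 1 0 * v 0 + A 1 1 * v 1]
    have hQ : Q.det ≠ 0 := by
      simp only [Q, Matrix.det_fin_two, Matrix.of_apply, Matrix.cons_val_zero, Matrix.cons_val_one]
      intro e; exact hv (by linear_combination e)
    refine ⟨Matrix.GeneralLinearGroup.mkOfDetNeZero Q hQ, ?_⟩
    show A * Q = Q * _
    ext i j
    fin_cases i <;> fin_cases j <;>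
      simp [Q, comp, Matrix.mul_apply, Fin.sum_univ_two, Matrix.trace_fin_two, Matrix.det_fin_two] <;> ring
  by_cases h1 : A 1 0 = 0
  swap
  · exact key ![1, 0] (by simpa using h1)
  by_cases h2 : A 0 1 = 0
  swap
  · exact key ![0, 1] (by simpa using h2)
  refine key ![1, 1] fun e => hA (A 0 0) ?_
  simp [h1, h2, sub_eq_zero] at e
  ext i j
  fin_cases i <;> fin_cases j <;> simp [h1, h2, e]

theorem nonscalar_of_noroot {y : M2} (h : ∀ r : F, r * r - y.trace * r + y.det ≠ 0) : Nonscalar y := by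
  intro c hc
  refine h c ?_
  rw [hc]
  simp [Matrix.trace_fin_two, Matrix.det_fin_two]
  ring

theorem isConj_of_tr_det {x y : GL (Fin 2) F} (hx : Nonscalar (x : M2)) (hy : Nonscalar (y : M2))
    (ht : (x : M2).trace = (y : M2).trace) (hd : (x : M2).det = (y : M2).det) : IsConj x y := by
  obtain ⟨P, hP⟩ := exists_companion hx
  obtain ⟨Q, hQ⟩ := exists_companion hy
  refine isConj_iff.2 ⟨Q * P⁻¹, ?_⟩
  rw [mul_inv_eq_iff_eq_mul]
  refine Units.ext ?_
  simp only [Units.val_mul]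
  rw [← mul_assoc (y : M2), hQ, mul_assoc, mul_assoc]
  congr 1
  rw [← ht, ← hd, Units.inv_mul_eq_iff_eq_mul, ← mul_assoc, ← hP, mul_assoc, Units.mul_inv, mul_one]

theorem fix_zero {y S : M2} {s d : F} (ht : y.trace = s) (hdet : y.det = d) (hd : d ≠ 1) (hs : s ≠ 0)
    (hirr : ∀ r : F, r * r - s * r + d ≠ 0) (h : yᵀ * S * y = S) : S = 0 := by
  have ey : y * y = s • y - d • (1 : M2) := by rw [sq_fin_two, ht, hdet]
  have ew : yᵀ * yᵀ = s • yᵀ - d • (1 : M2) := by
    rw [← Matrix.transpose_mul, ey]; simp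
  have e1 : yᵀ * S = s • S - d • (S * y) := by
    calc yᵀ * S = yᵀ * (yᵀ * S * y) := by rw [h]
      _ = (yᵀ * yᵀ) * (S * y) := by simp only [mul_assoc]
      _ = s • (yᵀ * S * y) - d • (S * y) := by rw [ew]; simp [sub_mul, mul_assoc]
      _ = _ := by rw [h]
  have e2 : S * y = s • S - d • (yᵀ * S) := by
    calc S * y = (yᵀ * S * y) * y := by rw [h]
      _ = (yᵀ * S) * (y * y) := by simp only [mul_assoc]
      _ = s • (yᵀ * S * y) - d • (yᵀ * S) := by rw [ey]; simp [mul_sub, mul_assoc]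
      _ = _ := by rw [h]
  have e3 : yᵀ * S = S * y := by
    have : (1 - d) • (yᵀ * S - S * y) = 0 := by
      linear_combination (norm := module) e1 - e2
    exact sub_eq_zero.1 ((smul_eq_zero.1 this).resolve_left (sub_ne_zero.2 hd.symm))
  have e4 : S * (s • y - (1 + d) • (1 : M2)) = 0 := by
    have : S = S * (s • y - d • (1 : M2)) := by
      rw [← ey, ← mul_assoc, ← e3, h]
    simp only [mul_sub, mul_smul_comm, mul_one] at this ⊢
    rw [add_smul, one_smul, sub_add_eq_sub_sub, sub_right_comm, ← this, sub_self]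
  have hdne : (s • y - (1 + d) • (1 : M2)).det ≠ 0 := by
    intro e
    refine hirr ((1 + d) / s) ?_
    rw [← ht, ← hdet] at *
    simp [Matrix.det_fin_two, Matrix.trace_fin_two] at e hs ⊢
    field_simp
    linear_combination e
  have := congrArg (· * (s • y - (1 + d) • (1 : M2)).adjugate) e4
  simpa [mul_assoc, Matrix.mul_adjugate, hdne] using this

/-- A point on the conic. -/
theorem exists_conic [Fintype F] {s d T : F} (hd : d ≠ 0) (hs : s ≠ 0) (hT : T ≠ 2 * d) :
    ∃ a c : F, a * a + T * a * c + d * d * (c * c) - s * a - s * d * c + d = 0 := by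
  by_cases h2 : (2 : F) = 0
  · have hT0 : T ≠ 0 := fun e => hT (by rw [e, h2, zero_mul])
    haveI : CharP F 2 := by
      obtain ⟨p, hp⟩ := CharP.exists F
      have hdv : p ∣ 2 := (CharP.cast_eq_zero_iff F p 2).1 (by exact_mod_cast h2)
      have := (Nat.prime_dvd_prime_iff_eq (CharP.char_is_prime F p) Nat.prime_two).1 hdv
      subst this; exact hp
    obtain ⟨a, ha⟩ : ∃ a : F, T * a = s * d := ⟨s * d / T, by field_simp⟩
    obtain ⟨c, hc⟩ := FiniteField.isSquare_of_char_two (ringChar.eq F 2) (-(a * a - s * a + d) / (d * d))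
    refine ⟨a, c, ?_⟩
    rw [div_eq_iff (mul_ne_zero hd hd)] at hc
    linear_combination c * ha - hc
  by_cases hT' : T = -(2 * d)
  · refine ⟨d / (2 * s), 1 / (2 * s), ?_⟩
    rw [hT']; field_simp; ring
  · have hα : d * d - T * T / 4 ≠ 0 := by
      intro e
      have h4 : (4 : F) ≠ 0 := by
        rw [show (4 : F) = 2 * 2 by norm_num]; exact mul_ne_zero h2 h2
      have : (T - 2 * d) * (T + 2 * d) = 0 := by
        field_simp at e; linear_combination -e
      rcases mul_eq_zero.1 this with e | e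
      · exact hT (sub_eq_zero.1 e)
      · exact hT' (eq_neg_of_add_eq_zero_left e)
    obtain ⟨p, hpc⟩ := CharP.exists F
    have hodd : Fintype.card F % 2 = 1 := FiniteField.odd_card_of_char_ne_two fun e => h2 (by
      have hdv : ((2 : ℕ) : F) = 0 := e ▸ ringChar.Nat.cast_ringChar (R := F)
      exact_mod_cast hdv)
    obtain ⟨w, c, hwc⟩ := FiniteField.exists_root_sum_quadratic (R := F)
      (f := Polynomial.X ^ 2)
      (g := Polynomial.C (d * d - T * T / 4) * Polynomial.X ^ 2 + Polynomial.C (s * T / 2 - s * d) * Polynomial.X +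
        Polynomial.C (d - s * s / 4))
      (Polynomial.degree_X_pow 2) (Polynomial.degree_quadratic hα) hodd
    simp only [Polynomial.eval_add, Polynomial.eval_mul, Polynomial.eval_pow, Polynomial.eval_X,
      Polynomial.eval_C] at hwc
    refine ⟨w + (s - T * c) / 2, c, ?_⟩
    have h4 : (4 : F) = 2 * 2 := by norm_num
    rw [h4] at hwc
    field_simp at hwc ⊢
    linear_combination hwc

/-- A non-scalar matrix as a product of two matrices with prescribed trace and determinant. -/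
theorem exists_pair [Fintype F] {A : M2} {s d : F} (hd : d ≠ 0) (hs : s ≠ 0) (hA : Nonscalar A)
    (hdet : A.det = d * d) (hT : A.trace ≠ 2 * d) :
    ∃ y z : M2, y.trace = s ∧ y.det = d ∧ z.trace = s ∧ z.det = d ∧ y * z = A := by
  obtain ⟨P, hP⟩ := exists_companion hA
  rw [hdet] at hP
  obtain ⟨a, c, hac⟩ := exists_conic hd hs hT
  let b : F := c * (d * d) + a * A.trace - s * d
  let y : M2 := !![a, b; c, s - a]
  let K : M2 := comp A.trace (d * d)
  have hyt : y.trace = s := by simp [y, Matrix.trace_fin_two]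
  have hyd : y.det = d := by
    simp [y, b, Matrix.det_fin_two]; linear_combination -hac
  let z : M2 := d⁻¹ • (y.adjugate * K)
  have hzt : z.trace = s := by
    have : (y.adjugate * K).trace = s * d := by
      simp [y, K, b, comp, Matrix.adjugate_fin_two, Matrix.trace_fin_two, Matrix.mul_apply, Fin.sum_univ_two]
    rw [Matrix.trace_smul, this, smul_eq_mul]; field_simp
  have hzd : z.det = d := by
    rw [Matrix.det_smul, Matrix.det_mul, det_adjugate_two, hyd, show K.det = d * d from det_comp _ _]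
    simp; field_simp
  have hyz : y * z = K := by
    rw [Matrix.mul_smul, ← mul_assoc, Matrix.mul_adjugate, hyd, Matrix.smul_mul, one_mul, smul_smul,
      inv_mul_cancel₀ hd, one_smul]
  refine ⟨P * y * (P⁻¹ : GL (Fin 2) F), P * z * (P⁻¹ : GL (Fin 2) F), ?_, ?_, ?_, ?_, ?_⟩
  · rw [Matrix.trace_mul_cycle]; simp [hyt]
  · rw [Matrix.det_units_conj, hyd]
  · rw [Matrix.trace_mul_cycle]; simp [hzt]
  · rw [Matrix.det_units_conj, hzd]
  · calc (P : M2) * y * (P⁻¹ : GL (Fin 2) F) * (P * z * (P⁻¹ : GL (Fin 2) F))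
        = P * (y * z) * (P⁻¹ : GL (Fin 2) F) := by
          simp only [mul_assoc, Units.inv_mul_cancel_left]
      _ = A := by rw [hyz, ← hP, mul_assoc, Units.mul_inv, mul_one]

/-! ### The fields of characteristic two -/

/-- The unipotent matrix. -/
def A0 : M2 := !![1, 1; 0, 1]

theorem exists_sym_fix [Fintype F] (h2 : (2 : F) = 0) (h4 : 4 ≤ Fintype.card F) {M : M2} (hM : Mᵀ = M)
    (h0 : M ≠ 0) : ∃ S : M2, Sᵀ = S ∧ (1 + S * M).det = 1 ∧
      (((1 + S * M) * A0).trace ≠ 0 ∨ (1 + S * M) * A0 = 1) := by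
  classical
  obtain ⟨a, b, e, rfl⟩ : ∃ a b e, M = !![a, b; b, e] := ⟨M 0 0, M 0 1, M 1 1, by
    ext i j
    fin_cases i <;> fin_cases j <;> simp
    exact (congrFun (congrFun hM 0) 1)⟩
  have hneg : ∀ x : F, -x = x := fun x => by
    rw [neg_eq_iff_add_eq_zero, ← two_mul, h2, zero_mul]
  by_cases ha : a = 0
  · subst ha
    by_cases hb : b = 0
    · subst hb
      have he : e ≠ 0 := fun he => h0 (by subst he; ext i j; fin_cases i <;> fin_cases j <;> simp)
      refine ⟨!![0, e⁻¹; e⁻¹, 0], by ext i j; fin_cases i <;> fin_cases j <;> simp, ?_, Or.inr ?_⟩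
      · simp [Matrix.det_fin_two, Matrix.mul_apply, Fin.sum_univ_two]
      · ext i j
        fin_cases i <;> fin_cases j <;>
          simp [A0, Matrix.mul_apply, Fin.sum_univ_two, he, ← two_mul, h2]
    · refine ⟨!![b⁻¹, 0; 0, 0], by ext i j; fin_cases i <;> fin_cases j <;> simp, ?_, Or.inr ?_⟩
      · simp [Matrix.det_fin_two, Matrix.mul_apply, Fin.sum_univ_two]
      · ext i j
        fin_cases i <;> fin_cases j <;>
          simp [A0, Matrix.mul_apply, Fin.sum_univ_two, hb, ← two_mul, h2]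
  by_cases hdeg : b = 0 ∧ e = 0
  · obtain ⟨rfl, rfl⟩ := hdeg
    refine ⟨!![0, 1; 1, 0], by ext i j; fin_cases i <;> fin_cases j <;> simp, ?_, Or.inl ?_⟩
    · simp [Matrix.det_fin_two, Matrix.mul_apply, Fin.sum_univ_two]
    · simp [A0, Matrix.trace_fin_two, Matrix.mul_apply, Fin.sum_univ_two]
      rw [show 1 + (a + 1) = a + 2 * 1 by ring, h2, zero_mul, add_zero]
      exact ha
  set D := a * e + b * b with hD
  -- avoid the zeros of two linear functions
  let Z : F → F → Finset F := fun α β => if β = 0 then ∅ else {-(α / β)}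
  obtain ⟨s, -, hs⟩ := Finset.exists_mem_notMem_of_card_lt_card
    (s := insert (0 : F) (Z a D ∪ Z (a * b) (D * (e + b)))) (t := Finset.univ) (by
      refine lt_of_le_of_lt ((Finset.card_insert_le _ _).trans (Nat.add_le_add_right
        ((Finset.card_union_le _ _).trans (Nat.add_le_add ?_ ?_ : _ ≤ 1 + 1)) 1)) (by
          rw [Finset.card_univ]; omega) <;>
      · simp only [Z]; split_ifs <;> simp)
  simp only [Finset.mem_insert, Finset.mem_union, not_or, Z] at hs
  obtain ⟨hs0, hs1, hs2⟩ := hs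
  have lin : ∀ α β : F, s ∉ (if β = 0 then (∅ : Finset F) else {-(α / β)}) → (β = 0 → α ≠ 0) →
      α + β * s ≠ 0 := by
    intro α β hnot hz h
    split_ifs at hnot with hβ
    · exact hz hβ (by simpa [hβ] using h)
    · refine hnot (Finset.mem_singleton.2 ?_)
      rw [eq_neg_of_add_eq_zero_left h, neg_div, neg_neg, mul_div_cancel_left₀ _ hβ]
  have n1 := lin a D hs1 fun _ => ha
  have n2 := lin (a * b) (D * (e + b)) hs2 fun hz hab => hdeg (by
    have hb : b = 0 := (mul_eq_zero.1 hab).resolve_left ha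
    subst hb
    simpa [hD, ha] using hz)
  obtain ⟨p, hp⟩ : ∃ p, p * (a + D * s) = s * e := ⟨s * e / (a + D * s), div_mul_cancel₀ _ n1⟩
  refine ⟨!![p, 0; 0, s], by ext i j; fin_cases i <;> fin_cases j <;> simp, ?_, Or.inl fun ht => ?_⟩
  · simp [Matrix.det_fin_two, Matrix.mul_apply, Fin.sum_univ_two]
    linear_combination hp + (s * e - p * s * b * b) * h2
  · simp [A0, Matrix.trace_fin_two, Matrix.mul_apply, Fin.sum_univ_two] at ht
    refine mul_ne_zero hs0 n2 ?_
    linear_combination (a + D * s) * ht - a * hp - (a + D * s + a * s * e) * h2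

/-! ### The subgroups -/

theorem symL_mul {S S' : M2} (hS : Sᵀ = S) (hS' : S'ᵀ = S') :
    symL S hS * symL S' hS' = symL (S + S') (by rw [Matrix.transpose_add, hS, hS']) :=
  Subtype.ext (by rw [Submonoid.coe_mul]; simp [symL, fromBlocks_multiply])

theorem symU_mul {S S' : M2} (hS : Sᵀ = S) (hS' : S'ᵀ = S') :
    symU S hS * symU S' hS' = symU (S + S') (by rw [Matrix.transpose_add, hS, hS']) :=
  Subtype.ext (by rw [Submonoid.coe_mul]; simp [symU, fromBlocks_multiply, add_comm])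

/-- The lower unipotent subgroup. -/
def lowU (F : Type*) [Field F] : Subgroup (Matrix.symplecticGroup (Fin 2) F) where
  carrier := {g | ∃ S hS, g = symL S hS}
  one_mem' := ⟨0, by simp, Subtype.ext (by simp [symL, ← fromBlocks_one])⟩
  mul_mem' := by
    rintro _ _ ⟨S, hS, rfl⟩ ⟨S', hS', rfl⟩
    exact ⟨_, _, symL_mul hS hS'⟩
  inv_mem' := by
    rintro _ ⟨S, hS, rfl⟩
    refine ⟨-S, by rw [Matrix.transpose_neg, hS], inv_eq_of_mul_eq_one_right ?_⟩
    rw [symL_mul]
    exact Subtype.ext (by simp [symL, ← fromBlocks_one])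

/-- The upper unipotent subgroup. -/
def uppU (F : Type*) [Field F] : Subgroup (Matrix.symplecticGroup (Fin 2) F) where
  carrier := {g | ∃ S hS, g = symU S hS}
  one_mem' := ⟨0, by simp, Subtype.ext (by simp [symU, ← fromBlocks_one])⟩
  mul_mem' := by
    rintro _ _ ⟨S, hS, rfl⟩ ⟨S', hS', rfl⟩
    exact ⟨_, _, symU_mul hS hS'⟩
  inv_mem' := by
    rintro _ ⟨S, hS, rfl⟩
    refine ⟨-S, by rw [Matrix.transpose_neg, hS], inv_eq_of_mul_eq_one_right ?_⟩
    rw [symU_mul]
    exact Subtype.ext (by simp [symU, ← fromBlocks_one])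

theorem lev_conj_symL (A : GL (Fin 2) F) (S : M2) (hS : Sᵀ = S) :
    ∃ hS', lev A * symL S hS * (lev A)⁻¹ =
      symL (((A⁻¹ : GL (Fin 2) F) : M2)ᵀ * S * ((A⁻¹ : GL (Fin 2) F) : M2)) hS' := by
  refine ⟨by simp only [Matrix.transpose_mul, Matrix.transpose_transpose, hS, mul_assoc], ?_⟩
  rw [mul_inv_eq_iff_eq_mul]
  refine Subtype.ext ?_
  rw [Submonoid.coe_mul, Submonoid.coe_mul]
  simp only [symL, coe_mk, coe_lev, fromBlocks_multiply, fromBlocks_inj]
  refine ⟨by simp, by simp, ?_, by simp⟩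
  simp [mul_assoc]

theorem lev_conj_symU (A : GL (Fin 2) F) (S : M2) (hS : Sᵀ = S) :
    ∃ hS', lev A * symU S hS * (lev A)⁻¹ = symU ((A : M2) * S * (A : M2)ᵀ) hS' := by
  refine ⟨by simp only [Matrix.transpose_mul, Matrix.transpose_transpose, hS, mul_assoc], ?_⟩
  rw [mul_inv_eq_iff_eq_mul]
  refine Subtype.ext ?_
  rw [Submonoid.coe_mul, Submonoid.coe_mul]
  simp only [symU, coe_mk, coe_lev, fromBlocks_multiply, fromBlocks_inj]
  refine ⟨by simp, ?_, by simp, by simp⟩
  rw [Matrix.mul_assoc _ _ ((A⁻¹ : GL (Fin 2) F) : M2)ᵀ, ← Matrix.transpose_mul, ← Units.val_mul,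
    inv_mul_cancel]
  simp

theorem lev_normalizes (A : GL (Fin 2) F) :
    (∀ u ∈ lowU F, lev A * u * (lev A)⁻¹ ∈ lowU F) ∧ ∀ u ∈ uppU F, lev A * u * (lev A)⁻¹ ∈ uppU F := by
  constructor <;> rintro _ ⟨S, hS, rfl⟩
  · obtain ⟨h', e⟩ := lev_conj_symL A S hS; exact ⟨_, h', e⟩
  · obtain ⟨h', e⟩ := lev_conj_symU A S hS; exact ⟨_, h', e⟩

variable {s d : F}

/-- The class of the elliptic element in the Levi subgroup. -/
def IsEll (s d : F) (y : GL (Fin 2) F) : Prop := (y : M2).trace = s ∧ (y : M2).det = d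

theorem lev_fix (hd : d ≠ 1) (hs : s ≠ 0) (hirr : ∀ r : F, r * r - s * r + d ≠ 0) {y : GL (Fin 2) F}
    (hy : IsEll s d y) : (∀ u ∈ lowU F, Commute u (lev y) → u = 1) ∧
      ∀ u ∈ uppU F, Commute u (lev y) → u = 1 := by
  constructor <;> rintro _ ⟨S, hS, rfl⟩ hc
  · obtain ⟨h', e⟩ := lev_conj_symL y S hS
    rw [← hc.eq, mul_inv_cancel_right] at e
    have e' := congrArg Subtype.val e
    simp only [symL, coe_mk, fromBlocks_inj, true_and, and_true] at e'
    have h0 : (y : M2)ᵀ * S * (y : M2) = S := by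
      conv_lhs => rw [e']
      rw [← mul_assoc, ← mul_assoc, ← Matrix.transpose_mul, ← Units.val_mul, inv_mul_cancel, mul_assoc,
        ← Units.val_mul, inv_mul_cancel]
      simp
    obtain rfl := fix_zero hy.1 hy.2 hd hs hirr h0
    exact Subtype.ext (by simp [symL, ← fromBlocks_one])
  · obtain ⟨h', e⟩ := lev_conj_symU y S hS
    rw [← hc.eq, mul_inv_cancel_right] at e
    have e' := congrArg Subtype.val e
    simp only [symU, coe_mk, fromBlocks_inj, true_and, and_true] at e'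
    have h0 : ((y : M2)ᵀ)ᵀ * S * (y : M2)ᵀ = S := by
      rw [Matrix.transpose_transpose]; exact e'.symm
    obtain rfl := fix_zero (y := (y : M2)ᵀ) (by simp [hy.1]) (by simp [hy.2]) hd hs hirr h0
    exact Subtype.ext (by simp [symU, ← fromBlocks_one])

/-! ### Normal forms -/

/-- Blocks suitable for the covering. -/
def Good (d : F) (A : M2) : Prop := A = d • (1 : M2) ∨ (A.det = d * d ∧ Nonscalar A ∧ A.trace ≠ 2 * d)

/-- Minus one. -/
def negOne (F : Type*) [Field F] : Matrix.symplecticGroup (Fin 2) F :=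
  mk (fromBlocks (-1) 0 0 (-1)) (SymplecticGroup.fromBlocks_mem_iff.2 (by simp))

theorem negOne_mem_center : negOne F ∈ Subgroup.center (Matrix.symplecticGroup (Fin 2) F) :=
  mem_center_of_pm (c := (-1 : F)) (by simp [negOne, ← fromBlocks_one, fromBlocks_neg])

theorem HasBlocks.negOne_mul {g : Matrix.symplecticGroup (Fin 2) F} {A B C D : M2} (h : HasBlocks g A B C D) :
    HasBlocks (negOne F * g) (-A) (-B) (-C) (-D) := ⟨by
  rw [Submonoid.coe_mul, h.eq]; simp [negOne, fromBlocks_multiply]⟩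

theorem isConj_negOne_mul {g g' : Matrix.symplecticGroup (Fin 2) F} (h : IsConj g g') :
    IsConj (negOne F * g) (negOne F * g') := by
  obtain ⟨c, rfl⟩ := isConj_iff.1 h
  refine isConj_iff.2 ⟨c, ?_⟩
  rw [← mul_assoc c, Subgroup.mem_center_iff.1 negOne_mem_center c]
  simp [mul_assoc]

theorem exists_good [Fintype F] (h3 : 3 ≤ Fintype.card F) (hd : d ≠ 0)
    {g : Matrix.symplecticGroup (Fin 2) F} (hg : g ∉ Subgroup.center (Matrix.symplecticGroup (Fin 2) F)) :
    ∃ g' A B C D, (IsConj g g' ∨ IsConj (negOne F * g) g') ∧ HasBlocks g' A B C D ∧ Good d A := by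
  classical
  obtain ⟨A, B, C, D, h⟩ := hasBlocks g
  obtain ⟨g1, A1, B1, C1, D1, c1, h1, hA1⟩ := exists_invertible _ g A B C D h rfl
  have hg1 : g1 ∉ Subgroup.center (Matrix.symplecticGroup (Fin 2) F) := fun hc => hg (by
    obtain ⟨x, rfl⟩ := isConj_iff.1 c1
    have := (inferInstance : (Subgroup.center (Matrix.symplecticGroup (Fin 2) F)).Normal).conj_mem _ hc x⁻¹
    simpa [mul_assoc] using this)
  obtain ⟨g2, A2, B2, C2, D2, c2, h2', hA2, hC2⟩ := exists_C_ne hg1 h1 hA1
  have symC : ∀ {g : Matrix.symplecticGroup (Fin 2) F} {A B C D : M2}, HasBlocks g A B C D → A.det ≠ 0 →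
      C ≠ 0 → (C * A⁻¹)ᵀ = C * A⁻¹ ∧ C * A⁻¹ ≠ 0 ∧ ∀ S : M2, A + S * C = (1 + S * (C * A⁻¹)) * A := by
    intro g A B C D hb hA hC
    have hu : IsUnit A.det := isUnit_iff_ne_zero.2 hA
    refine ⟨mul_inv_sym hA hb.rel.1, fun e => hC ?_, fun S => ?_⟩
    · rw [← Matrix.mul_one C, ← Matrix.nonsing_inv_mul _ hu, ← Matrix.mul_assoc, e, Matrix.zero_mul]
    · rw [Matrix.add_mul, Matrix.one_mul, Matrix.mul_assoc, Matrix.mul_assoc, Matrix.nonsing_inv_mul _ hu,
        Matrix.mul_one]
  obtain ⟨hs1, hs2, hs3⟩ := symC h2' hA2 hC2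
  obtain ⟨S, hS, hSd⟩ := exists_sym_det hs1 hs2 (d * d / A2.det)
  obtain ⟨g3, B3, D3, c3, hb3⟩ := conj_symU h2' S hS
  have hd3 : (A2 + S * C2).det = d * d := by rw [hs3, Matrix.det_mul, hSd, div_mul_cancel₀ _ hA2]
  generalize A2 + S * C2 = A3 at hb3 hd3
  have c03 : IsConj g g3 := (c1.trans c2).trans c3
  by_cases hns : Nonscalar A3
  swap
  · simp only [Nonscalar] at hns
    push Not at hns
    obtain ⟨c, rfl⟩ := hns
    have hcc : (c - d) * (c + d) = 0 := by
      simp [Matrix.det_smul] at hd3; linear_combination hd3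
    rcases mul_eq_zero.1 hcc with e | e
    · exact ⟨g3, _, _, _, _, Or.inl c03, hb3, Or.inl (by rw [sub_eq_zero.1 e])⟩
    · refine ⟨_, _, _, _, _, Or.inr (isConj_negOne_mul c03), HasBlocks.negOne_mul hb3, Or.inl ?_⟩
      rw [eq_neg_of_add_eq_zero_left e, neg_smul, neg_neg]
  by_cases ht : A3.trace = 2 * d
  swap
  · exact ⟨g3, _, _, _, _, Or.inl c03, hb3, Or.inr ⟨hd3, hns, ht⟩⟩
  by_cases h2 : (2 : F) = 0
  swap
  · refine ⟨_, _, _, _, _, Or.inr (isConj_negOne_mul c03), HasBlocks.negOne_mul hb3,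
      Or.inr ⟨by rw [Matrix.det_neg]; simp [hd3], fun c hc => hns (-c) ?_, ?_⟩⟩
    · rw [neg_smul, ← hc, neg_neg]
    · rw [Matrix.trace_neg, ht]
      intro e
      exact mul_ne_zero (mul_ne_zero h2 h2) hd (by linear_combination -e)
  -- characteristic two
  have hneg : ∀ x : F, -x = x := fun x => by
    rw [neg_eq_iff_add_eq_zero, ← two_mul, h2, zero_mul]
  have h4 : 4 ≤ Fintype.card F := by
    rcases Nat.lt_or_ge (Fintype.card F) 4 with h | h
    · exfalso
      have h33 : Fintype.card F = 3 := by omega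
      have : ((Fintype.card F : ℕ) : F) = 0 := Nat.cast_card_eq_zero F
      rw [h33] at this
      push_cast at this
      exact one_ne_zero (α := F) (by linear_combination this - h2)
    · exact h
  obtain ⟨P, hP⟩ := exists_companion hns
  rw [ht, h2, zero_mul, hd3] at hP
  let Q : GL (Fin 2) F := Matrix.GeneralLinearGroup.mkOfDetNeZero !![d, 0; 1, 1] (by simp [Matrix.det_fin_two, hd])
  let R := P * Q
  have hR : A3 * (R : M2) = (R : M2) * (d • A0) := by
    show A3 * ((P : M2) * (Q : M2)) = (P : M2) * (Q : M2) * (d • A0)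
    rw [← mul_assoc, hP, mul_assoc, mul_assoc]
    congr 1
    show comp 0 (d * d) * !![d, 0; 1, 1] = !![d, 0; 1, 1] * (d • A0)
    ext i j
    fin_cases i <;> fin_cases j <;> simp [comp, A0, Matrix.mul_apply, Fin.sum_univ_two, hneg, ← two_mul, h2]
  have hC3 : C2 ≠ 0 := hC2
  let g4 := lev R⁻¹ * g3 * (lev R⁻¹)⁻¹
  have hb4 : ∃ B4 C4 D4, HasBlocks g4 (d • A0) B4 C4 D4 ∧ C4 ≠ 0 := by
    refine ⟨((R⁻¹ : GL (Fin 2) F) : M2) * B3 * ((R⁻¹ : GL (Fin 2) F) : M2)ᵀ, (R : M2)ᵀ * C2 * (R : M2),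
      (R : M2)ᵀ * D3 * ((R⁻¹ : GL (Fin 2) F) : M2)ᵀ, ⟨?_⟩, fun e => hC3 ?_⟩
    · simp only [g4]
      rw [← map_inv, inv_inv, Submonoid.coe_mul, Submonoid.coe_mul, hb3.eq, coe_lev, coe_lev]
      simp only [fromBlocks_multiply, inv_inv, Matrix.mul_zero, Matrix.zero_mul, zero_add, add_zero]
      congr 1
      rw [mul_assoc, hR, ← mul_assoc, Units.inv_mul, one_mul]
    · have := congrArg (fun X => ((R⁻¹ : GL (Fin 2) F) : M2)ᵀ * X * ((R⁻¹ : GL (Fin 2) F) : M2)) e
      simp only [Matrix.mul_zero, Matrix.zero_mul, ← Matrix.mul_assoc, ← Matrix.transpose_mul, Units.mul_inv,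
        Matrix.transpose_one, Matrix.one_mul] at this
      simpa only [Matrix.mul_assoc, Units.mul_inv, Matrix.mul_one] using this
  obtain ⟨B4, C4, D4, hb4, hC4⟩ := hb4
  have hA4 : (d • A0 (F := F)).det ≠ 0 := by simp [A0, Matrix.det_fin_two, hd]
  obtain ⟨hm1, hm2, hm3⟩ := symC hb4 hA4 hC4
  obtain ⟨S', hS', hSd', hgood⟩ := exists_sym_fix h2 h4 hm1 hm2
  obtain ⟨g5, B5, D5, c5, hb5⟩ := conj_symU hb4 S' hS'
  have c05 : IsConj g g5 := (c03.trans (isConj_iff.2 ⟨_, rfl⟩)).trans c5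
  have hA5 : d • A0 + S' * C4 = d • ((1 + S' * (C4 * (d • A0)⁻¹)) * A0) := by
    rw [hm3, Matrix.mul_smul]
  refine ⟨g5, _, _, _, _, Or.inl c05, hb5, ?_⟩
  rw [hA5]
  generalize 1 + S' * (C4 * (d • A0)⁻¹) = X at hSd' hgood
  rcases hgood with hgood | hgood
  · refine Or.inr ⟨?_, fun c hc => hgood ?_, ?_⟩
    · simp [Matrix.det_smul, Matrix.det_mul, hSd', A0, Matrix.det_fin_two]; ring
    · have := congrArg Matrix.trace hc
      simp only [Matrix.trace_smul, Matrix.trace_one, smul_eq_mul, Fintype.card_fin] at this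
      push_cast at this
      rw [h2, mul_zero] at this
      exact (mul_eq_zero.1 this).resolve_left hd
    · rw [Matrix.trace_smul, h2, zero_mul, smul_eq_mul]
      exact mul_ne_zero hd hgood
  · exact Or.inl (by rw [hgood])

theorem exists_gauss {g : Matrix.symplecticGroup (Fin 2) F} {A B C D : M2} (h : HasBlocks g A B C D)
    (hA : A.det ≠ 0) :
    ∃ u ∈ lowU F, ∃ v ∈ uppU F,
      g = u * lev (Matrix.GeneralLinearGroup.mkOfDetNeZero A hA) * v := by
  have hu : IsUnit A.det := isUnit_iff_ne_zero.2 hA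
  set Ag := Matrix.GeneralLinearGroup.mkOfDetNeZero A hA
  let u := symL (C * A⁻¹) (mul_inv_sym hA h.rel.1)
  obtain ⟨P, Q, R, T, hPQ⟩ := hasBlocks ((u * lev Ag)⁻¹ * g)
  have e : (u : Matrix (Fin 2 ⊕ Fin 2) (Fin 2 ⊕ Fin 2) F) * lev Ag *
      ((u * lev Ag)⁻¹ * g : Matrix.symplecticGroup (Fin 2) F) = g := by
    rw [← Submonoid.coe_mul, ← Submonoid.coe_mul, mul_inv_cancel_left]
  rw [hPQ.eq, h.eq, coe_lev, show (Ag : M2) = A from rfl] at e
  simp only [u, symL, coe_mk, fromBlocks_multiply, Matrix.one_mul, Matrix.zero_mul, Matrix.mul_zero,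
    zero_add, add_zero, fromBlocks_inj] at e
  obtain ⟨e1, -, e3, -⟩ := e
  have hP : P = 1 := by
    have := congrArg (fun X => A⁻¹ * X) e1
    simpa [← Matrix.mul_assoc, Matrix.nonsing_inv_mul _ hu] using this
  rw [hP, Matrix.mul_one, Matrix.mul_assoc C, Matrix.nonsing_inv_mul _ hu, Matrix.mul_one] at e3
  have hR : R = 0 := by
    have e3' := add_eq_left.1 e3
    have := congrArg (fun X => ((Ag : M2))ᵀ * X) e3'
    simpa [← Matrix.mul_assoc, ← Matrix.transpose_mul, ← Units.val_mul] using this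
  obtain ⟨-, h2, h3⟩ := hPQ.rel
  rw [hP, hR, Matrix.transpose_one, Matrix.one_mul, Matrix.transpose_zero, Matrix.zero_mul, sub_zero] at h3
  rw [h3, Matrix.mul_one, Matrix.transpose_one, Matrix.one_mul] at h2
  refine ⟨u, ⟨_, _, rfl⟩, (u * lev Ag)⁻¹ * g, ⟨Q, h2, ?_⟩, by rw [mul_inv_cancel_left]⟩
  refine Subtype.ext ?_
  rw [hPQ.eq, hP, hR, h3]
  rfl

/-! ### The order -/

theorem not_dvd_orderOf (p : ℕ) [Fact p.Prime] [CharP F p] [Finite F]
    (hirr : ∀ r : F, r * r - s * r + d ≠ 0) {x : GL (Fin 2) F} (hx : (x : M2) = comp s d) :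
    ¬ p ∣ orderOf x := by
  intro hp
  have hx1 : orderOf x ≠ 0 := (orderOf_pos x).ne'
  set u := x ^ (orderOf x / p) with hu
  have huord : orderOf u = p := by
    rw [hu, orderOf_pow_of_dvd (Nat.ne_of_gt (Nat.div_pos (Nat.le_of_dvd (orderOf_pos x) hp) (Fact.out : p.Prime).pos))
      (Nat.div_dvd_of_dvd hp), Nat.div_div_self hp hx1]
  have hcomm : Commute (u : M2) (comp s d) := by
    rw [← hx]
    show (u : M2) * (x : M2) = (x : M2) * (u : M2)
    rw [← Units.val_mul, ← Units.val_mul, hu, ← pow_succ, ← pow_succ']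
  set N : M2 := (u : M2) - 1 with hN
  have hNp : N ^ p = 0 := by
    rw [hN, sub_pow_char_of_commute _ (Commute.one_right _), one_pow, ← Units.val_pow_eq_pow_val,
      show u ^ p = 1 from huord ▸ pow_orderOf_eq_one u, Units.val_one, sub_self]
  have hNd : N.det = 0 := by
    have := congrArg Matrix.det hNp
    rw [Matrix.det_pow, Matrix.det_zero] at this
    exact eq_zero_of_pow_eq_zero this
  have hNc : N * comp s d = comp s d * N := (hcomm.sub_left (Commute.one_left _)).eq
  have e00 := congrFun (congrFun hNc 0) 0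
  have e10 := congrFun (congrFun hNc 1) 0
  simp [comp, Matrix.mul_apply, Fin.sum_univ_two] at e00 e10
  rw [Matrix.det_fin_two, e00, e10] at hNd
  by_cases hc : N 1 0 = 0
  · rw [hc] at hNd e00 e10
    have h00 : N 0 0 = 0 := by
      have : N 0 0 * N 0 0 = 0 := by linear_combination hNd
      exact mul_self_eq_zero.1 this
    have : (u : M2) = 1 := by
      refine sub_eq_zero.1 ?_
      rw [← hN]
      ext i j
      fin_cases i <;> fin_cases j <;> simp [e00, e10, hc, h00]
    have hp1 := (Fact.out : p.Prime).one_lt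
    rw [← huord, show u = 1 from Units.ext this, orderOf_one] at hp1
    omega
  · refine hirr (-(N 0 0) / N 1 0) ?_
    field_simp
    linear_combination hNd

/-- The covering. -/
theorem exists_class_square [Fintype F] (p : ℕ) [Fact p.Prime] [CharP F p] (h3 : 3 ≤ Fintype.card F) :
    ∃ x : Cfsg.PSp 2 F, ¬ p ∣ orderOf x ∧ ∀ g : Cfsg.PSp 2 F, g ≠ 1 →
      ∃ u v : Cfsg.PSp 2 F, g = (u * x * u⁻¹) * (v * x * v⁻¹) := by
  classical
  obtain ⟨s, d, hd0, hd1, hs, hirr⟩ := exists_param h3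
  let x0 : GL (Fin 2) F := Matrix.GeneralLinearGroup.mkOfDetNeZero (comp s d) (by rw [det_comp]; exact hd0)
  have hx0 : IsEll s d x0 := ⟨trace_comp s d, det_comp s d⟩
  let π := QuotientGroup.mk' (Subgroup.center (Matrix.symplecticGroup (Fin 2) F))
  refine ⟨π (lev x0), fun hp => not_dvd_orderOf p hirr (x := x0) rfl
    (hp.trans (orderOf_map_dvd (π.comp lev) x0)), fun g hg => ?_⟩
  obtain ⟨g, rfl⟩ := QuotientGroup.mk'_surjective _ g
  have hg' : g ∉ Subgroup.center (Matrix.symplecticGroup (Fin 2) F) := fun hc => hg (by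
    rw [QuotientGroup.mk'_apply, QuotientGroup.eq_one_iff]; exact hc)
  obtain ⟨g', A, B, C, D, hc, hb, hgood⟩ := exists_good h3 hd0 hg'
  obtain ⟨y, z, hy, hz, hyz⟩ : ∃ y z : GL (Fin 2) F, IsEll s d y ∧ IsEll s d z ∧ ((y * z : GL _ F) : M2) = A := by
    rcases hgood with rfl | ⟨h1, h2, h3⟩
    · refine ⟨x0, Matrix.GeneralLinearGroup.mkOfDetNeZero (comp s d).adjugate
        (by rw [det_adjugate_two, det_comp]; exact hd0), hx0, ⟨?_, ?_⟩, ?_⟩
      · exact (trace_adjugate_two _).trans (trace_comp s d)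
      · exact (det_adjugate_two _).trans (det_comp s d)
      · show comp s d * (comp s d).adjugate = _
        rw [Matrix.mul_adjugate, det_comp]
    · obtain ⟨y, z, hyt, hyd, hzt, hzd, e⟩ := exists_pair hd0 hs h2 h1 h3
      exact ⟨Matrix.GeneralLinearGroup.mkOfDetNeZero y (hyd ▸ hd0),
        Matrix.GeneralLinearGroup.mkOfDetNeZero z (hzd ▸ hd0), ⟨hyt, hyd⟩, ⟨hzt, hzd⟩, e⟩
  have hns : ∀ {w : GL (Fin 2) F}, IsEll s d w → Nonscalar (w : M2) := fun {w} hw =>
    nonscalar_of_noroot fun r => by rw [hw.1, hw.2]; exact hirr r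
  have hcl : ∀ {w : GL (Fin 2) F}, IsEll s d w → IsConj (lev x0) (lev w) := fun {w} hw =>
    (lev (F := F)).map_isConj (isConj_of_tr_det (hns hx0) (hns hw) (hx0.1.trans hw.1.symm) (hx0.2.trans hw.2.symm))
  have hA : A.det ≠ 0 := by
    rw [← hyz]; exact det_units_ne _
  obtain ⟨u, hu, v, hv, e⟩ := exists_gauss hb hA
  rw [show Matrix.GeneralLinearGroup.mkOfDetNeZero A hA = y * z from Units.ext hyz.symm, map_mul] at e
  haveI : Finite (Matrix.symplecticGroup (Fin 2) F) := Finite.of_injective _ Subtype.val_injective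
  obtain ⟨a, ha⟩ := isConj_iff.1 ((hcl hy).trans
    (isConj_mul_of_fix (lev_normalizes y).1 (lev_fix hd1 hs hirr hy).1 hu))
  obtain ⟨b, hb'⟩ := isConj_iff.1 ((hcl hz).trans
    (isConj_mul_right_of_fix (lev_normalizes z).2 (lev_fix hd1 hs hirr hz).2 hv))
  have hπ : ∃ t, π g = π t * π g' * (π t)⁻¹ := by
    have hz1 : π (negOne F) = 1 := by
      rw [QuotientGroup.mk'_apply, QuotientGroup.eq_one_iff]; exact negOne_mem_center
    rcases hc with hc | hc <;> obtain ⟨t, ht⟩ := isConj_iff.1 hc.symm <;> refine ⟨t, ?_⟩ <;>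
      rw [← map_inv, ← map_mul, ← map_mul, ht]
    rw [map_mul, hz1, one_mul]
  obtain ⟨t, ht⟩ := hπ
  have key : t * (u * (lev y * lev z) * v) * t⁻¹ =
      t * a * lev x0 * (t * a)⁻¹ * (t * b * lev x0 * (t * b)⁻¹) := by
    calc t * (u * (lev y * lev z) * v) * t⁻¹ = t * (u * lev y) * t⁻¹ * (t * (lev z * v) * t⁻¹) := by group
      _ = t * a * lev x0 * (t * a)⁻¹ * (t * b * lev x0 * (t * b)⁻¹) := by rw [← ha, ← hb']; group
  refine ⟨π (t * a), π (t * b), ?_⟩
  rw [ht, e]
  simpa only [map_mul, map_inv] using congrArg π key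

end CfsgLib.ClassSquare.PSpFour
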