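import Cfsg.Agent.Lib.ClassSquare.ChevData
import Cfsg.Agent.Lib.ClassSquare.PSpFour

/-!
The Levi subgroup `GL(2)` of the long simple root in the Chevalley group of type G2, inside the group
`SL(3)` of the long roots.
-/

set_option autoImplicit false
set_option linter.unusedSectionVars false

namespace CfsgLib.ClassSquare.GTwo

open Cfsg.Lie CfsgLib.Chev CfsgLib.Chev.Cert
open CfsgLib.Schur.SLFam (tv coe_tv tv_def)
open scoped MatrixGroups

variable {F : Type*} [Field F]

/-- The root elements of type G2. -/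
noncomputable abbrev E (r : ℕ) (t : F) : GL chevG2.Idx F := X chevG2 r t

theorem comm_formula (r s : ℕ) (hr : r < tabG2.n) (hs : s < tabG2.n) (hne : s ≠ r) (hneg : s ≠ tabG2.neg r)
    {L : List (ℕ × ℤ × ℕ × ℕ)} (hL : tabG2.commTerms r s = L) (t u : F) :
    E r t * E s u * (E r t)⁻¹ =
      E s u * (L.map fun c => E c.1 ((c.2.1 : F) * t ^ c.2.2.1 * u ^ c.2.2.2)).prod := by
  have := certG2.X_conj hr hs hne hneg (-t) u
  rw [_root_.neg_neg, hL] at this
  rw [certG2.X_inv hr]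
  exact this

theorem E_add (r : ℕ) (hr : r < tabG2.n) (t u : F) : E r t * E r u = E r (t + u) := certG2.X_add hr t u

theorem E_zero (r : ℕ) (hr : r < tabG2.n) : E r (0 : F) = 1 := certG2.X_zero hr

theorem E_inv (r : ℕ) (hr : r < tabG2.n) (t : F) : (E r t)⁻¹ = E r (-t) := certG2.X_inv hr t

theorem E_comm (r s : ℕ) (hr : r < tabG2.n) (hs : s < tabG2.n) (hne : s ≠ r) (hneg : s ≠ tabG2.neg r)
    (hL : tabG2.commTerms r s = []) (t u : F) : E r t * E s u = E s u * E r t :=
  (commute_X certG2 hr hs hne hneg hL t u).eq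

theorem E_mem_group (r : ℕ) (hr : r < tabG2.n) (t : F) : E r t ∈ chevG2.group F := certG2.X_mem_group hr t

/-- The subgroup of the negative roots outside the Levi subgroup. -/
def neg5 : Set ℕ := {r | r < 5}

/-- The subgroup of the positive roots outside the Levi subgroup. -/
def pos5 : Set ℕ := {r | 7 ≤ r ∧ r < 12}

/-- The lower unipotent radical. -/
noncomputable def UN (F : Type*) [Field F] : Subgroup (GL chevG2.Idx F) := gen chevG2 F neg5

/-- The upper unipotent radical. -/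
noncomputable def UP (F : Type*) [Field F] : Subgroup (GL chevG2.Idx F) := gen chevG2 F pos5

theorem E_mem_UN {r : ℕ} (hr : r < 5) (t : F) : E r t ∈ UN F := X_mem_gen chevG2 (S := neg5) hr t

theorem E_mem_UP {r : ℕ} (hr : 7 ≤ r ∧ r < 12) (t : F) : E r t ∈ UP F := X_mem_gen chevG2 (S := pos5) hr t

theorem tab_facts : tabG2.n = 12 ∧ tabG2.l = 2 ∧ tabG2.half = 6 ∧ tabG2.simple 0 = 7 ∧ tabG2.simple 1 = 6 ∧
    tabG2.neg (tabG2.simple 1) = 5 ∧ chevG2.neg 6 = 5 ∧ chevG2.neg 10 = 1 ∧ chevG2.simple 1 = 6 := by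
  decide +kernel

theorem lt_n {r : ℕ} (hr : r < 12) : r < tabG2.n := lt_of_lt_of_eq hr tab_facts.1.symm

theorem pos5_eq : pos5 = posBut tabG2 1 := by
  ext r
  obtain ⟨h1, h2, h3, h4, h5, -⟩ := tab_facts
  simp only [pos5, posBut, posSet, Set.mem_setOf_eq, h1, h3, h5]
  omega

theorem neg5_eq : neg5 = negBut tabG2 1 := by
  ext r
  obtain ⟨h1, h2, h3, h4, h5, h6, -⟩ := tab_facts
  simp only [neg5, negBut, Set.mem_setOf_eq, h3, h6]
  omega

theorem UN_le_group : UN F ≤ chevG2.group F := certG2.gen_le_group fun r hr => lt_n (by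
  have : r < 5 := hr; omega)

theorem UP_le_group : UP F ≤ chevG2.group F := certG2.gen_le_group fun _ hr => lt_n hr.2

/-! ### The embedding of `GL(2)` -/

/-- The data of the `SL(3)` of the long roots. -/
def longData : CompData where
  k := 3
  rt := [[0, 6, 11], [5, 0, 10], [0, 1, 0]]
  sg := [[1, 1, 1], [1, 1, 1], [1, 1, 1]]
  tau := []
  tr := true
  perm := []
  d := []

theorem chk_longData : longData.chkRoots tabG2 [0, 0] = true ∧ longData.chkRels tabG2 = true := by
  decide +kernel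

theorem exists_phi [Fintype F] :
    ∃ φ : SL(3, F) →* GL chevG2.Idx F, ∀ i j : Fin 3, i ≠ j → ∀ t : F,
      φ (tv i j t) = E (longData.R i j) t := by
  obtain ⟨φ, hφ⟩ := exists_compHom certG2 (F := F) longData chk_longData.1 chk_longData.2
  refine ⟨φ, fun i j hij t => ?_⟩
  have hε : ∀ i j : Fin 3, longData.ε i j = 1 := by decide
  refine (hφ i j hij t).trans ?_
  simp [hε i j]

/-- The homomorphism from `SL(3)`. -/
noncomputable def phi [Fintype F] : SL(3, F) →* GL chevG2.Idx F := exists_phi.choose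

theorem phi_tv [Fintype F] {i j : Fin 3} (hij : i ≠ j) (t : F) :
    (phi : SL(3, F) →* _) (tv i j t) = E (longData.R i j) t := exists_phi.choose_spec i j hij t

/-- The block of a matrix of degree two. -/
def blkMat (A : GL (Fin 2) F) : Matrix (Fin 3) (Fin 3) F :=
  let M : Matrix (Fin 2) (Fin 2) F := (A : Matrix (Fin 2) (Fin 2) F)
  !![M 0 0, M 0 1, 0; M 1 0, M 1 1, 0; 0, 0, M.det⁻¹]

theorem det_blkMat (A : GL (Fin 2) F) : (blkMat A).det = 1 := by
  have h := det_units_ne A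
  simp only [Matrix.det_fin_two] at h
  simp [blkMat, Matrix.det_fin_three, Matrix.det_fin_two]
  field_simp

/-- The embedding of `GL(2)` in `SL(3)`. -/
def emb : GL (Fin 2) F →* SL(3, F) where
  toFun A := ⟨blkMat A, det_blkMat A⟩
  map_one' := Subtype.ext (by
    ext i j
    fin_cases i <;> fin_cases j <;> simp [blkMat])
  map_mul' A B := Subtype.ext (by
    have hA := det_units_ne A
    have hB := det_units_ne B
    show blkMat (A * B) = blkMat A * blkMat B
    ext i j
    fin_cases i <;> fin_cases j <;>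
      simp [blkMat, Matrix.mul_apply, Fin.sum_univ_two, Fin.sum_univ_three, Matrix.det_mul, mul_comm])

@[simp] theorem coe_emb (A : GL (Fin 2) F) : ((emb A : SL(3, F)) : Matrix (Fin 3) (Fin 3) F) = blkMat A := rfl

/-- The Levi subgroup. -/
noncomputable def lam [Fintype F] : GL (Fin 2) F →* GL chevG2.Idx F := phi.comp emb

theorem phi_mem_group [Fintype F] (x : SL(3, F)) : (phi : SL(3, F) →* _) x ∈ chevG2.group F := by
  have hR : ∀ i j : Fin 3, i ≠ j → longData.R i j < 12 := by decide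
  exact hom_mem_of_tv (by omega) (fun i j hij t => by
    rw [phi_tv hij]; exact E_mem_group _ (lt_n (hR i j hij)) t) x

theorem lam_mem_group [Fintype F] (A : GL (Fin 2) F) : lam A ∈ chevG2.group F := phi_mem_group _

/-- An upper unipotent matrix. -/
def upp (t : F) : GL (Fin 2) F := Matrix.GeneralLinearGroup.mkOfDetNeZero !![1, t; 0, 1] (by
  simp [Matrix.det_fin_two])

/-- A lower unipotent matrix. -/
def low (t : F) : GL (Fin 2) F := Matrix.GeneralLinearGroup.mkOfDetNeZero !![1, 0; t, 1] (by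
  simp [Matrix.det_fin_two])

/-- A diagonal matrix. -/
def dia (p r : Fˣ) : GL (Fin 2) F := Matrix.GeneralLinearGroup.mkOfDetNeZero !![(p : F), 0; 0, (r : F)] (by
  simp [Matrix.det_fin_two])

/-- The matrix of the reflection. -/
def wmat : GL (Fin 2) F := Matrix.GeneralLinearGroup.mkOfDetNeZero !![0, 1; -1, 0] (by
  simp [Matrix.det_fin_two])

@[simp] theorem coe_upp (t : F) : (upp t : Matrix (Fin 2) (Fin 2) F) = !![1, t; 0, 1] := rfl

@[simp] theorem coe_low (t : F) : (low t : Matrix (Fin 2) (Fin 2) F) = !![1, 0; t, 1] := rfl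

@[simp] theorem coe_dia (p r : Fˣ) : (dia p r : Matrix (Fin 2) (Fin 2) F) = !![(p : F), 0; 0, (r : F)] := rfl

@[simp] theorem coe_wmat : (wmat : GL (Fin 2) F).val = !![0, 1; -1, 0] := rfl

theorem lam_upp [Fintype F] (t : F) : lam (upp t) = E 6 t := by
  have e : emb (upp t) = tv (0 : Fin 3) 1 t := Subtype.ext (by
    rw [coe_emb, coe_tv (by decide : (0 : Fin 3) ≠ 1)]
    ext i j
    fin_cases i <;> fin_cases j <;> simp [blkMat, Matrix.det_fin_two])
  show (phi : SL(3, F) →* _) (emb (upp t)) = _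
  rw [e, phi_tv (by decide)]
  rfl

theorem lam_low [Fintype F] (t : F) : lam (low t) = E 5 t := by
  have e : emb (low t) = tv (1 : Fin 3) 0 t := Subtype.ext (by
    rw [coe_emb, coe_tv (by decide : (1 : Fin 3) ≠ 0)]
    ext i j
    fin_cases i <;> fin_cases j <;> simp [blkMat, Matrix.det_fin_two])
  show (phi : SL(3, F) →* _) (emb (low t)) = _
  rw [e, phi_tv (by decide)]
  rfl

theorem lam_wmat [Fintype F] : lam (wmat : GL (Fin 2) F) = nS chevG2 F 1 := by
  have e : (wmat : GL (Fin 2) F) = upp 1 * low (-1) * upp 1 := Units.ext (by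
    ext i j
    fin_cases i <;> fin_cases j <;> simp [Matrix.mul_apply, Fin.sum_univ_two])
  rw [e, map_mul, map_mul, lam_upp, lam_low]
  simp only [nS, nU, tab_facts.2.2.2.2.2.2.2.2, tab_facts.2.2.2.2.2.2.1, inv_one]

theorem tv_nU {i j : Fin 3} (hij : i ≠ j) [Fintype F] {r : ℕ} (hr : longData.R i j = r)
    (hr' : longData.R j i = chevG2.neg r) (t : F) :
    (phi : SL(3, F) →* _) (tv i j t * tv j i (-t⁻¹) * tv i j t) = nU chevG2 r t := by
  rw [map_mul, map_mul, phi_tv hij, phi_tv hij.symm, hr, hr']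
  rfl

theorem lam_dia [Fintype F] (p r : Fˣ) :
    lam (dia p r) = torusHom (D := chevG2) (T := tabG2)
      (fun i : Fin tabG2.l => if (i : ℕ) = 0 then p * r else p * (p * r)) := by
  obtain ⟨-, -, -, -, -, -, hn6, hn10, -⟩ := tab_facts
  have hcor : tabG2.cor 6 0 = 0 ∧ tabG2.cor 6 1 = 1 ∧ tabG2.cor 10 0 = 1 ∧ tabG2.cor 10 1 = 1 := by
    decide +kernel
  have e6 : ∀ u : Fˣ, hU chevG2 6 (u : F) = (phi : SL(3, F) →* _)
      ((tv (0 : Fin 3) 1 (u : F) * tv 1 0 (-(u : F)⁻¹) * tv 0 1 (u : F)) *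
        (tv 0 1 (-1) * tv 1 0 (-(-1)⁻¹) * tv 0 1 (-1))) := fun u => by
    rw [map_mul, tv_nU (i := (0 : Fin 3)) (j := 1) (by decide) (r := 6) rfl hn6.symm,
      tv_nU (i := (0 : Fin 3)) (j := 1) (by decide) (r := 6) rfl hn6.symm]
    rfl
  have e10 : ∀ u : Fˣ, hU chevG2 10 (u : F) = (phi : SL(3, F) →* _)
      ((tv (1 : Fin 3) 2 (u : F) * tv 2 1 (-(u : F)⁻¹) * tv 1 2 (u : F)) *
        (tv 1 2 (-1) * tv 2 1 (-(-1)⁻¹) * tv 1 2 (-1))) := fun u => by
    rw [map_mul, tv_nU (i := (1 : Fin 3)) (j := 2) (by decide) (r := 10) rfl hn10.symm,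
      tv_nU (i := (1 : Fin 3)) (j := 2) (by decide) (r := 10) rfl hn10.symm]
    rfl
  have hc : (fun i : Fin tabG2.l => if (i : ℕ) = 0 then p * r else p * (p * r)) =
      (fun i : Fin tabG2.l => p ^ tabG2.cor 6 i) * (fun i : Fin tabG2.l => (p * r) ^ tabG2.cor 10 i) := by
    funext i
    have hi : (i : ℕ) < 2 := lt_of_lt_of_eq i.2 tab_facts.2.1
    rcases (show (i : ℕ) = 0 ∨ (i : ℕ) = 1 by omega) with e | e <;> simp [e, hcor]
  rw [hc, map_mul, ← certG2.hU_eq_torusHom (lt_n (by omega)) p,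
    ← certG2.hU_eq_torusHom (lt_n (by omega)) (p * r), e6, e10, ← map_mul]
  show (phi : SL(3, F) →* _) (emb (dia p r)) = _
  congr 1
  refine Subtype.ext ?_
  simp only [coe_emb, Matrix.SpecialLinearGroup.coe_mul, coe_tv (show (0 : Fin 3) ≠ 1 by decide),
    coe_tv (show (1 : Fin 3) ≠ 0 by decide), coe_tv (show (1 : Fin 3) ≠ 2 by decide),
    coe_tv (show (2 : Fin 3) ≠ 1 by decide)]
  ext i j
  fin_cases i <;> fin_cases j <;>
    simp [blkMat, Matrix.mul_apply, Fin.sum_univ_three, Matrix.det_fin_two, Matrix.single_apply] <;>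
    field_simp <;> ring

theorem torusHom_eq_lam [Fintype F] (c : Fin tabG2.l → Fˣ) (i₀ i₁ : Fin tabG2.l) (h0 : (i₀ : ℕ) = 0)
    (h1 : (i₁ : ℕ) = 1) :
    torusHom (D := chevG2) (T := tabG2) c = lam (dia (c i₁ / c i₀) (c i₀ * c i₀ / c i₁)) := by
  rw [lam_dia]
  congr 1
  funext i
  have hi : (i : ℕ) < 2 := lt_of_lt_of_eq i.2 tab_facts.2.1
  rcases (show (i : ℕ) = 0 ∨ (i : ℕ) = 1 by omega) with e | e
  · rw [if_pos e, show i = i₀ from Fin.ext (e.trans h0.symm)]
    simp [div_eq_mul_inv, mul_comm, mul_left_comm]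
  · rw [if_neg (by omega), show i = i₁ from Fin.ext (e.trans h1.symm)]
    simp [div_eq_mul_inv, mul_comm, mul_left_comm]

/-- The values of the characters on a diagonal element. -/
theorem lam_dia_conj [Fintype F] (p r : Fˣ) {k : ℕ} (hk : k < 12) (t : F) :
    lam (dia p r) * E k t * (lam (dia p r))⁻¹ =
      E k (((p * r : Fˣ) : F) ^ tabG2.car 0 k * ((p * (p * r) : Fˣ) : F) ^ tabG2.car 1 k * t) := by
  rw [lam_dia, torus_conj certG2 _ (lt_n hk)]
  congr 2
  unfold chi' charOf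
  rw [show Finset.range tabG2.l = {0, 1} by rw [tab_facts.2.1]; decide, Finset.prod_pair (by decide)]
  have h2 : 0 < tabG2.l ∧ 1 < tabG2.l := by rw [tab_facts.2.1]; decide
  simp [extC, h2.1, h2.2]

/-- A matrix of degree two as a product of generators. -/
theorem exists_factor_two (A : GL (Fin 2) F) :
    ∃ (a b c : F) (p r : Fˣ), A = upp a * low b * upp c * dia p r := by
  set M : Matrix (Fin 2) (Fin 2) F := (A : Matrix (Fin 2) (Fin 2) F) with hM
  have hd : M.det ≠ 0 := det_units_ne A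
  by_cases h : M 1 0 = 0
  · have h00 : M 0 0 ≠ 0 := fun e => hd (by rw [Matrix.det_fin_two, e, h]; simp)
    have h11 : M 1 1 ≠ 0 := fun e => hd (by rw [Matrix.det_fin_two, e, h]; simp)
    refine ⟨M 0 1 / M 1 1, 0, 0, Units.mk0 _ h00, Units.mk0 _ h11, Units.ext ?_⟩
    ext i j
    fin_cases i <;> fin_cases j <;> simp [Matrix.mul_apply, Fin.sum_univ_two, ← hM, h, h11]
  · rw [Matrix.det_fin_two] at hd
    have hd' : M 1 1 * M 0 0 - M 1 0 * M 0 1 ≠ 0 := fun e => hd (by linear_combination e)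
    refine ⟨(M 0 0 - 1) / M 1 0, M 1 0, (M 1 1 / (M 0 0 * M 1 1 - M 0 1 * M 1 0) - 1) / M 1 0, 1,
      Units.mk0 _ hd, Units.ext ?_⟩
    ext i j
    fin_cases i <;> fin_cases j <;> simp [Matrix.mul_apply, Fin.sum_univ_two, ← hM] <;> field_simp <;> ring

/-- The Levi subgroup normalizes both radicals. -/
theorem lam_conj_mem [Fintype F] (A : GL (Fin 2) F) :
    (∀ u ∈ UN F, lam A * u * (lam A)⁻¹ ∈ UN F) ∧ ∀ u ∈ UP F, lam A * u * (lam A)⁻¹ ∈ UP F := by
  suffices lam A ∈ Subgroup.normalizer (UN F : Set (GL chevG2.Idx F)) ⊓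
      Subgroup.normalizer (UP F : Set (GL chevG2.Idx F)) from
    ⟨fun u hu => (Subgroup.mem_normalizer_iff.1 this.1 u).1 hu,
      fun u hu => (Subgroup.mem_normalizer_iff.1 this.2 u).1 hu⟩
  obtain ⟨a, b, c, p, r, rfl⟩ := exists_factor_two A
  obtain ⟨h1, h2, -, -, h5, h6, -⟩ := tab_facts
  have key : ∀ r : ℕ, r = tabG2.simple 1 ∨ r = tabG2.neg (tabG2.simple 1) → ∀ t : F,
      E r t ∈ Subgroup.normalizer (UN F : Set (GL chevG2.Idx F)) ⊓
        Subgroup.normalizer (UP F : Set (GL chevG2.Idx F)) := by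
    intro r hr t
    have hl : (1 : ℕ) < tabG2.l := by omega
    have hrn : r < tabG2.n := by rcases hr with rfl | rfl <;> omega
    have hw : ∀ k < tabG2.l, k ≠ 1 → certG2.wt k r = 0 := by
      rcases hr with rfl | rfl
      · exact (certG2.wt_simple_zero hl).1
      · exact (certG2.wt_simple_zero hl).2
    have hx : E r t ∈ gen chevG2 F {r} := X_mem_gen chevG2 (Set.mem_singleton r) t
    refine ⟨?_, ?_⟩
    · rw [UN, neg5_eq]; exact simple_normalizes_negBut certG2 hl hrn hw hx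
    · rw [UP, pos5_eq]; exact certG2.simple_normalizes_posBut hl hrn hw hx
  rw [map_mul, map_mul, map_mul]
  refine mul_mem (mul_mem (mul_mem ?_ ?_) ?_) ?_
  · rw [lam_upp]; exact key 6 (Or.inl h5.symm) a
  · rw [lam_low]; exact key 5 (Or.inr h6.symm) b
  · rw [lam_upp]; exact key 6 (Or.inl h5.symm) c
  · refine ⟨le_normalizer_closure (H := Subgroup.zpowers (lam (dia p r))) (fun g hg u hu => ?_)
      (Subgroup.mem_zpowers _), le_normalizer_closure (H := Subgroup.zpowers (lam (dia p r))) (fun g hg u hu => ?_)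
      (Subgroup.mem_zpowers _)⟩ <;>
    · obtain ⟨n, rfl⟩ := Subgroup.mem_zpowers_iff.1 hg
      obtain ⟨k, hk, t, rfl⟩ := hu
      rw [lam_dia, ← map_zpow, torus_conj certG2 _ (lt_n (by
        first
          | exact hk.2
          | (have : k < 5 := hk; omega)))]
      exact X_mem_gen chevG2 hk _

theorem lam_mul_mem_UN [Fintype F] (A : GL (Fin 2) F) {u : GL chevG2.Idx F} (hu : u ∈ UN F) :
    ∃ u' ∈ UN F, lam A * u = u' * lam A :=
  ⟨_, (lam_conj_mem A).1 u hu, by group⟩

theorem mem_UP_mul_lam [Fintype F] (A : GL (Fin 2) F) {u : GL chevG2.Idx F} (hu : u ∈ UP F) :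
    ∃ u' ∈ UP F, u * lam A = lam A * u' := by
  refine ⟨(lam A)⁻¹ * u * lam A, ?_, by group⟩
  have := (lam_conj_mem A⁻¹).2 u hu
  rwa [map_inv, inv_inv] at this

/-! ### The longest element -/

/-- The longest word. -/
def w0 : List ℕ := [0, 1, 0, 1, 0, 1]

/-- The representative of the longest element. -/
noncomputable def n0 (F : Type*) [Field F] : GL chevG2.Idx F := nW chevG2 F w0

theorem wordOK_w0 : WordOK tabG2 w0 := fun i hi => by
  rw [tab_facts.2.1]
  simp [w0] at hi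
  omega

theorem n0_conj (r : ℕ) (hr : r < 12) (t : F) : n0 F * E r t * (n0 F)⁻¹ = E (11 - r) (-t) := by
  rw [n0, nW_conj_X certG2 wordOK_w0 (lt_n hr)]
  have h : ∀ r : Fin 12, actW tabG2 w0 r = (11 - (r : ℕ), -1) := by decide +kernel
  rw [h ⟨r, hr⟩]
  simp

theorem n0_mem_group : n0 F ∈ chevG2.group F :=
  certG2.monomial_le_group (certG2.nW_mem_monomial wordOK_w0)

theorem n0_conj_UN {u : GL chevG2.Idx F} (hu : u ∈ UN F) : n0 F * u * (n0 F)⁻¹ ∈ UP F := by
  refine conj_gen_le (S' := pos5) (fun r (hr : r < 5) => ⟨11 - r, ⟨by omega, by omega⟩, -1, by simp, fun t => ?_⟩) hu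
  rw [neg_one_mul]
  exact n0_conj r (by omega) t

theorem n0_conj_UP {u : GL chevG2.Idx F} (hu : u ∈ UP F) : n0 F * u * (n0 F)⁻¹ ∈ UN F := by
  refine conj_gen_le (S' := neg5) (fun r (hr : 7 ≤ r ∧ r < 12) => ⟨11 - r, show 11 - r < 5 by omega, -1, by simp,
    fun t => ?_⟩) hu
  rw [neg_one_mul]
  exact n0_conj r (by omega) t

/-- Transpose. -/
def tp (A : GL (Fin 2) F) : GL (Fin 2) F :=
  Matrix.GeneralLinearGroup.mkOfDetNeZero (A : Matrix (Fin 2) (Fin 2) F).transpose
    (by rw [Matrix.det_transpose]; exact det_units_ne A)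

@[simp] theorem coe_tp (A : GL (Fin 2) F) :
    (tp A : Matrix (Fin 2) (Fin 2) F) = (A : Matrix (Fin 2) (Fin 2) F).transpose := rfl

theorem tp_mul (A B : GL (Fin 2) F) : tp (A * B) = tp B * tp A := Units.ext (by simp [Matrix.transpose_mul])

/-- The longest element inverts and transposes. -/
theorem n0_conj_lam [Fintype F] (A : GL (Fin 2) F) :
    n0 F * (lam A)⁻¹ * (n0 F)⁻¹ = lam (tp A) := by
  let f : GL (Fin 2) F →* GL chevG2.Idx F := (MulAut.conj (n0 F)).toMonoidHom.comp lam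
  let g : GL (Fin 2) F →* GL chevG2.Idx F :=
    { toFun := fun A => lam (tp A⁻¹)
      map_one' := by
        rw [inv_one, show tp (1 : GL (Fin 2) F) = 1 from Units.ext (by simp), map_one]
      map_mul' := fun A B => by rw [mul_inv_rev, tp_mul, map_mul] }
  suffices f A⁻¹ = g A⁻¹ by simpa [f, g] using this
  have key : ∀ (a : F) (k : ℕ) (B : GL (Fin 2) F), k < 12 → lam B = E k a → lam (tp B⁻¹) = E (11 - k) (-a) →
      f B = g B := fun a k B hk h1 h2 => by
    show n0 F * lam B * (n0 F)⁻¹ = lam (tp B⁻¹)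
    rw [h1, h2, n0_conj k hk]
  have hu : ∀ a, f (upp a) = g (upp a) := fun a => key a 6 _ (by omega) (lam_upp a) (by
    rw [show tp (upp a)⁻¹ = low (-a) from Units.ext (by
      rw [coe_tp, Matrix.coe_units_inv, Matrix.inv_def]
      simp [Matrix.det_fin_two, Matrix.adjugate_fin_two]
      ext i j; fin_cases i <;> fin_cases j <;> simp), lam_low])
  have hl : ∀ a, f (low a) = g (low a) := fun a => key a 5 _ (by omega) (lam_low a) (by
    rw [show tp (low a)⁻¹ = upp (-a) from Units.ext (by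
      rw [coe_tp, Matrix.coe_units_inv, Matrix.inv_def]
      simp [Matrix.det_fin_two, Matrix.adjugate_fin_two]
      ext i j; fin_cases i <;> fin_cases j <;> simp), lam_upp])
  have hd : ∀ p r, f (dia p r) = g (dia p r) := fun p r => by
    have e : dia p r = (dia p r : GL (Fin 2) F) := rfl
    show n0 F * lam (dia p r) * (n0 F)⁻¹ = lam (tp (dia p r)⁻¹)
    have hi : tp (dia p r)⁻¹ = dia p⁻¹ r⁻¹ := Units.ext (by
      rw [coe_tp, Matrix.coe_units_inv, Matrix.inv_def]
      simp [Matrix.det_fin_two, Matrix.adjugate_fin_two]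
      ext i j; fin_cases i <;> fin_cases j <;> simp <;> field_simp)
    rw [hi]
    obtain ⟨-, -, -, -, -, -, hn6, hn10, -⟩ := tab_facts
    have hh : ∀ k, k < 12 → chevG2.neg k = 11 - k → ∀ u : Fˣ,
        n0 F * hU chevG2 k (u : F) * (n0 F)⁻¹ = hU chevG2 k ((u⁻¹ : Fˣ) : F) := by
      intro k hk hneg u
      have hrw : rword tabG2 w0 k = 11 - k := by
        have h : ∀ r : Fin 12, rword tabG2 w0 r = 11 - (r : ℕ) := by decide +kernel
        exact h ⟨k, hk⟩
      rw [n0, certG2.nW_conj_hU wordOK_w0 (lt_n hk) u.ne_zero, hrw, certG2.hU_eq_torusHom (lt_n hk) u⁻¹,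
        certG2.hU_eq_torusHom (lt_n (by omega)) u]
      congr 1
      funext i
      have h : ∀ r : Fin 12, ∀ i : Fin 2, tabG2.cor (11 - (r : ℕ)) i = -tabG2.cor r i := by decide +kernel
      rw [h ⟨k, hk⟩ ⟨i, lt_of_lt_of_eq i.2 tab_facts.2.1⟩, zpow_neg, inv_zpow]
    have hdec : ∀ p r : Fˣ, lam (dia p r) = hU chevG2 6 (p : F) * hU chevG2 10 ((p * r : Fˣ) : F) := by
      intro p r
      rw [lam_dia, certG2.hU_eq_torusHom (lt_n (by omega)) p,
        certG2.hU_eq_torusHom (lt_n (by omega)) (p * r), ← map_mul]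
      congr 1
      funext i
      have hcor : tabG2.cor 6 0 = 0 ∧ tabG2.cor 6 1 = 1 ∧ tabG2.cor 10 0 = 1 ∧ tabG2.cor 10 1 = 1 := by
        decide +kernel
      have hi : (i : ℕ) < 2 := lt_of_lt_of_eq i.2 tab_facts.2.1
      rcases (show (i : ℕ) = 0 ∨ (i : ℕ) = 1 by omega) with e | e <;> simp [e, hcor]
    rw [hdec, hdec, ← mul_inv, ← hh 6 (by omega) hn6 p, ← hh 10 (by omega) hn10 (p * r)]
    group
  obtain ⟨a, b, c, p, r, e⟩ := exists_factor_two A⁻¹
  rw [e]
  simp only [map_mul, hu, hl, hd]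

end CfsgLib.ClassSquare.GTwo
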