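import Cfsg.Agent.Lib.ClassSquare.GTwoMoves

/-!
The Chevalley group of type G2 over a field with at least three elements is covered, apart from the identity,
by the square of the class of an irreducible element of the Levi subgroup of the long simple root.
-/

set_option autoImplicit false
set_option linter.unusedSectionVars false
set_option linter.unusedSimpArgs false

namespace CfsgLib.ClassSquare.GTwo

open Cfsg.Lie CfsgLib.Chev CfsgLib.Chev.Cert
open CfsgLib.ClassSquare.PSpFour (comp)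
open scoped MatrixGroups

variable {F : Type*} [Field F] [Fintype F]

local notation "M2" => Matrix (Fin 2) (Fin 2) F
local notation "G2" => chevG2.group F

/-! ### Small facts -/

theorem exists_avoid_two (h3 : 3 ≤ Fintype.card F) (x y : F) : ∃ t : F, t ≠ x ∧ t ≠ y := by
  classical
  obtain ⟨t, -, ht⟩ := Finset.exists_mem_notMem_of_card_lt_card
    (s := ({x, y} : Finset F)) (t := Finset.univ) (lt_of_le_of_lt Finset.card_le_two (by
      rw [Finset.card_univ]; omega))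
  simp only [Finset.mem_insert, Finset.mem_singleton, not_or] at ht
  exact ⟨t, ht⟩

/-- A value of a cubic without constant term different from zero. -/
theorem exists_P_ne (h3 : 3 ≤ Fintype.card F) (c g : F) {h : F} (hh : h ≠ 0) :
    ∃ t : F, 3 * t * c + 3 * t ^ 2 * g - t ^ 3 * h ≠ 0 := by
  classical
  by_cases h30 : (3 : F) = 0
  · exact ⟨1, by simp [h30, hh]⟩
  have h4 : 4 ≤ Fintype.card F := by
    by_contra hlt
    have h33 : Fintype.card F = 3 := by omega
    have : ((Fintype.card F : ℕ) : F) = 0 := Nat.cast_card_eq_zero F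
    rw [h33] at this
    exact h30 (by exact_mod_cast this)
  by_contra hno
  push Not at hno
  have hq : ∀ t : F, t ≠ 0 → h * t ^ 2 - 3 * g * t - 3 * c = 0 := fun t ht => by
    refine (mul_eq_zero.1 (?_ : -t * (h * t ^ 2 - 3 * g * t - 3 * c) = 0)).resolve_left (neg_ne_zero.2 ht)
    linear_combination hno t
  obtain ⟨r, hr0, -⟩ := exists_avoid_two h3 0 0
  obtain ⟨t, -, ht⟩ := Finset.exists_mem_notMem_of_card_lt_card
    (s := ({0, r, 3 * g / h - r} : Finset F)) (t := Finset.univ) (lt_of_le_of_lt Finset.card_le_three (by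
      rw [Finset.card_univ]; omega))
  simp only [Finset.mem_insert, Finset.mem_singleton, not_or] at ht
  obtain ⟨ht0, htr, htr'⟩ := ht
  have h1 : (t - r) * (h * (t + r) - 3 * g) = 0 := by linear_combination hq t ht0 - hq r hr0
  refine htr' ?_
  have h2 := (mul_eq_zero.1 h1).resolve_left (sub_ne_zero.2 htr)
  field_simp
  linear_combination h2

/-- A variant of the fixed point criterion with the conjugating element. -/
theorem exists_conj_of_fix {Γ : Type*} [Group Γ] {U : Subgroup Γ} [Finite U] {c : Γ}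
    (hn : ∀ u ∈ U, c * u * c⁻¹ ∈ U) (hfix : ∀ u ∈ U, Commute u c → u = 1) {u : Γ} (hu : u ∈ U) :
    ∃ x ∈ U, x * c * x⁻¹ = u * c := by
  let φ : U → U := fun x => ⟨x * (c * (x : Γ)⁻¹ * c⁻¹), U.mul_mem x.2 (hn _ (U.inv_mem x.2))⟩
  have hφ : Function.Injective φ := fun x y e => by
    have h := congrArg Subtype.val e
    simp only [φ] at h
    have h1 : (x : Γ) * c * (x : Γ)⁻¹ = y * c * (y : Γ)⁻¹ := by
      rw [show (x : Γ) * c * (x : Γ)⁻¹ = x * (c * (x : Γ)⁻¹ * c⁻¹) * c by group, h]; group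
    have h2 : Commute ((y : Γ)⁻¹ * x) c := by
      show (y : Γ)⁻¹ * x * c = c * ((y : Γ)⁻¹ * x)
      calc (y : Γ)⁻¹ * x * c = (y : Γ)⁻¹ * (x * c * (x : Γ)⁻¹) * x := by group
        _ = c * ((y : Γ)⁻¹ * x) := by rw [h1]; group
    exact (Subtype.ext (inv_mul_eq_one.1 (hfix _ (U.mul_mem (U.inv_mem y.2) x.2) h2))).symm
  obtain ⟨x, hx⟩ := Finite.injective_iff_surjective.1 hφ ⟨u, hu⟩
  refine ⟨x, x.2, ?_⟩
  rw [← show (x : Γ) * (c * (x : Γ)⁻¹ * c⁻¹) = u from congrArg Subtype.val hx]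
  group

/-- A scalar matrix of `GL(2)` commutes with everything. -/
theorem scalar_comm (u : Fˣ) (A : GL (Fin 2) F) : dia u u * A = A * dia u u := by
  refine Units.ext ?_
  ext i j
  fin_cases i <;> fin_cases j <;> simp [Matrix.mul_apply, Fin.sum_univ_two, mul_comm]

theorem det_low_mul (P : F) (M : GL (Fin 2) F) : ((low P * M : GL (Fin 2) F) : M2).det = (M : M2).det := by
  rw [Units.val_mul, Matrix.det_mul]
  simp [Matrix.det_fin_two]

theorem low_add (a b : F) : low a * low b = low (a + b) := Units.ext (by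
  ext i j
  fin_cases i <;> fin_cases j <;> simp [Matrix.mul_apply, Fin.sum_univ_two])

theorem wmat_conj_upp (u : Fˣ) (B : F) : wmat * (dia u u * upp B) * wmat⁻¹ = dia u u * low (-B) := by
  rw [mul_inv_eq_iff_eq_mul]
  refine Units.ext ?_
  ext i j
  fin_cases i <;> fin_cases j <;> simp [Matrix.mul_apply, Fin.sum_univ_two, mul_comm]

theorem wmat_conj_low (u : Fˣ) (A : F) : wmat * (dia u u * low A) * wmat⁻¹ = dia u u * upp (-A) := by
  rw [mul_inv_eq_iff_eq_mul]
  refine Units.ext ?_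
  ext i j
  fin_cases i <;> fin_cases j <;> simp [Matrix.mul_apply, Fin.sum_univ_two, mul_comm]

theorem nonscalar_of_lower {A : M2} (h : A 1 0 ≠ 0) : Nonscalar A := fun c hc => h (by simp [hc])

/-! ### The covering relation -/

/-- Conjugates of an element by elements of the group. -/
def InC (x : GL chevG2.Idx F) (g : GL chevG2.Idx F) : Prop := ∃ y ∈ G2, g = y * x * y⁻¹

/-- Products of two conjugates. -/
def Cov (x : GL chevG2.Idx F) (g : GL chevG2.Idx F) : Prop := ∃ a b, InC x a ∧ InC x b ∧ g = a * b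

theorem InC.conj {x g y : GL chevG2.Idx F} (hy : y ∈ G2) (h : InC x g) : InC x (y * g * y⁻¹) := by
  obtain ⟨z, hz, rfl⟩ := h
  exact ⟨y * z, mul_mem hy hz, by group⟩

theorem Cov.conj {x g y : GL chevG2.Idx F} (hy : y ∈ G2) (h : Cov x g) : Cov x (y * g * y⁻¹) := by
  obtain ⟨a, b, ha, hb, rfl⟩ := h
  exact ⟨y * a * y⁻¹, y * b * y⁻¹, ha.conj hy, hb.conj hy, by group⟩

theorem Cov.of_conj {x g y : GL chevG2.Idx F} (hy : y ∈ G2) (h : Cov x (y * g * y⁻¹)) : Cov x g := by
  have := h.conj (inv_mem hy)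
  rwa [show y⁻¹ * (y * g * y⁻¹) * y⁻¹⁻¹ = g by group] at this

/-- The parameters. -/
structure Par (F : Type*) [Field F] where
  /-- trace -/
  s : F
  /-- determinant -/
  d : Fˣ
  hd1 : (d : F) ≠ 1
  hs : s ≠ 0
  hirr : ∀ r : F, r * r - s * r + d ≠ 0

variable (P : Par F)

/-- The elliptic matrix. -/
def Par.mat : GL (Fin 2) F := wmat⁻¹ * dia 1 P.d * upp P.s

theorem Par.val_mat : (P.mat : M2) = comp P.s P.d := by
  have : P.mat = wmat⁻¹ * (dia 1 P.d * upp P.s) := mul_assoc _ _ _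
  rw [this, Units.val_mul]
  have hw : ((wmat⁻¹ : GL (Fin 2) F) : M2) = !![0, -1; 1, 0] := by
    refine left_inv_eq_right_inv (Units.inv_mul wmat) ?_
    ext i j
    fin_cases i <;> fin_cases j <;> simp [Matrix.mul_apply, Fin.sum_univ_two]
  rw [hw]
  ext i j
  fin_cases i <;> fin_cases j <;> simp [comp, Matrix.mul_apply, Fin.sum_univ_two]

/-- The element. -/
noncomputable def Par.x : GL chevG2.Idx F := lam P.mat

/-- The matrices of the class. -/
def Par.IsEll (y : GL (Fin 2) F) : Prop := (y : M2).trace = P.s ∧ (y : M2).det = P.d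

theorem Par.isEll_mat : P.IsEll P.mat := by
  rw [Par.IsEll, P.val_mat]
  exact ⟨PSpFour.trace_comp _ _, PSpFour.det_comp _ _⟩

theorem Par.exists_P {y : GL (Fin 2) F} (hy : P.IsEll y) : ∃ Q, Q * P.mat * Q⁻¹ = y := by
  have hns : ∀ {w : GL (Fin 2) F}, P.IsEll w → Nonscalar (w : M2) := fun {w} hw =>
    PSpFour.nonscalar_of_noroot fun r => by rw [hw.1, hw.2]; exact P.hirr r
  exact isConj_iff.1 (PSpFour.isConj_of_tr_det (hns P.isEll_mat) (hns hy)
    (P.isEll_mat.1.trans hy.1.symm) (P.isEll_mat.2.trans hy.2.symm))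

theorem Par.inC {y : GL (Fin 2) F} (hy : P.IsEll y) : InC P.x (lam y) := by
  obtain ⟨Q, rfl⟩ := P.exists_P hy
  exact ⟨lam Q, lam_mem_group Q, by simp [Par.x]⟩

theorem Par.fix_UP {y : GL (Fin 2) F} (hy : P.IsEll y) {u : GL chevG2.Idx F} (hu : u ∈ UP F)
    (hc : Commute u (lam y)) : u = 1 := by
  obtain ⟨Q, rfl⟩ := P.exists_P hy
  have h1 : (lam Q)⁻¹ * u * lam Q ∈ UP F := by
    have := (lam_conj_mem Q⁻¹).2 u hu
    rwa [map_inv, inv_inv] at this
  have h2 : Commute ((lam Q)⁻¹ * u * lam Q) (lam P.mat) := by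
    show _ * _ = _ * _
    calc (lam Q)⁻¹ * u * lam Q * lam P.mat = (lam Q)⁻¹ * (u * lam (Q * P.mat * Q⁻¹)) * lam Q := by
          simp only [map_mul, map_inv]; group
      _ = _ := by rw [hc.eq]; simp only [map_mul, map_inv]; group
  have := comp_fix P.hd1 P.hirr h1 h2
  rwa [mul_assoc, inv_mul_eq_one, eq_comm, mul_eq_right] at this

theorem Par.fix_UN {y : GL (Fin 2) F} (hy : P.IsEll y) {u : GL chevG2.Idx F} (hu : u ∈ UN F)
    (hc : Commute u (lam y)) : u = 1 := by
  have h1 : P.IsEll (tp y) := by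
    rw [Par.IsEll, coe_tp, Matrix.trace_transpose, Matrix.det_transpose]; exact hy
  have h2 := P.fix_UP h1 (n0_conj_UN hu) (by
    rw [← n0_conj_lam]
    simpa using hc.inv_right.map (MulAut.conj (n0 F)).toMonoidHom)
  exact conj_eq_one_iff.1 h2

theorem Par.theta {g : GL chevG2.Idx F} (h : Cov P.x (n0 F * g⁻¹ * (n0 F)⁻¹)) : Cov P.x g := by
  have hn := n0_mem_group (F := F)
  have hx : InC P.x (n0 F * P.x⁻¹ * (n0 F)⁻¹) := by
    rw [Par.x, n0_conj_lam]
    refine P.inC ?_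
    rw [Par.IsEll, coe_tp, Matrix.trace_transpose, Matrix.det_transpose]
    exact P.isEll_mat
  have key : ∀ a, InC P.x a → InC P.x (n0 F * a⁻¹ * (n0 F)⁻¹) := by
    rintro _ ⟨y, hy, rfl⟩
    have := hx.conj (mul_mem (mul_mem hn hy) (inv_mem hn))
    convert this using 1
    group
  obtain ⟨a, b, ha, hb, e⟩ := h
  refine Cov.of_conj (mul_mem hn hn) ⟨_, _, key b hb, key a ha, ?_⟩
  calc n0 F * n0 F * g * (n0 F * n0 F)⁻¹ = n0 F * (n0 F * g⁻¹ * (n0 F)⁻¹)⁻¹ * (n0 F)⁻¹ := by group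
    _ = _ := by rw [e]; group

/-- Levi parts suitable for the covering. -/
def Par.Good (M : GL (Fin 2) F) : Prop :=
  (M : M2) = (P.d : F) • (1 : M2) ∨
    ((M : M2).det = (P.d : F) * P.d ∧ Nonscalar (M : M2) ∧ (M : M2).trace ≠ 2 * P.d)

theorem Par.cov_good {v p : GL chevG2.Idx F} {M : GL (Fin 2) F} (hv : v ∈ UN F) (hp : p ∈ UP F)
    (hM : P.Good M) : Cov P.x (v * lam M * p) := by
  obtain ⟨y, z, hy, hz, rfl⟩ : ∃ y z, P.IsEll y ∧ P.IsEll z ∧ y * z = M := by
    rcases hM with hM | ⟨h1, h2, h3⟩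
    · have hd : (comp P.s (P.d : F)).adjugate.det ≠ 0 := by
        rw [PSpFour.det_adjugate_two, PSpFour.det_comp]; exact P.d.ne_zero
      refine ⟨P.mat, Matrix.GeneralLinearGroup.mkOfDetNeZero _ hd, P.isEll_mat,
        ⟨(PSpFour.trace_adjugate_two _).trans (PSpFour.trace_comp _ _),
          (PSpFour.det_adjugate_two _).trans (PSpFour.det_comp _ _)⟩, Units.ext ?_⟩
      rw [Units.val_mul, hM, P.val_mat]
      show comp P.s (P.d : F) * (comp P.s (P.d : F)).adjugate = _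
      rw [Matrix.mul_adjugate, PSpFour.det_comp]
    · obtain ⟨y, z, hyt, hyd, hzt, hzd, e⟩ := PSpFour.exists_pair P.d.ne_zero P.hs h2 h1 h3
      exact ⟨Matrix.GeneralLinearGroup.mkOfDetNeZero y (hyd ▸ P.d.ne_zero),
        Matrix.GeneralLinearGroup.mkOfDetNeZero z (hzd ▸ P.d.ne_zero), ⟨hyt, hyd⟩, ⟨hzt, hzd⟩, Units.ext e⟩
  haveI : Finite (GL chevG2.Idx F) := inferInstance
  obtain ⟨a, ha, ea⟩ := exists_conj_of_fix (lam_conj_mem y).1 (fun u hu hc => P.fix_UN hy hu hc) hv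
  obtain ⟨b, hb, eb⟩ := exists_conj_of_fix (lam_conj_mem z).2 (fun u hu hc => P.fix_UP hz hu hc)
    ((lam_conj_mem z).2 p hp)
  refine ⟨v * lam y, lam z * p, ?_, ?_, by rw [map_mul]; group⟩
  · rw [← ea]; exact (P.inC hy).conj (UN_le_group ha)
  · rw [show lam z * p = lam z * p * (lam z)⁻¹ * lam z by group, ← eb]
    exact (P.inC hz).conj (UP_le_group hb)

/-- All elements with the given lower part and Levi part are covered. -/
def Par.Red (v : GL chevG2.Idx F) (M : GL (Fin 2) F) : Prop := ∀ p ∈ UP F, Cov P.x (v * lam M * p)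

theorem Par.red_good {v : GL chevG2.Idx F} {M : GL (Fin 2) F} (hv : v ∈ UN F) (hM : P.Good M) :
    P.Red v M := fun _ hp => P.cov_good hv hp hM

theorem Par.move {w v v' q : GL chevG2.Idx F} {N M : GL (Fin 2) F} (hw : w ∈ UP F) (hq : q ∈ UP F)
    (e : w * v * w⁻¹ = v' * lam N * q) (h : P.Red v' (N * M)) : P.Red v M := by
  intro p hp
  obtain ⟨u', hu', eu⟩ := mem_UP_mul_lam M (mul_mem hq hw)
  refine Cov.of_conj (UP_le_group hw) ?_
  have := h (u' * p * w⁻¹) (mul_mem (mul_mem hu' hp) (inv_mem hw))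
  convert this using 1
  calc w * (v * lam M * p) * w⁻¹ = w * v * w⁻¹ * (w * lam M) * p * w⁻¹ := by group
    _ = v' * lam N * (q * w * lam M) * p * w⁻¹ := by rw [e]; group
    _ = _ := by rw [eu, map_mul]; group

theorem Par.move_lev {Q : GL (Fin 2) F} {v v' : GL chevG2.Idx F} {M M' : GL (Fin 2) F}
    (e : lam Q * v * (lam Q)⁻¹ = v') (eM : Q * M * Q⁻¹ = M') (h : P.Red v' M') : P.Red v M := by
  intro p hp
  refine Cov.of_conj (lam_mem_group Q) ?_
  have := h _ ((lam_conj_mem Q).2 p hp)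
  convert this using 1
  rw [← e, ← eM, map_mul, map_mul, map_inv]
  group

theorem Par.move_seven (t c g h k : F) (M : GL (Fin 2) F)
    (H : P.Red (f (c + 2 * t * g - t ^ 2 * h) (g - t * h) h
      (k + 3 * t * g ^ 2 + 2 * t ^ 3 * h ^ 2 - 6 * t ^ 2 * g * h - 3 * t * c * h) 0)
      (low (3 * t * c + 3 * t ^ 2 * g - t ^ 3 * h) * M)) : P.Red (f c g h k 0) M :=
  P.move (E_mem_UP (r := 7) (by decide) t) (one_mem _) (by rw [mul_one, conj_seven, f_last]) H

theorem Par.move_ten (t c g k : F) (M : GL (Fin 2) F)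
    (H : ∀ c' k', P.Red (f c' g 0 k' 0) (low (t * k + t ^ 2 * g ^ 3) * M)) : P.Red (f c g 0 k 0) M := by
  obtain ⟨c', k', a, e⟩ := conj_ten t c g k
  exact P.move (E_mem_UP (r := 10) (by decide) t) (E_mem_UP (r := 7) (by decide) a)
    (by rw [e, lam_low]) (H c' k')

theorem Par.move_eleven (t c h : F) (M : GL (Fin 2) F)
    (H : ∀ n ∈ UN F, P.Red n (upp (t * h) * low (t * c ^ 3) * M)) : P.Red (f c 0 h 0 0) M := by
  obtain ⟨n, hn, q, hq, e⟩ := conj_eleven t c h
  exact P.move (E_mem_UP (r := 11) (by decide) t) hq e (H n hn)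

/-! ### The two kinds of Levi parts -/

theorem Par.good_up {u : Fˣ} {B P' : F}
    (H : ((u : F) = P.d ∧ B ≠ 0) ∨ ((u : F) = -P.d ∧ B = 0 ∧ (2 : F) ≠ 0)) (hP : P' ≠ 0) :
    P.Good (low P' * (dia u u * upp B)) := by
  refine Or.inr ⟨?_, nonscalar_of_lower ?_, ?_⟩
  · rw [det_low_mul]
    simp [Matrix.det_fin_two, Matrix.mul_apply, Fin.sum_univ_two]
    rcases H with ⟨e, -⟩ | ⟨e, -, -⟩ <;> rw [e] <;> ring
  · simp [Matrix.mul_apply, Fin.sum_univ_two, hP]
  · simp [Matrix.trace_fin_two, Matrix.mul_apply, Fin.sum_univ_two]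
    rcases H with ⟨e, hB⟩ | ⟨e, hB, h2⟩ <;> rw [e]
    · intro h
      have : (P' * B) * (P.d : F) = 0 := by linear_combination h
      rcases mul_eq_zero.1 this with h' | h'
      · exact mul_ne_zero hP hB h'
      · exact P.d.ne_zero h'
    · subst hB
      intro h
      exact mul_ne_zero (mul_ne_zero h2 h2) P.d.ne_zero (by linear_combination -h)

variable (h3 : 3 ≤ Fintype.card F)
include h3

theorem Par.red_up {u : Fˣ} {B : F}
    (H : ((u : F) = P.d ∧ B ≠ 0) ∨ ((u : F) = -P.d ∧ B = 0 ∧ (2 : F) ≠ 0))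
    {c g h k : F} (hv : c ≠ 0 ∨ g ≠ 0 ∨ h ≠ 0 ∨ k ≠ 0) : P.Red (f c g h k 0) (dia u u * upp B) := by
  by_cases hh : h = 0
  swap
  · obtain ⟨t, ht⟩ := exists_P_ne h3 c g hh
    exact P.move_seven t c g h k _ (P.red_good (f_mem_UN _ _ _ _) (P.good_up H ht))
  subst hh
  by_cases hgk : g = 0 ∧ k = 0
  · obtain ⟨rfl, rfl⟩ := hgk
    have hc : c ≠ 0 := by simpa using hv
    refine P.move_eleven 1 c 0 _ fun n hn => P.red_good hn ?_
    rw [mul_zero, show upp (0 : F) = 1 from Units.ext (by simp [Matrix.one_fin_two]), one_mul, one_mul]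
    exact P.good_up H (pow_ne_zero _ hc)
  · obtain ⟨t, ht⟩ : ∃ t : F, t * k + t ^ 2 * g ^ 3 ≠ 0 := by
      by_cases hg : g = 0
      · exact ⟨1, by simpa [hg] using hgk⟩
      · obtain ⟨t, ht0, ht1⟩ := exists_avoid_two h3 0 (-k / g ^ 3)
        refine ⟨t, fun e => ht1 ?_⟩
        have : t * (k + t * g ^ 3) = 0 := by linear_combination e
        have := (mul_eq_zero.1 this).resolve_left ht0
        field_simp
        linear_combination this
    exact P.move_ten t c g k _ fun c' k' => P.red_good (f_mem_UN _ _ _ _) (P.good_up H ht)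

theorem Par.red_low {A : F} (hA : A ≠ 0) {c g h k : F} (hv : c ≠ 0 ∨ g ≠ 0 ∨ h ≠ 0 ∨ k ≠ 0) :
    P.Red (f c g h k 0) (dia P.d P.d * low A) := by
  have hdI : ∀ {B : F}, B = 0 → P.Good (dia P.d P.d * low B) := fun {B} hB => Or.inl (by
    subst hB
    ext i j
    fin_cases i <;> fin_cases j <;> simp [Matrix.mul_apply, Fin.sum_univ_two])
  have hlow : ∀ Q B : F, low Q * (dia P.d P.d * low B) = dia P.d P.d * low (Q + B) := fun Q B => by
    rw [← mul_assoc, ← scalar_comm, mul_assoc, low_add]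
  -- the coordinate of the root `3` may be assumed nonzero
  have swap : ∀ {g h k B : F}, B ≠ 0 → (g ≠ 0 ∨ h ≠ 0 ∨ k ≠ 0) →
      P.Red (f 0 g h k 0) (dia P.d P.d * low B) := by
    intro g h k B hB hv
    refine P.move_lev (Q := wmat) ?_ (wmat_conj_low P.d B)
      (P.red_up h3 (Or.inl ⟨rfl, neg_ne_zero.2 hB⟩) (c := 0) (g := g) (h := -k) (k := h) ?_)
    · simpa [E0 (show 4 < 12 by decide)] using conj_wmat 0 g h k
    · rcases hv with e | e | e
      · exact Or.inr (Or.inl e)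
      · exact Or.inr (Or.inr (Or.inr e))
      · exact Or.inr (Or.inr (Or.inl (neg_ne_zero.2 e)))
  have swap' : ∀ {c g h k B : F}, c = 0 → (g ≠ 0 ∨ h ≠ 0 ∨ k ≠ 0) →
      P.Red (f c g h k 0) (dia P.d P.d * low B) := by
    intro c g h k B hc hv
    subst hc
    by_cases hB : B = 0
    · exact P.red_good (f_mem_UN _ _ _ _) (hdI hB)
    · exact swap hB hv
  by_cases hc : c = 0
  · exact swap' hc (hv.resolve_left (not_not.2 hc))
  by_cases hh : h = 0
  swap
  · -- first remove `g`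
    refine P.move_seven (g / h) c g h k _ ?_
    rw [hlow, show g - g / h * h = 0 by field_simp; ring]
    generalize c + 2 * (g / h) * g - (g / h) ^ 2 * h = c'
    generalize k + 3 * (g / h) * g ^ 2 + 2 * (g / h) ^ 3 * h ^ 2 - 6 * (g / h) ^ 2 * g * h -
      3 * (g / h) * c * h = k'
    generalize 3 * (g / h) * c + 3 * (g / h) ^ 2 * g - (g / h) ^ 3 * h + A = A1
    by_cases hA1 : A1 = 0
    · exact P.red_good (f_mem_UN _ _ _ _) (hdI hA1)
    by_cases hc' : c' = 0
    · exact swap' hc' (Or.inr (Or.inl hh))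
    -- then `k`
    refine P.move_lev (Q := low (k' / h)) (v' := f c' 0 h 0 0) (M' := dia P.d P.d * low A1) ?_ ?_ ?_
    · rw [lam_low, conj_five]
      congr 1
      field_simp
      ring
    · rw [hlow, mul_inv_eq_iff_eq_mul, mul_assoc, low_add, add_comm]
    obtain ⟨t, ht0, ht1⟩ := exists_avoid_two h3 0 (-A1 / c' ^ 3)
    refine P.move_eleven t c' h _ fun n hn => P.red_good hn (Or.inr ?_)
    rw [mul_assoc, hlow]
    have hb : t * c' ^ 3 + A1 ≠ 0 := fun e => ht1 (by field_simp; linear_combination e)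
    generalize t * c' ^ 3 + A1 = b at hb ⊢
    refine ⟨?_, nonscalar_of_lower ?_, ?_⟩
    · simp [Matrix.det_fin_two, Matrix.mul_apply, Fin.sum_univ_two]; ring
    · simp [Matrix.mul_apply, Fin.sum_univ_two, hb]
    · simp [Matrix.trace_fin_two, Matrix.mul_apply, Fin.sum_univ_two]
      intro e
      refine mul_ne_zero (mul_ne_zero (mul_ne_zero ht0 hh) hb) P.d.ne_zero ?_
      linear_combination e
  subst hh
  by_cases hg : g = 0
  · subst hg
    by_cases hk : k = 0
    · subst hk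
      refine P.move_eleven (-A / c ^ 3) c 0 _ fun n hn => P.red_good hn ?_
      rw [mul_zero, show upp (0 : F) = 1 from Units.ext (by simp [Matrix.one_fin_two]), one_mul, hlow]
      exact hdI (by field_simp; ring)
    · refine P.move_ten (-A / k) c 0 k _ fun c' k' => P.red_good (f_mem_UN _ _ _ _) ?_
      rw [hlow]
      exact hdI (by field_simp; ring)
  by_cases h2 : (2 : F) = 0
  swap
  · refine P.move_seven (-c / (2 * g)) c g 0 k _ ?_
    rw [hlow]
    exact swap' (by field_simp; ring) (Or.inl (by simpa using hg))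
  · refine P.move_seven (-k / g ^ 2) c g 0 k _ ?_
    have e3 : (3 : F) = 1 := by linear_combination h2
    rw [hlow, show k + 3 * (-k / g ^ 2) * g ^ 2 + 2 * (-k / g ^ 2) ^ 3 * (0 : F) ^ 2 -
      6 * (-k / g ^ 2) ^ 2 * g * 0 - 3 * (-k / g ^ 2) * c * 0 = 0 by rw [e3]; field_simp; ring]
    simp only [mul_zero, sub_zero]
    generalize c + 2 * (-k / g ^ 2) * g = c'
    generalize 3 * (-k / g ^ 2) * c + 3 * (-k / g ^ 2) ^ 2 * g + A = A1
    by_cases hA1 : A1 = 0
    · exact P.red_good (f_mem_UN _ _ _ _) (hdI hA1)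
    have hchar : ringChar F = 2 := by
      obtain ⟨p, hp⟩ := CharP.exists F
      have hdv : p ∣ 2 := (CharP.cast_eq_zero_iff F p 2).1 (by exact_mod_cast h2)
      have := (Nat.prime_dvd_prime_iff_eq (CharP.char_is_prime F p) Nat.prime_two).1 hdv
      subst this
      exact ringChar.eq F 2
    obtain ⟨t, ht⟩ := FiniteField.isSquare_of_char_two hchar (-A1 / g ^ 3)
    refine P.move_ten t c' g 0 _ fun c'' k' => P.red_good (f_mem_UN _ _ _ _) ?_
    rw [hlow]
    refine hdI ?_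
    rw [div_eq_iff (pow_ne_zero _ hg)] at ht
    linear_combination -ht

theorem Par.red_bad {u : Fˣ} {B : F}
    (H : ((u : F) = P.d ∧ B ≠ 0) ∨ ((u : F) = -P.d ∧ B = 0 ∧ (2 : F) ≠ 0)) {n : GL chevG2.Idx F}
    (hn : n ∈ UN F) (hn1 : n ≠ 1) : P.Red n (dia u u * upp B) := by
  obtain ⟨e, c, g, h, k, rfl⟩ := exists_coord_UN hn
  by_cases hc : c = 0
  swap
  · obtain ⟨g', h', k', e1⟩ := conj_six hc e g h k
    refine P.move_lev (Q := upp (e / c)) (v' := f c g' h' k' 0) (M' := dia u u * upp B)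
      (by rw [lam_upp]; exact e1) ?_ (P.red_up h3 H (Or.inl hc))
    rw [mul_inv_eq_iff_eq_mul, mul_assoc, ← mul_assoc, ← scalar_comm, mul_assoc]
    congr 1
    refine Units.ext ?_
    ext i j
    fin_cases i <;> fin_cases j <;> simp [Matrix.mul_apply, Fin.sum_univ_two, add_comm]
  subst hc
  have hv : e ≠ 0 ∨ g ≠ 0 ∨ -k ≠ 0 ∨ h ≠ 0 := by
    by_contra hall
    push Not at hall
    obtain ⟨rfl, rfl, hk, rfl⟩ := hall
    refine hn1 ?_
    rw [neg_eq_zero.1 hk]
    simp [f, E0 (show 4 < 12 by decide), E0 (show 3 < 12 by decide), E0 (show 2 < 12 by decide),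
      E0 (show 1 < 12 by decide), E0 (show 0 < 12 by decide), E0 (show 5 < 12 by decide)]
  refine P.move_lev (Q := wmat) (conj_wmat e g h k) (wmat_conj_upp u B) ?_
  rcases H with ⟨he, hB⟩ | ⟨he, hB, h2⟩
  · obtain rfl : u = P.d := Units.ext he
    exact P.red_low h3 (neg_ne_zero.2 hB) hv
  · subst hB
    rw [neg_zero, show low (0 : F) = upp 0 from Units.ext (by simp)]
    exact P.red_up h3 (Or.inr ⟨he, rfl, h2⟩) hv

theorem Par.cov_bad {u : Fˣ} {B : F}
    (H : ((u : F) = P.d ∧ B ≠ 0) ∨ ((u : F) = -P.d ∧ B = 0 ∧ (2 : F) ≠ 0)) {n p : GL chevG2.Idx F}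
    (hn : n ∈ UN F) (hp : p ∈ UP F) (hne : n * lam (dia u u * upp B) * p ≠ 1) :
    Cov P.x (n * lam (dia u u * upp B) * p) := by
  by_cases hn1 : n = 1
  swap
  · exact P.red_bad h3 H hn hn1 p hp
  subst hn1
  by_cases hp1 : p = 1
  · subst hp1
    simp only [one_mul, mul_one] at hne ⊢
    have hu1 : (u : F) ≠ 1 := fun e => by
      rcases H with ⟨h, -⟩ | ⟨h, hB, -⟩
      · exact P.hd1 (h.symm.trans e)
      · refine hne ?_
        rw [show dia u u * upp B = 1 from Units.ext (by subst hB; simp [e, Matrix.one_fin_two]), map_one]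
    refine Cov.of_conj (E_mem_group 4 (lt_n (by decide)) (1 : F)) ?_
    have hcomm : lam (dia u u * upp B) * E 4 (-1) * (lam (dia u u * upp B))⁻¹ = E 4 (-(u : F)⁻¹) := by
      have hcar : tabG2.car 0 4 = -2 ∧ tabG2.car 1 4 = 1 := by decide +kernel
      have h1 : E 6 B * E 4 (-1 : F) * (E 6 B)⁻¹ = E 4 (-1) := by
        rw [(show Pair 6 4 [] by decide +kernel).conj]; simp
      rw [map_mul, lam_upp, show lam (dia u u) * E 6 B * E 4 (-1) * (lam (dia u u) * E 6 B)⁻¹ =
        lam (dia u u) * (E 6 B * E 4 (-1) * (E 6 B)⁻¹) * (lam (dia u u))⁻¹ by group, h1,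
        lam_dia_conj u u (show 4 < 12 by decide), hcar.1, hcar.2]
      congr 1
      simp [zpow_two, _root_.zpow_neg]
      field_simp
    have hne4 : E 4 (1 - (u : F)⁻¹) ≠ 1 := fun e => hu1 (by
      rw [certG2.X_eq_one_iff (lt_n (by decide)), sub_eq_zero] at e
      exact inv_eq_one.1 e.symm)
    have := P.red_bad h3 H (E_mem_UN (by decide) _) hne4 1 (one_mem _)
    convert this using 1
    rw [mul_one, E_inv 4 (lt_n (by decide)), sub_eq_add_neg, ← E_add 4 (lt_n (by decide)), ← hcomm]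
    group
  · refine P.theta ?_
    have hflip : n0 F * (1 * lam (dia u u * upp B) * p)⁻¹ * (n0 F)⁻¹ =
        n0 F * p⁻¹ * (n0 F)⁻¹ * lam (dia u u * low B) * 1 := by
      rw [show dia u u * low B = tp (dia u u * upp B) from Units.ext (by
        ext i j; fin_cases i <;> fin_cases j <;> simp [Matrix.mul_apply, Fin.sum_univ_two, mul_comm]),
        ← n0_conj_lam]
      group
    rw [hflip]
    refine Cov.of_conj (lam_mem_group wmat) ?_
    have hn' := (lam_conj_mem wmat).1 _ (n0_conj_UP (inv_mem hp))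
    have hn1' : lam wmat * (n0 F * p⁻¹ * (n0 F)⁻¹) * (lam wmat)⁻¹ ≠ 1 := fun e =>
      hp1 (inv_eq_one.1 (conj_eq_one_iff.1 (conj_eq_one_iff.1 e)))
    have H' : ((u : F) = P.d ∧ -B ≠ 0) ∨ ((u : F) = -P.d ∧ -B = 0 ∧ (2 : F) ≠ 0) := by simpa using H
    have := P.red_bad h3 H' hn' hn1' 1 (one_mem _)
    convert this using 1
    rw [show lam (dia u u * upp (-B)) = lam wmat * lam (dia u u * low B) * (lam wmat)⁻¹ by
      rw [← map_inv, ← map_mul, ← map_mul, wmat_conj_low]]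
    group

/-! ### The covering -/

theorem Par.cover {g : GL chevG2.Idx F} (hg : g ∈ G2) (hne : g ≠ 1) : Cov P.x g := by
  classical
  obtain ⟨h1, h2, -, hs0, hs1, hn1, -⟩ := tab_facts
  obtain ⟨c₀, hc₀⟩ := exists_inGauss certG2 hg
  obtain ⟨c, i, hmv⟩ := exists_move certG2 hc₀ hne
  have hl : 0 < tabG2.l ∧ 1 < tabG2.l := by omega
  let i₀ : Fin tabG2.l := ⟨0, hl.1⟩
  let i₁ : Fin tabG2.l := ⟨1, hl.2⟩
  obtain ⟨c, hc, hc0⟩ : ∃ c, InGauss chevG2 tabG2 g c ∧ c i₀ = P.d * P.d := by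
    have hi : (i : ℕ) < 2 := lt_of_lt_of_eq i.2 h2
    rcases (show (i : ℕ) = 0 ∨ (i : ℕ) = 1 by omega) with e | e
    · obtain rfl : i = i₀ := Fin.ext e
      exact ⟨_, hmv ((c i₀)⁻¹ * (P.d * P.d)), by simp⟩
    · obtain rfl : i = i₁ := Fin.ext e
      have hcar : tabG2.car 1 (tabG2.simple 0) = -1 := by decide +kernel
      obtain ⟨u, hu0, hu⟩ := exists_avoid_two h3 0 (chi' tabG2 c (tabG2.simple 0))
      have hne' : chi' tabG2 (c * Pi.mulSingle i₁ (Units.mk0 u hu0)) (tabG2.simple i₀) ≠ 1 := by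
        rw [chi'_mul, chi'_single, show (i₁ : ℕ) = 1 from rfl, show (i₀ : ℕ) = 0 from rfl, hcar, zpow_neg_one,
          Units.val_mk0]
        exact fun e => hu ((mul_inv_eq_one₀ hu0).1 e).symm
      refine ⟨_, move_good certG2 (hmv (Units.mk0 u hu0)) hne'
        (((c * Pi.mulSingle i₁ (Units.mk0 u hu0) : Fin tabG2.l → Fˣ) i₀)⁻¹ * (P.d * P.d)), by simp [mul_assoc, mul_comm, mul_left_comm]⟩
  obtain ⟨y, hy, a, ha, b, hb, e⟩ := hc
  obtain ⟨v', hv', e1, rfl⟩ := exists_negBut_mul certG2 hl.2 ha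
  obtain ⟨v, hv, f1, rfl⟩ := exists_mul_posBut certG2 hl.2 hb
  rw [← neg5_eq] at hv'
  rw [← pos5_eq] at hv
  rw [torusHom_eq_lam c i₀ i₁ rfl rfl, hn1, hs1, hc0] at e
  set A : GL (Fin 2) F := low e1 * dia (c i₁ / (P.d * P.d)) (P.d * P.d * (P.d * P.d) / c i₁) * upp f1 with hA
  have hdet : (A : M2).det = (P.d : F) * P.d := by
    simp only [A, Units.val_mul, Matrix.det_mul]
    simp [Matrix.det_fin_two, Units.val_div_eq_div_val]
  refine Cov.of_conj hy ?_
  rw [e, show v' * E 5 e1 * lam (dia (c i₁ / (P.d * P.d)) (P.d * P.d * (P.d * P.d) / c i₁)) * (E 6 f1 * v) =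
    v' * lam A * v by rw [hA, map_mul, map_mul, lam_low, lam_upp]; group]
  by_cases hgood : P.Good A
  · exact P.cov_good hv' hv hgood
  -- conjugate the Levi part to a normal form
  obtain ⟨u, B, Q, H, hQ⟩ : ∃ (u : Fˣ) (B : F) (Q : GL (Fin 2) F),
      (((u : F) = P.d ∧ B ≠ 0) ∨ ((u : F) = -P.d ∧ B = 0 ∧ (2 : F) ≠ 0)) ∧
        Q * A * Q⁻¹ = dia u u * upp B := by
    by_cases hns : Nonscalar (A : M2)
    · have htr : (A : M2).trace = 2 * P.d := by
        by_contra htr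
        exact hgood (Or.inr ⟨hdet, hns, htr⟩)
      refine ⟨P.d, 1, ?_⟩
      obtain ⟨Q, hQ⟩ := isConj_iff.1 (PSpFour.isConj_of_tr_det (y := dia P.d P.d * upp 1) hns
        (fun c hc => by
          have := congrFun (congrFun hc 0) 1
          simp [Matrix.mul_apply, Fin.sum_univ_two] at this)
        (by rw [htr]; simp [Matrix.trace_fin_two, Matrix.mul_apply, Fin.sum_univ_two]; ring)
        (by rw [hdet]; simp [Matrix.det_fin_two, Matrix.mul_apply, Fin.sum_univ_two]))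
      exact ⟨Q, Or.inl ⟨rfl, one_ne_zero⟩, hQ⟩
    · simp only [Nonscalar] at hns
      push Not at hns
      obtain ⟨r, hr⟩ := hns
      have hr2 : (r - P.d) * (r + P.d) = 0 := by
        rw [hr] at hdet
        simp [Matrix.det_smul] at hdet
        linear_combination hdet
      have hrd : r ≠ P.d := fun e => hgood (Or.inl (by rw [hr, e]))
      have hr' : r = -P.d := eq_neg_of_add_eq_zero_left ((mul_eq_zero.1 hr2).resolve_left (sub_ne_zero.2 hrd))
      have h2 : (2 : F) ≠ 0 := fun h2 => hrd (by linear_combination hr' + (-(P.d : F)) * h2)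
      refine ⟨-P.d, 0, 1, Or.inr ⟨by simp, rfl, h2⟩, ?_⟩
      rw [one_mul, inv_one, mul_one]
      refine Units.ext ?_
      rw [hr, hr']
      ext i j
      fin_cases i <;> fin_cases j <;> simp [Matrix.mul_apply, Fin.sum_univ_two]
  refine Cov.of_conj (lam_mem_group Q) ?_
  have e2 : lam Q * (v' * lam A * v) * (lam Q)⁻¹ = lam Q * v' * (lam Q)⁻¹ * lam (dia u u * upp B) *
      (lam Q * v * (lam Q)⁻¹) := by
    rw [← hQ]; simp only [map_mul, map_inv]; group
  rw [e2]
  refine P.cov_bad h3 H ((lam_conj_mem Q).1 _ hv') ((lam_conj_mem Q).2 _ hv) ?_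
  rw [← e2]
  intro h
  have h' := conj_eq_one_iff.1 h
  rw [show v' * lam A * v = v' * E 5 e1 * lam (dia (c i₁ / (P.d * P.d)) (P.d * P.d * (P.d * P.d) / c i₁)) *
    (E 6 f1 * v) by rw [hA, map_mul, map_mul, lam_low, lam_upp]; group, ← e] at h'
  exact hne (conj_eq_one_iff.1 h')

omit P in
/-- The theorem. -/
theorem exists_class_square (p : ℕ) [Fact p.Prime] [CharP F p] :
    ∃ x : chevG2.group F, ¬ p ∣ orderOf x ∧ ∀ g : chevG2.group F, g ≠ 1 →
      ∃ u v : chevG2.group F, g = (u * x * u⁻¹) * (v * x * v⁻¹) := by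
  obtain ⟨s, d, hd0, hd1, hs, hirr⟩ := PSpFour.exists_param h3
  let P : Par F := ⟨s, Units.mk0 d hd0, hd1, hs, hirr⟩
  refine ⟨⟨P.x, lam_mem_group _⟩, fun hp => ?_, fun g hg => ?_⟩
  · rw [← Subgroup.orderOf_coe] at hp
    exact PSpFour.not_dvd_orderOf p hirr P.val_mat (hp.trans (orderOf_map_dvd lam P.mat))
  · obtain ⟨a, b, ⟨y, hy, rfl⟩, ⟨z, hz, rfl⟩, e⟩ :=
      P.cover h3 g.2 (fun e => hg (Subtype.ext e))
    exact ⟨⟨y, hy⟩, ⟨z, hz⟩, Subtype.ext (by simpa using e)⟩

end CfsgLib.ClassSquare.GTwo
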