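import Cfsg.Agent.Lib.ClassSquare.GTwoBase

/-!
Explicit conjugates of the elements of the lower unipotent radical of the Levi subgroup of the long simple
root in type G2, and the fixed points of an irreducible element of the Levi subgroup.
-/

set_option autoImplicit false
set_option linter.unusedSectionVars false
set_option linter.unusedSimpArgs false

namespace CfsgLib.ClassSquare.GTwo

open Cfsg.Lie CfsgLib.Chev CfsgLib.Chev.Cert
open scoped MatrixGroups

variable {F : Type*} [Field F]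

/-- The data of a commutator formula. -/
def Pair (r s : ℕ) (L : List (ℕ × ℤ × ℕ × ℕ)) : Prop :=
  r < tabG2.n ∧ s < tabG2.n ∧ s ≠ r ∧ s ≠ tabG2.neg r ∧ tabG2.commTerms r s = L

noncomputable instance (r s : ℕ) (L : List (ℕ × ℤ × ℕ × ℕ)) : Decidable (Pair r s L) := by
  unfold Pair; infer_instance

theorem Pair.swap_mul {r s : ℕ} {L : List (ℕ × ℤ × ℕ × ℕ)} (h : Pair r s L) (t u : F) :
    E r t * E s u =
      E s u * (L.map fun c => E c.1 ((c.2.1 : F) * t ^ c.2.2.1 * u ^ c.2.2.2)).prod * E r t := by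
  obtain ⟨hr, hs, hne, hneg, hL⟩ := h
  rw [← comm_formula r s hr hs hne hneg hL, inv_mul_cancel_right]

theorem Pair.conj {r s : ℕ} {L : List (ℕ × ℤ × ℕ × ℕ)} (h : Pair r s L) (t u : F) :
    E r t * E s u * (E r t)⁻¹ =
      E s u * (L.map fun c => E c.1 ((c.2.1 : F) * t ^ c.2.2.1 * u ^ c.2.2.2)).prod := by
  obtain ⟨hr, hs, hne, hneg, hL⟩ := h
  exact comm_formula r s hr hs hne hneg hL t u

theorem Pair.comm {r s : ℕ} (h : Pair r s []) (t u : F) : E r t * E s u = E s u * E r t := by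
  simpa using h.swap_mul t u

theorem Pair.comm' {r s : ℕ} (h : Pair r s []) (t u : F) (x : GL chevG2.Idx F) :
    E r t * (E s u * x) = E s u * (E r t * x) := by
  rw [← mul_assoc, h.comm, mul_assoc]

theorem merge {r : ℕ} (hr : r < 12) (t u : F) (x : GL chevG2.Idx F) :
    E r t * (E r u * x) = E r (t + u) * x := by
  rw [← mul_assoc, E_add r (lt_n hr)]

theorem E0 {r : ℕ} (hr : r < 12) : E r (0 : F) = 1 := E_zero r (lt_n hr)

/-- Coordinates on the group of the negative roots other than `4`, with the root `5`. -/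
noncomputable def f (c g h k p : F) : GL chevG2.Idx F := E 3 c * E 2 g * E 1 h * E 0 k * E 5 p

theorem E3_eq (c : F) : E 3 c = f c 0 0 0 0 := by
  simp [f, E0 (show 2 < 12 by decide), E0 (show 1 < 12 by decide), E0 (show 0 < 12 by decide),
    E0 (show 5 < 12 by decide)]

theorem E2_eq (g : F) : E 2 g = f 0 g 0 0 0 := by
  simp [f, E0 (show 3 < 12 by decide), E0 (show 1 < 12 by decide), E0 (show 0 < 12 by decide),
    E0 (show 5 < 12 by decide)]

theorem E1_eq (h : F) : E 1 h = f 0 0 h 0 0 := by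
  simp [f, E0 (show 2 < 12 by decide), E0 (show 3 < 12 by decide), E0 (show 0 < 12 by decide),
    E0 (show 5 < 12 by decide)]

theorem E0_eq (k : F) : E 0 k = f 0 0 0 k 0 := by
  simp [f, E0 (show 2 < 12 by decide), E0 (show 1 < 12 by decide), E0 (show 3 < 12 by decide),
    E0 (show 5 < 12 by decide)]

theorem E5_eq (p : F) : E 5 p = f 0 0 0 0 p := by
  simp [f, E0 (show 2 < 12 by decide), E0 (show 1 < 12 by decide), E0 (show 0 < 12 by decide),
    E0 (show 3 < 12 by decide)]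

/-- The multiplication. -/
theorem f_mul (c g h k p c' g' h' k' p' : F) :
    f c g h k p * f c' g' h' k' p' =
      f (c + c') (g + g') (h + h') (k + k' + 3 * g * c' - p * h') (p + p') := by
  suffices ∀ x, f c g h k p * (f c' g' h' k' p' * x) =
      f (c + c') (g + g') (h + h') (k + k' + 3 * g * c' - p * h') (p + p') * x by
    simpa using this 1
  intro x
  have p53 : Pair 5 3 [] := by decide +kernel
  have p52 : Pair 5 2 [] := by decide +kernel
  have p50 : Pair 5 0 [] := by decide +kernel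
  have p03 : Pair 0 3 [] := by decide +kernel
  have p02 : Pair 0 2 [] := by decide +kernel
  have p01 : Pair 0 1 [] := by decide +kernel
  have p13 : Pair 1 3 [] := by decide +kernel
  have p12 : Pair 1 2 [] := by decide +kernel
  have p51 : ∀ (a b : F) (y : GL chevG2.Idx F),
      E 5 a * (E 1 b * y) = E 1 b * (E 0 (-(a * b)) * (E 5 a * y)) := fun a b y => by
    rw [← mul_assoc, (show Pair 5 1 [(0, -1, 1, 1)] by decide +kernel).swap_mul]
    simp [mul_assoc]
  have p23 : ∀ (a b : F) (y : GL chevG2.Idx F),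
      E 2 a * (E 3 b * y) = E 3 b * (E 0 (3 * a * b) * (E 2 a * y)) := fun a b y => by
    rw [← mul_assoc, (show Pair 2 3 [(0, 3, 1, 1)] by decide +kernel).swap_mul]
    simp [mul_assoc]
  simp only [f, mul_assoc, p53.comm', p52.comm', p50.comm', p03.comm', p02.comm', p01.comm', p13.comm',
    p12.comm', p51, p23, merge (show 3 < 12 by decide), merge (show 2 < 12 by decide),
    merge (show 1 < 12 by decide), merge (show 0 < 12 by decide), merge (show 5 < 12 by decide)]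
  ring_nf

theorem f_mem_UN (c g h k : F) : f c g h k 0 ∈ UN F := by
  have : f c g h k 0 = E 3 c * E 2 g * E 1 h * E 0 k := by simp [f, E0 (show 5 < 12 by decide)]
  rw [this]
  exact mul_mem (mul_mem (mul_mem (E_mem_UN (by decide) _) (E_mem_UN (by decide) _))
    (E_mem_UN (by decide) _)) (E_mem_UN (by decide) _)

theorem f_last [Fintype F] (c g h k p : F) : f c g h k p = f c g h k 0 * lam (low p) := by
  rw [lam_low]
  simp [f, E0 (show 5 < 12 by decide)]

/-! ### The conjugations -/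

theorem conj_seven (t c g h k : F) :
    E 7 t * f c g h k 0 * (E 7 t)⁻¹ =
      f (c + 2 * t * g - t ^ 2 * h) (g - t * h) h
        (k + 3 * t * g ^ 2 + 2 * t ^ 3 * h ^ 2 - 6 * t ^ 2 * g * h - 3 * t * c * h)
        (3 * t * c + 3 * t ^ 2 * g - t ^ 3 * h) := by
  have e3 : MulAut.conj (E 7 t) (E 3 c) = f c 0 0 0 0 * f 0 0 0 0 (3 * t * c) := by
    rw [MulAut.conj_apply, (show Pair 7 3 [(5, 3, 1, 1)] by decide +kernel).conj, ← E5_eq, ← E3_eq]
    simp
  have e2 : MulAut.conj (E 7 t) (E 2 g) = f 0 g 0 0 0 * f (2 * t * g) 0 0 0 0 * f 0 0 0 0 (3 * t ^ 2 * g) *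
      f 0 0 0 (-(3 * t * g ^ 2)) 0 := by
    rw [MulAut.conj_apply, (show Pair 7 2 [(3, 2, 1, 1), (5, 3, 2, 1), (0, -3, 1, 2)] by decide +kernel).conj,
      ← E5_eq, ← E3_eq, ← E2_eq, ← E0_eq]
    simp [mul_assoc]
  have e1 : MulAut.conj (E 7 t) (E 1 h) = f 0 0 h 0 0 * f 0 (-(t * h)) 0 0 0 * f (-(t ^ 2 * h)) 0 0 0 0 *
      f 0 0 0 0 (-(t ^ 3 * h)) * f 0 0 0 (-(t ^ 3 * h ^ 2)) 0 := by
    rw [MulAut.conj_apply, (show Pair 7 1 [(2, -1, 1, 1), (3, -1, 2, 1), (5, -1, 3, 1), (0, -1, 3, 2)] by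
      decide +kernel).conj, ← E5_eq, ← E3_eq, ← E2_eq, ← E1_eq, ← E0_eq]
    simp [mul_assoc]
  have e0 : MulAut.conj (E 7 t) (E 0 k) = f 0 0 0 k 0 := by
    rw [MulAut.conj_apply, (show Pair 7 0 [] by decide +kernel).conj, ← E0_eq]
    simp
  rw [← MulAut.conj_apply]
  conv_lhs => rw [show f c g h k 0 = E 3 c * E 2 g * E 1 h * E 0 k by simp [f, E0 (show 5 < 12 by decide)]]
  simp only [map_mul, e3, e2, e1, e0, f_mul]
  ring_nf

theorem conj_five (s c g h k : F) :
    E 5 s * f c g h k 0 * (E 5 s)⁻¹ = f c g h (k - s * h) 0 := by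
  rw [E_inv 5 (lt_n (by decide)), E5_eq s, E5_eq (-s), f_mul, f_mul]
  ring_nf

theorem conj_ten (t c g k : F) :
    ∃ c' k' a, E 10 t * f c g 0 k 0 * (E 10 t)⁻¹ = f c' g 0 k' 0 * E 5 (t * k + t ^ 2 * g ^ 3) * E 7 a := by
  refine ⟨c + t * g ^ 2, k - t * g ^ 3 + 3 * g * (t * g ^ 2), t * g, ?_⟩
  have e3 : MulAut.conj (E 10 t) (E 3 c) = f c 0 0 0 0 := by
    rw [MulAut.conj_apply, (show Pair 10 3 [] by decide +kernel).conj, ← E3_eq]
    simp
  have e2 : MulAut.conj (E 10 t) (E 2 g) =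
      (f 0 g 0 0 0 * f (t * g ^ 2) 0 0 0 0 * f 0 0 0 (-(t * g ^ 3)) 0 * f 0 0 0 0 (t ^ 2 * g ^ 3)) *
        E 7 (t * g) := by
    rw [MulAut.conj_apply, (show Pair 10 2 [(7, 1, 1, 1), (3, 1, 1, 2), (0, -1, 1, 3), (5, -2, 2, 3)] by
      decide +kernel).conj, ← E3_eq, ← E5_eq, ← E2_eq, ← E0_eq]
    simp only [List.map_cons, List.map_nil, List.prod_cons, List.prod_nil, mul_one, mul_assoc]
    have p73 : ∀ (a b : F) (y : GL chevG2.Idx F),
        E 7 a * (E 3 b * y) = E 3 b * (E 5 (3 * a * b) * (E 7 a * y)) := fun a b y => by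
      rw [← mul_assoc, (show Pair 7 3 [(5, 3, 1, 1)] by decide +kernel).swap_mul]
      simp [mul_assoc]
    have p70 := (show Pair 7 0 [] by decide +kernel).comm' (F := F)
    have p75 := (show Pair 7 5 [] by decide +kernel).comm (F := F)
    have p50 := (show Pair 5 0 [] by decide +kernel).comm' (F := F)
    rw [p73, p70, p75, p50, merge (show 5 < 12 by decide)]
    push_cast
    ring_nf
  have e0 : MulAut.conj (E 10 t) (E 0 k) = f 0 0 0 k 0 * f 0 0 0 0 (t * k) := by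
    rw [MulAut.conj_apply, (show Pair 10 0 [(5, 1, 1, 1)] by decide +kernel).conj, ← E0_eq, ← E5_eq]
    simp
  rw [← MulAut.conj_apply]
  conv_lhs => rw [show f c g 0 k 0 = E 3 c * E 2 g * E 0 k by
    simp [f, E0 (show 5 < 12 by decide), E0 (show 1 < 12 by decide)]]
  rw [map_mul, map_mul, e3, e2, e0]
  have hc : ∀ x : GL chevG2.Idx F, E 7 (t * g) * (f 0 0 0 k 0 * f 0 0 0 0 (t * k) * x) =
      f 0 0 0 k 0 * f 0 0 0 0 (t * k) * (E 7 (t * g) * x) := fun x => by
    rw [← E0_eq, ← E5_eq, mul_assoc, (show Pair 7 0 [] by decide +kernel).comm',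
      (show Pair 7 5 [] by decide +kernel).comm']
    simp [mul_assoc]
  have hc1 := hc 1
  simp only [mul_one] at hc1
  rw [mul_assoc, mul_assoc (f 0 g 0 0 0 * _ * _ * _), hc1]
  simp only [← mul_assoc, f_mul]
  congr 1
  rw [E5_eq, f_mul]
  ring_nf

theorem conj_eleven [Fintype F] (t c h : F) :
    ∃ n ∈ UN F, ∃ q ∈ UP F,
      E 11 t * f c 0 h 0 0 * (E 11 t)⁻¹ = n * lam (upp (t * h) * low (t * c ^ 3)) * q := by
  have hf : f c 0 h 0 0 = E 1 h * E 3 c := by
    rw [E1_eq h, E3_eq c, f_mul]; simp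
  rw [hf, ← MulAut.conj_apply, map_mul, MulAut.conj_apply, MulAut.conj_apply,
    (show Pair 11 1 [(6, 1, 1, 1)] by decide +kernel).conj,
    (show Pair 11 3 [(9, -1, 1, 1), (7, 1, 1, 2), (5, 1, 1, 3), (10, -2, 2, 3)] by decide +kernel).conj]
  simp only [List.map_cons, List.map_nil, List.prod_cons, List.prod_nil, mul_one, Int.cast_one, one_mul,
    pow_one, Int.cast_neg, neg_mul]
  have p75 := (show Pair 7 5 [] by decide +kernel).comm' (F := F)
  have p95 := (show Pair 9 5 [] by decide +kernel).comm' (F := F)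
  rw [p75, p95, map_mul, lam_upp, lam_low]
  have p63 := (show Pair 6 3 [(4, -1, 1, 1), (2, -1, 1, 2), (0, -1, 1, 3), (1, 2, 2, 3)] by
    decide +kernel).swap_mul (t * h) c
  refine ⟨E 1 h * (E 3 c * (([(4, -1, 1, 1), (2, -1, 1, 2), (0, -1, 1, 3), (1, 2, 2, 3)] :
      List (ℕ × ℤ × ℕ × ℕ)).map fun z => E z.1 ((z.2.1 : F) * (t * h) ^ z.2.2.1 * c ^ z.2.2.2)).prod),
    ?_, ?_, ?_, ?_⟩
  · refine mul_mem (E_mem_UN (by decide) _) (mul_mem (E_mem_UN (by decide) _) (list_prod_mem fun x hx => ?_))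
    obtain ⟨z, hz, rfl⟩ := List.mem_map.1 hx
    simp only [List.mem_cons, List.not_mem_nil, or_false] at hz
    rcases hz with rfl | rfl | rfl | rfl <;> exact E_mem_UN (by decide) _
  · exact E 9 (-(t * c)) * (E 7 (t * c ^ 2) * E 10 (((-2 : ℤ) : F) * t ^ 2 * c ^ 3))
  · exact mul_mem (E_mem_UP (by decide) _) (mul_mem (E_mem_UP (by decide) _) (E_mem_UP (by decide) _))
  · rw [mul_assoc, ← mul_assoc (E 6 (t * h)) (E 3 c), p63]
    simp only [mul_assoc, Int.cast_neg, neg_mul]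

theorem conj_six {c : F} (hc : c ≠ 0) (e g h k : F) :
    ∃ g' h' k', E 6 (e / c) * (E 4 e * f c g h k 0) * (E 6 (e / c))⁻¹ = f c g' h' k' 0 := by
  set s := e / c
  refine ⟨?_, ?_, ?_, ?_⟩
  rotate_right
  · have e4 : MulAut.conj (E 6 s) (E 4 e) = E 4 e := by
      rw [MulAut.conj_apply, (show Pair 6 4 [] by decide +kernel).conj]; simp
    have e3 : MulAut.conj (E 6 s) (E 3 c) =
        E 3 c * E 4 (-e) * f 0 (-(s * c ^ 2)) 0 0 0 * f 0 0 0 (-(s * c ^ 3)) 0 * f 0 0 (2 * s ^ 2 * c ^ 3) 0 0 := by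
      rw [MulAut.conj_apply, (show Pair 6 3 [(4, -1, 1, 1), (2, -1, 1, 2), (0, -1, 1, 3), (1, 2, 2, 3)] by
        decide +kernel).conj, ← E2_eq, ← E0_eq, ← E1_eq]
      simp [mul_assoc, s, hc]
    have e2 : MulAut.conj (E 6 s) (E 2 g) = f 0 g 0 0 0 := by
      rw [MulAut.conj_apply, (show Pair 6 2 [] by decide +kernel).conj, ← E2_eq]; simp
    have e1 : MulAut.conj (E 6 s) (E 1 h) = f 0 0 h 0 0 := by
      rw [MulAut.conj_apply, (show Pair 6 1 [] by decide +kernel).conj, ← E1_eq]; simp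
    have e0 : MulAut.conj (E 6 s) (E 0 k) = f 0 0 0 k 0 * f 0 0 (-(s * k)) 0 0 := by
      rw [MulAut.conj_apply, (show Pair 6 0 [(1, -1, 1, 1)] by decide +kernel).conj, ← E0_eq, ← E1_eq]; simp
    have e34 : E 4 e * (E 3 c * E 4 (-e)) =
        f 0 (2 * c * e) 0 0 0 * f 0 0 0 (-(3 * c ^ 2 * e)) 0 * f 0 0 (-(3 * c * e ^ 2)) 0 0 * f c 0 0 0 0 := by
      rw [(show Pair 3 4 [(2, -2, 1, 1), (0, 3, 2, 1), (1, -3, 1, 2)] by decide +kernel).swap_mul,
        ← E3_eq, ← E2_eq, ← E1_eq, ← E0_eq, ← mul_assoc, ← mul_assoc, E_add 4 (lt_n (by decide)),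
        add_neg_cancel, E0 (show 4 < 12 by decide), one_mul]
      simp [mul_assoc]
    rw [← MulAut.conj_apply]
    conv_lhs => rw [show f c g h k 0 = E 3 c * E 2 g * E 1 h * E 0 k by simp [f, E0 (show 5 < 12 by decide)]]
    simp only [map_mul, e4, e3, e2, e1, e0]
    simp only [← mul_assoc]
    rw [mul_assoc (E 4 e), e34]
    simp only [← mul_assoc, f_mul]
    simp only [zero_add, add_zero, mul_zero, zero_mul, sub_zero, neg_zero]
    rfl

theorem conj_wmat [Fintype F] (e g h k : F) :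
    lam (wmat : GL (Fin 2) F) * (E 4 e * f 0 g h k 0) * (lam wmat)⁻¹ = f e g (-k) h 0 := by
  rw [show f 0 g h k 0 = E 2 g * E 1 h * E 0 k by
    simp [f, E0 (show 5 < 12 by decide), E0 (show 3 < 12 by decide)], lam_wmat, ← MulAut.conj_apply]
  simp only [map_mul, MulAut.conj_apply]
  have hd : (∀ r : Fin 12, tabG2.refl 1 r = [1, 0, 2, 4, 3, 6, 5, 8, 7, 9, 11, 10].getD r 0) ∧
      ∀ r : Fin 12, tabG2.eta 1 r = [-1, 1, 1, -1, 1, -1, -1, 1, -1, 1, 1, -1].getD r 0 := by decide +kernel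
  have hl : 1 < tabG2.l := by rw [tab_facts.2.1]; decide
  rw [certG2.nS_conj_X hl (lt_n (by decide)), certG2.nS_conj_X hl (lt_n (by decide)),
    certG2.nS_conj_X hl (lt_n (by decide)), certG2.nS_conj_X hl (lt_n (by decide)),
    show tabG2.refl 1 4 = 3 from hd.1 4, show tabG2.refl 1 2 = 2 from hd.1 2, show tabG2.refl 1 1 = 0 from hd.1 1,
    show tabG2.refl 1 0 = 1 from hd.1 0, show tabG2.eta 1 4 = 1 from hd.2 4, show tabG2.eta 1 2 = 1 from hd.2 2,
    show tabG2.eta 1 1 = 1 from hd.2 1, show tabG2.eta 1 0 = -1 from hd.2 0]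
  simp only [Int.cast_one, Int.cast_neg, one_mul, neg_mul]
  change E 3 e * (E 2 g * E 0 h * E 1 (-k)) = _
  rw [E3_eq, E2_eq, E0_eq, E1_eq, f_mul, f_mul, f_mul]
  ring_nf

/-! ### Coordinates -/

/-- The roots of the upper radical. -/
def upList : List ℕ := [7, 8, 9, 10, 11]

theorem upList_ok : upList.SortedLT ∧ (∀ r ∈ upList, r ∈ posSet tabG2) ∧ CommClosed tabG2 {r | r ∈ upList} ∧
    {r | r ∈ upList} = pos5 := by
  obtain ⟨h1, -, h3, -⟩ := tab_facts
  have h : ∀ r : ℕ, r ∈ upList ↔ 7 ≤ r ∧ r < 12 := fun r => by simp [upList]; omega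
  refine ⟨by decide, fun r hr => ?_, fun r hr s hs _ q hq => ?_, Set.ext h⟩
  · have := (h r).1 hr
    exact ⟨by omega, by omega⟩
  · have hd : ∀ r ∈ upList, ∀ s ∈ upList, ∀ q ∈ tabG2.commTerms r s, q.1 ∈ upList := by decide +kernel
    exact hd r hr s hs q hq

theorem exists_coord_UP {u : GL chevG2.Idx F} (hu : u ∈ UP F) :
    ∃ t : ℕ → F, u = prodX chevG2 upList t := by
  obtain ⟨h1, h2, h3, h4⟩ := upList_ok
  exact certG2.exists_prodX upList h1 h2 h3 u (by rw [h4]; exact hu)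

theorem exists_coord_UN {u : GL chevG2.Idx F} (hu : u ∈ UN F) :
    ∃ e c g h k : F, u = E 4 e * f c g h k 0 := by
  obtain ⟨t, ht⟩ := exists_coord_UP (n0_conj_UN hu)
  refine ⟨-t 7, -t 8, -t 9, -t 10, -t 11, ?_⟩
  rw [show f (-t 8) (-t 9) (-t 10) (-t 11) 0 = E 3 (-t 8) * E 2 (-t 9) * E 1 (-t 10) * E 0 (-t 11) by
    simp [f, E0 (show 5 < 12 by decide)]]
  apply (MulAut.conj (n0 F)).injective
  rw [MulAut.conj_apply, ht]
  simp only [map_mul, MulAut.conj_apply, n0_conj _ (show (4 : ℕ) < 12 by decide),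
    n0_conj _ (show (3 : ℕ) < 12 by decide), n0_conj _ (show (2 : ℕ) < 12 by decide),
    n0_conj _ (show (1 : ℕ) < 12 by decide), n0_conj _ (show (0 : ℕ) < 12 by decide), neg_neg]
  simp [prodX, upList, mul_assoc]

/-! ### Fixed points -/

/-- The roots of the centre part of the upper radical. -/
noncomputable def W (F : Type*) [Field F] : Subgroup (GL chevG2.Idx F) := gen chevG2 F {r | r ∈ [9, 10, 11]}

theorem conj_mem_W {r : ℕ} (hr : r = 7 ∨ r = 8) (t : F) {u : GL chevG2.Idx F} (hu : u ∈ W F) :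
    (E r t)⁻¹ * u * E r t ∈ W F := by
  have hd : ∀ r ∈ [7, 8], ∀ s ∈ [9, 10, 11], r < tabG2.n ∧ s < tabG2.n ∧ s ≠ r ∧ s ≠ tabG2.neg r ∧
      ∀ q ∈ tabG2.commTerms r s, q.1 ∈ [9, 10, 11] := by decide +kernel
  have hrm : r ∈ [7, 8] := by simpa using hr
  have hlt : r < tabG2.n := (hd r hrm 9 (by simp)).1
  rw [E_inv r hlt, show E r t = (E r (-t))⁻¹ from (inv_eq_iff_eq_inv.1 (E_inv r hlt t))]
  unfold W at hu ⊢
  induction hu using Subgroup.closure_induction with
  | mem x hx =>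
    obtain ⟨s, hs, u, rfl⟩ := hx
    obtain ⟨-, h2, h3, h4, h5⟩ := hd r hrm s hs
    exact certG2.X_conj_mem (S := {r | r ∈ [9, 10, 11]}) hlt h2 h3 h4 hs h5 _ _
  | one => simp [one_mem]
  | mul x y _ _ hx hy => rw [← conj_mul]; exact mul_mem hx hy
  | inv x _ hx => rw [← conj_inv]; exact inv_mem hx

/-- An irreducible element fixes no element other than `1` of the upper radical. -/
theorem comp_fix [Fintype F] {s : F} {d : Fˣ} (hd1 : (d : F) ≠ 1)
    (hirr : ∀ r : F, r * r - s * r + d ≠ 0) {u : GL chevG2.Idx F} (hu : u ∈ UP F)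
    (hc : Commute u (lam (wmat⁻¹ * dia 1 d * upp s))) : u = 1 := by
  obtain ⟨hsort, hpos, -, -⟩ := upList_ok
  obtain ⟨t, ht⟩ := exists_coord_UP hu
  set x := wmat⁻¹ * dia 1 d * upp s
  have hfix : MulAut.conj (lam x) u = u := by
    rw [MulAut.conj_apply, ← hc.eq, mul_inv_cancel_right]
  have hl : 1 < tabG2.l := by rw [tab_facts.2.1]; decide
  -- the three factors
  have hwi : ∀ {r q : ℕ} {ε : ℤ}, r < 12 → tabG2.refl 1 r = q → tabG2.eta 1 r = ε → ε * ε = 1 → ∀ a : F,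
      MulAut.conj (lam (wmat⁻¹ : GL (Fin 2) F)) (E q a) = E r ((ε : F) * a) := by
    intro r q ε hr hq he hε a
    rw [map_inv, lam_wmat, map_inv, MulAut.inv_apply, MulEquiv.symm_apply_eq, MulAut.conj_apply,
      certG2.nS_conj_X hl (lt_n hr), hq, he, ← mul_assoc, ← Int.cast_mul, hε, Int.cast_one, one_mul]
  have hdata : (tabG2.refl 1 8 = 7 ∧ tabG2.eta 1 8 = -1) ∧ (tabG2.refl 1 7 = 8 ∧ tabG2.eta 1 7 = 1) ∧
      (tabG2.refl 1 9 = 9 ∧ tabG2.eta 1 9 = 1) ∧ (tabG2.refl 1 11 = 10 ∧ tabG2.eta 1 11 = -1) ∧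
      (tabG2.refl 1 10 = 11 ∧ tabG2.eta 1 10 = 1) := by decide +kernel
  obtain ⟨⟨r8, e8⟩, ⟨r7, e7⟩, ⟨r9, e9⟩, ⟨r11, e11⟩, ⟨r10, e10⟩⟩ := hdata
  have hcar : tabG2.car 0 7 + tabG2.car 1 7 = 1 ∧ tabG2.car 0 8 + tabG2.car 1 8 = 0 ∧
      tabG2.car 0 9 + tabG2.car 1 9 = 1 ∧ tabG2.car 0 10 + tabG2.car 1 10 = 2 ∧
      tabG2.car 0 11 + tabG2.car 1 11 = 1 := by decide +kernel
  have hd : ∀ {r : ℕ}, r < 12 → ∀ a : F, MulAut.conj (lam (dia 1 d)) (E r a) =
      E r ((d : F) ^ (tabG2.car 0 r + tabG2.car 1 r) * a) := fun hr a => by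
    rw [MulAut.conj_apply, lam_dia_conj 1 d hr, zpow_add₀ d.ne_zero]
    simp
  have hu6 : MulAut.conj (lam (upp s)) = MulAut.conj (E 6 s) := by rw [lam_upp]
  have h67 : ∀ a : F, MulAut.conj (E 6 s) (E 7 a) =
      E 7 a * (E 8 (s * a) * (E 9 (s * a ^ 2) * (E 10 (-(s * a ^ 3)) * E 11 (-(2 * s ^ 2 * a ^ 3))))) := by
    intro a
    rw [MulAut.conj_apply, (show Pair 6 7 [(8, 1, 1, 1), (9, 1, 1, 2), (10, -1, 1, 3), (11, -2, 2, 3)] by
      decide +kernel).conj]
    simp [mul_assoc]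
  have h68 : ∀ a : F, MulAut.conj (E 6 s) (E 8 a) = E 8 a := fun a => by
    rw [MulAut.conj_apply, (show Pair 6 8 [] by decide +kernel).conj]; simp
  have h69 : ∀ a : F, MulAut.conj (E 6 s) (E 9 a) = E 9 a := fun a => by
    rw [MulAut.conj_apply, (show Pair 6 9 [] by decide +kernel).conj]; simp
  have h610 : ∀ a : F, MulAut.conj (E 6 s) (E 10 a) = E 10 a * E 11 (s * a) := fun a => by
    rw [MulAut.conj_apply, (show Pair 6 10 [(11, 1, 1, 1)] by decide +kernel).conj]; simp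
  have h611 : ∀ a : F, MulAut.conj (E 6 s) (E 11 a) = E 11 a := fun a => by
    rw [MulAut.conj_apply, (show Pair 6 11 [] by decide +kernel).conj]; simp
  have hx : ∀ v, MulAut.conj (lam x) v = MulAut.conj (lam (wmat⁻¹ : GL (Fin 2) F))
      (MulAut.conj (lam (dia 1 d)) (MulAut.conj (E 6 s) v)) := fun v => by
    simp only [x, map_mul, MulAut.mul_apply, hu6]
  obtain ⟨a, b, g, h, k, rfl⟩ : ∃ a b g h k : F, u = E 7 a * E 8 b * E 9 g * E 10 h * E 11 k :=
    ⟨t 7, t 8, t 9, t 10, t 11, by rw [ht]; simp [prodX, upList, mul_assoc]⟩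
  have hW : ∀ {r : ℕ}, r = 9 ∨ r = 10 ∨ r = 11 → ∀ a : F, E r a ∈ W F := fun hr a =>
    X_mem_gen chevG2 (S := {r | r ∈ [9, 10, 11]}) (by simpa using hr) a
  -- modulo the centre part
  have hmod : ∀ w : GL chevG2.Idx F, w ∈ W F → ∃ g h k : F, w = E 9 g * E 10 h * E 11 k := by
    intro w hw
    have hd : ([9, 10, 11] : List ℕ).SortedLT ∧ (∀ r ∈ [9, 10, 11], r ∈ upList) ∧
        ∀ r ∈ [9, 10, 11], ∀ s ∈ [9, 10, 11], ∀ q ∈ tabG2.commTerms r s, q.1 ∈ [9, 10, 11] := by decide +kernel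
    obtain ⟨t, ht⟩ := certG2.exists_prodX (F := F) [9, 10, 11] hd.1 (fun r hr => hpos r (hd.2.1 r hr))
      (fun r hr s hs _ q hq => hd.2.2 r hr s hs q hq) w hw
    exact ⟨t 9, t 10, t 11, by rw [ht]; simp [prodX, mul_assoc]⟩
  have hstage : ∃ g' h' k' : F, E 7 a * E 8 b * E 9 g * E 10 h * E 11 k =
      E 7 (s * a + b) * E 8 (-(d * a)) * E 9 g' * E 10 h' * E 11 k' := by
    suffices hh : ∃ g' h' k' : F, MulAut.conj (lam x) (E 7 a * E 8 b * E 9 g * E 10 h * E 11 k) =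
        E 7 (s * a + b) * E 8 (-(d * a)) * E 9 g' * E 10 h' * E 11 k' by
      obtain ⟨g', h', k', hh⟩ := hh
      exact ⟨g', h', k', hfix.symm.trans hh⟩
    rw [hx]
    simp only [map_mul, h67, h68, h69, h610, h611, hd (show 7 < 12 by decide), hd (show 8 < 12 by decide),
      hd (show 9 < 12 by decide), hd (show 10 < 12 by decide), hd (show 11 < 12 by decide), hcar,
      zpow_one, zpow_zero, zpow_ofNat, pow_one, pow_zero, hwi (show 8 < 12 by decide) r8 e8 rfl, hwi (show 7 < 12 by decide) r7 e7 rfl,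
      hwi (show 9 < 12 by decide) r9 e9 rfl, hwi (show 11 < 12 by decide) r11 e11 rfl,
      hwi (show 10 < 12 by decide) r10 e10 rfl, Int.cast_neg, Int.cast_one, neg_mul, one_mul]
    have m9 := hW (r := 9) (Or.inl rfl)
    have m10 := hW (r := 11) (Or.inr (Or.inr rfl))
    have m11 := hW (r := 10) (Or.inr (Or.inl rfl))
    generalize hw1 : E 9 ((d : F) * (s * a ^ 2)) * _ = w1
    have hm1 : w1 ∈ W F := by
      rw [← hw1]; exact mul_mem (m9 _) (mul_mem (m10 _) (m11 _))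
    simp only [mul_assoc]
    generalize hw2 : E 9 ((d : F) * g) * _ = w2
    have hm2 : w2 ∈ W F := by
      rw [← hw2]; exact mul_mem (m9 _) (mul_mem (m10 _) (mul_mem (m11 _) (m11 _)))
    obtain ⟨z, hz, e⟩ : ∃ z ∈ W F, E 8 (-((d : F) * a)) * (E 7 (s * a) * (w1 * (E 7 b * w2))) =
        E 7 (s * a + b) * (E 8 (-((d : F) * a)) * z) := by
      have h87 := (show Pair 8 7 [(9, 2, 1, 1), (11, 3, 2, 1), (10, -3, 1, 2)] by decide +kernel).swap_mul
        (-((d : F) * a)) (s * a + b)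
      generalize hP : (List.map (fun c : ℕ × ℤ × ℕ × ℕ =>
          E c.1 ((c.2.1 : F) * (-((d : F) * a)) ^ c.2.2.1 * (s * a + b) ^ c.2.2.2))
            [(9, 2, 1, 1), (11, 3, 2, 1), (10, -3, 1, 2)]).prod = P at h87
      have hPW : P ∈ W F := by
        rw [← hP]
        refine list_prod_mem fun y hy => ?_
        obtain ⟨z, hz, rfl⟩ := List.mem_map.1 hy
        simp only [List.mem_cons, List.not_mem_nil, or_false] at hz
        rcases hz with rfl | rfl | rfl <;> exact hW (by simp) _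
      refine ⟨(E 8 (-((d : F) * a)))⁻¹ * P * E 8 (-((d : F) * a)) * ((E 7 b)⁻¹ * w1 * E 7 b * w2),
        mul_mem (conj_mem_W (Or.inr rfl) _ hPW) (mul_mem (conj_mem_W (Or.inl rfl) _ hm1) hm2), ?_⟩
      calc E 8 (-((d : F) * a)) * (E 7 (s * a) * (w1 * (E 7 b * w2)))
          = E 8 (-((d : F) * a)) * (E 7 (s * a) * E 7 b) * ((E 7 b)⁻¹ * w1 * E 7 b * w2) := by group
        _ = _ := by rw [E_add 7 (lt_n (by decide)), h87]; group
    obtain ⟨g', h', k', rfl⟩ := hmod z hz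
    exact ⟨g', h', k', e.trans (by simp only [mul_assoc])⟩
  obtain ⟨g', h', k', he⟩ := hstage
  let t1 : ℕ → F := fun r => if r = 7 then a else if r = 8 then b else if r = 9 then g else if r = 10 then h else k
  let t2 : ℕ → F := fun r => if r = 7 then s * a + b else if r = 8 then -((d : F) * a)
    else if r = 9 then g' else if r = 10 then h' else k'
  have hinj := certG2.prodX_inj upList hsort hpos t1 t2 (by
    simp [prodX, upList, t1, t2, ← mul_assoc, he])
  have ha := hinj 7 (by simp [upList])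
  have hb := hinj 8 (by simp [upList])
  simp [t1, t2] at ha hb
  have ha0 : a = 0 := by
    have : (1 * 1 - s * 1 + (d : F)) * a = 0 := by linear_combination ha + hb
    exact (mul_eq_zero.1 this).resolve_left (hirr 1)
  have hb0 : b = 0 := by rw [hb, ha0]; simp
  subst ha0 hb0
  have h2 : E 9 g * E 10 h * E 11 k = E 9 ((d : F) * g) * E 10 ((d : F) * (s * h) + (d : F) * k) *
      E 11 (-((d : F) ^ 2 * h)) := by
    simp only [E0 (show 7 < 12 by decide), E0 (show 8 < 12 by decide), one_mul] at hfix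
    conv_lhs => rw [← hfix]
    rw [hx]
    simp only [map_mul, h69, h610, h611, hd (show 9 < 12 by decide), hd (show 10 < 12 by decide),
      hd (show 11 < 12 by decide), hcar, zpow_one, zpow_ofNat, pow_one, hwi (show 9 < 12 by decide) r9 e9 rfl,
      hwi (show 11 < 12 by decide) r11 e11 rfl, hwi (show 10 < 12 by decide) r10 e10 rfl, Int.cast_neg,
      Int.cast_one, neg_mul, one_mul]
    simp only [mul_assoc]
    rw [E_add 10 (lt_n (by decide)), (show Pair 11 10 [] by decide +kernel).comm]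
  let t3 : ℕ → F := fun r => if r = 9 then (d : F) * g else if r = 10 then (d : F) * (s * h) + (d : F) * k
    else if r = 11 then -((d : F) ^ 2 * h) else 0
  have hinj' := certG2.prodX_inj upList hsort hpos t1 t3 (by
    simp [prodX, upList, t1, t3, E0 (show 7 < 12 by decide), E0 (show 8 < 12 by decide), ← mul_assoc, h2])
  have hg := hinj' 9 (by simp [upList])
  have hh := hinj' 10 (by simp [upList])
  have hk := hinj' 11 (by simp [upList])
  simp [t1, t3] at hg hh hk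
  have hg0 : g = 0 := by
    have : ((d : F) - 1) * g = 0 := by linear_combination -hg
    exact (mul_eq_zero.1 this).resolve_left (sub_ne_zero.2 hd1)
  have hh0 : h = 0 := by
    have : ((d : F) ^ 2 * (d : F) ^ 2 - s * (d : F) ^ 2 + d) * h = 0 := by
      linear_combination (d : F) * hh + (d : F) ^ 2 * hk
    exact (mul_eq_zero.1 this).resolve_left (hirr ((d : F) ^ 2))
  have hk0 : k = 0 := by rw [hk, hh0]; simp
  subst hg0 hh0 hk0
  simp [E0 (show 7 < 12 by decide), E0 (show 8 < 12 by decide), E0 (show 9 < 12 by decide),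
    E0 (show 10 < 12 by decide), E0 (show 11 < 12 by decide)]

end CfsgLib.ClassSquare.GTwo
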