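import Cfsg.Agent.Lib.ClassSquare.Graded

/-!
The projective special linear groups over fields with at least six elements.
-/

set_option autoImplicit false
set_option linter.unusedSectionVars false

namespace CfsgLib.ClassSquare

open Matrix

variable {F : Type*} [Field F] {k : ℕ}

/-- An element of the special linear group. -/
def mkSL (M : Matrix (Fin k) (Fin k) F) (h : M.det = 1) : Matrix.SpecialLinearGroup (Fin k) F := ⟨M, h⟩

@[simp] theorem coe_mkSL (M : Matrix (Fin k) (Fin k) F) (h : M.det = 1) :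
    (mkSL M h : Matrix (Fin k) (Fin k) F) = M := rfl

@[simp] theorem one_ne_succ_succ (i : Fin k) : (1 : Fin (k + 2)) ≠ i.succ.succ := by
  rw [← Fin.succ_zero_eq_one]; exact fun e => Fin.succ_ne_zero i (Fin.succ_injective _ e).symm

@[simp] theorem succ_succ_ne_one (i : Fin k) : i.succ.succ ≠ (1 : Fin (k + 2)) := (one_ne_succ_succ i).symm

theorem exists_ne_zero_one_neg_one [Fintype F] (hF : 6 ≤ Fintype.card F) :
    ∃ a : F, a ≠ 0 ∧ a * a ≠ 1 := by
  classical
  obtain ⟨a, ha⟩ : ∃ a : F, a ∉ ({0, 1, -1} : Finset F) := by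
    by_contra hall
    push Not at hall
    have := Finset.card_le_card (fun x _ => hall x : (Finset.univ : Finset F) ⊆ {0, 1, -1})
    rw [Finset.card_univ] at this
    have := Finset.card_le_three (a := (0 : F)) (b := 1) (c := -1)
    omega
  simp only [Finset.mem_insert, Finset.mem_singleton, not_or] at ha
  exact ⟨a, ha.1, fun h => by
    rcases mul_self_eq_one_iff.1 h with e | e
    · exact ha.2.1 e
    · exact ha.2.2 e⟩

@[simp] theorem blk_succ_one (a : F) (n m : Fin (k + 1) → F) (D : Matrix (Fin (k + 1)) (Fin (k + 1)) F)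
    (i : Fin (k + 1)) : blk a n m D i.succ 1 = D i 0 := by rw [← Fin.succ_zero_eq_one, blk_succ_succ]

@[simp] theorem blk_zero_one (a : F) (n m : Fin (k + 1) → F) (D : Matrix (Fin (k + 1)) (Fin (k + 1)) F) :
    blk a n m D 0 1 = n 0 := by rw [← Fin.succ_zero_eq_one, blk_zero_succ]

@[simp] theorem blk_one_one (a : F) (n m : Fin (k + 1) → F) (D : Matrix (Fin (k + 1)) (Fin (k + 1)) F) :
    blk a n m D 1 1 = D 0 0 := by rw [← Fin.succ_zero_eq_one, blk_succ_succ]

/-- A block diagonal element of `GL`. -/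
def blkGL (d : Fˣ) (Q : GL (Fin k) F) : GL (Fin (k + 1)) F :=
  ⟨blk (d : F) 0 0 (Q : Matrix (Fin k) (Fin k) F),
    blk ((d⁻¹ : Fˣ) : F) 0 0 ((Q⁻¹ : GL (Fin k) F) : Matrix (Fin k) (Fin k) F),
    by rw [blk_mul]; simp [← blk_one, ← Units.val_mul],
    by rw [blk_mul]; simp [← blk_one, ← Units.val_mul]⟩

@[simp] theorem coe_blkGL (d : Fˣ) (Q : GL (Fin k) F) :
    (blkGL d Q : Matrix (Fin (k + 1)) (Fin (k + 1)) F) = blk (d : F) 0 0 (Q : Matrix (Fin k) (Fin k) F) := rfl

@[simp] theorem coe_blkGL_inv (d : Fˣ) (Q : GL (Fin k) F) :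
    (((blkGL d Q)⁻¹ : GL (Fin (k + 1)) F) : Matrix (Fin (k + 1)) (Fin (k + 1)) F) =
      blk ((d⁻¹ : Fˣ) : F) 0 0 ((Q⁻¹ : GL (Fin k) F) : Matrix (Fin k) (Fin k) F) := rfl

theorem det_blkGL (d : Fˣ) (Q : GL (Fin k) F) :
    (blkGL d Q : Matrix (Fin (k + 1)) (Fin (k + 1)) F).det = d * (Q : Matrix (Fin k) (Fin k) F).det := by
  rw [coe_blkGL, det_blk_zero_row]

theorem blk_diag_mul (a b : F) (D E : Matrix (Fin k) (Fin k) F) :
    blk a 0 0 D * blk b 0 0 E = blk (a * b) 0 0 (D * E) := by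
  rw [blk_mul]; simp

theorem cj_blkGL (d : Fˣ) (Q : GL (Fin k) F) (a : F) (n m : Fin k → F) (D : Matrix (Fin k) (Fin k) F) :
    cj (blkGL d Q) (blk a n m D) = blk a (((d⁻¹ : Fˣ) : F) • (n ᵥ* (Q : Matrix (Fin k) (Fin k) F)))
      ((d : F) • (((Q⁻¹ : GL (Fin k) F) : Matrix (Fin k) (Fin k) F) *ᵥ m)) (cj Q D) := by
  rw [cj, coe_blkGL, coe_blkGL_inv, blk_mul, blk_mul, blk_inj]
  refine ⟨?_, ?_, ?_, ?_⟩
  · simp
    field_simp
  · simp [Matrix.smul_vecMul]
  · simp [Matrix.mulVec_zero]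
  · simp [ClassSquare.cj]

theorem inv_smul_one {c : F} (hc : c ≠ 0) {Y Yi : Matrix (Fin k) (Fin k) F} (h : Yi * Y = 1)
    (e : Yi = c • 1) : Y = c⁻¹ • 1 := by
  rw [e, Matrix.smul_mul, Matrix.one_mul] at h
  rw [← h, smul_smul, inv_mul_cancel₀ hc, one_smul]

/-- Prescribe the last torus entry. -/
theorem inner_step (Y : Matrix (Fin (k + 1)) (Fin (k + 1)) F) {β : F} (hβ : β ≠ 0) (hd : Y.det = β)
    (hY : 1 ≤ k → Nonscalar Y) :
    ∃ (Q : GL (Fin (k + 1)) F) (n m : Fin k → F) (x : Matrix (Fin k) (Fin k) F), x.det = 1 ∧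
      (x = 1 ∨ Nonscalar x) ∧ cj Q Y = blk 1 n 0 1 * blk β 0 0 x * blk 1 0 m 1 := by
  cases k with
  | zero =>
    refine ⟨1, 0, 0, 1, det_one, Or.inl rfl, ?_⟩
    rw [Matrix.det_fin_one] at hd
    rw [blk_one, mul_one, one_mul]
    ext i j
    simp [cj, Fin.fin_one_eq_zero i, Fin.fin_one_eq_zero j, hd]
  | succ k =>
    set Yi := Y⁻¹ with hYi
    have hu : IsUnit Y.det := isUnit_iff_ne_zero.2 (hd ▸ hβ)
    have hm1 : Yi * Y = 1 := Matrix.nonsing_inv_mul Y hu
    have hdi : Yi.det = β⁻¹ := by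
      have := congrArg Matrix.det hm1
      rw [Matrix.det_mul, hd, Matrix.det_one] at this
      exact eq_inv_of_mul_eq_one_left this
    have hns : Nonscalar Yi := fun c e => by
      have hc : c ≠ 0 := fun h0 => by
        rw [e, h0, zero_smul, Matrix.zero_mul] at hm1
        exact zero_ne_one (congrFun (congrFun hm1 0) 0 |>.trans (Matrix.one_apply_eq 0))
      exact hY (by omega) c⁻¹ (inv_smul_one hc hm1 e)
    obtain ⟨Q, n, m, Z, hQ, hdZ, hZ⟩ := peel hns (hdi ▸ inv_ne_zero hβ) (inv_ne_zero hβ)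
    rw [hdi, div_self (inv_ne_zero hβ)] at hdZ
    have hZu : IsUnit Z.det := by rw [hdZ]; exact isUnit_one
    refine ⟨Q, -n, -m, Z⁻¹, by rw [Matrix.det_nonsing_inv, hdZ, Ring.inverse_one], ?_, ?_⟩
    · cases k with
      | zero =>
        left
        rw [show Z = 1 by
          rw [Matrix.det_fin_one] at hdZ
          ext i j; simp [Fin.fin_one_eq_zero i, Fin.fin_one_eq_zero j, hdZ, Matrix.one_apply]]
        simp
      | succ k =>
        right
        intro c e
        have hc : c ≠ 0 := fun h0 => by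
          have := Matrix.nonsing_inv_mul Z hZu
          rw [e, h0, zero_smul, Matrix.zero_mul] at this
          exact zero_ne_one (congrFun (congrFun this 0) 0 |>.trans (Matrix.one_apply_eq 0))
        exact hZ (by omega) c⁻¹ (inv_smul_one hc (Matrix.nonsing_inv_mul Z hZu) e)
    · have e1 : cj Q Yi * cj Q Y = 1 := by rw [← cj_mul, hm1, cj_one]
      have e2 : blk 1 (-n) 0 1 * blk β 0 0 Z⁻¹ * blk 1 0 (-m) 1 * cj Q Yi = 1 := by
        rw [hQ]
        have a1 : blk 1 0 (-m) 1 * blk 1 0 m 1 = (1 : Matrix (Fin (k + 2)) (Fin (k + 2)) F) := by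
          rw [blk_mul]; simp [blk_one]
        have a2 : blk 1 (-n) 0 1 * blk 1 n 0 1 = (1 : Matrix (Fin (k + 2)) (Fin (k + 2)) F) := by
          rw [blk_mul]; simp [blk_one]
        have a3 : blk β 0 0 Z⁻¹ * blk β⁻¹ 0 0 Z = (1 : Matrix (Fin (k + 2)) (Fin (k + 2)) F) := by
          rw [blk_diag_mul, mul_inv_cancel₀ hβ, Matrix.nonsing_inv_mul Z hZu, blk_one]
        calc blk 1 (-n) 0 1 * blk β 0 0 Z⁻¹ * blk 1 0 (-m) 1 * (blk 1 0 m 1 * blk β⁻¹ 0 0 Z * blk 1 n 0 1)
            = blk 1 (-n) 0 1 * (blk β 0 0 Z⁻¹ * ((blk 1 0 (-m) 1 * blk 1 0 m 1) * blk β⁻¹ 0 0 Z)) * blk 1 n 0 1 := by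
              simp only [Matrix.mul_assoc]
          _ = 1 := by rw [a1, Matrix.one_mul, a3, Matrix.mul_one, a2]
      exact (left_inv_eq_right_inv e2 e1).symm

/-- The grading. -/
def linWt (k : ℕ) : Fin (k + 2) → ℤ := Fin.cons 1 (Fin.cons (-1) 0)

theorem class_sq_psl [Fintype F] (hF : 6 ≤ Fintype.card F) (k : ℕ) :
    ∃ c : Matrix.ProjectiveSpecialLinearGroup (Fin (k + 2)) F, ∀ g, ∃ x y, g = (x * c * x⁻¹) * (y * c * y⁻¹) := by
  classical
  obtain ⟨a, ha, ha2⟩ := exists_ne_zero_one_neg_one hF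
  have hane : a ≠ a⁻¹ := fun e => ha2 (by nth_rw 2 [e]; exact mul_inv_cancel₀ ha)
  have ha1 : a ≠ 1 := fun e => ha2 (by rw [e, one_mul])
  have hai1 : a⁻¹ ≠ 1 := fun e => ha1 (inv_eq_one.1 e)
  let π := QuotientGroup.mk' (Subgroup.center (Matrix.SpecialLinearGroup (Fin (k + 2)) F))
  let ψ : (Unit → Matrix.SpecialLinearGroup (Fin k) F) →* Matrix.SpecialLinearGroup (Fin (k + 2)) F :=
    { toFun := fun x => mkSL (blk 1 0 0 (blk 1 0 0 (x () : Matrix (Fin k) (Fin k) F))) (by
        rw [det_blk_zero_row, det_blk_zero_row, (x ()).2, mul_one, mul_one])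
      map_one' := Subtype.ext (by simp [blk_one])
      map_mul' := fun x y => Subtype.ext (by rw [Matrix.SpecialLinearGroup.coe_mul]; simp [blk_diag_mul]) }
  let h : Matrix.SpecialLinearGroup (Fin (k + 2)) F := mkSL (blk a 0 0 (blk a⁻¹ 0 0 1)) (by
    rw [det_blk_zero_row, det_blk_zero_row, det_one, mul_one, mul_inv_cancel₀ ha])
  let ρ : Matrix.SpecialLinearGroup (Fin (k + 2)) F →* GL (Fin (k + 2)) F := Matrix.SpecialLinearGroup.toGL
  have hρ : ∀ g, (ρ g : Matrix (Fin (k + 2)) (Fin (k + 2)) F) = g := fun g => rfl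
  let d : Fin (k + 2) → F := Fin.cons a (Fin.cons a⁻¹ 1)
  have hd : (ρ h : Matrix (Fin (k + 2)) (Fin (k + 2)) F) = Matrix.diagonal d := by
    rw [hρ]
    ext i j
    cases i using Fin.cases with
    | zero => cases j using Fin.cases <;> simp [h, d, (Fin.succ_ne_zero _).symm]
    | succ i =>
      cases j using Fin.cases with
      | zero => simp [h, Fin.succ_ne_zero]
      | succ j =>
        cases i using Fin.cases <;> cases j using Fin.cases <;>
          simp [h, d, Matrix.diagonal_apply, Matrix.one_apply, (Fin.succ_ne_zero _).symm, Fin.succ_ne_zero]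
  have hgr : ∀ (b : F) (D : Matrix (Fin k) (Fin k) F) (c : F),
      Graded (linWt k) (blk b 0 0 (blk c 0 0 D)) := fun b D c i j hij => by
    cases i using Fin.cases with
    | zero => cases j using Fin.cases <;> simp [linWt] at hij ⊢
    | succ i =>
      cases j using Fin.cases with
      | zero => simp at hij
      | succ j => cases i using Fin.cases <;> cases j using Fin.cases <;> simp [linWt] at hij ⊢
  refine class_sq_of_graded hF π (QuotientGroup.mk'_surjective _) ρ Matrix.SpecialLinearGroup.toGL_injective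
    ψ h (linWt k) d hd ?_ ?_ (fun x => hgr _ _ _) ?_ ?_ ?_
  · intro i j hij
    cases i using Fin.cases with
    | zero =>
      cases j using Fin.cases with
      | zero => rfl
      | succ j => cases j using Fin.cases <;> simp [linWt] at hij
    | succ i =>
      cases j using Fin.cases with
      | zero => cases i using Fin.cases <;> simp [linWt] at hij
      | succ j => cases i using Fin.cases <;> cases j using Fin.cases <;> simp [linWt, d] at hij ⊢
  · intro i j hij
    cases i using Fin.cases with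
    | zero =>
      cases j using Fin.cases with
      | zero => simp at hij
      | succ j => cases j using Fin.cases <;> simp [linWt, d] at hij ⊢ <;> assumption
    | succ i =>
      cases j using Fin.cases with
      | zero => cases i using Fin.cases <;> simp [linWt, d] at hij ⊢ <;>
          first | exact hane.symm | exact ha1.symm
      | succ j => cases i using Fin.cases <;> cases j using Fin.cases <;> simp [linWt, d] at hij ⊢ <;>
          first | assumption | exact hai1.symm | exact ha1.symm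
  · intro e
    rcases Nat.eq_zero_or_pos k with hk | hk
    · refine ⟨1, ?_, fun _ => 1, fun _ h0 => absurd hk h0, fun x y hxy => ?_⟩
      · rw [map_one]; exact graded_one _
      · rw [one_mul, inv_one, mul_one]
        congr 1
        funext i
        exact Subtype.ext (by rw [hxy i]; simp [cj])
    obtain ⟨k', rfl⟩ : ∃ k', k = k' + 1 := ⟨k - 1, by omega⟩
    let D : GL (Fin (k' + 1)) F := blkGL (e ()) 1
    have hD : (D : Matrix (Fin (k' + 1)) (Fin (k' + 1)) F).det = e () := by simp [D, det_blk_zero_row]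
    let T : GL (Fin (k' + 3)) F := blkGL (e ()) (blkGL 1 D⁻¹)
    have hT : (T : Matrix (Fin (k' + 3)) (Fin (k' + 3)) F).det = 1 := by
      simp only [T, det_blkGL, Matrix.coe_units_inv, Matrix.det_nonsing_inv, hD, Units.val_one, one_mul,
        Ring.inverse_eq_inv']
      exact mul_inv_cancel₀ (e ()).ne_zero
    refine ⟨mkSL T hT, hgr _ _ _, fun _ => D, fun _ _ => hD, fun x y hxy => ?_⟩
    rw [mul_inv_eq_iff_eq_mul]
    refine Subtype.ext ?_
    rw [Matrix.SpecialLinearGroup.coe_mul, Matrix.SpecialLinearGroup.coe_mul]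
    show (T : Matrix (Fin (k' + 3)) (Fin (k' + 3)) F) * blk 1 0 0 (blk 1 0 0 (x () : Matrix _ _ F)) =
      blk 1 0 0 (blk 1 0 0 (y () : Matrix _ _ F)) * (T : Matrix (Fin (k' + 3)) (Fin (k' + 3)) F)
    rw [hxy (), coe_blkGL, coe_blkGL]
    simp only [blk_diag_mul, cj, Units.val_one, mul_one, one_mul, Matrix.mul_assoc, Units.mul_inv,
      Matrix.mul_one]
  · intro g hg
    have hns : Nonscalar (g : Matrix (Fin (k + 2)) (Fin (k + 2)) F) := fun c e => hg (by
      show π g = 1
      rw [QuotientGroup.mk'_apply, QuotientGroup.eq_one_iff, Matrix.SpecialLinearGroup.mem_center_iff]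
      refine ⟨c, ?_, by rw [e, Matrix.scalar_apply, smul_one_eq_diagonal]⟩
      have := g.2
      rwa [e, Matrix.det_smul, Matrix.det_one, mul_one] at this)
    obtain ⟨P, n, m, Y, hP, hdY, hY⟩ := peel hns (by rw [g.2]; exact one_ne_zero) (mul_ne_zero ha ha)
    rw [g.2] at hdY
    have hβ : (a⁻¹ * a⁻¹ : F) ≠ 0 := mul_ne_zero (inv_ne_zero ha) (inv_ne_zero ha)
    obtain ⟨Q, n', m', x, hx, hx', hQ⟩ := inner_step Y hβ (by rw [hdY]; field_simp) hY
    let e0 : Fˣ := (Units.mk0 ((P : Matrix (Fin (k + 2)) (Fin (k + 2)) F).det * (Q : Matrix (Fin (k + 1)) (Fin (k + 1)) F).det)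
      (mul_ne_zero (det_units_ne P) (det_units_ne Q)))⁻¹
    let R : GL (Fin (k + 2)) F := P * blkGL e0 Q
    have hR : (R : Matrix (Fin (k + 2)) (Fin (k + 2)) F).det = 1 := by
      simp only [R, Units.val_mul, Matrix.det_mul, det_blkGL, e0, Units.val_inv_eq_inv_val, Units.val_mk0]
      have := det_units_ne P
      have := det_units_ne Q
      field_simp
    set m1 := (e0 : F) • (((Q⁻¹ : GL (Fin (k + 1)) F) : Matrix (Fin (k + 1)) (Fin (k + 1)) F) *ᵥ m)
    set n1 := ((e0⁻¹ : Fˣ) : F) • (n ᵥ* (Q : Matrix (Fin (k + 1)) (Fin (k + 1)) F))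
    let u : Matrix.SpecialLinearGroup (Fin (k + 2)) F := mkSL (blk 1 0 m1 1 * blk 1 0 0 (blk 1 n' 0 1)) (by
      simp [det_blk_zero_row, det_blk_zero_col])
    let v : Matrix.SpecialLinearGroup (Fin (k + 2)) F := mkSL (blk 1 0 0 (blk 1 0 m' 1) * blk 1 n1 0 1) (by
      simp [det_blk_zero_row, det_blk_zero_col])
    refine ⟨u, v, ?_, ?_, fun _ => ⟨x, hx⟩, fun _ => hx', ?_⟩
    · rw [mem_rad]
      intro i j hij
      rw [hρ] at hij
      simp only [u, coe_mkSL, blk_mul, zero_dotProduct, dotProduct_zero, mul_one, one_mul, add_zero,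
        one_smul, smul_zero, Matrix.zero_vecMul, Matrix.mulVec_zero, zero_add, Matrix.zero_vecMulVec,
        Matrix.vecMulVec_zero, Matrix.one_mul, Matrix.mul_one, Matrix.one_mulVec, Matrix.vecMul_one,
        Matrix.sub_apply] at hij
      cases i using Fin.cases with
      | zero => cases j using Fin.cases <;> simp [Matrix.one_apply, (Fin.succ_ne_zero _).symm] at hij
      | succ i =>
        cases j using Fin.cases with
        | zero => cases i using Fin.cases <;> simp [linWt] at hij ⊢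
        | succ j => cases i using Fin.cases <;> cases j using Fin.cases <;> simp [linWt, Matrix.one_apply, Fin.succ_ne_zero] at hij ⊢
    · rw [mem_rad]
      intro i j hij
      rw [hρ] at hij
      simp only [v, coe_mkSL, blk_mul, zero_dotProduct, dotProduct_zero, mul_one, one_mul, add_zero,
        one_smul, smul_zero, Matrix.zero_vecMul, Matrix.mulVec_zero, zero_add, Matrix.zero_vecMulVec,
        Matrix.vecMulVec_zero, Matrix.one_mul, Matrix.mul_one, Matrix.one_mulVec, Matrix.vecMul_one,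
        Matrix.sub_apply] at hij
      cases i using Fin.cases with
      | zero => cases j using Fin.cases with
        | zero => simp [Matrix.one_apply, Fin.succ_ne_zero] at hij
        | succ j => cases j using Fin.cases <;> simp [linWt] at hij ⊢
      | succ i =>
        cases j using Fin.cases with
        | zero => simp [Matrix.one_apply, Fin.succ_ne_zero] at hij
        | succ j => cases i using Fin.cases <;> cases j using Fin.cases <;> simp [linWt, Matrix.one_apply, Fin.succ_ne_zero] at hij ⊢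
    · refine isConj_iff.2 ⟨mkSL ((R⁻¹ : GL (Fin (k + 2)) F) : Matrix (Fin (k + 2)) (Fin (k + 2)) F) ?_, ?_⟩
      · rw [Matrix.coe_units_inv, Matrix.det_nonsing_inv, hR, Ring.inverse_one]
      rw [mul_inv_eq_iff_eq_mul]
      refine Subtype.ext ?_
      simp only [Matrix.SpecialLinearGroup.coe_mul]
      show ((R⁻¹ : GL (Fin (k + 2)) F) : Matrix (Fin (k + 2)) (Fin (k + 2)) F) * (g : Matrix (Fin (k + 2)) (Fin (k + 2)) F) =
        blk 1 0 m1 1 * blk 1 0 0 (blk 1 n' 0 1) * ((blk a 0 0 (blk a⁻¹ 0 0 1) * blk a 0 0 (blk a⁻¹ 0 0 1)) *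
        blk 1 0 0 (blk 1 0 0 x)) * (blk 1 0 0 (blk 1 0 m' 1) * blk 1 n1 0 1) *
          ((R⁻¹ : GL (Fin (k + 2)) F) : Matrix (Fin (k + 2)) (Fin (k + 2)) F)
      have key : cj R (g : Matrix (Fin (k + 2)) (Fin (k + 2)) F) =
          blk 1 0 m1 1 * blk (a * a) 0 0 (blk 1 n' 0 1 * blk (a⁻¹ * a⁻¹) 0 0 x * blk 1 0 m' 1) * blk 1 n1 0 1 := by
        rw [← cj_cj, hP, cj_mul, cj_mul, cj_blkGL, cj_blkGL, cj_blkGL, hQ]
        simp only [Matrix.zero_vecMul, Matrix.mulVec_zero, smul_zero, cj_one]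
        rfl
      rw [blk_diag_mul a a, blk_diag_mul a⁻¹ a⁻¹, blk_diag_mul (a * a) 1, blk_diag_mul (a⁻¹ * a⁻¹) 1]
      rw [← Units.mul_inv_cancel_right (g : Matrix (Fin (k + 2)) (Fin (k + 2)) F) R, ← Matrix.mul_assoc,
        ← Matrix.mul_assoc]
      congr 1
      show cj R (g : Matrix (Fin (k + 2)) (Fin (k + 2)) F) = _
      rw [key]
      simp only [mul_one, one_mul, Matrix.mul_assoc]
      congr 1
      simp only [← Matrix.mul_assoc, blk_diag_mul, mul_one, one_mul]
  · intro x hx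
    refine ⟨x⁻¹, fun i => (hx i).inv ?_, ?_⟩
    · rw [← Matrix.SpecialLinearGroup.coe_mul, Pi.inv_apply, inv_mul_cancel]; rfl
    rw [← map_inv]
    refine π.map_isConj (isConj_iff.2 ⟨mkSL (Matrix.of (Fin.cons (Fin.cons 0 (Fin.cons 1 0))
      (Fin.cons (Fin.cons (-1) 0) fun i => Fin.cons 0 (Fin.cons 0 ((1 : Matrix (Fin k) (Fin k) F) i))))) ?_, ?_⟩)
    · rw [Matrix.det_succ_row_zero, Fin.sum_univ_succ, Fin.sum_univ_succ]
      simp [Fin.succAbove, Matrix.submatrix, Finset.sum_eq_zero]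
      rw [show (Matrix.of fun i j : Fin (k + 1) => _) = blk (-1 : F) 0 0 (1 : Matrix (Fin k) (Fin k) F) from ?_,
        det_blk_zero_row, det_one]
      · simp
      · ext i j
        cases i using Fin.cases <;> cases j using Fin.cases <;> simp [Fin.succ_ne_zero, Fin.lt_def]
    · rw [mul_inv_eq_iff_eq_mul]
      have hi : (h * ψ x)⁻¹ = ψ x⁻¹ * h⁻¹ := by rw [_root_.mul_inv_rev, map_inv]
      have hh : h⁻¹ = mkSL (blk a⁻¹ 0 0 (blk a 0 0 1)) (by
          rw [det_blk_zero_row, det_blk_zero_row, det_one, mul_one, inv_mul_cancel₀ ha]) := by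
        refine inv_eq_of_mul_eq_one_right (Subtype.ext ?_)
        show blk a 0 0 (blk a⁻¹ 0 0 1) * blk a⁻¹ 0 0 (blk a 0 0 1) = 1
        rw [blk_diag_mul, blk_diag_mul, mul_inv_cancel₀ ha, inv_mul_cancel₀ ha, mul_one, blk_one, blk_one]
      rw [hi, hh]
      refine Subtype.ext ?_
      simp only [Matrix.SpecialLinearGroup.coe_mul]
      show _ * (blk 1 0 0 (blk 1 0 0 _) * blk a⁻¹ 0 0 (blk a 0 0 1)) =
        blk a 0 0 (blk a⁻¹ 0 0 1) * blk 1 0 0 (blk 1 0 0 _) * _
      rw [blk_diag_mul, blk_diag_mul, blk_diag_mul, blk_diag_mul]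
      simp only [one_mul, mul_one]
      ext i j
      cases i using Fin.cases with
      | zero => cases j using Fin.cases with
        | zero => simp [Matrix.mul_apply, Fin.sum_univ_succ]
        | succ j => cases j using Fin.cases <;> simp [Matrix.mul_apply, Fin.sum_univ_succ]
      | succ i =>
        cases j using Fin.cases with
        | zero => cases i using Fin.cases <;> simp [Matrix.mul_apply, Fin.sum_univ_succ]
        | succ j => cases i using Fin.cases <;> cases j using Fin.cases <;>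
            simp [Matrix.mul_apply, Fin.sum_univ_succ, Matrix.one_apply, Finset.sum_ite_eq, Finset.sum_ite_eq']

end CfsgLib.ClassSquare
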