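import Cfsg.Agent.Lib.ClassSquare.Symplectic
import Cfsg.Agent.Lib.Classical.OmegaPlus

/-!
Auxiliary facts about orthogonal groups in coordinates.
-/

set_option autoImplicit false
set_option linter.unusedSectionVars false

namespace CfsgLib.ClassSquare

open Matrix

variable {F : Type*} [Field F]

/-- Alternating matrices. -/
def IsAlt {m : ℕ} (M : Matrix (Fin m) (Fin m) F) : Prop := ∀ x : Fin m → F, x ⬝ᵥ (M *ᵥ x) = 0

theorem IsAlt.diag {m : ℕ} {M : Matrix (Fin m) (Fin m) F} (h : IsAlt M) (i : Fin m) : M i i = 0 := by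
  simpa using h (Pi.single i 1)

theorem IsAlt.anti {m : ℕ} {M : Matrix (Fin m) (Fin m) F} (h : IsAlt M) (i j : Fin m) : M j i = -M i j := by
  have e := h (Pi.single i 1 + Pi.single j 1)
  simp [Matrix.mulVec_add, add_dotProduct, dotProduct_add, h.diag] at e
  linear_combination e

theorem IsAlt.transpose_eq {m : ℕ} {M : Matrix (Fin m) (Fin m) F} (h : IsAlt M) : Mᵀ = -M := by
  ext i j; exact h.anti i j

theorem IsAlt.congr {m : ℕ} {M : Matrix (Fin m) (Fin m) F} (h : IsAlt M) (P : Matrix (Fin m) (Fin m) F) :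
    IsAlt (Pᵀ * M * P) := fun x => by
  rw [← Matrix.mulVec_mulVec, ← Matrix.mulVec_mulVec, Matrix.dotProduct_mulVec, Matrix.vecMul_transpose]
  exact h _

theorem IsAlt.neg {m : ℕ} {M : Matrix (Fin m) (Fin m) F} (h : IsAlt M) : IsAlt (-M) := fun x => by
  rw [Matrix.neg_mulVec, dotProduct_neg, h x, neg_zero]

theorem IsAlt.smul {m : ℕ} {M : Matrix (Fin m) (Fin m) F} (h : IsAlt M) (c : F) : IsAlt (c • M) := fun x => by
  rw [Matrix.smul_mulVec, dotProduct_smul, h x, smul_zero]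

theorem isAlt_pair {m : ℕ} (y z : Fin m → F) : IsAlt (vecMulVec y z - vecMulVec z y) := fun x => by
  rw [Matrix.sub_mulVec, Matrix.vecMulVec_mulVec, Matrix.vecMulVec_mulVec, op_smul_eq_smul, op_smul_eq_smul,
    dotProduct_sub, dotProduct_smul, dotProduct_smul, smul_eq_mul, smul_eq_mul, dotProduct_comm x y,
    dotProduct_comm x z]
  ring

theorem IsAlt.row_dot {m : ℕ} {M : Matrix (Fin m) (Fin m) F} (h : IsAlt M) (y : Fin m → F) :
    (y ᵥ* M) ⬝ᵥ y = 0 := by rw [← Matrix.dotProduct_mulVec]; exact h y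

theorem IsAlt.row_swap {m : ℕ} {M : Matrix (Fin m) (Fin m) F} (h : IsAlt M) (y z : Fin m → F) :
    (y ᵥ* M) ⬝ᵥ z = -((z ᵥ* M) ⬝ᵥ y) := by
  rw [← Matrix.dotProduct_mulVec z, dotProduct_comm z, ← Matrix.vecMul_transpose, h.transpose_eq,
    Matrix.vecMul_neg, neg_dotProduct]
  simp [Matrix.dotProduct_mulVec, dotProduct_comm]

theorem exists_alt_det {m : ℕ} {M : Matrix (Fin m) (Fin m) F} (hM : IsAlt M) (h0 : M ≠ 0) (r : F) :
    ∃ S : Matrix (Fin m) (Fin m) F, IsAlt S ∧ (1 + S * M).det = r * r := by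
  obtain ⟨i, j, hij⟩ : ∃ i j, M i j ≠ 0 := by
    by_contra hc
    push Not at hc
    exact h0 (by ext i j; exact hc i j)
  set z : Fin m → F := Pi.single i 1
  set y : Fin m → F := Pi.single j 1
  have hμ : (z ᵥ* M) ⬝ᵥ y = M i j := by simp [z, y, dotProduct_single]
  refine ⟨((r - 1) / M i j) • (vecMulVec y z - vecMulVec z y), (isAlt_pair y z).smul _, ?_⟩
  rw [Matrix.smul_mul, Matrix.sub_mul, Matrix.vecMulVec_mul, Matrix.vecMulVec_mul, smul_sub,
    ← Matrix.smul_vecMulVec, ← Matrix.smul_vecMulVec, sub_eq_add_neg, ← Matrix.neg_vecMulVec,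
    ← add_assoc, det_one_add_two]
  simp only [dotProduct_smul, dotProduct_neg, hμ, hM.row_swap y z, hM.row_dot, smul_eq_mul]
  field_simp
  ring

theorem exists_alt_nonscalar {m : ℕ} (hm : 3 ≤ m) {M : Matrix (Fin m) (Fin m) F} (hM : IsAlt M) (h0 : M ≠ 0) :
    ∃ S : Matrix (Fin m) (Fin m) F, IsAlt S ∧ (1 + S * M).det = 1 ∧ Nonscalar (1 + S * M) := by
  obtain ⟨i, j, hij⟩ : ∃ i j, M i j ≠ 0 := by
    by_contra hc
    push Not at hc
    exact h0 (by ext i j; exact hc i j)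
  set y : Fin m → F := Pi.single i 1
  have hyM : y ᵥ* M ≠ 0 := fun e => hij (by simpa [y] using congrFun e j)
  -- a second vector in the kernel of the first functional
  obtain ⟨z, hz, hzy⟩ : ∃ z, (y ᵥ* M) ⬝ᵥ z = 0 ∧ ∀ c : F, z ≠ c • y := by
    by_contra hc
    push Not at hc
    have hle : LinearMap.ker (dotLin (y ᵥ* M)) ≤ Submodule.span F {y} := fun v hv => by
      obtain ⟨c, e⟩ := hc v hv
      rw [e]; exact Submodule.smul_mem _ _ (Submodule.mem_span_singleton_self y)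
    have h1 := (Submodule.finrank_mono hle).trans ((finrank_span_le_card _).trans (by simp : _ ≤ 1))
    have h2 := LinearMap.finrank_range_add_finrank_ker (dotLin (y ᵥ* M))
    have h3 := Submodule.finrank_le (LinearMap.range (dotLin (y ᵥ* M)))
    rw [Module.finrank_fin_fun] at h2
    rw [Module.finrank_self] at h3
    omega
  set S := vecMulVec y z - vecMulVec z y
  have hSM : ∀ w, (S * M) *ᵥ w = ((z ᵥ* M) ⬝ᵥ w) • y - ((y ᵥ* M) ⬝ᵥ w) • z := fun w => by
    rw [Matrix.sub_mul, Matrix.vecMulVec_mul, Matrix.vecMulVec_mul, Matrix.sub_mulVec,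
      Matrix.vecMulVec_mulVec, Matrix.vecMulVec_mulVec, op_smul_eq_smul, op_smul_eq_smul]
  refine ⟨S, isAlt_pair y z, ?_, fun c hc => ?_⟩
  · rw [Matrix.sub_mul, Matrix.vecMulVec_mul, Matrix.vecMulVec_mul, sub_eq_add_neg, ← Matrix.neg_vecMulVec,
      ← add_assoc, det_one_add_two]
    simp only [dotProduct_neg, hM.row_swap z y, hz, hM.row_dot]
    ring
  obtain ⟨w, hw0, hw1, hw2⟩ : ∃ w, w ≠ 0 ∧ (y ᵥ* M) ⬝ᵥ w = 0 ∧ (z ᵥ* M) ⬝ᵥ w = 0 := by
    by_contra hcon
    push Not at hcon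
    have hinj : Function.Injective ((dotLin (y ᵥ* M)).prod (dotLin (z ᵥ* M))) := by
      rw [← LinearMap.ker_eq_bot, LinearMap.ker_eq_bot']
      intro v hv
      simp only [LinearMap.prod_apply, Function.prod_apply, Prod.mk_eq_zero, dotLin_apply] at hv
      by_contra hv0
      exact hcon v hv0 hv.1 hv.2
    have := LinearMap.finrank_le_finrank_of_injective hinj
    rw [Module.finrank_fin_fun, Module.finrank_prod, Module.finrank_self] at this
    omega
  have e := congrArg (fun X => X *ᵥ w) hc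
  simp only [Matrix.add_mulVec, Matrix.one_mulVec, hSM, hw1, hw2, zero_smul, sub_zero, add_zero,
    Matrix.smul_mulVec] at e
  have hc1 : c = 1 := by
    by_contra hne
    exact hw0 ((smul_eq_zero.1 (show (c - 1) • w = 0 by rw [sub_smul, one_smul, ← e, sub_self])).resolve_left
      (sub_ne_zero.2 hne))
  obtain ⟨u, hu⟩ := exists_dot_ne hyM
  have e2 := congrArg (fun X => X *ᵥ u) hc
  simp only [Matrix.add_mulVec, Matrix.one_mulVec, hSM, hc1, one_smul, add_eq_left, sub_eq_zero] at e2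
  refine hzy (((z ᵥ* M) ⬝ᵥ u) / ((y ᵥ* M) ⬝ᵥ u)) ?_
  rw [div_eq_inv_mul, mul_smul, e2, smul_smul, inv_mul_cancel₀ hu, one_smul]

namespace Orth

open CfsgLib.Orth

variable {ι : Type} [Fintype ι] [DecidableEq ι] {Q : QuadraticForm F (ι → F)}

/-- The matrix of an isometry. -/
abbrev mat (g : Grp Q) : Matrix ι ι F := ((g : GL ι F) : Matrix ι ι F)

/-- The isometry given by a matrix and its inverse. -/
def el (M N : Matrix ι ι F) (h1 : M * N = 1) (h2 : N * M = 1) (h : ∀ v, Q (M *ᵥ v) = Q v) : Grp Q :=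
  ⟨⟨M, N, h1, h2⟩, fun v _ => h v⟩

@[simp] theorem mat_el (M N : Matrix ι ι F) (h1 : M * N = 1) (h2 : N * M = 1) (h : ∀ v, Q (M *ᵥ v) = Q v) :
    mat (el (Q := Q) M N h1 h2 h) = M := rfl

theorem mat_mul (g h : Grp Q) : mat (g * h) = mat g * mat h := rfl

theorem mat_one : mat (1 : Grp Q) = 1 := rfl

theorem mat_inj {g h : Grp Q} (e : mat g = mat h) : g = h := Subtype.ext (Units.ext e)

theorem mat_inv_eq {g : Grp Q} {N : Matrix ι ι F} (h : mat g * N = 1) : mat g⁻¹ = N := by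
  calc mat g⁻¹ = mat g⁻¹ * (mat g * N) := by rw [h, Matrix.mul_one]
    _ = N := by rw [← Matrix.mul_assoc, ← mat_mul, inv_mul_cancel, mat_one, Matrix.one_mul]

variable [Finite F]

theorem mem_omega (hB : Nondeg Q) (hn : 5 ≤ Module.finrank F (ι → F)) (g : Grp Q)
    (hd : dickson hB g = 1) (hs : (2 : F) ≠ 0 → spinor Q 1 g = 1) : g ∈ Cfsg.Omega F ⇑Q := by
  by_cases h2 : (2 : F) = 0
  · rw [omega_eq_ker_dickson hB h2 (by omega) (fun e => by omega)]
    exact hd
  · rw [(omega_eq_ker_psi hB h2 (by omega) (one_ne_zero (α := F))).1, MonoidHom.mem_ker]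
    exact Prod.ext hd (hs h2)

theorem of_mem_omega (hB : Nondeg Q) {g : Grp Q} (h : g ∈ Cfsg.Omega F ⇑Q) :
    dickson hB g = 1 ∧ spinor Q 1 g = 1 :=
  ⟨Abelianization.commutator_subset_ker _ h, Abelianization.commutator_subset_ker _ h⟩

theorem units_eq_one_of_pow {x : ℤˣ} {n : ℕ} (hn : Odd n) (h : x ^ n = 1) : x = 1 := by
  rcases Int.units_eq_one_or x with e | e
  · exact e
  · rw [e, hn.neg_one_pow] at h; exact absurd h (by decide)

theorem det_eq_one_of_mem {g : Grp Q} (h : g ∈ Cfsg.Omega F ⇑Q) : (mat g).det = 1 :=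
  congrArg Units.val (Abelianization.commutator_subset_ker
    ((Matrix.GeneralLinearGroup.det (n := ι) (R := F)).comp (Cfsg.isometryGroup F ⇑Q).subtype) h)

/-- An isometry of finite order prime to two lies in `Ω`. -/
theorem mem_omega_of_odd (hB : Nondeg Q) (hn : 5 ≤ Module.finrank F (ι → F)) (g : Grp Q) {n : ℕ}
    (hodd : Odd n) (hg : g ^ n = 1) : g ∈ Cfsg.Omega F ⇑Q :=
  mem_omega hB hn g (units_eq_one_of_pow hodd (by rw [← map_pow, hg, map_one]))
    fun _ => units_eq_one_of_pow hodd (by rw [← map_pow, hg, map_one])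

/-- The central quotient of `Ω`. -/
def proj (Q : QuadraticForm F (ι → F)) :
    ↥(Cfsg.Omega F ⇑Q) →* ↥(Cfsg.Omega F ⇑Q) ⧸ Subgroup.center ↥(Cfsg.Omega F ⇑Q) :=
  QuotientGroup.mk' _

theorem proj_eq_one_of_smul {g : ↥(Cfsg.Omega F ⇑Q)} {c : F} (h : mat (g : Grp Q) = c • 1) :
    proj Q g = 1 := by
  rw [proj, QuotientGroup.mk'_apply, QuotientGroup.eq_one_iff, Subgroup.mem_center_iff]
  intro x
  refine Subtype.ext (mat_inj ?_)
  rw [Subgroup.coe_mul, Subgroup.coe_mul, mat_mul, mat_mul, h]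
  simp

end Orth

end CfsgLib.ClassSquare
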