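import Cfsg.Agent.Lib.ClassSquare.OrthPlus

/-!
The simple orthogonal groups in odd dimension over fields of odd order at least seven.
-/

set_option autoImplicit false
set_option linter.unusedSectionVars false
set_option linter.unusedSimpArgs false
set_option linter.style.haveILetI false

namespace CfsgLib.ClassSquare

open Matrix

variable {F : Type*} [Field F] {m : ℕ}

/-- A matrix on `F ⊕ F^m ⊕ F^m`. -/
def bk (e : F) (c f b d : Fin m → F) (A B C D : Matrix (Fin m) (Fin m) F) :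
    Matrix (Unit ⊕ (Fin m ⊕ Fin m)) (Unit ⊕ (Fin m ⊕ Fin m)) F :=
  fromBlocks (Matrix.of fun _ _ => e) (Matrix.of fun _ j => Sum.elim c f j)
    (Matrix.of fun i _ => Sum.elim b d i) (fromBlocks A B C D)

theorem eq_bk (M : Matrix (Unit ⊕ (Fin m ⊕ Fin m)) (Unit ⊕ (Fin m ⊕ Fin m)) F) :
    M = bk (M (.inl ()) (.inl ())) (fun j => M (.inl ()) (.inr (.inl j)))
      (fun j => M (.inl ()) (.inr (.inr j))) (fun i => M (.inr (.inl i)) (.inl ()))
      (fun i => M (.inr (.inr i)) (.inl ()))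
      (Matrix.of fun i j => M (.inr (.inl i)) (.inr (.inl j)))
      (Matrix.of fun i j => M (.inr (.inl i)) (.inr (.inr j)))
      (Matrix.of fun i j => M (.inr (.inr i)) (.inr (.inl j)))
      (Matrix.of fun i j => M (.inr (.inr i)) (.inr (.inr j))) := by
  ext i j
  rcases i with i | i | i <;> rcases j with j | j | j <;> simp [bk]

theorem bk_inj {e e' : F} {c f b d c' f' b' d' : Fin m → F} {A B C D A' B' C' D' : Matrix (Fin m) (Fin m) F} :
    bk e c f b d A B C D = bk e' c' f' b' d' A' B' C' D' ↔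
      e = e' ∧ c = c' ∧ f = f' ∧ b = b' ∧ d = d' ∧ A = A' ∧ B = B' ∧ C = C' ∧ D = D' := by
  constructor
  · intro h
    rw [bk, bk, fromBlocks_inj, fromBlocks_inj] at h
    obtain ⟨h1, h2, h3, h4, h5, h6, h7⟩ := h
    refine ⟨?_, ?_, ?_, ?_, ?_, h4, h5, h6, h7⟩
    · simpa using congrFun (congrFun h1 ()) ()
    · funext j; simpa using congrFun (congrFun h2 ()) (.inl j)
    · funext j; simpa using congrFun (congrFun h2 ()) (.inr j)
    · funext j; simpa using congrFun (congrFun h3 (.inl j)) ()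
    · funext j; simpa using congrFun (congrFun h3 (.inr j)) ()
  · rintro ⟨rfl, rfl, rfl, rfl, rfl, rfl, rfl, rfl, rfl⟩; rfl

theorem bk_one : bk (1 : F) 0 0 0 0 1 0 0 (1 : Matrix (Fin m) (Fin m) F) = 1 := by
  ext i j
  rcases i with i | i | i <;> rcases j with j | j | j <;> simp [bk, Matrix.one_apply]

theorem bk_mul (e e' : F) (c f b d c' f' b' d' : Fin m → F) (A B C D A' B' C' D' : Matrix (Fin m) (Fin m) F) :
    bk e c f b d A B C D * bk e' c' f' b' d' A' B' C' D' =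
      bk (e * e' + c ⬝ᵥ b' + f ⬝ᵥ d') (e • c' + c ᵥ* A' + f ᵥ* C') (e • f' + c ᵥ* B' + f ᵥ* D')
        (e' • b + A *ᵥ b' + B *ᵥ d') (e' • d + C *ᵥ b' + D *ᵥ d')
        (vecMulVec b c' + A * A' + B * C') (vecMulVec b f' + A * B' + B * D')
        (vecMulVec d c' + C * A' + D * C') (vecMulVec d f' + C * B' + D * D') := by
  ext i j
  rw [Matrix.mul_apply, Fintype.sum_sum_type, Fintype.sum_sum_type]
  rcases i with i | i | i <;> rcases j with j | j | j <;>
    simp [bk, Matrix.mul_apply, dotProduct, vecMul, mulVec, vecMulVec] <;> ring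

theorem bk_mulVec (e : F) (c f b d : Fin m → F) (A B C D : Matrix (Fin m) (Fin m) F)
    (z : F) (x y : Fin m → F) :
    bk e c f b d A B C D *ᵥ Sum.elim (fun _ => z) (Sum.elim x y) =
      Sum.elim (fun _ => e * z + c ⬝ᵥ x + f ⬝ᵥ y)
        (Sum.elim (z • b + A *ᵥ x + B *ᵥ y) (z • d + C *ᵥ x + D *ᵥ y)) := by
  funext i
  rw [mulVec, dotProduct, Fintype.sum_sum_type, Fintype.sum_sum_type]
  rcases i with i | i | i <;> simp [bk, dotProduct, mulVec] <;> ring

theorem det_bk_diag (e : F) (A D : Matrix (Fin m) (Fin m) F) :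
    (bk e 0 0 0 0 A 0 0 D).det = e * (A.det * D.det) := by
  rw [bk, show (Matrix.of fun (_ : Unit) j => Sum.elim (0 : Fin m → F) 0 j) = 0 by
    ext i j; rcases j with j | j <;> rfl, det_fromBlocks_zero₁₂, det_fromBlocks_zero₂₁, Matrix.det_unique]
  rfl

namespace OrthO

open CfsgLib.Orth Orth OrthP

variable {Q : QuadraticForm F (Unit ⊕ (Fin m ⊕ Fin m) → F)} (hQ : ⇑Q = Cfsg.quadFormOdd m F)

include hQ

theorem q_eq (z : F) (x y : Fin m → F) : Q (Sum.elim (fun _ => z) (Sum.elim x y)) = z ^ 2 + x ⬝ᵥ y := by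
  rw [hQ]; rfl

omit hQ in
theorem split (v : Unit ⊕ (Fin m ⊕ Fin m) → F) :
    Sum.elim (fun _ => v (.inl ())) (Sum.elim (fun i => v (.inr (.inl i))) fun i => v (.inr (.inr i))) = v := by
  funext i; rcases i with i | i | i <;> rfl

theorem iso_bk {e : F} {c f b d : Fin m → F} {A B C D : Matrix (Fin m) (Fin m) F}
    (h : ∀ z x y, (e * z + c ⬝ᵥ x + f ⬝ᵥ y) ^ 2 +
      (z • b + A *ᵥ x + B *ᵥ y) ⬝ᵥ (z • d + C *ᵥ x + D *ᵥ y) = z ^ 2 + x ⬝ᵥ y)
    (v : Unit ⊕ (Fin m ⊕ Fin m) → F) : Q (bk e c f b d A B C D *ᵥ v) = Q v := by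
  rw [← split v, bk_mulVec, q_eq hQ, q_eq hQ]
  exact h _ _ _

/-- Upper unipotent with a vector. -/
def uV (l : Fin m → F) : Grp Q :=
  el (bk 1 0 l (-(2 : F) • l) 0 1 (-vecMulVec l l) 0 1) (bk 1 0 (-l) ((2 : F) • l) 0 1 (-vecMulVec l l) 0 1)
    (by rw [bk_mul, ← bk_one, bk_inj]; simp [Matrix.smul_vecMulVec, two_smul, Matrix.add_vecMulVec, Matrix.neg_vecMulVec, Matrix.vecMulVec_neg] <;> abel)
    (by rw [bk_mul, ← bk_one, bk_inj]; simp [Matrix.smul_vecMulVec, two_smul, Matrix.add_vecMulVec, Matrix.neg_vecMulVec, Matrix.vecMulVec_neg] <;> abel)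
    (iso_bk hQ fun z x y => by
      simp only [zero_dotProduct, one_mul, add_zero, Matrix.zero_mulVec, smul_zero, Matrix.one_mulVec,
        Matrix.neg_mulVec, Matrix.vecMulVec_mulVec, op_smul_eq_smul, zero_add, add_dotProduct, smul_dotProduct,
        neg_dotProduct, smul_eq_mul]
      ring)

/-- Lower unipotent with a vector. -/
def lV (l : Fin m → F) : Grp Q :=
  el (bk 1 l 0 0 (-(2 : F) • l) 1 0 (-vecMulVec l l) 1) (bk 1 (-l) 0 0 ((2 : F) • l) 1 0 (-vecMulVec l l) 1)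
    (by rw [bk_mul, ← bk_one, bk_inj]; simp [Matrix.smul_vecMulVec, two_smul, Matrix.add_vecMulVec, Matrix.neg_vecMulVec, Matrix.vecMulVec_neg] <;> abel)
    (by rw [bk_mul, ← bk_one, bk_inj]; simp [Matrix.smul_vecMulVec, two_smul, Matrix.add_vecMulVec, Matrix.neg_vecMulVec, Matrix.vecMulVec_neg] <;> abel)
    (iso_bk hQ fun z x y => by
      simp only [zero_dotProduct, one_mul, add_zero, Matrix.zero_mulVec, smul_zero, Matrix.one_mulVec,
        Matrix.neg_mulVec, Matrix.vecMulVec_mulVec, op_smul_eq_smul, zero_add, dotProduct_add, dotProduct_smul,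
        dotProduct_neg, smul_eq_mul, dotProduct_comm x l]
      ring)

/-- Upper unipotent with an alternating matrix. -/
def sU (S : Matrix (Fin m) (Fin m) F) (hS : IsAlt S) : Grp Q :=
  el (bk 1 0 0 0 0 1 S 0 1) (bk 1 0 0 0 0 1 (-S) 0 1) (by rw [bk_mul, ← bk_one, bk_inj]; simp)
    (by rw [bk_mul, ← bk_one, bk_inj]; simp) (iso_bk hQ fun z x y => by
      simp only [zero_dotProduct, one_mul, add_zero, Matrix.zero_mulVec, smul_zero, Matrix.one_mulVec,
        zero_add, add_dotProduct]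
      rw [dotProduct_comm (S *ᵥ y), hS y, add_zero])

/-- Lower unipotent with an alternating matrix. -/
def sL (S : Matrix (Fin m) (Fin m) F) (hS : IsAlt S) : Grp Q :=
  el (bk 1 0 0 0 0 1 0 S 1) (bk 1 0 0 0 0 1 0 (-S) 1) (by rw [bk_mul, ← bk_one, bk_inj]; simp)
    (by rw [bk_mul, ← bk_one, bk_inj]; simp) (iso_bk hQ fun z x y => by
      simp only [zero_dotProduct, one_mul, add_zero, Matrix.zero_mulVec, smul_zero, Matrix.one_mulVec,
        zero_add, dotProduct_add]
      rw [hS x, zero_add])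

omit hQ in
/-- The matrix of a Levi element. -/
def levMat (A : GL (Fin m) F) : Matrix (Unit ⊕ (Fin m ⊕ Fin m)) (Unit ⊕ (Fin m ⊕ Fin m)) F :=
  bk 1 0 0 0 0 (A : Matrix (Fin m) (Fin m) F) 0 0 ((A⁻¹ : GL (Fin m) F) : Matrix (Fin m) (Fin m) F)ᵀ

omit hQ in
theorem levMat_mul (A B : GL (Fin m) F) : levMat (A * B) = levMat A * levMat B := by
  simp [levMat, bk_mul, Matrix.transpose_mul]

omit hQ in
theorem levMat_one : levMat (1 : GL (Fin m) F) = 1 := by simp [levMat, bk_one]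

/-- The Levi subgroup. -/
def lev : GL (Fin m) F →* Grp Q where
  toFun A := el (levMat A) (levMat A⁻¹) (by rw [← levMat_mul]; simp [levMat_one])
    (by rw [← levMat_mul]; simp [levMat_one]) (iso_bk hQ fun z x y => by
      simp only [zero_dotProduct, one_mul, add_zero, Matrix.zero_mulVec, smul_zero, zero_add,
        Matrix.dotProduct_mulVec, Matrix.vecMul_transpose, Matrix.mulVec_mulVec, ← Units.val_mul,
        inv_mul_cancel, Units.val_one, Matrix.one_mulVec])
  map_one' := mat_inj (by simp [levMat_one, mat_one])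
  map_mul' A B := mat_inj (by rw [mat_mul]; exact levMat_mul A B)

/-- The signed swaps of the pairs in a set. -/
def sw (s : Finset (Fin m)) : Grp Q :=
  el (bk 1 0 0 0 0 (1 - ind s) (-ind s) (-ind s) (1 - ind s)) (bk 1 0 0 0 0 (1 - ind s) (-ind s) (-ind s) (1 - ind s))
    (by
      rw [bk_mul, ← bk_one, bk_inj]
      simp only [mul_sub, sub_mul, ind_idem, one_mul, mul_one, neg_mul, mul_neg, neg_neg]
      simp)
    (by
      rw [bk_mul, ← bk_one, bk_inj]
      simp only [mul_sub, sub_mul, ind_idem, one_mul, mul_one, neg_mul, mul_neg, neg_neg]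
      simp)
    (iso_bk hQ fun z x y => by
      simp only [zero_dotProduct, one_mul, add_zero, smul_zero, zero_add]
      congr 1
      simp only [dotProduct, Pi.add_apply, ind, Matrix.sub_mulVec, Matrix.one_mulVec, Matrix.neg_mulVec,
        Pi.sub_apply, Pi.neg_apply, mulVec_diagonal]
      exact Finset.sum_congr rfl fun i _ => by split <;> ring)

/-- The reflection of the middle coordinate. -/
def sz : Grp Q :=
  el (bk (-1) 0 0 0 0 1 0 0 1) (bk (-1) 0 0 0 0 1 0 0 1) (by rw [bk_mul, ← bk_one, bk_inj]; simp)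
    (by rw [bk_mul, ← bk_one, bk_inj]; simp) (iso_bk hQ fun z x y => by simp)

theorem sw_insert {a : Fin m} {s : Finset (Fin m)} (ha : a ∉ s) : sw hQ (insert a s) = sw hQ {a} * sw hQ s := by
  refine mat_inj ?_
  rw [mat_mul]
  simp only [sw, mat_el, bk_mul]
  have e0 : (ind {a} : Matrix (Fin m) (Fin m) F) * ind s = 0 := by
    rw [ind, ind, diagonal_mul_diagonal, ← diagonal_zero]; congr 1; funext i
    rcases eq_or_ne i a with rfl | h <;> simp [*]
  have e1 : (ind (insert a s) : Matrix (Fin m) (Fin m) F) = ind {a} + ind s := by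
    simp only [ind, diagonal_add]; congr 1; funext i
    rcases eq_or_ne i a with rfl | h <;> simp [*]
  rw [bk_inj]
  simp only [mul_sub, sub_mul, e0, e1, one_mul, mul_one, neg_mul, mul_neg]
  simp only [zero_dotProduct, dotProduct_zero, smul_zero, one_smul, Matrix.zero_vecMul, Matrix.mulVec_zero,
    Matrix.zero_vecMulVec, zero_add, add_zero, true_and]
  refine ⟨?_, ?_, ?_, ?_⟩ <;> abel

/-- The vector of the swap. -/
theorem q_vec (i : Fin m) :
    Q (Pi.single (.inr (.inl i)) 1 + Pi.single (.inr (.inr i)) 1 : Unit ⊕ (Fin m ⊕ Fin m) → F) = 1 := by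
  rw [hQ]
  simp only [Cfsg.quadFormOdd]
  rw [Finset.sum_eq_single i] <;> simp +contextual [Pi.single_apply]

theorem sw_refl (i : Fin m) :
    IsRefl (Pi.single (.inr (.inl i)) 1 + Pi.single (.inr (.inr i)) 1 : Unit ⊕ (Fin m ⊕ Fin m) → F)
      (sw hQ {i}) := by
  refine ⟨by rw [q_vec hQ]; simp, fun x => ?_⟩
  rw [q_vec hQ, ap]
  show bk 1 0 0 0 0 (1 - ind {i}) (-ind {i}) (-ind {i}) (1 - ind {i}) *ᵥ x = _
  have hb : QuadraticMap.polar (⇑Q)
      (Pi.single (.inr (.inl i)) 1 + Pi.single (.inr (.inr i)) 1 : Unit ⊕ (Fin m ⊕ Fin m) → F) x =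
      x (.inr (.inr i)) + x (.inr (.inl i)) := by
    rw [hQ, polar_odd, Finset.sum_eq_single i] <;> simp +contextual [Pi.single_apply]
  conv_lhs => rw [← split x, bk_mulVec]
  rw [hb]
  funext k
  rcases k with k | k | k
  · simp
  all_goals
    rcases eq_or_ne k i with rfl | h <;>
      simp [*, ind, Matrix.sub_mulVec, Matrix.neg_mulVec, mulVec_diagonal, Pi.single_apply] <;> ring

theorem sz_refl : IsRefl (Pi.single (.inl ()) 1 : Unit ⊕ (Fin m ⊕ Fin m) → F) (sz hQ) := by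
  have hv : Q (Pi.single (.inl ()) 1 : Unit ⊕ (Fin m ⊕ Fin m) → F) = 1 := by
    rw [hQ]; simp [Cfsg.quadFormOdd]
  refine ⟨by rw [hv]; simp, fun x => ?_⟩
  rw [hv, ap]
  show bk (-1) 0 0 0 0 1 0 0 1 *ᵥ x = _
  have hb : QuadraticMap.polar (⇑Q) (Pi.single (.inl ()) 1 : Unit ⊕ (Fin m ⊕ Fin m) → F) x =
      2 * x (.inl ()) := by
    rw [hQ, polar_odd]; simp
  conv_lhs => rw [← split x, bk_mulVec]
  rw [hb]
  funext k
  rcases k with k | k | k <;> simp
  ring

variable [Finite F] (hB : Nondeg Q) (h2 : (2 : F) ≠ 0) (hm : 2 ≤ m)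

omit hQ [Finite F] in
theorem dot_col_zero (i : Fin m) : (0 : Matrix (Fin m) (Fin m) F).col i = 0 := rfl

omit hQ [Finite F] in
theorem dot_col_one (i : Fin m) : (1 : Matrix (Fin m) (Fin m) F).col i = Pi.single i 1 := by
  funext j; simp [Matrix.col, Matrix.one_apply, Pi.single_apply]

omit hQ [Finite F] in
include hm in
theorem five_le : 5 ≤ Module.finrank F (Unit ⊕ (Fin m ⊕ Fin m) → F) := by
  rw [Module.finrank_fintype_fun_eq_card, Fintype.card_sum, Fintype.card_sum, Fintype.card_fin,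
    Fintype.card_unit]
  omega

include hB h2 hm

theorem sw_class (s : Finset (Fin m)) :
    dickson hB (sw hQ s) = (-1) ^ s.card ∧ spinor Q 1 (sw hQ s) = spinor Q 1 (sz hQ) ^ s.card := by
  induction s using Finset.induction_on with
  | empty =>
    have : sw hQ (∅ : Finset (Fin m)) = 1 := mat_inj (by simp [sw, ind, mat_one, bk_one])
    simp [this]
  | @insert a s ha ih =>
    refine ⟨?_, ?_⟩
    · rw [sw_insert hQ ha, map_mul, dickson_refl hB (sw_refl hQ a), ih.1, Finset.card_insert_of_notMem ha,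
        pow_succ']
    · rw [sw_insert hQ ha, map_mul, ih.2, Finset.card_insert_of_notMem ha, pow_succ',
        spinor_refl_eq hB h2 1 (sw_refl hQ a) (sz_refl hQ) ⟨1, by
          rw [q_vec hQ, hQ]; simp [Cfsg.quadFormOdd]⟩]

theorem sw_mem {s : Finset (Fin m)} (hs : Even s.card) : sw hQ s ∈ Cfsg.Omega F ⇑Q := by
  obtain ⟨a, b⟩ := sw_class hQ hB h2 hm s
  obtain ⟨k, hk⟩ := hs
  refine mem_omega hB (five_le hm) _ ?_ fun _ => ?_
  · rw [a, hk, ← two_mul, pow_mul, neg_one_sq, one_pow]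
  · rw [b, hk, ← two_mul, pow_mul, Int.units_sq, one_pow]

theorem swz_mem {s : Finset (Fin m)} (hs : Odd s.card) : sw hQ s * sz hQ ∈ Cfsg.Omega F ⇑Q := by
  obtain ⟨a, b⟩ := sw_class hQ hB h2 hm s
  refine mem_omega hB (five_le hm) _ ?_ fun _ => ?_
  · rw [map_mul, a, dickson_refl hB (sz_refl hQ), hs.neg_one_pow]; decide
  · rw [map_mul, b, ← pow_succ]
    obtain ⟨k, hk⟩ := hs
    rw [show s.card + 1 = 2 * (k + 1) by omega, pow_mul, Int.units_sq, one_pow]

omit hQ hB h2 hm in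
theorem exists_odd_char (h2 : (2 : F) ≠ 0) : ∃ p : ℕ, Odd p ∧ (p : F) = 0 := by
  obtain ⟨p, hp⟩ := CharP.exists F
  have hpp := CharP.char_is_prime F p
  refine ⟨p, hpp.odd_of_ne_two fun e => h2 ?_, CharP.cast_eq_zero F p⟩
  subst e
  exact_mod_cast CharP.cast_eq_zero F 2

theorem uV_mem (l : Fin m → F) : uV hQ l ∈ Cfsg.Omega F ⇑Q := by
  obtain ⟨p, hp, hp0⟩ := exists_odd_char (F := F) h2
  refine mem_omega_of_odd hB (five_le hm) _ hp ?_
  have key : ∀ n : ℕ, mat (uV hQ l ^ n) =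
      bk 1 0 ((n : F) • l) ((-2 * n : F) • l) 0 1 (-((n : F) * n) • vecMulVec l l) 0 1 := by
    intro n
    induction n with
    | zero => simp [mat_one, bk_one]
    | succ n ih =>
      rw [pow_succ, mat_mul, ih]
      simp only [uV, mat_el, bk_mul, bk_inj]
      push_cast
      refine ⟨by simp, by simp, ?_, ?_, by simp, by simp, ?_, by simp, by simp⟩
      · simp; module
      · simp; module
      · simp [Matrix.smul_vecMulVec, Matrix.vecMulVec_smul]; module
  exact mat_inj ((key p).trans (by simp [hp0, mat_one, bk_one]))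

theorem lV_mem (l : Fin m → F) : lV hQ l ∈ Cfsg.Omega F ⇑Q := by
  obtain ⟨p, hp, hp0⟩ := exists_odd_char (F := F) h2
  refine mem_omega_of_odd hB (five_le hm) _ hp ?_
  have key : ∀ n : ℕ, mat (lV hQ l ^ n) =
      bk 1 ((n : F) • l) 0 0 ((-2 * n : F) • l) 1 0 (-((n : F) * n) • vecMulVec l l) 1 := by
    intro n
    induction n with
    | zero => simp [mat_one, bk_one]
    | succ n ih =>
      rw [pow_succ, mat_mul, ih]
      simp only [lV, mat_el, bk_mul, bk_inj]
      push_cast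
      refine ⟨by simp, ?_, by simp, by simp, ?_, by simp, by simp, ?_, by simp⟩
      · simp; module
      · simp; module
      · simp [Matrix.smul_vecMulVec, Matrix.vecMulVec_smul]; module
  exact mat_inj ((key p).trans (by simp [hp0, mat_one, bk_one]))

theorem sU_mem (S : Matrix (Fin m) (Fin m) F) (hS : IsAlt S) : sU hQ S hS ∈ Cfsg.Omega F ⇑Q := by
  obtain ⟨p, hp, hp0⟩ := exists_odd_char (F := F) h2
  refine mem_omega_of_odd hB (five_le hm) _ hp ?_
  have key : ∀ n : ℕ, mat (sU hQ S hS ^ n) = bk 1 0 0 0 0 1 ((n : F) • S) 0 1 := by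
    intro n
    induction n with
    | zero => simp [mat_one, bk_one]
    | succ n ih => rw [pow_succ, mat_mul, ih]; simp [sU, bk_mul, bk_inj]; module
  exact mat_inj ((key p).trans (by simp [hp0, mat_one, bk_one]))

theorem sL_mem (S : Matrix (Fin m) (Fin m) F) (hS : IsAlt S) : sL hQ S hS ∈ Cfsg.Omega F ⇑Q := by
  obtain ⟨p, hp, hp0⟩ := exists_odd_char (F := F) h2
  refine mem_omega_of_odd hB (five_le hm) _ hp ?_
  have key : ∀ n : ℕ, mat (sL hQ S hS ^ n) = bk 1 0 0 0 0 1 0 ((n : F) • S) 1 := by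
    intro n
    induction n with
    | zero => simp [mat_one, bk_one]
    | succ n ih => rw [pow_succ, mat_mul, ih]; simp [sL, bk_mul, bk_inj]; module
  exact mat_inj ((key p).trans (by simp [hp0, mat_one, bk_one]))

theorem lev_class (A : GL (Fin m) F) :
    dickson hB (lev hQ A) = 1 ∧ spinor Q 1 (lev hQ A) = sqc (A : Matrix (Fin m) (Fin m) F).det := by
  classical
  have hn : 2 ≤ Module.finrank F (Unit ⊕ (Fin m ⊕ Fin m) → F) := by have := five_le (F := F) hm; omega
  have hyp : CfsgLib.Classical.WittBasis.IsHyp Q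
      (fun j : Fin m => (Pi.single (.inr (.inl j)) 1 : Unit ⊕ (Fin m ⊕ Fin m) → F))
      (fun j => Pi.single (.inr (.inr j)) 1) := by
    refine ⟨fun i => ?_, fun i => ?_, fun i j => ?_, fun i j => ?_, fun i j => ?_⟩
    all_goals simp only [hQ, CfsgLib.Orth.polar_odd]
    all_goals simp [Cfsg.quadFormOdd, Pi.single_apply, eq_comm]
  refine Matrix.diagonal_transvection_induction_of_det_ne_zero
    (fun M => ∀ C : GL (Fin m) F, (C : Matrix (Fin m) (Fin m) F) = M →
      dickson hB (lev hQ C) = 1 ∧ spinor Q 1 (lev hQ C) = sqc M.det)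
    (A : Matrix (Fin m) (Fin m) F) A.det_ne_zero ?_ ?_ ?_ A rfl
  · intro D hD C hC
    rw [Matrix.det_diagonal] at hD
    have hD' : ∀ j, D j ≠ 0 := fun j => (Finset.prod_ne_zero_iff.1 hD) j (Finset.mem_univ j)
    obtain ⟨g, g1, g2, g3, g4, g5⟩ := exists_scale hB hn hyp D hD'
    have hinv : ((C⁻¹ : GL (Fin m) F) : Matrix (Fin m) (Fin m) F) = diagonal fun j => (D j)⁻¹ := by
      refine (Matrix.coe_units_inv C).trans (Matrix.inv_eq_right_inv ?_)
      rw [hC, diagonal_mul_diagonal, ← diagonal_one]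
      exact congrArg _ (funext fun j => mul_inv_cancel₀ (hD' j))
    have e : lev hQ C = g := by
      refine mat_inj (Matrix.ext_of_mulVec_single fun k => ?_)
      show levMat C *ᵥ _ = ap g (Pi.single k 1)
      rw [levMat, hC, hinv, diagonal_transpose]
      rcases k with k | k | k
      · rw [g3 _ (fun j => ?_) (fun j => ?_)]
        · funext i; rcases i with i | i | i <;> simp [bk]
        all_goals rw [hQ, polar_odd]; simp
      · rw [g1 k]; funext i
        rcases i with i | i | i <;> simp [bk, Matrix.diagonal_apply, Pi.single_apply] <;>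
          split <;> simp [*]
      · rw [g2 k]; funext i
        rcases i with i | i | i <;> simp [bk, Matrix.diagonal_apply, Pi.single_apply] <;>
          split <;> simp [*]
    rw [e, Matrix.det_diagonal]
    exact ⟨g4, g5 h2⟩
  · intro t C hC
    obtain ⟨p, hp, hp0⟩ := exists_odd_char (F := F) h2
    obtain ⟨i, j, hij, c⟩ := t
    have hpow : C ^ p = 1 := Units.ext (by
      rw [Units.val_pow_eq_pow_val, hC, TransvectionStruct.toMatrix]
      have : ∀ n : ℕ, (transvection i j c) ^ n = transvection i j ((n : F) * c) := by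
        intro n
        induction n with
        | zero => simp
        | succ n ih => rw [pow_succ, ih, transvection_mul_transvection_same i j hij]; push_cast; ring_nf
      rw [this, hp0, zero_mul, transvection_zero, Units.val_one])
    rw [TransvectionStruct.det, sqc_one]
    exact ⟨units_eq_one_of_pow hp (by rw [← map_pow, ← map_pow, hpow, map_one, map_one]),
      units_eq_one_of_pow hp (by rw [← map_pow, ← map_pow, hpow, map_one, map_one])⟩
  · intro M N hM hN hPM hPN C hC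
    let CM : GL (Fin m) F := GeneralLinearGroup.mkOfDetNeZero M hM
    let CN : GL (Fin m) F := GeneralLinearGroup.mkOfDetNeZero N hN
    have e : C = CM * CN := Units.ext (by rw [hC]; rfl)
    obtain ⟨a1, a2⟩ := hPM CM rfl
    obtain ⟨b1, b2⟩ := hPN CN rfl
    rw [e, map_mul, map_mul, map_mul, a1, b1, one_mul, Matrix.det_mul, a2, b2, sqc_mul hM hN]
    exact ⟨rfl, rfl⟩

theorem lev_mem (A : GL (Fin m) F) (hA : IsSquare (A : Matrix (Fin m) (Fin m) F).det) :
    lev hQ A ∈ Cfsg.Omega F ⇑Q :=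
  mem_omega hB (five_le hm) _ (lev_class hQ hB h2 hm A).1 fun _ => by
    rw [(lev_class hQ hB h2 hm A).2, sqc_eq_one.2 hA]

omit hQ hB h2 hm in
/-- The group `Ω`. -/
abbrev Gam (Q : QuadraticForm F (Unit ⊕ (Fin m ⊕ Fin m) → F)) : Type _ := ↥(Cfsg.Omega F ⇑Q)

omit hB h2 hm in
/-- The parts used in the reduction. -/
structure HasX (g : Gam Q) (c : Fin m → F) (A C : Matrix (Fin m) (Fin m) F) : Prop where
  ex : ∃ e f b d B D, mat (g : Grp Q) = bk e c f b d A B C D

omit hB h2 hm in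
theorem hasX (g : Gam Q) : ∃ c A C, HasX g c A C :=
  ⟨_, _, _, ⟨_, _, _, _, _, _, eq_bk _⟩⟩

omit hB h2 hm in
theorem key_eq {g : Grp Q} {e : F} {c f b d : Fin m → F} {A B C D : Matrix (Fin m) (Fin m) F}
    (h : mat g = bk e c f b d A B C D) (z : F) (x y : Fin m → F) :
    (e * z + c ⬝ᵥ x + f ⬝ᵥ y) ^ 2 + (z • b + A *ᵥ x + B *ᵥ y) ⬝ᵥ (z • d + C *ᵥ x + D *ᵥ y) =
      z ^ 2 + x ⬝ᵥ y := by
  have := g.2 (Sum.elim (fun _ => z) (Sum.elim x y)) (Sum.elim (fun _ => z) (Sum.elim x y))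
  change Q (mat g *ᵥ _) = Q _ at this
  rw [h, bk_mulVec, q_eq hQ, q_eq hQ] at this
  exact this

omit hB h2 hm in
theorem HasX.rel {g : Gam Q} {c : Fin m → F} {A C : Matrix (Fin m) (Fin m) F} (h : HasX g c A C)
    (x : Fin m → F) : (c ⬝ᵥ x) ^ 2 + (A *ᵥ x) ⬝ᵥ (C *ᵥ x) = 0 := by
  obtain ⟨e, f, b, d, B, D, h⟩ := h.ex
  simpa using key_eq hQ h 0 x 0

theorem conj_uV {g : Gam Q} {c : Fin m → F} {A C : Matrix (Fin m) (Fin m) F} (h : HasX g c A C)
    (l : Fin m → F) :
    ∃ g' : Gam Q, IsConj g g' ∧ HasX g' (c + l ᵥ* C) (A - vecMulVec l ((2 : F) • c + l ᵥ* C)) C := by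
  obtain ⟨e, f, b, d, B, D, h⟩ := h.ex
  set g' : Gam Q := (⟨_, uV_mem hQ hB h2 hm l⟩ : Gam Q) * g * (⟨_, uV_mem hQ hB h2 hm l⟩ : Gam Q)⁻¹
  have hg' : mat (g' : Grp Q) = bk 1 0 l (-(2 : F) • l) 0 1 (-vecMulVec l l) 0 1 * bk e c f b d A B C D *
      bk 1 0 (-l) ((2 : F) • l) 0 1 (-vecMulVec l l) 0 1 := by
    rw [← h]
    show mat (uV hQ l) * mat (g : Grp Q) * mat (uV hQ l)⁻¹ = _
    rfl
  refine ⟨g', isConj_iff.2 ⟨_, rfl⟩, ⟨?_⟩⟩
  rw [hg', bk_mul, bk_mul]
  refine ⟨_, _, _, _, _, _, bk_inj.2 ⟨rfl, ?_, rfl, rfl, rfl, ?_, rfl, ?_, rfl⟩⟩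
  · simp
  · simp [Matrix.vecMulVec_add, Matrix.smul_vecMulVec, Matrix.vecMulVec_smul, Matrix.neg_vecMulVec,
      Matrix.vecMulVec_mul]
    abel
  · simp

theorem conj_sU {g : Gam Q} {c : Fin m → F} {A C : Matrix (Fin m) (Fin m) F} (h : HasX g c A C)
    (S : Matrix (Fin m) (Fin m) F) (hS : IsAlt S) :
    ∃ g' : Gam Q, IsConj g g' ∧ HasX g' c (A + S * C) C := by
  obtain ⟨e, f, b, d, B, D, h⟩ := h.ex
  set g' : Gam Q := (⟨_, sU_mem hQ hB h2 hm S hS⟩ : Gam Q) * g * (⟨_, sU_mem hQ hB h2 hm S hS⟩ : Gam Q)⁻¹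
  have hg' : mat (g' : Grp Q) = bk 1 0 0 0 0 1 S 0 1 * bk e c f b d A B C D * bk 1 0 0 0 0 1 (-S) 0 1 := by
    rw [← h]
    show mat (sU hQ S hS) * mat (g : Grp Q) * mat (sU hQ S hS)⁻¹ = _
    rfl
  refine ⟨g', isConj_iff.2 ⟨_, rfl⟩, ⟨?_⟩⟩
  rw [hg', bk_mul, bk_mul]
  refine ⟨_, _, _, _, _, _, bk_inj.2 ⟨rfl, ?_, rfl, rfl, rfl, ?_, rfl, ?_, rfl⟩⟩ <;> simp

theorem exists_invertible (n : ℕ) : ∀ (g : Gam Q) (c : Fin m → F) (A C : Matrix (Fin m) (Fin m) F),
    HasX g c A C → Module.finrank F (LinearMap.ker (Matrix.mulVecLin A)) = n →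
    ∃ (g' : Gam Q) (c' : Fin m → F) (A' : Matrix (Fin m) (Fin m) F),
      IsConj g g' ∧ HasX g' c' A' C ∧ A'.det ≠ 0 := by
  induction n using Nat.strong_induction_on with
  | _ n ih =>
    intro g c A C h hn
    by_cases hA : A.det = 0
    swap
    · exact ⟨g, c, A, IsConj.refl g, h, hA⟩
    obtain ⟨k, hk0, hk⟩ := Matrix.exists_mulVec_eq_zero_iff.2 hA
    have hck : c ⬝ᵥ k = 0 := by
      have := h.rel hQ k
      rw [hk, zero_dotProduct, add_zero] at this
      exact pow_eq_zero_iff (n := 2) (by norm_num) |>.1 this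
    have hCk : C *ᵥ k ≠ 0 := fun hc => by
      have hM' : Function.Injective (mat (g : Grp Q)).mulVec :=
        Matrix.mulVec_injective_iff_isUnit.2 (g : Grp Q).1.isUnit
      obtain ⟨e, f, b, d, B, D, he⟩ := h.ex
      rw [he] at hM'
      have := @hM' (Sum.elim (fun _ => 0) (Sum.elim k 0)) 0 (by
        rw [bk_mulVec, Matrix.mulVec_zero]
        funext i; rcases i with i | i | i <;> simp [hk, hc, hck])
      exact hk0 (funext fun i => by simpa using congrFun this (.inr (.inl i)))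
    obtain ⟨l, hl⟩ := exists_dot_ne hCk
    have hperp : ∀ w, (C *ᵥ k) ⬝ᵥ (A *ᵥ w) = 0 := fun w => by
      have h1 := h.rel hQ w
      have h2' := h.rel hQ k
      have h3 := h.rel hQ (w + k)
      simp only [Matrix.mulVec_add, hk, add_zero, dotProduct_add, hck] at h3
      rw [dotProduct_comm]
      linear_combination h3 - h1
    obtain ⟨g', hgg', hb⟩ := conj_uV hQ hB h2 hm h l
    have happ : ∀ w, (A - vecMulVec l ((2 : F) • c + l ᵥ* C)) *ᵥ w =
        A *ᵥ w - (2 * (c ⬝ᵥ w) + l ⬝ᵥ (C *ᵥ w)) • l := fun w => by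
      rw [Matrix.sub_mulVec, Matrix.vecMulVec_mulVec, op_smul_eq_smul, add_dotProduct, smul_dotProduct,
        smul_eq_mul, ← Matrix.dotProduct_mulVec]
    have hlt : Module.finrank F (LinearMap.ker (Matrix.mulVecLin
        (A - vecMulVec l ((2 : F) • c + l ᵥ* C)))) < n := by
      rw [← hn]
      refine Submodule.finrank_lt_finrank_of_lt (SetLike.lt_iff_le_and_exists.2 ⟨fun w hw => ?_, k, ?_, ?_⟩)
      · simp only [LinearMap.mem_ker, Matrix.mulVecLin_apply] at hw ⊢
        rw [happ] at hw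
        have e := congrArg (fun v => (C *ᵥ k) ⬝ᵥ v) hw
        simp only [dotProduct_sub, dotProduct_smul, hperp, zero_sub, dotProduct_zero, neg_eq_zero,
          smul_eq_mul] at e
        rw [(mul_eq_zero.1 e).resolve_right hl, zero_smul, sub_zero] at hw
        exact hw
      · simpa using hk
      · simp only [LinearMap.mem_ker, Matrix.mulVecLin_apply]
        rw [happ, hk, hck, mul_zero, zero_add, zero_sub, neg_eq_zero, dotProduct_comm]
        intro e
        rcases smul_eq_zero.1 e with e | e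
        · exact hl e
        · exact hl (by rw [e, dotProduct_zero])
    obtain ⟨g'', c'', A'', hc, hb', hd⟩ := ih _ hlt g' _ _ _ hb rfl
    exact ⟨g'', c'', A'', hgg'.trans hc, hb', hd⟩

theorem exists_C_ne {g : Gam Q} (hg : proj Q g ≠ 1) {c : Fin m → F} {A C : Matrix (Fin m) (Fin m) F}
    (h : HasX g c A C) (hm3 : 3 ≤ m) :
    ∃ (g' : Gam Q) (c' : Fin m → F) (A' C' : Matrix (Fin m) (Fin m) F),
      IsConj g g' ∧ HasX g' c' A' C' ∧ C' ≠ 0 := by
  classical
  by_cases hC : C = 0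
  swap
  · exact ⟨g, c, A, C, IsConj.refl g, h, hC⟩
  subst hC
  have hc0 : c = 0 := funext fun i => by
    have := h.rel hQ (Pi.single i 1)
    simpa [pow_eq_zero_iff, dotProduct, Pi.single_apply] using this
  subst hc0
  obtain ⟨e, f, b, d, B, D, he⟩ := h.ex
  by_cases hB0 : B = 0
  swap
  · obtain ⟨p, q, hpq⟩ : ∃ p q, B p q ≠ 0 := by
      by_contra hc
      push Not at hc
      exact hB0 (by ext i j; exact hc i j)
    haveI : Nontrivial (Fin m) := Fin.nontrivial_iff_two_le.2 hm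
    obtain ⟨r, hr⟩ : ∃ r : Fin m, r ≠ p := exists_ne p
    let s : Finset (Fin m) := if p = q then {p, r} else {p, q}
    have hp : p ∈ s := by simp only [s]; split <;> simp
    have hq : q ∈ s := by simp only [s]; split <;> simp [*]
    have hs : Even s.card := by
      simp only [s]
      split
      · rw [Finset.card_pair hr.symm]; exact ⟨1, rfl⟩
      · rw [Finset.card_pair ‹_›]; exact ⟨1, rfl⟩
    set g' : Gam Q := (⟨_, sw_mem hQ hB h2 hm hs⟩ : Gam Q) * g * (⟨_, sw_mem hQ hB h2 hm hs⟩ : Gam Q)⁻¹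
    refine ⟨g', _, _, _, isConj_iff.2 ⟨_, rfl⟩, ⟨_, _, _, _, _, _, eq_bk _⟩, fun hC' => hpq ?_⟩
    have hg' : mat (g' : Grp Q) = bk 1 0 0 0 0 (1 - ind s) (-ind s) (-ind s) (1 - ind s) *
        bk e 0 f b d A B 0 D * bk 1 0 0 0 0 (1 - ind s) (-ind s) (-ind s) (1 - ind s) := by
      rw [← he]
      show mat (sw hQ s) * mat (g : Grp Q) * mat (sw hQ s)⁻¹ = _
      rfl
    have e1 := congrFun (congrFun hC' p) q
    rw [Matrix.of_apply, hg', bk_mul, bk_mul] at e1
    simpa [bk, ind, Matrix.sub_apply, Matrix.mul_sub, Matrix.sub_mul, Matrix.mul_diagonal, Matrix.diagonal_mul,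
      hp, hq] using e1
  subst hB0
  have hf : f = 0 := funext fun i => by
    have := key_eq hQ he 0 0 (Pi.single i 1)
    simpa [pow_eq_zero_iff, dotProduct, Pi.single_apply] using this
  subst hf
  have hAD : Aᵀ * D = 1 := by
    ext i j
    have := key_eq hQ he 0 (Pi.single i 1) (Pi.single j 1)
    simp [Matrix.mul_apply, dotProduct, Pi.single_apply, Matrix.one_apply] at this ⊢
    exact this.trans (by simp [eq_comm])
  have hA : A.det ≠ 0 := fun e0 => by
    have := congrArg Matrix.det hAD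
    rw [Matrix.det_mul, Matrix.det_transpose, e0, zero_mul, Matrix.det_one] at this
    exact zero_ne_one this
  have hD : D.det ≠ 0 := fun e0 => by
    have := congrArg Matrix.det hAD
    rw [Matrix.det_mul, e0, mul_zero, Matrix.det_one] at this
    exact zero_ne_one this
  have hd0 : d = 0 := by
    refine Matrix.eq_zero_of_vecMul_eq_zero hA (funext fun i => ?_)
    have h1 := key_eq hQ he 1 (Pi.single i 1) 0
    have h3 := key_eq hQ he 1 0 0
    have h4 := key_eq hQ he 0 (Pi.single i 1) 0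
    simp [dotProduct_add, add_dotProduct, dot_col_one, dot_col_zero] at h1 h3 h4
    rw [Pi.zero_apply, Matrix.vecMul, dotProduct_comm]
    show (fun j => A j i) ⬝ᵥ d = 0
    simp [dotProduct] at h1 h3 h4 ⊢
    linear_combination h1 - h3
  subst hd0
  have hb0 : b = 0 := by
    refine Matrix.eq_zero_of_vecMul_eq_zero hD (funext fun i => ?_)
    have h1 := key_eq hQ he 1 0 (Pi.single i 1)
    have h3 := key_eq hQ he 1 0 0
    simp [dotProduct_add, add_dotProduct, dot_col_one, dot_col_zero] at h1 h3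
    have h3' : e ^ 2 = 1 := by rcases h3 with rfl | rfl <;> simp
    rw [Pi.zero_apply, Matrix.vecMul]
    simp [dotProduct] at h1 ⊢
    linear_combination h1 - h3'
  subst hb0
  have he1 : e = 1 := by
    have hdet := det_eq_one_of_mem g.2
    rw [he, det_bk_diag] at hdet
    have := congrArg Matrix.det hAD
    rw [Matrix.det_mul, Matrix.det_transpose, Matrix.det_one] at this
    rw [this, mul_one] at hdet
    exact hdet
  subst he1
  by_contra hall
  push Not at hall
  have key : ∀ S : Matrix (Fin m) (Fin m) F, IsAlt S → S * A = D * S := by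
    intro S hS
    set g' : Gam Q := (⟨_, sL_mem hQ hB h2 hm S hS⟩ : Gam Q) * g * (⟨_, sL_mem hQ hB h2 hm S hS⟩ : Gam Q)⁻¹
    have hg' : mat (g' : Grp Q) = bk 1 0 0 0 0 1 0 S 1 * bk 1 0 0 0 0 A 0 0 D * bk 1 0 0 0 0 1 0 (-S) 1 := by
      rw [← he]
      show mat (sL hQ S hS) * mat (g : Grp Q) * mat (sL hQ S hS)⁻¹ = _
      rfl
    have h0 := hall g' 0 A (S * A - D * S) (isConj_iff.2 ⟨_, rfl⟩) ⟨1, 0, 0, 0, 0, D, by
      rw [hg', bk_mul, bk_mul, bk_inj]
      refine ⟨by simp, by simp, by simp, by simp, by simp, by simp, by simp, ?_, by simp⟩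
      simp [sub_eq_add_neg]⟩
    exact sub_eq_zero.1 h0
  have f1 : ∀ (i j p q : Fin m), (vecMulVec (Pi.single i (1 : F)) (Pi.single j 1) * A) p q =
      if p = i then A j q else 0 := fun i j p q => by
    rw [Matrix.vecMulVec_mul]; simp [vecMulVec, Pi.single_apply, Matrix.single_one_vecMul]
  have f2 : ∀ (i j p q : Fin m), (D * vecMulVec (Pi.single i (1 : F)) (Pi.single j 1)) p q =
      if q = j then D p i else 0 := fun i j p q => by
    rw [Matrix.mul_vecMulVec]; simp [vecMulVec, Pi.single_apply, Matrix.mulVec_single_one]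
  have key' : ∀ i j, i ≠ j → ∀ p q,
      (if p = i then A j q else 0) - (if p = j then A i q else 0) =
        (if q = j then D p i else 0) - (if q = i then D p j else 0) := fun i j _ p q => by
    have e := Matrix.ext_iff.2 (key _ (isAlt_pair (Pi.single i 1) (Pi.single j 1))) p q
    rw [Matrix.sub_mul, Matrix.mul_sub, Matrix.sub_apply, Matrix.sub_apply, f1, f1, f2, f2] at e
    exact e
  have third : ∀ a b : Fin m, ∃ c, c ≠ a ∧ c ≠ b := fun a b => by
    obtain ⟨c, hc⟩ : ∃ c : Fin m, c ∉ ({a, b} : Finset (Fin m)) := by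
      by_contra hcon
      push Not at hcon
      have := Finset.card_le_card (fun x _ => hcon x : (Finset.univ : Finset (Fin m)) ⊆ {a, b})
      rw [Finset.card_univ, Fintype.card_fin] at this
      have := Finset.card_le_two (a := a) (b := b)
      omega
    simp only [Finset.mem_insert, Finset.mem_singleton, not_or] at hc
    exact ⟨c, hc⟩
  have hoff : ∀ j p, p ≠ j → A j p = 0 := fun j p hp => by
    obtain ⟨i, hij, hip⟩ := third j p
    simpa [hij, Ne.symm hip, hp] using key' i j hij i p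
  have hdiag : ∀ i j, i ≠ j → A j j = D i i := fun i j hij => by
    simpa [hij, hij.symm] using key' i j hij i j
  obtain ⟨c, hc⟩ : ∃ c, c = A ⟨0, by omega⟩ ⟨0, by omega⟩ := ⟨_, rfl⟩
  have hall' : ∀ i, A i i = c := fun i => by
    rcases eq_or_ne i ⟨0, by omega⟩ with rfl | hi
    · exact hc.symm
    obtain ⟨k, hk1, hk2⟩ := third i ⟨0, by omega⟩
    rw [hdiag k i hk1, hc, hdiag k _ hk2]
  have hAc : A = c • 1 := by
    ext i p
    rcases eq_or_ne p i with rfl | hp
    · simp [hall']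
    · simp [hoff i p hp, Ne.symm hp]
  obtain ⟨k, hk, -⟩ := third ⟨0, by omega⟩ ⟨0, by omega⟩
  have hcD : D k k = c := by rw [← hdiag k _ hk, hc]
  have hcc : c * c = 1 := by
    have := congrFun (congrFun hAD k) k
    rw [hAc, Matrix.transpose_smul, Matrix.transpose_one, Matrix.smul_mul, Matrix.one_mul, Matrix.smul_apply,
      hcD, smul_eq_mul, Matrix.one_apply_eq] at this
    exact this
  have hDc : D = c • 1 := by
    rw [hAc, Matrix.transpose_smul, Matrix.transpose_one, Matrix.smul_mul, Matrix.one_mul] at hAD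
    have := congrArg (fun X => c • X) hAD
    simpa [smul_smul, hcc] using this
  rw [hAc, hDc] at he
  rcases mul_self_eq_one_iff.1 hcc with rfl | rfl
  · refine hg (proj_eq_one_of_smul (c := 1) ?_)
    rw [he, one_smul, one_smul, bk_one]
  · set l : Fin m → F := Pi.single ⟨0, by omega⟩ 1
    set g' : Gam Q := (⟨_, lV_mem hQ hB h2 hm l⟩ : Gam Q) * g * (⟨_, lV_mem hQ hB h2 hm l⟩ : Gam Q)⁻¹
    have hg' : mat (g' : Grp Q) = bk 1 l 0 0 (-(2 : F) • l) 1 0 (-vecMulVec l l) 1 *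
        bk 1 0 0 0 0 ((-1 : F) • 1) 0 0 ((-1 : F) • 1) * bk 1 (-l) 0 0 ((2 : F) • l) 1 0 (-vecMulVec l l) 1 := by
      rw [← he]
      show mat (lV hQ l) * mat (g : Grp Q) * mat (lV hQ l)⁻¹ = _
      rfl
    have h0 := hall g' _ _ _ (isConj_iff.2 ⟨_, rfl⟩) ⟨_, _, _, _, _, _, eq_bk _⟩
    have e1 := congrFun (congrFun h0 ⟨0, by omega⟩) ⟨0, by omega⟩
    rw [Matrix.of_apply, hg', bk_mul, bk_mul] at e1
    simp [bk, l, Matrix.vecMulVec_apply, Matrix.zero_vecMulVec, Matrix.vecMulVec_zero, Matrix.mul_apply, Matrix.one_apply, Matrix.neg_apply] at e1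
    refine mul_ne_zero h2 h2 ?_
    linear_combination e1

theorem make_c {g : Gam Q} {c : Fin m → F} {A C : Matrix (Fin m) (Fin m) F} (h : HasX g c A C)
    (hA : A.det ≠ 0) (hC : C ≠ 0) :
    ∃ (g' : Gam Q) (c' : Fin m → F) (A' : Matrix (Fin m) (Fin m) F),
      IsConj g g' ∧ HasX g' c' A' C ∧ A'.det = A.det ∧ c' ≠ 0 := by
  by_cases hc : c = 0
  swap
  · exact ⟨g, c, A, IsConj.refl g, h, rfl, hc⟩
  subst hc
  obtain ⟨p, q, hpq⟩ : ∃ p q, C p q ≠ 0 := by
    by_contra hc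
    push Not at hc
    exact hC (by ext i j; exact hc i j)
  set l : Fin m → F := Pi.single p 1
  obtain ⟨g', hgg', hb⟩ := conj_uV hQ hB h2 hm h l
  have hu : IsUnit A.det := isUnit_iff_ne_zero.2 hA
  refine ⟨g', _, _, hgg', hb, ?_, fun e => hpq ?_⟩
  · rw [smul_zero, zero_add, show A - vecMulVec l (l ᵥ* C) = (1 + vecMulVec l (-(l ᵥ* C ᵥ* A⁻¹))) * A by
      rw [Matrix.vecMulVec_neg, Matrix.add_mul, Matrix.one_mul, Matrix.neg_mul, Matrix.vecMulVec_mul,
        Matrix.vecMul_vecMul _ A⁻¹, Matrix.nonsing_inv_mul _ hu, Matrix.vecMul_one, sub_eq_add_neg],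
      Matrix.det_mul, det_one_add_one, neg_dotProduct, ← Matrix.dotProduct_mulVec]
    have := h.rel hQ (A⁻¹ *ᵥ l)
    rw [zero_dotProduct, Matrix.mulVec_mulVec, Matrix.mul_nonsing_inv _ hu, Matrix.one_mulVec,
      Matrix.dotProduct_mulVec] at this
    have e : (l ᵥ* C) ⬝ᵥ (A⁻¹ *ᵥ l) = 0 := by simpa using this
    rw [e, neg_zero, add_zero, one_mul]
  · simpa [l] using congrFun e q

omit hB h2 hm in
theorem gamma_rel {g : Gam Q} {c : Fin m → F} {A C : Matrix (Fin m) (Fin m) F} (h : HasX g c A C)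
    (hA : A.det ≠ 0) (w : Fin m → F) :
    ((c ᵥ* A⁻¹) ⬝ᵥ w) ^ 2 + w ⬝ᵥ ((C * A⁻¹) *ᵥ w) = 0 := by
  have := h.rel hQ (A⁻¹ *ᵥ w)
  rwa [Matrix.mulVec_mulVec, Matrix.mul_nonsing_inv _ (isUnit_iff_ne_zero.2 hA), Matrix.one_mulVec,
    Matrix.dotProduct_mulVec, Matrix.mulVec_mulVec] at this

omit hQ hB h2 hm in
theorem move_eq {c : Fin m → F} {A C : Matrix (Fin m) (Fin m) F} (hA : A.det ≠ 0) (l : Fin m → F) :
    A - vecMulVec l ((2 : F) • c + l ᵥ* C) =
      (1 + vecMulVec (-l) ((2 : F) • (c ᵥ* A⁻¹) + l ᵥ* (C * A⁻¹))) * A := by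
  have hu : IsUnit A.det := isUnit_iff_ne_zero.2 hA
  rw [Matrix.add_mul, Matrix.one_mul, Matrix.neg_vecMulVec, Matrix.neg_mul, Matrix.vecMulVec_mul,
    Matrix.add_vecMul, Matrix.smul_vecMul, Matrix.vecMul_vecMul, Matrix.vecMul_vecMul,
    Matrix.nonsing_inv_mul _ hu, Matrix.vecMul_one, Matrix.mul_assoc, Matrix.nonsing_inv_mul _ hu,
    Matrix.mul_one, sub_eq_add_neg]

theorem decomp {g : Gam Q} {c : Fin m → F} {A C : Matrix (Fin m) (Fin m) F} (h : HasX g c A C)
    (hA : A.det ≠ 0) :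
    ∃ (hN : IsAlt (C * A⁻¹ + vecMulVec (c ᵥ* A⁻¹) (c ᵥ* A⁻¹))) (f : Fin m → F)
      (S : Matrix (Fin m) (Fin m) F) (hS : IsAlt S),
      (g : Grp Q) = lV hQ (c ᵥ* A⁻¹) * sL hQ _ hN *
        lev hQ (Matrix.GeneralLinearGroup.mkOfDetNeZero A hA) * (uV hQ f * sU hQ S hS) ∧
      IsSquare A.det := by
  have hu : IsUnit A.det := isUnit_iff_ne_zero.2 hA
  set γ := c ᵥ* A⁻¹
  have hN : IsAlt (C * A⁻¹ + vecMulVec γ γ) := fun w => by
    rw [Matrix.add_mulVec, Matrix.vecMulVec_mulVec, op_smul_eq_smul, dotProduct_add, dotProduct_smul,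
      dotProduct_comm w γ, smul_eq_mul]
    linear_combination gamma_rel hQ h hA w
  set Ag : GL (Fin m) F := Matrix.GeneralLinearGroup.mkOfDetNeZero A hA
  set P := lV hQ γ * sL hQ _ hN * lev hQ Ag with hP
  set v : Grp Q := P⁻¹ * (g : Grp Q) with hv
  have hPm : mat P = bk 1 c 0 0 (-(2 : F) • γ) A 0 C ((Ag⁻¹ : GL (Fin m) F) : Matrix (Fin m) (Fin m) F)ᵀ := by
    show bk 1 γ 0 0 (-(2 : F) • γ) 1 0 (-vecMulVec γ γ) 1 *
      bk 1 0 0 0 0 1 0 (C * A⁻¹ + vecMulVec γ γ) 1 * levMat Ag = _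
    rw [levMat, bk_mul, bk_mul, bk_inj, show (Ag : Matrix (Fin m) (Fin m) F) = A from rfl]
    refine ⟨by simp, ?_, by simp, by simp, by simp, by simp, by simp, ?_, by simp⟩
    · simp [γ, Matrix.vecMul_vecMul, Matrix.nonsing_inv_mul _ hu]
    · simp [Matrix.mul_assoc, Matrix.nonsing_inv_mul _ hu]
  have hPv : mat P * mat v = mat (g : Grp Q) := by rw [← mat_mul, hv, mul_inv_cancel_left]
  obtain ⟨e0, f0, b0, d0, B0, D0, hg⟩ := h.ex
  rw [hPm, eq_bk (mat v), bk_mul, hg, bk_inj] at hPv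
  obtain ⟨-, hc', -, -, -, hA', -, hC', -⟩ := hPv
  have hvx := eq_bk (mat v)
  set e := mat v (.inl ()) (.inl ())
  set cv := fun j => mat v (.inl ()) (.inr (.inl j))
  set f := fun j => mat v (.inl ()) (.inr (.inr j))
  set b := fun i => mat v (.inr (.inl i)) (.inl ())
  set d := fun i => mat v (.inr (.inr i)) (.inl ())
  set Av := Matrix.of fun i j => mat v (.inr (.inl i)) (.inr (.inl j))
  set Bv := Matrix.of fun i j => mat v (.inr (.inl i)) (.inr (.inr j))
  set Cv := Matrix.of fun i j => mat v (.inr (.inr i)) (.inr (.inl j))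
  set Dv := Matrix.of fun i j => mat v (.inr (.inr i)) (.inr (.inr j))
  simp only [one_smul, Matrix.zero_vecMul, add_zero, Matrix.zero_mul] at hc' hA' hC'
  simp only [Matrix.zero_vecMulVec, zero_add] at hA'
  have hAv : Av = 1 := by
    have := congrArg (fun X => A⁻¹ * X) hA'
    simpa [← Matrix.mul_assoc, Matrix.nonsing_inv_mul _ hu] using this
  rw [hAv, Matrix.vecMul_one] at hc'
  have hcv : cv = 0 := add_eq_right.1 hc'
  rw [hAv, hcv, Matrix.vecMulVec_zero, zero_add, Matrix.mul_one] at hC'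
  have hCv : Cv = 0 := by
    have := congrArg (fun X => ((Ag : Matrix (Fin m) (Fin m) F))ᵀ * X) (add_eq_left.1 hC')
    simpa [← Matrix.mul_assoc, ← Matrix.transpose_mul, ← Units.val_mul] using this
  rw [hAv, hcv, hCv] at hvx
  have hd : d = 0 := funext fun i => by
    have h1 := key_eq hQ hvx 1 (Pi.single i 1) 0
    have h3 := key_eq hQ hvx 1 0 0
    simp [dotProduct_add, add_dotProduct, dot_col_one, dot_col_zero] at h1 h3
    rw [Pi.zero_apply]
    linear_combination h1 - h3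
  rw [hd] at hvx
  have hD : Dv = 1 := by
    ext i j
    have h1 := key_eq hQ hvx 0 (Pi.single i 1) (Pi.single j 1)
    have h3 := key_eq hQ hvx 0 0 (Pi.single j 1)
    simp [dotProduct_add, add_dotProduct, dot_col_one, dot_col_zero] at h1 h3
    rw [Matrix.one_apply]
    simp [Pi.single_apply, eq_comm] at h1 h3 ⊢
    linear_combination h1 - h3
  rw [hD] at hvx
  have hee : e * e = 1 := by
    have h3 : e ^ 2 + (0 : F) = 1 := by
      have h3 := key_eq hQ hvx 1 0 0
      simp only [mul_one, dotProduct_zero, add_zero, one_smul, Matrix.mulVec_zero, one_pow] at h3 ⊢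
      simpa using h3
    linear_combination h3
  have hb' : ∀ i, 2 * e * f i + b i = 0 := fun i => by
    have h1 := key_eq hQ hvx 1 0 (Pi.single i 1)
    have h4 := key_eq hQ hvx 0 0 (Pi.single i 1)
    simp [dotProduct_add, add_dotProduct, dot_col_one, dot_col_zero] at h1 h4
    linear_combination h1 - h4 - hee
  have hS : IsAlt (Bv + vecMulVec f f) := fun y => by
    have h1 := key_eq hQ hvx 0 0 y
    simp at h1
    rw [Matrix.add_mulVec, Matrix.vecMulVec_mulVec, op_smul_eq_smul, dotProduct_add, dotProduct_smul,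
      dotProduct_comm y (Bv *ᵥ y), dotProduct_comm y f, smul_eq_mul]
    linear_combination h1
  refine ⟨hN, ?_⟩
  have he1 : e = 1 := by
    rcases mul_self_eq_one_iff.1 hee with he | he
    · exact he
    exfalso
    have h1 := det_eq_one_of_mem g.2
    have hPmem : (mat (lV hQ γ * sL hQ _ hN)).det = 1 := by
      refine det_eq_one_of_mem (mul_mem (lV_mem hQ hB h2 hm γ) (sL_mem hQ hB h2 hm _ hN))
    have hg2 : mat (g : Grp Q) = mat P * mat v := by rw [← mat_mul, hv, mul_inv_cancel_left]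
    rw [hg2, Matrix.det_mul, hP, mat_mul, Matrix.det_mul, hPmem, one_mul] at h1
    have hl : (mat (lev hQ Ag)).det = 1 := by
      show (levMat Ag).det = 1
      rw [levMat, det_bk_diag, Matrix.det_transpose, one_mul, Matrix.coe_units_inv, Matrix.det_nonsing_inv,
        Ring.inverse_eq_inv', mul_inv_cancel₀]
      exact hA
    rw [hl, one_mul, hvx, he] at h1
    have hfb : bk (-1) 0 f b 0 1 Bv 0 1 = fromBlocks (Matrix.of fun (_ _ : Unit) => (-1 : F))
        (Matrix.of fun _ j => Sum.elim (0 : Fin m → F) f j) (Matrix.of fun i _ => Sum.elim b (0 : Fin m → F) i)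
        (fromBlocks 1 Bv 0 1) := rfl
    have hneg : bk (-1) 0 f b 0 1 Bv 0 1 = bk (-1) 0 0 0 0 1 0 0 1 *
        bk 1 0 (-f) b 0 1 Bv 0 1 := by
      rw [bk_mul, bk_inj]; simp
    rw [hneg, Matrix.det_mul, det_bk_diag] at h1
    have hmem2 : bk 1 0 (-f) b 0 1 Bv 0 1 = bk 1 0 (-f) (-(2 : F) • -f) 0 1 (-vecMulVec (-f) (-f)) 0 1 *
        bk 1 0 0 0 0 1 (Bv + vecMulVec f f) 0 1 := by
      rw [bk_mul, bk_inj]
      refine ⟨by simp, by simp, by simp, ?_, by simp, by simp, ?_, by simp, by simp⟩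
      · funext i
        have := hb' i
        rw [he] at this
        simp
        linear_combination this
      · simp; 
    have hd2 : (bk 1 0 (-f) b 0 1 Bv 0 1).det = 1 := by
      rw [hmem2]
      exact det_eq_one_of_mem (mul_mem (uV_mem hQ hB h2 hm (-f)) (sU_mem hQ hB h2 hm _ hS))
    rw [hd2, Matrix.det_one, mul_one, mul_one, mul_one] at h1
    exact h2 (by linear_combination -h1)
  have hveq : v = uV hQ f * sU hQ _ hS := mat_inj (by
    rw [hvx, he1]
    show _ = bk 1 0 f (-(2 : F) • f) 0 1 (-vecMulVec f f) 0 1 * bk 1 0 0 0 0 1 (Bv + vecMulVec f f) 0 1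
    rw [bk_mul, bk_inj]
    refine ⟨by simp, by simp, by simp, ?_, by simp, by simp, ?_, by simp, by simp⟩
    · funext i
      have := hb' i
      rw [he1] at this
      simp
      linear_combination this
    · simp)
  refine ⟨f, _, hS, ?_, ?_⟩
  · rw [← hveq, hv, ← hP, mul_inv_cancel_left]
  · have hg2 : (g : Grp Q) = P * v := by rw [hv, mul_inv_cancel_left]
    have hs := (Orth.of_mem_omega hB g.2).2
    rw [hg2, hveq, hP, map_mul, map_mul, map_mul, map_mul,
      (Orth.of_mem_omega hB (lV_mem hQ hB h2 hm γ)).2, (Orth.of_mem_omega hB (sL_mem hQ hB h2 hm _ hN)).2,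
      (Orth.of_mem_omega hB (uV_mem hQ hB h2 hm f)).2, (Orth.of_mem_omega hB (sU_mem hQ hB h2 hm _ hS)).2,
      (lev_class hQ hB h2 hm Ag).2] at hs
    simp only [one_mul, mul_one] at hs
    rw [sqc_eq_one] at hs
    exact hs

theorem exists_normal_form (hm3 : 3 ≤ m) {g : Gam Q} (hg : proj Q g ≠ 1) {r : F} (hr : r ≠ 0) :
    ∃ (g' : Gam Q) (c : Fin m → F) (A C : Matrix (Fin m) (Fin m) F),
      IsConj g g' ∧ HasX g' c A C ∧ A.det = r * r ∧ Nonscalar A := by
  obtain ⟨c, A, C, h⟩ := hasX hQ g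
  obtain ⟨g1, c1, A1, C1, k1, h1, hC1⟩ := exists_C_ne hQ hB h2 hm hg h hm3
  obtain ⟨g2, c2, A2, k2, h2', hA2⟩ := exists_invertible hQ hB h2 hm _ g1 c1 A1 C1 h1 rfl
  obtain ⟨g3, c3, A3, k3, h3, hd3, hc3⟩ := make_c hQ hB h2 hm h2' hA2 hC1
  have hA3 : A3.det ≠ 0 := hd3 ▸ hA2
  obtain ⟨-, -, -, -, -, e, he⟩ := decomp hQ hB h2 hm h3 hA3
  have he0 : e ≠ 0 := fun h0 => hA3 (by rw [he, h0, zero_mul])
  have hu3 : IsUnit A3.det := isUnit_iff_ne_zero.2 hA3
  set γ := c3 ᵥ* A3⁻¹ with hγdef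
  have hγ : γ ≠ 0 := fun h0 => hc3 (by
    rw [← Matrix.vecMul_one c3, ← Matrix.nonsing_inv_mul _ hu3, ← Matrix.vecMul_vecMul, ← hγdef, h0,
      Matrix.zero_vecMul])
  obtain ⟨l0, hl0⟩ := exists_dot_ne hγ
  set l := ((1 - r / e) / (γ ⬝ᵥ l0)) • l0 with hl
  have hu : γ ⬝ᵥ l = 1 - r / e := by rw [hl, dotProduct_smul, smul_eq_mul, div_mul_cancel₀ _ hl0]
  obtain ⟨g4, k4, h4⟩ := conj_uV hQ hB h2 hm h3 l
  have hd4 : (A3 - vecMulVec l ((2 : F) • c3 + l ᵥ* C1)).det = r * r := by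
    rw [move_eq hA3, Matrix.det_mul, det_one_add_one, add_dotProduct, smul_dotProduct, dotProduct_neg,
      dotProduct_neg, ← Matrix.dotProduct_mulVec l, smul_eq_mul, ← hγdef, hu]
    have hrel := gamma_rel hQ h3 hA3 l
    rw [← hγdef, hu] at hrel
    rw [he]
    field_simp at hrel ⊢
    linear_combination -hrel
  by_cases hns : Nonscalar (A3 - vecMulVec l ((2 : F) • c3 + l ᵥ* C1))
  · exact ⟨g4, _, _, _, ((k1.trans k2).trans k3).trans k4, h4, hd4, hns⟩
  have hA4 : (A3 - vecMulVec l ((2 : F) • c3 + l ᵥ* C1)).det ≠ 0 := hd4 ▸ mul_ne_zero hr hr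
  obtain ⟨g5, c5, A5, k5, h5, hd5, hc5⟩ := make_c hQ hB h2 hm h4 hA4 hC1
  rw [hd4] at hd5
  by_cases hns5 : Nonscalar A5
  · exact ⟨g5, _, _, _, (((k1.trans k2).trans k3).trans k4).trans k5, h5, hd5, hns5⟩
  simp only [Nonscalar] at hns5
  push Not at hns5
  obtain ⟨κ, hκ⟩ := hns5
  haveI : Nonempty (Fin m) := ⟨⟨0, by omega⟩⟩
  have hκ0 : κ ≠ 0 := fun h0 => by
    rw [hκ, h0, zero_smul, Matrix.det_zero] at hd5
    exact mul_ne_zero hr hr hd5.symm
  have hA5 : A5.det ≠ 0 := hd5 ▸ mul_ne_zero hr hr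
  have hu5 : IsUnit A5.det := isUnit_iff_ne_zero.2 hA5
  set γ5 := c5 ᵥ* A5⁻¹ with hγ5def
  have hγ5 : γ5 ≠ 0 := fun h0 => hc5 (by
    rw [← Matrix.vecMul_one c5, ← Matrix.nonsing_inv_mul _ hu5, ← Matrix.vecMul_vecMul, ← hγ5def, h0,
      Matrix.zero_vecMul])
  obtain ⟨l1, hl1, hl10⟩ : ∃ l1, γ5 ⬝ᵥ l1 = 0 ∧ l1 ≠ 0 := by
    by_contra hc
    push Not at hc
    have hinj : Function.Injective (dotLin γ5) := by
      rw [← LinearMap.ker_eq_bot, LinearMap.ker_eq_bot']
      exact fun v hv => hc v hv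
    have := LinearMap.finrank_le_finrank_of_injective hinj
    rw [Module.finrank_fin_fun, Module.finrank_self] at this
    omega
  obtain ⟨l, hl, hl0', hw⟩ : ∃ l, γ5 ⬝ᵥ l = 0 ∧ l ≠ 0 ∧ (2 : F) • γ5 + l ᵥ* (C1 * A5⁻¹) ≠ 0 := by
    by_contra hc
    push Not at hc
    have a1 := hc l1 hl1 hl10
    have a2 := hc ((2 : F) • l1) (by rw [dotProduct_smul, hl1, smul_zero]) (smul_ne_zero h2 hl10)
    rw [Matrix.smul_vecMul] at a2
    have : (2 : F) • γ5 = 0 := by
      have e1 := congrArg (fun v => (2 : F) • v) a1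
      simp only [smul_add, smul_zero] at e1
      have e3 : (2 : F) • (2 : F) • γ5 - (2 : F) • γ5 = 0 := by
        rw [show (2 : F) • (2 : F) • γ5 - (2 : F) • γ5 = ((2 : F) • (2 : F) • γ5 + (2 : F) • (l1 ᵥ* (C1 * A5⁻¹))) -
          ((2 : F) • γ5 + (2 : F) • (l1 ᵥ* (C1 * A5⁻¹))) by abel, e1, a2, sub_zero]
      rwa [two_smul F ((2 : F) • γ5), add_sub_cancel_right] at e3
    exact hγ5 ((smul_eq_zero.1 this).resolve_left h2)
  obtain ⟨g6, k6, h6⟩ := conj_uV hQ hB h2 hm h5 l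
  refine ⟨g6, _, _, _, ((((k1.trans k2).trans k3).trans k4).trans k5).trans k6, h6, ?_, ?_⟩
  · rw [move_eq hA5, Matrix.det_mul, det_one_add_one, add_dotProduct, smul_dotProduct, dotProduct_neg,
      dotProduct_neg, ← Matrix.dotProduct_mulVec l, smul_eq_mul, ← hγ5def, hl]
    have hrel := gamma_rel hQ h5 hA5 l
    rw [← hγ5def, hl] at hrel
    rw [hd5]
    linear_combination (-(r * r)) * hrel
  · rw [move_eq hA5]
    nth_rw 3 [hκ]
    refine Nonscalar.mul_smul ?_ hκ0
    rw [← hγ5def]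
    set w := (2 : F) • γ5 + l ᵥ* (C1 * A5⁻¹)
    intro q hq
    obtain ⟨v, hv, hv0⟩ : ∃ v, w ⬝ᵥ v = 0 ∧ v ≠ 0 := by
      by_contra hc
      push Not at hc
      have hinj : Function.Injective (dotLin w) := by
        rw [← LinearMap.ker_eq_bot, LinearMap.ker_eq_bot']
        exact fun v hv => hc v hv
      have := LinearMap.finrank_le_finrank_of_injective hinj
      rw [Module.finrank_fin_fun, Module.finrank_self] at this
      omega
    have e1 := congrArg (fun X => X *ᵥ v) hq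
    simp only [Matrix.add_mulVec, Matrix.one_mulVec, Matrix.vecMulVec_mulVec, hv, op_smul_eq_smul, zero_smul,
      add_zero, Matrix.smul_mulVec] at e1
    have hq1 : q = 1 := by
      by_contra hne
      exact hv0 ((smul_eq_zero.1 (show (q - 1) • v = 0 by rw [sub_smul, one_smul, ← e1, sub_self])).resolve_left
        (sub_ne_zero.2 hne))
    rw [hq1, one_smul, add_eq_left] at hq
    obtain ⟨i, hi⟩ := Function.ne_iff.1 hl0'
    obtain ⟨j, hj⟩ := Function.ne_iff.1 hw
    have := congrFun (congrFun hq i) j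
    simp [vecMulVec] at this
    exact this.elim hi hj

end OrthO

section Final

open CfsgLib.Orth Orth OrthO

variable [Fintype F]

theorem exists_torus_pair (hF : 9 ≤ Fintype.card F) (n : ℕ) :
    ∃ a b : F, a ≠ 0 ∧ b ≠ 0 ∧ IsSquare (b * a ^ n) ∧ a ≠ 1 ∧ b ≠ 1 ∧ a ≠ a⁻¹ ∧ b ≠ b⁻¹ ∧ a ≠ b ∧ b ≠ a⁻¹ := by
  classical
  obtain ⟨s, hs⟩ := IsCyclic.exists_generator (α := Fˣ)
  have ho : orderOf s = Fintype.card Fˣ := by
    rw [← Nat.card_eq_fintype_card]
    exact orderOf_eq_card_of_forall_mem_zpowers hs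
  rw [Fintype.card_units] at ho
  have hne : ∀ i : ℕ, 1 ≤ i → i ≤ 6 → (s : F) ^ i ≠ 1 := fun i h1 h6 e => by
    have he : s ^ i = 1 := Units.ext (by simpa using e)
    exact pow_ne_one_of_lt_orderOf (by omega) (by omega) he
  have hs0 : (s : F) ≠ 0 := s.ne_zero
  have hinv : ∀ i j : ℕ, 1 ≤ i + j → i + j ≤ 6 → (s : F) ^ i ≠ ((s : F) ^ j)⁻¹ := fun i j h1 h6 e => by
    apply hne (i + j) h1 h6
    rw [pow_add, e, inv_mul_cancel₀ (pow_ne_zero _ hs0)]
  have hdiff : ∀ i d : ℕ, 1 ≤ d → d ≤ 6 → (s : F) ^ (i + d) ≠ (s : F) ^ i := fun i d h1 h6 e => by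
    apply hne d h1 h6
    rw [pow_add] at e
    exact (mul_eq_left₀ (pow_ne_zero _ hs0)).1 e
  obtain ⟨j, hj2, hj3, k, hk⟩ : ∃ j, 2 ≤ j ∧ j ≤ 3 ∧ Even (j + n) := by
    rcases Nat.even_or_odd n with ⟨i, hi⟩ | ⟨i, hi⟩
    · exact ⟨2, le_rfl, by omega, i + 1, by omega⟩
    · exact ⟨3, by omega, le_rfl, i + 2, by omega⟩
  refine ⟨s, (s : F) ^ j, hs0, pow_ne_zero _ hs0, ⟨(s : F) ^ k, by rw [← pow_add, ← pow_add, hk]⟩,
    by simpa using hne 1 le_rfl (by omega), hne j (by omega) (by omega), ?_, hinv j j (by omega) (by omega), ?_, ?_⟩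
  · simpa using hinv 1 1 (by omega) (by omega)
  · have := hdiff 1 (j - 1) (by omega) (by omega)
    rw [show 1 + (j - 1) = j by omega, pow_one] at this
    exact this.symm
  · simpa using hinv j 1 (by omega) (by omega)

/-- The grading. -/
def oddWt (k : ℕ) : Unit ⊕ (Fin (k + 1) ⊕ Fin (k + 1)) → ℤ :=
  Sum.elim (fun _ => 0) (Sum.elim (Fin.cons 2 fun _ => 1) (Fin.cons (-2) fun _ => -1))

theorem class_sq_pomega_odd_form (hF : 9 ≤ Fintype.card F) (h2 : (2 : F) ≠ 0) {k : ℕ} (hk : 2 ≤ k)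
    {Q : QuadraticForm F (Unit ⊕ (Fin (k + 1) ⊕ Fin (k + 1)) → F)} (hQ : ⇑Q = Cfsg.quadFormOdd (k + 1) F)
    (hB : Nondeg Q) :
    ∃ c : ↥(Cfsg.Omega F ⇑Q) ⧸ Subgroup.center ↥(Cfsg.Omega F ⇑Q),
      ∀ g, ∃ x y, g = (x * c * x⁻¹) * (y * c * y⁻¹) := by
  classical
  have hm2 : 2 ≤ k + 1 := by omega
  obtain ⟨a, b, ha, hb0, hsq, ha1, hb1, haa, hbb, hab, hab'⟩ := exists_torus_pair hF k
  have hai1 : a⁻¹ ≠ 1 := fun e => ha1 (inv_eq_one.1 e)
  have hbi1 : b⁻¹ ≠ 1 := fun e => hb1 (inv_eq_one.1 e)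
  have habi : a⁻¹ ≠ b⁻¹ := fun e => hab (inv_inj.1 e)
  have hba : b⁻¹ ≠ a := fun e => hab' (by rw [← e, inv_inv])
  let Γ := ↥(Cfsg.Omega F ⇑Q)
  let emb : GL (Fin k) F → GL (Fin (k + 1)) F := fun P => blkGL 1 P
  let ψ : (Unit → Matrix.SpecialLinearGroup (Fin k) F) →* Γ :=
    { toFun := fun x => ⟨lev hQ (emb (Matrix.SpecialLinearGroup.toGL (x ()))),
        OrthO.lev_mem hQ hB h2 hm2 _ ⟨1, by
          simp only [emb, det_blkGL, Units.val_one, one_mul]
          exact (x ()).2⟩⟩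
      map_one' := Subtype.ext (by
        show lev hQ (emb (Matrix.SpecialLinearGroup.toGL ((1 : Unit → Matrix.SpecialLinearGroup (Fin k) F) ()))) = 1
        rw [Pi.one_apply, map_one, show emb 1 = 1 from Units.ext (by simp [emb, blk_one]), map_one])
      map_mul' := fun x y => Subtype.ext (by
        show lev hQ (emb (Matrix.SpecialLinearGroup.toGL ((x * y) ()))) = lev hQ _ * lev hQ _
        rw [← map_mul, Pi.mul_apply, map_mul]
        congr 1
        exact Units.ext (by simp [emb, blk_diag_mul])) }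
  let s : GL (Fin k) F := Units.map (algebraMap F (Matrix (Fin k) (Fin k) F)).toMonoidHom (Units.mk0 a ha)
  have hs : (s : Matrix (Fin k) (Fin k) F) = a • 1 := Algebra.algebraMap_eq_smul_one a
  have hsi : ((s⁻¹ : GL (Fin k) F) : Matrix (Fin k) (Fin k) F) = a⁻¹ • 1 := Algebra.algebraMap_eq_smul_one a⁻¹
  let H : GL (Fin (k + 1)) F := blkGL (Units.mk0 b hb0) s
  let h : Γ := ⟨lev hQ H, OrthO.lev_mem hQ hB h2 hm2 _ (by
    simpa [H, det_blk_zero_row, hs, Matrix.det_smul] using hsq)⟩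
  let ρ : Γ →* GL (Unit ⊕ (Fin (k + 1) ⊕ Fin (k + 1))) F :=
    (Cfsg.isometryGroup F ⇑Q).subtype.comp (Cfsg.Omega F ⇑Q).subtype
  have hinj : Function.Injective ρ := fun x y e => Subtype.ext (Subtype.ext e)
  have hgr : ∀ (c : Fˣ) (P : GL (Fin k) F), Graded (oddWt k) (levMat (blkGL c P)) := by
    intro c P i j hij
    rcases i with i | i | i <;> rcases j with j | j | j <;> simp [levMat, bk, oddWt, -Matrix.coe_units_inv] at hij ⊢
    all_goals
      cases i using Fin.cases <;> cases j using Fin.cases <;> simp at hij ⊢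
  refine class_sq_of_graded (κ := Unit) (k := fun _ => k) (by omega) (proj Q) (QuotientGroup.mk'_surjective _) ρ hinj
    ψ h (oddWt k)
    (Sum.elim (fun _ => 1) (Sum.elim (Fin.cons b fun _ => a) (Fin.cons b⁻¹ fun _ => a⁻¹))) ?_ ?_ ?_
    (fun x => hgr 1 _) ?_ ?_ ?_
  · show levMat H = _
    rw [levMat]
    ext i j
    rcases i with i | i | i <;> rcases j with j | j | j <;>
      simp [bk, Matrix.diagonal_apply, Matrix.one_apply, eq_comm, H, hs, hsi, -Matrix.coe_units_inv]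
    all_goals
      cases i using Fin.cases <;> cases j using Fin.cases <;>
        simp [Matrix.one_apply, Fin.succ_ne_zero, (Fin.succ_ne_zero _).symm, eq_comm]
  · intro i j
    rcases i with i | i | i <;> rcases j with j | j | j <;> (try cases i using Fin.cases) <;>
      (try cases j using Fin.cases) <;> simp [oddWt]
  · intro i j
    rcases i with i | i | i <;> rcases j with j | j | j <;> (try cases i using Fin.cases) <;>
      (try cases j using Fin.cases) <;>
      simp [oddWt, haa, haa.symm, hbb, hbb.symm, hab, hab.symm, hab', hab'.symm, habi, habi.symm, hba, hba.symm,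
        ha1, hb1, hai1, hbi1, ha1.symm, hb1.symm, hai1.symm, hbi1.symm]
  · intro e
    obtain ⟨k', rfl⟩ : ∃ k', k = k' + 1 := ⟨k - 1, by omega⟩
    let D : GL (Fin (k' + 1)) F := blkGL (e ()) 1
    have hD : (D : Matrix (Fin (k' + 1)) (Fin (k' + 1)) F).det = e () := by simp [D, det_blk_zero_row]
    have hT : ((blkGL (e ()) D⁻¹ : GL (Fin (k' + 2)) F) : Matrix (Fin (k' + 2)) (Fin (k' + 2)) F).det = 1 := by
      rw [det_blkGL, Matrix.coe_units_inv, Matrix.det_nonsing_inv, hD, Ring.inverse_eq_inv',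
        mul_inv_cancel₀ (e ()).ne_zero]
    refine ⟨⟨lev hQ (blkGL (e ()) D⁻¹), OrthO.lev_mem hQ hB h2 hm2 _ ⟨1, by rw [hT, mul_one]⟩⟩,
      hgr _ _, fun _ => D, fun _ _ => hD, fun x y hxy => ?_⟩
    refine Subtype.ext ?_
    show lev hQ _ * lev hQ _ * (lev hQ _)⁻¹ = lev hQ _
    rw [← map_inv, ← map_mul, ← map_mul]
    congr 1
    refine Units.ext ?_
    rw [Units.val_mul, Units.val_mul]
    show blk _ 0 0 _ * blk 1 0 0 (x () : Matrix (Fin (k' + 1)) (Fin (k' + 1)) F) * blk _ 0 0 _ =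
      blk 1 0 0 (y () : Matrix (Fin (k' + 1)) (Fin (k' + 1)) F)
    rw [hxy (), blk_diag_mul, blk_diag_mul]
    simp [cj]
  · intro g hg
    obtain ⟨k', rfl⟩ : ∃ k', k = k' + 1 := ⟨k - 1, by omega⟩
    have hr : b * a ^ (k' + 1) ≠ 0 := mul_ne_zero hb0 (pow_ne_zero _ ha)
    obtain ⟨g', c, A, C, hc, hb, hd, hns⟩ := OrthO.exists_normal_form hQ hB h2 hm2 (by omega) hg hr
    have hA : A.det ≠ 0 := hd ▸ mul_ne_zero hr hr
    obtain ⟨P, l, n, Y, hP, hdY, hY⟩ := peel hns hA (mul_ne_zero hb0 hb0)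
    rw [hd] at hdY
    -- make the conjugating matrix unimodular
    let e0 : Fˣ := (Units.mk0 (P : Matrix (Fin (k' + 2)) (Fin (k' + 2)) F).det (det_units_ne P))⁻¹
    let R : GL (Fin (k' + 2)) F := P * blkGL e0 1
    have hR : (R : Matrix (Fin (k' + 2)) (Fin (k' + 2)) F).det = 1 := by
      simp only [R, Units.val_mul, Matrix.det_mul, det_blkGL, e0, Units.val_inv_eq_inv_val, Units.val_mk0,
        Units.val_one, Matrix.det_one, mul_one]
      exact mul_inv_cancel₀ (det_units_ne P)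
    have hRA : ∃ n' l', cj R A = blk 1 0 n' 1 * blk (b * b) 0 0 Y * blk 1 l' 0 1 := by
      refine ⟨(e0 : F) • n, ((e0⁻¹ : Fˣ) : F) • l, ?_⟩
      rw [← cj_cj, hP, cj_mul, cj_mul, cj_blkGL, cj_blkGL, cj_blkGL]
      simp [cj]
    obtain ⟨n', l', hRA⟩ := hRA
    have hlevmem : ∀ (T : GL (Fin (k' + 2)) F), (T : Matrix (Fin (k' + 2)) (Fin (k' + 2)) F).det = 1 →
        lev hQ T ∈ Cfsg.Omega F ⇑Q := fun T hT => OrthO.lev_mem hQ hB h2 hm2 _ ⟨1, by rw [hT, mul_one]⟩
    let Rg : Γ := ⟨lev hQ R, hlevmem R hR⟩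
    set g'' := Rg⁻¹ * g' * Rg with hg''
    obtain ⟨c'', C'', hb''⟩ : ∃ c'' C'', HasX g'' c'' (cj R A) C'' := by
      obtain ⟨e1, f1, b1, d1, B1, D1, he⟩ := hb.ex
      have hm' : mat (g'' : Grp Q) = levMat R⁻¹ * bk e1 c f1 b1 d1 A B1 C D1 * levMat R := by
        rw [← he, hg'', Subgroup.coe_mul, Subgroup.coe_mul, Subgroup.coe_inv, ← map_inv]
        rfl
      rw [levMat, levMat, bk_mul, bk_mul] at hm'
      refine ⟨_, _, ⟨_, _, _, _, _, _, hm'.trans (bk_inj.2 ⟨rfl, rfl, rfl, rfl, rfl, ?_, rfl, rfl, rfl⟩)⟩⟩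
      simp [cj]
    have hA'' : (cj R A).det ≠ 0 := by rw [det_cj]; exact hA
    obtain ⟨hN, f, S, hS, hdec, -⟩ := OrthO.decomp hQ hB h2 hm2 hb'' hA''
    have hx : ((a * a)⁻¹ • Y).det = 1 := by
      rw [Matrix.det_smul, hdY, Fintype.card_fin, inv_pow, mul_pow]
      field_simp
      try ring
    let Un : GL (Fin (k' + 2)) F := Matrix.GeneralLinearGroup.mkOfDetNeZero (blk 1 0 n' 1)
      (by rw [det_blk_zero_row]; simp)
    let Ul : GL (Fin (k' + 2)) F := Matrix.GeneralLinearGroup.mkOfDetNeZero (blk 1 l' 0 1)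
      (by rw [det_blk_zero_col]; simp)
    let u : Γ := ⟨_, lV_mem hQ hB h2 hm2 (c'' ᵥ* (cj R A)⁻¹)⟩ * ⟨_, sL_mem hQ hB h2 hm2 _ hN⟩ *
      ⟨lev hQ Un, hlevmem _ (by
        show (blk 1 0 n' 1).det = 1
        rw [det_blk_zero_row, Matrix.det_one, mul_one])⟩
    let v : Γ := ⟨lev hQ Ul, hlevmem _ (by
      show (blk 1 l' 0 1).det = 1
      rw [det_blk_zero_col, Matrix.det_one, mul_one])⟩ *
      (⟨_, uV_mem hQ hB h2 hm2 f⟩ * ⟨_, sU_mem hQ hB h2 hm2 _ hS⟩)
    have hUn : ((Un⁻¹ : GL (Fin (k' + 2)) F) : Matrix (Fin (k' + 2)) (Fin (k' + 2)) F) = blk 1 0 (-n') 1 := by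
      rw [Matrix.coe_units_inv]
      refine Matrix.inv_eq_right_inv ?_
      show blk 1 0 n' 1 * blk 1 0 (-n') 1 = 1
      rw [blk_mul]; simp [blk_one]
    have hUl : ((Ul⁻¹ : GL (Fin (k' + 2)) F) : Matrix (Fin (k' + 2)) (Fin (k' + 2)) F) = blk 1 (-l') 0 1 := by
      rw [Matrix.coe_units_inv]
      refine Matrix.inv_eq_right_inv ?_
      show blk 1 l' 0 1 * blk 1 (-l') 0 1 = 1
      rw [blk_mul]; simp [blk_one]
    refine ⟨u, v, ?_, ?_, fun _ => mkSL _ hx, fun _ => Or.inr fun q e => hY (by omega) (a * a * q) ?_, ?_⟩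
    · rw [map_mul, map_mul]
      refine mul_mem (mul_mem ?_ ?_) ?_
      all_goals
        rw [mem_rad]
        intro i j hij
      · change (bk 1 (c'' ᵥ* (cj R A)⁻¹) 0 0 (-(2 : F) • (c'' ᵥ* (cj R A)⁻¹)) 1 0
          (-vecMulVec (c'' ᵥ* (cj R A)⁻¹) (c'' ᵥ* (cj R A)⁻¹)) 1 - 1 : Matrix _ _ F) i j ≠ 0 at hij
        rcases i with i | i | i <;> rcases j with j | j | j <;>
          (try cases i using Fin.cases) <;> (try cases j using Fin.cases) <;>
          simp [bk, Matrix.sub_apply, Matrix.one_apply, oddWt, Fin.succ_ne_zero, (Fin.succ_ne_zero _).symm,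
            eq_comm, -Matrix.coe_units_inv] at hij ⊢
      · change (bk 1 0 0 0 0 1 0 (C'' * (cj R A)⁻¹ + vecMulVec (c'' ᵥ* (cj R A)⁻¹) (c'' ᵥ* (cj R A)⁻¹)) 1 - 1 :
          Matrix _ _ F) i j ≠ 0 at hij
        rcases i with i | i | i <;> rcases j with j | j | j <;>
          (try cases i using Fin.cases) <;> (try cases j using Fin.cases) <;>
          simp [bk, Matrix.sub_apply, Matrix.one_apply, oddWt, Fin.succ_ne_zero, (Fin.succ_ne_zero _).symm,
            eq_comm, -Matrix.coe_units_inv] at hij ⊢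
      · change (levMat Un - 1 : Matrix _ _ F) i j ≠ 0 at hij
        rw [levMat, hUn, show ((Un : GL _ F) : Matrix _ _ F) = blk 1 0 n' 1 from rfl] at hij
        rcases i with i | i | i <;> rcases j with j | j | j <;>
          (try cases i using Fin.cases) <;> (try cases j using Fin.cases) <;>
          simp [bk, Matrix.sub_apply, Matrix.one_apply, oddWt, Fin.succ_ne_zero, (Fin.succ_ne_zero _).symm,
            eq_comm, -Matrix.coe_units_inv] at hij ⊢
    · rw [map_mul, map_mul]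
      refine mul_mem ?_ (mul_mem ?_ ?_)
      all_goals
        rw [mem_rad]
        intro i j hij
      · change (levMat Ul - 1 : Matrix _ _ F) i j ≠ 0 at hij
        rw [levMat, hUl, show ((Ul : GL _ F) : Matrix _ _ F) = blk 1 l' 0 1 from rfl] at hij
        rcases i with i | i | i <;> rcases j with j | j | j <;>
          (try cases i using Fin.cases) <;> (try cases j using Fin.cases) <;>
          simp [bk, Matrix.sub_apply, Matrix.one_apply, oddWt, Fin.succ_ne_zero, (Fin.succ_ne_zero _).symm,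
            eq_comm, -Matrix.coe_units_inv] at hij ⊢
      · change (bk 1 0 f (-(2 : F) • f) 0 1 (-vecMulVec f f) 0 1 - 1 : Matrix _ _ F) i j ≠ 0 at hij
        rcases i with i | i | i <;> rcases j with j | j | j <;>
          (try cases i using Fin.cases) <;> (try cases j using Fin.cases) <;>
          simp [bk, Matrix.sub_apply, Matrix.one_apply, oddWt, Fin.succ_ne_zero, (Fin.succ_ne_zero _).symm,
            eq_comm, -Matrix.coe_units_inv] at hij ⊢
      · change (bk 1 0 0 0 0 1 S 0 1 - 1 : Matrix _ _ F) i j ≠ 0 at hij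
        rcases i with i | i | i <;> rcases j with j | j | j <;>
          (try cases i using Fin.cases) <;> (try cases j using Fin.cases) <;>
          simp [bk, Matrix.sub_apply, Matrix.one_apply, oddWt, Fin.succ_ne_zero, (Fin.succ_ne_zero _).symm,
            eq_comm, -Matrix.coe_units_inv] at hij ⊢
    · have := congrArg (fun Z => (a * a) • Z) e
      simpa only [coe_mkSL, smul_smul, mul_inv_cancel₀ (mul_ne_zero ha ha), one_smul] using this
    · have e : g'' = u * (h * h * ψ fun _ => mkSL _ hx) * v := by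
        refine Subtype.ext ?_
        rw [hdec]
        show _ = lV hQ _ * sL hQ _ hN * lev hQ Un * (lev hQ H * lev hQ H * lev hQ _) *
          (lev hQ Ul * (uV hQ f * sU hQ S hS))
        rw [← map_mul, ← map_mul, mul_assoc _ (lev hQ Un), ← map_mul (lev hQ) Un, ← mul_assoc _ (lev hQ Ul),
          mul_assoc _ (lev hQ (Un * _)), ← map_mul]
        congr 3
        refine Units.ext ?_
        rw [Units.val_mul, Units.val_mul, Units.val_mul, Units.val_mul]
        show cj R A = blk 1 0 n' 1 * (blk b 0 0 (s : Matrix _ _ F) * blk b 0 0 (s : Matrix _ _ F) *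
          blk 1 0 0 ((a * a)⁻¹ • Y)) * blk 1 l' 0 1
        rw [hRA, blk_diag_mul, blk_diag_mul, hs]
        congr 3
        · simp
        · simp only [Matrix.smul_mul, Matrix.mul_smul, Matrix.one_mul, smul_smul]
          rw [inv_mul_cancel₀ (mul_ne_zero ha ha), one_smul]
      rw [← e, hg'']
      exact hc.trans (isConj_iff.2 ⟨Rg⁻¹, by rw [inv_inv]⟩)
  · intro x hx
    refine ⟨fun i => mkSL (x i : Matrix (Fin k) (Fin k) F)ᵀ (by rw [Matrix.det_transpose]; exact (x i).2),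
      fun i => (hx i).transpose, ?_⟩
    rw [← map_inv]
    let n : Grp Q := if Even (k + 1) then sw hQ Finset.univ else sw hQ Finset.univ * sz hQ
    have hn : n ∈ Cfsg.Omega F ⇑Q := by
      simp only [n]
      split
      · exact sw_mem hQ hB h2 hm2 (by simpa)
      · exact swz_mem hQ hB h2 hm2 (by simpa using Nat.not_even_iff_odd.1 ‹_›)
    have hnm : mat n = bk (if Even (k + 1) then 1 else -1) 0 0 0 0 0 (-1) (-1) 0 := by
      simp only [n]
      split
      · show bk _ _ _ _ _ (1 - OrthP.ind Finset.univ) _ _ _ = _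
        simp [OrthP.ind]
      · rw [mat_mul]
        show bk _ _ _ _ _ (1 - OrthP.ind Finset.univ) _ _ _ * bk (-1) 0 0 0 0 1 0 0 1 = _
        simp [OrthP.ind, bk_mul]
    have hnn : mat n * mat n = 1 := by
      rw [hnm, bk_mul, ← bk_one, bk_inj]
      refine ⟨?_, by simp, by simp, by simp, by simp, by simp, by simp, by simp, by simp⟩
      split <;> simp
    refine MonoidHom.map_isConj _ (isConj_iff.2 ⟨⟨n, hn⟩, ?_⟩)
    refine Subtype.ext ?_
    show n * (lev hQ H * lev hQ _)⁻¹ * n⁻¹ = lev hQ H * lev hQ _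
    rw [← map_mul, ← map_mul, ← map_inv]
    refine mat_inj ?_
    rw [mat_mul, mat_mul, mat_inv_eq hnn, hnm]
    show bk _ _ _ _ _ _ _ _ _ * levMat _ * bk _ _ _ _ _ _ _ _ _ = levMat _
    rw [levMat, levMat, bk_mul, bk_mul, bk_inj]
    have htr : ∀ (p : F) (U : Matrix (Fin k) (Fin k) F), (blk p 0 0 U)ᵀ = blk p 0 0 Uᵀ := by
      intro p U; ext i j; cases i using Fin.cases <;> cases j using Fin.cases <;> simp
    set X := Matrix.SpecialLinearGroup.toGL (x ())
    have e2 : H * emb (Matrix.SpecialLinearGroup.toGL (mkSL (x () : Matrix (Fin k) (Fin k) F)ᵀ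
        (by rw [Matrix.det_transpose]; exact (x ()).2))) =
        ⟨((H * emb X : GL (Fin (k + 1)) F) : Matrix (Fin (k + 1)) (Fin (k + 1)) F)ᵀ,
          (((H * emb X)⁻¹ : GL (Fin (k + 1)) F) : Matrix (Fin (k + 1)) (Fin (k + 1)) F)ᵀ,
          by rw [← Matrix.transpose_mul, ← Units.val_mul, inv_mul_cancel, Units.val_one, Matrix.transpose_one],
          by rw [← Matrix.transpose_mul, ← Units.val_mul, mul_inv_cancel, Units.val_one, Matrix.transpose_one]⟩ := by
      refine Units.ext ?_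
      show blk b 0 0 (s : Matrix (Fin k) (Fin k) F) * blk 1 0 0 (x () : Matrix (Fin k) (Fin k) F)ᵀ =
        (blk b 0 0 (s : Matrix (Fin k) (Fin k) F) * blk 1 0 0 (x () : Matrix (Fin k) (Fin k) F))ᵀ
      rw [blk_diag_mul, blk_diag_mul, htr, hs, Matrix.smul_mul, Matrix.smul_mul, Matrix.one_mul,
        Matrix.one_mul, Matrix.transpose_smul]
    rw [e2]
    refine ⟨?_, by simp, by simp, by simp, by simp, ?_, by simp, by simp, ?_⟩
    · split <;> simp
    · simp
    · simp [Units.inv_mk]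

theorem class_sq_pomega_odd (hF : 9 ≤ Fintype.card F) (hodd : Odd (Fintype.card F)) {m : ℕ} (hm : 3 ≤ m) :
    ∃ c : Cfsg.POmega F (Cfsg.quadFormOdd m F), ∀ g, ∃ x y, g = (x * c * x⁻¹) * (y * c * y⁻¹) := by
  have h2 : (2 : F) ≠ 0 := fun h => by
    have hC : CharP F 2 := CharTwo.of_one_ne_zero_of_two_eq_zero one_ne_zero h
    obtain ⟨p, hp, f, hpp, hc⟩ := FiniteField.card' F
    have : p = 2 := CharP.eq F hp hC
    rw [hc, this] at hodd
    exact absurd hodd (Nat.not_odd_iff_even.2 ((Nat.even_pow' f.ne_zero).2 even_two))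
  obtain ⟨k, rfl⟩ : ∃ k, m = k + 1 := ⟨m - 1, by omega⟩
  obtain ⟨Q, hQ, hB⟩ := exists_quadForm_odd h2 (k + 1)
  have := class_sq_pomega_odd_form hF h2 (by omega) hQ hB
  rw [hQ] at this
  exact this

end Final

end CfsgLib.ClassSquare
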