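import Cfsg.Agent.Lib.ClassSquare.OrthCommon

/-!
The simple orthogonal groups of plus type over fields with at least six elements.
-/

set_option autoImplicit false
set_option linter.unusedSectionVars false
set_option linter.unusedSimpArgs false
set_option linter.style.haveILetI false

namespace CfsgLib.ClassSquare

open Matrix

variable {F : Type*} [Field F]

theorem exists_square_good [Fintype F] (hF : 6 ≤ Fintype.card F) :
    ∃ t : F, t ≠ 0 ∧ (t * t) * (t * t) ≠ 1 := by
  classical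
  by_contra hall
  push Not at hall
  let P : Polynomial F := Polynomial.X ^ 5 - Polynomial.X
  have hP : P ≠ 0 := fun h => by
    have := congrArg (fun p => Polynomial.coeff p 5) h
    simp [P, Polynomial.coeff_X] at this
  have hsub : (Finset.univ : Finset F) ⊆ P.roots.toFinset := fun t _ => by
    rw [Multiset.mem_toFinset, Polynomial.mem_roots hP]
    rcases eq_or_ne t 0 with rfl | h
    · simp [P]
    · have := hall t h
      simp only [P, Polynomial.IsRoot.def, Polynomial.eval_sub, Polynomial.eval_pow, Polynomial.eval_X]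
      linear_combination t * this
  have h1 := Finset.card_le_card hsub
  have h2 := (Multiset.toFinset_card_le _).trans (Polynomial.card_roots' P)
  have h3 : P.natDegree ≤ 5 := by
    refine (Polynomial.natDegree_sub_le _ _).trans (max_le ?_ ?_)
    · rw [Polynomial.natDegree_X_pow]
    · rw [Polynomial.natDegree_X]; omega
  rw [Finset.card_univ] at h1
  omega

theorem exists_dual_pair {m : ℕ} {c₁ c₂ : Fin m → F} (h1 : c₁ ≠ 0) (h2 : ∀ a : F, c₂ ≠ a • c₁) :
    ∃ y z, c₁ ⬝ᵥ y = 1 ∧ c₂ ⬝ᵥ y = 0 ∧ c₁ ⬝ᵥ z = 0 ∧ c₂ ⬝ᵥ z = 1 := by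
  obtain ⟨y0, hy0⟩ := exists_dot_ne h1
  set y1 := (c₁ ⬝ᵥ y0)⁻¹ • y0
  have hy1 : c₁ ⬝ᵥ y1 = 1 := by rw [dotProduct_smul, smul_eq_mul, inv_mul_cancel₀ hy0]
  obtain ⟨z0, hz0⟩ := exists_dot_ne (n := c₂ - (c₂ ⬝ᵥ y1) • c₁) (sub_ne_zero.2 (h2 _))
  rw [sub_dotProduct, smul_dotProduct, smul_eq_mul] at hz0
  set d := c₂ ⬝ᵥ z0 - c₂ ⬝ᵥ y1 * c₁ ⬝ᵥ z0
  set z := d⁻¹ • (z0 - (c₁ ⬝ᵥ z0) • y1)
  have hz1 : c₁ ⬝ᵥ z = 0 := by
    simp [z, dotProduct_smul, dotProduct_sub, hy1]
  have hz2 : c₂ ⬝ᵥ z = 1 := by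
    simp only [z, dotProduct_smul, dotProduct_sub, smul_eq_mul]
    rw [show c₂ ⬝ᵥ z0 - c₁ ⬝ᵥ z0 * c₂ ⬝ᵥ y1 = d by simp only [d]; ring, inv_mul_cancel₀ hz0]
  exact ⟨y1 - (c₂ ⬝ᵥ y1) • z, z, by simp [dotProduct_sub, dotProduct_smul, hy1, hz1],
    by simp [dotProduct_sub, dotProduct_smul, hz2], hz1, hz2⟩

/-- Prescribe the first diagonal entry, with the upper factor first. -/
theorem peel_inv {k : ℕ} (hk : 1 ≤ k) {A : Matrix (Fin (k + 1)) (Fin (k + 1)) F} (hA : Nonscalar A)
    (hd : A.det ≠ 0) {β : F} (hβ : β ≠ 0) :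
    ∃ (Q : GL (Fin (k + 1)) F) (n m : Fin k → F) (Y : Matrix (Fin k) (Fin k) F),
      cj Q A = blk 1 n 0 1 * blk β 0 0 Y * blk 1 0 m 1 ∧ Y.det = A.det / β ∧ (2 ≤ k → Nonscalar Y) := by
  obtain ⟨k, rfl⟩ : ∃ j, k = j + 1 := ⟨k - 1, by omega⟩
  have hu : IsUnit A.det := isUnit_iff_ne_zero.2 hd
  have hm1 : A⁻¹ * A = 1 := Matrix.nonsing_inv_mul A hu
  have hdi : (A⁻¹).det = A.det⁻¹ := by rw [Matrix.det_nonsing_inv, Ring.inverse_eq_inv']
  have hns : Nonscalar A⁻¹ := fun c e => by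
    have hc : c ≠ 0 := fun h0 => by
      rw [e, h0, zero_smul, Matrix.zero_mul] at hm1
      exact zero_ne_one (congrFun (congrFun hm1 0) 0 |>.trans (Matrix.one_apply_eq 0))
    exact hA c⁻¹ (inv_smul_one hc hm1 e)
  obtain ⟨Q, n, m, Z, hQ, hdZ, hZ⟩ := peel hns (hdi ▸ inv_ne_zero hd) (inv_ne_zero hβ)
  have hZ0 : Z.det ≠ 0 := by rw [hdZ, hdi]; exact div_ne_zero (inv_ne_zero hd) (inv_ne_zero hβ)
  have hZu : IsUnit Z.det := isUnit_iff_ne_zero.2 hZ0
  refine ⟨Q, -n, -m, Z⁻¹, ?_, ?_, ?_⟩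
  · have e1 : cj Q A⁻¹ * cj Q A = 1 := by rw [← cj_mul, hm1, cj_one]
    have e2 : blk 1 (-n) 0 1 * blk β 0 0 Z⁻¹ * blk 1 0 (-m) 1 * cj Q A⁻¹ = 1 := by
      rw [hQ]
      have a1 : blk 1 0 (-m) 1 * blk 1 0 m 1 = (1 : Matrix (Fin (k + 2)) (Fin (k + 2)) F) := by
        rw [blk_mul]; simp [blk_one]
      have a2 : blk 1 (-n) 0 1 * blk 1 n 0 1 = (1 : Matrix (Fin (k + 2)) (Fin (k + 2)) F) := by
        rw [blk_mul]; simp [blk_one]
      have a3 : blk β 0 0 Z⁻¹ * blk β⁻¹ 0 0 Z = (1 : Matrix (Fin (k + 2)) (Fin (k + 2)) F) := by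
        rw [blk_diag_mul, mul_inv_cancel₀ hβ, Matrix.nonsing_inv_mul Z hZu, blk_one]
      calc blk 1 (-n) 0 1 * blk β 0 0 Z⁻¹ * blk 1 0 (-m) 1 * (blk 1 0 m 1 * blk β⁻¹ 0 0 Z * blk 1 n 0 1)
          = blk 1 (-n) 0 1 * (blk β 0 0 Z⁻¹ * ((blk 1 0 (-m) 1 * blk 1 0 m 1) * blk β⁻¹ 0 0 Z)) * blk 1 n 0 1 := by
            simp only [Matrix.mul_assoc]
        _ = 1 := by rw [a1, Matrix.one_mul, a3, Matrix.mul_one, a2]
    exact (left_inv_eq_right_inv e2 e1).symm
  · rw [Matrix.det_nonsing_inv, hdZ, hdi, Ring.inverse_eq_inv']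
    field_simp
  · intro h2 c e
    have hc : c ≠ 0 := fun h0 => by
      have := Matrix.nonsing_inv_mul Z hZu
      rw [e, h0, zero_smul, Matrix.zero_mul] at this
      exact zero_ne_one (congrFun (congrFun this 0) 0 |>.trans (Matrix.one_apply_eq 0))
    exact hZ (by omega) c⁻¹ (inv_smul_one hc (Matrix.nonsing_inv_mul Z hZu) e)

namespace OrthP

open CfsgLib.Orth Orth

variable {m : ℕ} {Q : QuadraticForm F (Fin m ⊕ Fin m → F)} (hQ : ⇑Q = Cfsg.quadFormPlus m F)

include hQ

theorem iso_blocks {P R T U : Matrix (Fin m) (Fin m) F}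
    (h : ∀ x y, (P *ᵥ x + R *ᵥ y) ⬝ᵥ (T *ᵥ x + U *ᵥ y) = x ⬝ᵥ y) (v : Fin m ⊕ Fin m → F) :
    Q (fromBlocks P R T U *ᵥ v) = Q v := by
  rw [← Sum.elim_comp_inl_inr v, fromBlocks_mulVec, Plus.q_eq hQ, Plus.q_eq hQ]
  simpa using h _ _

omit hQ in
/-- The group `Ω`. -/
abbrev Gam (Q : QuadraticForm F (Fin m ⊕ Fin m → F)) : Type _ := ↥(Cfsg.Omega F ⇑Q)

/-- Upper unipotent. -/
def symU (S : Matrix (Fin m) (Fin m) F) (hS : IsAlt S) : Grp Q :=
  el (fromBlocks 1 S 0 1) (fromBlocks 1 (-S) 0 1) (by simp [fromBlocks_multiply])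
    (by simp [fromBlocks_multiply]) (iso_blocks hQ fun x y => by
      simp only [Matrix.one_mulVec, Matrix.zero_mulVec, zero_add, add_dotProduct]
      rw [dotProduct_comm (S *ᵥ y), hS y, add_zero])

/-- Lower unipotent. -/
def symL (S : Matrix (Fin m) (Fin m) F) (hS : IsAlt S) : Grp Q :=
  el (fromBlocks 1 0 S 1) (fromBlocks 1 0 (-S) 1) (by simp [fromBlocks_multiply])
    (by simp [fromBlocks_multiply]) (iso_blocks hQ fun x y => by
      simp only [Matrix.one_mulVec, Matrix.zero_mulVec, add_zero, dotProduct_add]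
      rw [hS x, zero_add])

/-- The Levi subgroup. -/
def lev : GL (Fin m) F →* Grp Q where
  toFun A := el (Plus.levMat A) (Plus.levMat A⁻¹) (by rw [← Plus.levMat_mul]; simp [Plus.levMat])
    (by rw [← Plus.levMat_mul]; simp [Plus.levMat]) (fun v => by
      rw [Plus.levMat_mulVec, Plus.q_eq hQ, Matrix.dotProduct_mulVec, Matrix.vecMul_transpose,
        Matrix.mulVec_mulVec, ← Units.val_mul, inv_mul_cancel, Units.val_one, Matrix.one_mulVec,
        ← Plus.q_eq hQ, Sum.elim_comp_inl_inr])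
  map_one' := mat_inj (by simp [Plus.levMat, mat_one])
  map_mul' A B := mat_inj (by rw [mat_mul]; exact Plus.levMat_mul A B)

omit hQ in
/-- The indicator of a set of coordinates. -/
def ind (s : Finset (Fin m)) : Matrix (Fin m) (Fin m) F := Matrix.diagonal fun i => if i ∈ s then 1 else 0

omit hQ in
theorem ind_idem (s : Finset (Fin m)) : (ind s : Matrix (Fin m) (Fin m) F) * ind s = ind s := by
  rw [ind, diagonal_mul_diagonal]; congr 1; funext i; split <;> simp

omit hQ in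
theorem swap_sq (s : Finset (Fin m)) :
    fromBlocks (1 - ind s) (ind s) (ind s) (1 - ind s) * fromBlocks (1 - ind s) (ind s) (ind s) (1 - ind s) =
      (1 : Matrix (Fin m ⊕ Fin m) (Fin m ⊕ Fin m) F) := by
  rw [fromBlocks_multiply, ← fromBlocks_one, fromBlocks_inj]
  simp only [mul_sub, sub_mul, ind_idem, one_mul, mul_one]
  refine ⟨?_, ?_, ?_, ?_⟩ <;> abel

omit hQ in
theorem swap_mulVec (s : Finset (Fin m)) (v : Fin m ⊕ Fin m → F) :
    fromBlocks (1 - ind s) (ind s) (ind s) (1 - ind s) *ᵥ v =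
      Sum.elim (fun i => if i ∈ s then v (.inr i) else v (.inl i))
        (fun i => if i ∈ s then v (.inl i) else v (.inr i)) := by
  rw [fromBlocks_mulVec]
  congr 1 <;> funext i <;>
    simp [ind, Matrix.sub_mulVec, mulVec_diagonal] <;> split <;> simp_all

/-- The swaps of the pairs in a set. -/
def sw (s : Finset (Fin m)) : Grp Q :=
  el (fromBlocks (1 - ind s) (ind s) (ind s) (1 - ind s)) (fromBlocks (1 - ind s) (ind s) (ind s) (1 - ind s))
    (swap_sq s) (swap_sq s) (fun v => by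
      rw [swap_mulVec, hQ]
      simp only [Cfsg.quadFormPlus, Sum.elim_inl, Sum.elim_inr]
      exact Finset.sum_congr rfl fun i _ => by split <;> ring)

theorem sw_insert {a : Fin m} {s : Finset (Fin m)} (ha : a ∉ s) : sw hQ (insert a s) = sw hQ {a} * sw hQ s := by
  refine mat_inj ?_
  rw [mat_mul]
  simp only [sw, mat_el, fromBlocks_multiply]
  have e0 : (ind {a} : Matrix (Fin m) (Fin m) F) * ind s = 0 := by
    rw [ind, ind, diagonal_mul_diagonal, ← diagonal_zero]; congr 1; funext i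
    rcases eq_or_ne i a with rfl | h <;> simp [*]
  have e1 : (ind (insert a s) : Matrix (Fin m) (Fin m) F) = ind {a} + ind s := by
    simp only [ind, diagonal_add]; congr 1; funext i
    rcases eq_or_ne i a with rfl | h <;> simp [*]
  rw [fromBlocks_inj]
  simp only [mul_sub, sub_mul, e0, e1, one_mul, mul_one]
  refine ⟨?_, ?_, ?_, ?_⟩ <;> abel

theorem sw_refl (i : Fin m) :
    IsRefl (Pi.single (.inl i) 1 - Pi.single (.inr i) 1 : Fin m ⊕ Fin m → F) (sw hQ {i}) := by
  have hv : Q (Pi.single (.inl i) 1 - Pi.single (.inr i) 1 : Fin m ⊕ Fin m → F) = -1 := by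
    rw [hQ]
    simp only [Cfsg.quadFormPlus]
    rw [Finset.sum_eq_single i] <;> simp +contextual [Pi.single_apply]
  refine ⟨by rw [hv]; simp, fun x => ?_⟩
  rw [hv, ap]
  show fromBlocks (1 - ind {i}) (ind {i}) (ind {i}) (1 - ind {i}) *ᵥ x = _
  rw [swap_mulVec]
  have hb : QuadraticMap.polar (⇑Q) (Pi.single (.inl i) 1 - Pi.single (.inr i) 1 : Fin m ⊕ Fin m → F) x =
      x (.inr i) - x (.inl i) := by
    rw [hQ, polar_plus, Finset.sum_eq_single i] <;> simp +contextual [Pi.single_apply, sub_eq_add_neg]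
  rw [hb]
  funext k
  rcases k with k | k <;> rcases eq_or_ne k i with rfl | h <;> simp [*, Pi.single_apply] <;> ring

variable [Finite F] (hB : Nondeg Q) (hm : 4 ≤ m)

include hB in
theorem sw_class (s : Finset (Fin m)) :
    dickson hB (sw hQ s) = (-1) ^ s.card ∧
      ∀ i₀, spinor Q 1 (sw hQ s) = spinor Q 1 (sw hQ {i₀}) ^ s.card := by
  induction s using Finset.induction_on with
  | empty =>
    have : sw hQ (∅ : Finset (Fin m)) = 1 := mat_inj (by simp [sw, ind, mat_one])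
    simp [this]
  | @insert a s ha ih =>
    refine ⟨?_, fun i₀ => ?_⟩
    · rw [sw_insert hQ ha, map_mul, dickson_refl hB (sw_refl hQ a), ih.1, Finset.card_insert_of_notMem ha,
        pow_succ']
    · rw [sw_insert hQ ha, map_mul, ih.2 i₀, Finset.card_insert_of_notMem ha, pow_succ']
      congr 1
      by_cases h2 : (2 : F) = 0
      · have e : ∀ i, sw hQ {a} = sw hQ {i} ∨ spinor Q 1 (sw hQ {a}) = spinor Q 1 (sw hQ {i}) := fun i => by
          rcases eq_or_ne a i with rfl | hai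
          · exact Or.inl rfl
          right
          let e : Equiv.Perm (Fin m) := Equiv.swap a i
          have hp : ∀ v, Q (fromBlocks (e.permMatrix F) 0 0 (e.permMatrix F) *ᵥ v) = Q v := fun v => by
            rw [← Sum.elim_comp_inl_inr v, fromBlocks_mulVec, Plus.q_eq hQ, Plus.q_eq hQ]
            simp only [Matrix.zero_mulVec, add_zero, zero_add, Matrix.permMatrix_mulVec]
            exact Fintype.sum_equiv e _ _ fun x => rfl
          have hsq : e.permMatrix F * e.permMatrix F = 1 := by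
            rw [← Matrix.permMatrix_mul, show e * e = 1 from Equiv.swap_mul_self a i, Matrix.permMatrix_one]
          let p : Grp Q := el (fromBlocks (e.permMatrix F) 0 0 (e.permMatrix F))
            (fromBlocks (e.permMatrix F) 0 0 (e.permMatrix F)) (by simp [fromBlocks_multiply, hsq])
            (by simp [fromBlocks_multiply, hsq]) hp
          have hap : ap p (Pi.single (.inl a) 1 - Pi.single (.inr a) 1 : Fin m ⊕ Fin m → F) =
              Pi.single (.inl i) 1 - Pi.single (.inr i) 1 := by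
            funext k
            show (fromBlocks (e.permMatrix F) 0 0 (e.permMatrix F) *ᵥ _) k = _
            rw [fromBlocks_mulVec]
            rcases k with k | k <;>
              simp [Matrix.permMatrix_mulVec, Pi.single_apply, e, Equiv.swap_apply_eq_iff]
          have := refl_unique (hap ▸ refl_conj (sw_refl hQ a) p) (sw_refl hQ i)
          rw [← this, map_mul, map_mul, map_inv, mul_comm (spinor Q 1 p), mul_inv_cancel_right]
        rcases e i₀ with e | e <;> rw [e]
      · refine spinor_refl_eq hB h2 1 (sw_refl hQ a) (sw_refl hQ i₀) ⟨1, ?_⟩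
        have hv : ∀ i : Fin m, Q (Pi.single (.inl i) 1 - Pi.single (.inr i) 1 : Fin m ⊕ Fin m → F) = -1 := fun i => by
          rw [hQ]
          simp only [Cfsg.quadFormPlus]
          rw [Finset.sum_eq_single i] <;> simp +contextual [Pi.single_apply]
        rw [hv, hv]; ring

include hm in
omit hQ [Finite F] in
theorem five_le : 5 ≤ Module.finrank F (Fin m ⊕ Fin m → F) := by
  rw [Module.finrank_fintype_fun_eq_card, Fintype.card_sum, Fintype.card_fin]; omega

include hB hm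

theorem sw_mem {s : Finset (Fin m)} (hs : Even s.card) : sw hQ s ∈ Cfsg.Omega F ⇑Q := by
  obtain ⟨h1, h2⟩ := sw_class hQ hB s
  refine mem_omega hB (five_le hm) _ (by rw [h1, hs.neg_one_pow]) fun _ => ?_
  rw [h2 ⟨0, by omega⟩]
  obtain ⟨k, hk⟩ := hs
  rw [hk, ← two_mul, pow_mul, Int.units_sq, one_pow]

theorem symU_class (S : Matrix (Fin m) (Fin m) F) (hS : IsAlt S) :
    dickson hB (symU hQ S hS) = 1 ∧ ((2 : F) ≠ 0 → spinor Q 1 (symU hQ S hS) = 1) := by
  refine ⟨Plus.uni_class hB hQ S _ rfl, fun h2 => ?_⟩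
  have e : symU hQ S hS = symU hQ ((2 : F)⁻¹ • S) (hS.smul _) * symU hQ ((2 : F)⁻¹ • S) (hS.smul _) := by
    refine mat_inj ?_
    rw [mat_mul]
    simp [symU, fromBlocks_multiply, ← add_smul]
    rw [show (2 : F)⁻¹ + 2⁻¹ = 1 by field_simp; norm_num, one_smul]
  rw [e]
  exact Plus.spinor_square _

theorem symU_mem (S : Matrix (Fin m) (Fin m) F) (hS : IsAlt S) : symU hQ S hS ∈ Cfsg.Omega F ⇑Q :=
  mem_omega hB (five_le hm) _ (symU_class hQ hB hm S hS).1 (symU_class hQ hB hm S hS).2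

theorem symL_mem (S : Matrix (Fin m) (Fin m) F) (hS : IsAlt S) : symL hQ S hS ∈ Cfsg.Omega F ⇑Q := by
  have hn : (Cfsg.Omega F ⇑Q).Normal := inferInstance
  have := hn.conj_mem _ (symU_mem hQ hB hm S hS) (sw hQ Finset.univ)
  convert this using 1
  refine mat_inj ?_
  rw [mat_mul, mat_mul, mat_inv_eq (g := sw hQ Finset.univ) (N := mat (sw hQ Finset.univ)) (swap_sq _)]
  simp [sw, symL, symU, ind, fromBlocks_multiply]

theorem lev_mem (A : GL (Fin m) F) (hA : (2 : F) ≠ 0 → IsSquare (A : Matrix (Fin m) (Fin m) F).det) :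
    lev hQ A ∈ Cfsg.Omega F ⇑Q := by
  obtain ⟨h1, h2⟩ := Plus.lev_class hB hQ (by omega) (lev hQ) (fun _ => rfl) A
  exact mem_omega hB (five_le hm) _ h1 fun h => by rw [h2 h, sqc_eq_one.2 (hA h)]

omit hB hm in
/-- The blocks. -/
structure HasBlocks (g : Gam Q) (A B C D : Matrix (Fin m) (Fin m) F) : Prop where
  eq : mat (g : Grp Q) = fromBlocks A B C D

omit hB hm in
theorem hasBlocks (g : Gam Q) : ∃ A B C D, HasBlocks g A B C D :=
  ⟨_, _, _, _, ⟨(fromBlocks_toBlocks _).symm⟩⟩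

omit hB hm in
theorem HasBlocks.rel {g : Gam Q} {A B C D : Matrix (Fin m) (Fin m) F} (h : HasBlocks g A B C D) :
    IsAlt (Aᵀ * C) ∧ IsAlt (Bᵀ * D) ∧ Aᵀ * D + Cᵀ * B = 1 := by
  have key : ∀ x y, (A *ᵥ x + B *ᵥ y) ⬝ᵥ (C *ᵥ x + D *ᵥ y) = x ⬝ᵥ y := fun x y => by
    have := (g : Grp Q).2 (Sum.elim x y) (Sum.elim x y)
    change Q (mat (g : Grp Q) *ᵥ Sum.elim x y) = Q (Sum.elim x y) at this
    rw [h.eq, fromBlocks_mulVec, Plus.q_eq hQ, Plus.q_eq hQ] at this
    simpa using this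
  have hX : IsAlt (Aᵀ * C) := fun x => by
    rw [← Matrix.mulVec_mulVec, Matrix.dotProduct_mulVec, Matrix.vecMul_transpose]
    simpa using key x 0
  have hY : IsAlt (Bᵀ * D) := fun y => by
    rw [← Matrix.mulVec_mulVec, Matrix.dotProduct_mulVec, Matrix.vecMul_transpose]
    simpa using key 0 y
  refine ⟨hX, hY, Matrix.ext fun i j => ?_⟩
  have e := key (Pi.single i 1) (Pi.single j 1)
  have ei := key (Pi.single i 1) 0
  have ej := key 0 (Pi.single j 1)
  simp [add_dotProduct, dotProduct_add] at e ei ej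
  simp [Matrix.mul_apply, dotProduct, Matrix.one_apply, Pi.single_apply] at e ei ej ⊢
  rw [show (∑ x, C x i * B x j) = ∑ x, B x j * C x i from Finset.sum_congr rfl fun x _ => mul_comm _ _]
  simp only [eq_comm (a := i)] at e ⊢
  linear_combination e - ei - ej

omit hB hm in
theorem inv_symU (S : Matrix (Fin m) (Fin m) F) (hS : IsAlt S) :
    mat (symU hQ S hS)⁻¹ = fromBlocks 1 (-S) 0 1 :=
  mat_inv_eq (by simp [symU, fromBlocks_multiply])

theorem conj_symU {g : Gam Q} {A B C D : Matrix (Fin m) (Fin m) F} (h : HasBlocks g A B C D)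
    (S : Matrix (Fin m) (Fin m) F) (hS : IsAlt S) :
    ∃ (g' : Gam Q) (B' D' : Matrix (Fin m) (Fin m) F), IsConj g g' ∧ HasBlocks g' (A + S * C) B' C D' := by
  refine ⟨(⟨_, symU_mem hQ hB hm S hS⟩ : Gam Q) * g * (⟨_, symU_mem hQ hB hm S hS⟩ : Gam Q)⁻¹,
    B + S * D - (A + S * C) * S, D - C * S, isConj_iff.2 ⟨_, rfl⟩, ⟨?_⟩⟩
  rw [Subgroup.coe_mul, Subgroup.coe_mul, Subgroup.coe_inv, mat_mul, mat_mul, inv_symU hQ, h.eq]
  simp only [symU, mat_el, fromBlocks_multiply, Matrix.one_mul, Matrix.zero_mul, Matrix.mul_zero,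
    Matrix.mul_one, zero_add, add_zero, Matrix.mul_neg]
  congr 1 <;> abel

theorem conj_sw {g : Gam Q} {A B D : Matrix (Fin m) (Fin m) F} (h : HasBlocks g A B 0 D) {s : Finset (Fin m)}
    (hs : Even s.card) {p q : Fin m} (hp : p ∈ s) (hq : q ∈ s) :
    ∃ (g' : Gam Q) (A' B' C' D' : Matrix (Fin m) (Fin m) F), IsConj g g' ∧ HasBlocks g' A' B' C' D' ∧
      C' p q = B p q := by
  set g' : Gam Q := (⟨_, sw_mem hQ hB hm hs⟩ : Gam Q) * g * (⟨_, sw_mem hQ hB hm hs⟩ : Gam Q)⁻¹ with hg'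
  refine ⟨g', _, _, _, _, isConj_iff.2 ⟨_, rfl⟩, ⟨(fromBlocks_toBlocks _).symm⟩, ?_⟩
  rw [hg', Subgroup.coe_mul, Subgroup.coe_mul, Subgroup.coe_inv, mat_mul, mat_mul,
    mat_inv_eq (g := sw hQ s) (N := mat (sw hQ s)) (swap_sq _), h.eq]
  simp only [sw, mat_el, fromBlocks_multiply, toBlocks_fromBlocks₂₁]
  simp [ind, Matrix.sub_apply, Matrix.mul_sub, Matrix.sub_mul, Matrix.mul_diagonal, Matrix.diagonal_mul, hp, hq]

theorem ker_even {g : Gam Q} {A B C D : Matrix (Fin m) (Fin m) F} (h : HasBlocks g A B C D) :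
    Even (Module.finrank F (LinearMap.ker (Matrix.mulVecLin A))) := by
  set k := Module.finrank F (LinearMap.ker (Matrix.mulVecLin A))
  have hd : dickson hB (sw hQ Finset.univ * (g : Grp Q)) = (-1) ^ m := by
    rw [map_mul, (sw_class hQ hB _).1, (Orth.of_mem_omega hB g.2).1, mul_one, Finset.card_univ, Fintype.card_fin]
  rw [Plus.dickson_eq hB hQ (by omega)] at hd
  have hM : mat (sw hQ Finset.univ * (g : Grp Q)) = fromBlocks C D A B := by
    rw [mat_mul, h.eq]
    simp [sw, ind, fromBlocks_multiply]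
  let L : (Fin m → F) →ₗ[F] (Fin m ⊕ Fin m → F) :=
    { toFun := fun x => fromBlocks C D A B *ᵥ Sum.elim x 0
      map_add' := fun x y => by
        rw [← Matrix.mulVec_add]; congr 1; funext i; rcases i with i | i <;> simp
      map_smul' := fun c x => by
        rw [RingHom.id_apply, ← Matrix.mulVec_smul]; congr 1; funext i; rcases i with i | i <;> simp }
  have hinj : Function.Injective L := fun x y e => by
    have hM' : Function.Injective (mat (sw hQ Finset.univ * (g : Grp Q))).mulVec :=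
      Matrix.mulVec_injective_iff_isUnit.2 (sw hQ Finset.univ * (g : Grp Q) : Grp Q).1.isUnit
    rw [hM] at hM'
    exact funext fun i => by simpa using congrFun (hM' e) (Sum.inl i)
  have hk : Module.finrank F ↥(Plus.U0 F m ⊓ (Plus.U0 F m).map (Matrix.mulVecLin
      (mat (sw hQ Finset.univ * (g : Grp Q))))) = k := by
    rw [hM, show Plus.U0 F m ⊓ (Plus.U0 F m).map (Matrix.mulVecLin (fromBlocks C D A B)) =
      (LinearMap.ker (Matrix.mulVecLin A)).map L from ?_]
    · exact (LinearEquiv.finrank_eq (Submodule.equivMapOfInjective L hinj _)).symm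
    ext v
    simp only [Submodule.mem_inf, Submodule.mem_map, LinearMap.mem_ker, Matrix.mulVecLin_apply, L,
      LinearMap.coe_mk, AddHom.coe_mk]
    constructor
    · rintro ⟨hv, w, hw, rfl⟩
      refine ⟨w ∘ Sum.inl, ?_, ?_⟩
      · funext i
        have e := congrFun hv i
        have hw' : w ∘ Sum.inr = 0 := hw
        simpa [LinearMap.funLeft_apply, fromBlocks_mulVec, hw'] using e
      · congr 1
        funext i
        rcases i with i | i
        · rfl
        · exact (congrFun hw i).symm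
    · rintro ⟨x, hx, rfl⟩
      refine ⟨?_, Sum.elim x 0, ?_, rfl⟩
      · funext i; simp [LinearMap.funLeft_apply, fromBlocks_mulVec, hx]
      · funext i; simp [LinearMap.funLeft_apply]
  rw [hk] at hd
  have hle : k ≤ m := (Submodule.finrank_le _).trans (by rw [Module.finrank_fin_fun])
  have e : (-1 : ℤˣ) ^ (m - k) * (-1) ^ k = (-1) ^ m := by rw [← pow_add, Nat.sub_add_cancel hle]
  rw [hd, mul_eq_left] at e
  by_contra hodd
  rw [(Nat.not_even_iff_odd.1 hodd).neg_one_pow] at e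
  exact absurd e (by decide)

theorem exists_invertible (n : ℕ) : ∀ (g : Gam Q) (A B C D : Matrix (Fin m) (Fin m) F),
    HasBlocks g A B C D → Module.finrank F (LinearMap.ker (Matrix.mulVecLin A)) = n →
    ∃ (g' : Gam Q) (A' B' D' : Matrix (Fin m) (Fin m) F),
      IsConj g g' ∧ HasBlocks g' A' B' C D' ∧ A'.det ≠ 0 := by
  induction n using Nat.strong_induction_on with
  | _ n ih =>
    intro g A B C D h hn
    by_cases hA : A.det = 0
    swap
    · exact ⟨g, A, B, D, IsConj.refl g, h, hA⟩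
    obtain ⟨k1, hk10, hk1⟩ := Matrix.exists_mulVec_eq_zero_iff.2 hA
    obtain ⟨k2, hk2, hk2s⟩ : ∃ k2 ∈ LinearMap.ker (Matrix.mulVecLin A), k2 ∉ Submodule.span F {k1} := by
      by_contra hc
      push Not at hc
      have h1 := (Submodule.finrank_mono (show LinearMap.ker (Matrix.mulVecLin A) ≤ Submodule.span F {k1} from hc))
      rw [finrank_span_singleton hk10] at h1
      have h2 : 0 < Module.finrank F (LinearMap.ker (Matrix.mulVecLin A)) :=
        Submodule.one_le_finrank_iff.2 (fun hbot => hk10 (by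
          have : k1 ∈ LinearMap.ker (Matrix.mulVecLin A) := by simpa using hk1
          rwa [hbot, Submodule.mem_bot] at this))
      have := (ker_even hQ hB hm h)
      rw [show Module.finrank F (LinearMap.ker (Matrix.mulVecLin A)) = 1 by omega] at this
      exact absurd this (by decide)
    simp only [LinearMap.mem_ker, Matrix.mulVecLin_apply] at hk2
    obtain ⟨hX, -, -⟩ := h.rel hQ
    have hC : ∀ k, A *ᵥ k = 0 → C *ᵥ k = 0 → k = 0 := fun k ha hc => by
      have hM' : Function.Injective (mat (g : Grp Q)).mulVec :=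
        Matrix.mulVec_injective_iff_isUnit.2 (g : Grp Q).1.isUnit
      rw [h.eq] at hM'
      have := @hM' (Sum.elim k 0) 0 (by rw [fromBlocks_mulVec, Matrix.mulVec_zero]; simp [ha, hc])
      exact funext fun i => by simpa using congrFun this (Sum.inl i)
    obtain ⟨y, z, hy1, hy2, hz1, hz2⟩ := exists_dual_pair (c₁ := C *ᵥ k1) (c₂ := C *ᵥ k2)
      (fun e => hk10 (hC k1 hk1 e)) (fun a e => hk2s (Submodule.mem_span_singleton.2 ⟨a, (sub_eq_zero.1
        (hC (k2 - a • k1) (by rw [Matrix.mulVec_sub, Matrix.mulVec_smul, hk1, hk2, smul_zero, sub_zero])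
          (by rw [Matrix.mulVec_sub, Matrix.mulVec_smul, e, sub_self]))).symm⟩))
    have hperp : ∀ k, A *ᵥ k = 0 → ∀ w, (C *ᵥ k) ⬝ᵥ (A *ᵥ w) = 0 := fun k hk w => by
      rw [dotProduct_comm, ← Matrix.vecMul_transpose, ← Matrix.dotProduct_mulVec, Matrix.mulVec_mulVec,
        Matrix.dotProduct_mulVec, hX.row_swap w k, ← Matrix.dotProduct_mulVec, ← Matrix.mulVec_mulVec,
        Matrix.dotProduct_mulVec, Matrix.vecMul_transpose, hk, zero_dotProduct, neg_zero]
    obtain ⟨g', B', D', hgg', hb⟩ := conj_symU hQ hB hm h _ (isAlt_pair y z)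
    have happ : ∀ w, (A + (vecMulVec y z - vecMulVec z y) * C) *ᵥ w =
        A *ᵥ w + ((z ⬝ᵥ (C *ᵥ w)) • y - (y ⬝ᵥ (C *ᵥ w)) • z) := fun w => by
      rw [Matrix.add_mulVec, Matrix.sub_mul, Matrix.sub_mulVec, ← Matrix.mulVec_mulVec, ← Matrix.mulVec_mulVec,
        Matrix.vecMulVec_mulVec, Matrix.vecMulVec_mulVec, op_smul_eq_smul, op_smul_eq_smul]
    have hlt : Module.finrank F (LinearMap.ker (Matrix.mulVecLin
        (A + (vecMulVec y z - vecMulVec z y) * C))) < n := by
      rw [← hn]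
      refine Submodule.finrank_lt_finrank_of_lt (SetLike.lt_iff_le_and_exists.2 ⟨fun w hw => ?_, k1, ?_, ?_⟩)
      · simp only [LinearMap.mem_ker, Matrix.mulVecLin_apply] at hw ⊢
        rw [happ] at hw
        have e1 := congrArg (fun v => (C *ᵥ k1) ⬝ᵥ v) hw
        have e2 := congrArg (fun v => (C *ᵥ k2) ⬝ᵥ v) hw
        simp only [dotProduct_add, dotProduct_sub, dotProduct_smul, hperp k1 hk1, hperp k2 hk2, hy1, hy2, hz1,
          hz2, zero_add, smul_eq_mul, mul_one, mul_zero, sub_zero, zero_sub, dotProduct_zero, neg_eq_zero] at e1 e2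
        rw [e1, e2, zero_smul, zero_smul, sub_zero, add_zero] at hw
        exact hw
      · simpa using hk1
      · simp only [LinearMap.mem_ker, Matrix.mulVecLin_apply]
        rw [happ, hk1, zero_add, dotProduct_comm z, hz1, dotProduct_comm y, hy1, zero_smul, one_smul, zero_sub,
          neg_eq_zero]
        intro e
        rw [e, dotProduct_zero] at hz2
        exact zero_ne_one hz2
    obtain ⟨g'', A'', B'', D'', hc, hb', hd⟩ := ih _ hlt g' _ _ _ _ hb rfl
    exact ⟨g'', A'', B'', D'', hgg'.trans hc, hb', hd⟩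

theorem exists_C_ne {g : Gam Q} (hg : proj Q g ≠ 1) {A B C D : Matrix (Fin m) (Fin m) F}
    (h : HasBlocks g A B C D) :
    ∃ (g' : Gam Q) (A' B' C' D' : Matrix (Fin m) (Fin m) F),
      IsConj g g' ∧ HasBlocks g' A' B' C' D' ∧ C' ≠ 0 := by
  classical
  by_cases hC : C = 0
  swap
  · exact ⟨g, A, B, C, D, IsConj.refl g, h, hC⟩
  subst hC
  by_cases hB0 : B = 0
  swap
  · obtain ⟨p, q, hpq⟩ : ∃ p q, B p q ≠ 0 := by
      by_contra hc
      push Not at hc
      exact hB0 (by ext i j; exact hc i j)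
    haveI : Nontrivial (Fin m) := Fin.nontrivial_iff_two_le.2 (by omega)
    obtain ⟨r, hr⟩ : ∃ r : Fin m, r ≠ p := exists_ne p
    let s : Finset (Fin m) := if p = q then {p, r} else {p, q}
    have hp : p ∈ s := by simp only [s]; split <;> simp
    have hq : q ∈ s := by simp only [s]; split <;> simp [*]
    have hs : Even s.card := by
      simp only [s]
      split
      · rw [Finset.card_pair hr.symm]; exact ⟨1, rfl⟩
      · rw [Finset.card_pair ‹_›]; exact ⟨1, rfl⟩
    obtain ⟨g', A', B', C', D', hc, hb, hC'⟩ := conj_sw hQ hB hm h hs hp hq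
    exact ⟨g', A', B', C', D', hc, hb, fun e => hpq (by rw [← hC', e]; rfl)⟩
  subst hB0
  obtain ⟨-, -, h3⟩ := h.rel hQ
  rw [Matrix.transpose_zero, Matrix.zero_mul, add_zero] at h3
  by_contra hall
  push Not at hall
  have key : ∀ S : Matrix (Fin m) (Fin m) F, IsAlt S → S * A = D * S := by
    intro S hS
    have hb : HasBlocks ((⟨_, symL_mem hQ hB hm S hS⟩ : Gam Q) * g * (⟨_, symL_mem hQ hB hm S hS⟩ : Gam Q)⁻¹)
        A 0 (S * A - D * S) D := ⟨by
      rw [Subgroup.coe_mul, Subgroup.coe_mul, Subgroup.coe_inv, mat_mul, mat_mul,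
        mat_inv_eq (g := symL hQ S hS) (N := fromBlocks 1 0 (-S) 1) (by simp [symL, fromBlocks_multiply]), h.eq]
      simp only [symL, mat_el, fromBlocks_multiply, Matrix.one_mul, Matrix.zero_mul, Matrix.mul_zero,
        Matrix.mul_one, zero_add, add_zero, Matrix.mul_neg]
      congr 1 <;> abel⟩
    exact sub_eq_zero.1 (hall _ _ _ _ _ (isConj_iff.2 ⟨_, rfl⟩) hb)
  have f1 : ∀ (i j p q : Fin m), (vecMulVec (Pi.single i (1 : F)) (Pi.single j 1) * A) p q =
      if p = i then A j q else 0 := fun i j p q => by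
    rw [Matrix.vecMulVec_mul]; simp [vecMulVec, Pi.single_apply, Matrix.single_one_vecMul]
  have f2 : ∀ (i j p q : Fin m), (D * vecMulVec (Pi.single i (1 : F)) (Pi.single j 1)) p q =
      if q = j then D p i else 0 := fun i j p q => by
    rw [Matrix.mul_vecMulVec]; simp [vecMulVec, Pi.single_apply, Matrix.mulVec_single_one]
  have key' : ∀ i j, i ≠ j → ∀ p q,
      (if p = i then A j q else 0) - (if p = j then A i q else 0) =
        (if q = j then D p i else 0) - (if q = i then D p j else 0) := fun i j _ p q => by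
    have e := Matrix.ext_iff.2 (key _ (isAlt_pair (Pi.single i 1) (Pi.single j 1))) p q
    rw [Matrix.sub_mul, Matrix.mul_sub, Matrix.sub_apply, Matrix.sub_apply, f1, f1, f2, f2] at e
    exact e
  have third : ∀ a b : Fin m, ∃ c, c ≠ a ∧ c ≠ b := fun a b => by
    obtain ⟨c, hc⟩ : ∃ c : Fin m, c ∉ ({a, b} : Finset (Fin m)) := by
      by_contra hcon
      push Not at hcon
      have := Finset.card_le_card (fun x _ => hcon x : (Finset.univ : Finset (Fin m)) ⊆ {a, b})
      rw [Finset.card_univ, Fintype.card_fin] at this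
      have := Finset.card_le_two (a := a) (b := b)
      omega
    simp only [Finset.mem_insert, Finset.mem_singleton, not_or] at hc
    exact ⟨c, hc⟩
  have hoff : ∀ j p, p ≠ j → A j p = 0 := fun j p hp => by
    obtain ⟨i, hij, hip⟩ := third j p
    simpa [hij, Ne.symm hip, hp] using key' i j hij i p
  have hdiag : ∀ i j, i ≠ j → A j j = D i i := fun i j hij => by
    simpa [hij, hij.symm] using key' i j hij i j
  have hDD : ∀ i, A i i * D i i = 1 := fun i => by
    have := congrFun (congrFun h3 i) i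
    rw [Matrix.mul_apply, Finset.sum_eq_single i (fun k _ hk => by simp [hoff k i (Ne.symm hk)]) (by simp)] at this
    simpa using this
  obtain ⟨c, hc⟩ : ∃ c, c = A ⟨0, by omega⟩ ⟨0, by omega⟩ := ⟨_, rfl⟩
  have hall' : ∀ i, A i i = c := fun i => by
    rcases eq_or_ne i ⟨0, by omega⟩ with rfl | hi
    · exact hc.symm
    obtain ⟨k, hk1, hk2⟩ := third i ⟨0, by omega⟩
    rw [hdiag k i hk1, hc, hdiag k _ hk2]
  have hAc : A = c • 1 := by
    ext i p
    rcases eq_or_ne p i with rfl | hp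
    · simp [hall']
    · simp [hoff i p hp, Ne.symm hp]
  obtain ⟨k, hk, -⟩ := third ⟨0, by omega⟩ ⟨0, by omega⟩
  have hcc : c * c = 1 := by
    have := hDD k
    rwa [hall' k, ← hdiag k _ hk, ← hc] at this
  have hDc : D = c • 1 := by
    rw [hAc, Matrix.transpose_smul, Matrix.transpose_one, Matrix.smul_mul, Matrix.one_mul] at h3
    have := congrArg (fun X => c • X) h3
    simpa [smul_smul, hcc] using this
  refine hg (proj_eq_one_of_smul (c := c) ?_)
  rw [h.eq, hAc, hDc, ← fromBlocks_one, fromBlocks_smul, smul_zero]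

theorem decomp {g : Gam Q} {A B C D : Matrix (Fin m) (Fin m) F} (h : HasBlocks g A B C D) (hA : A.det ≠ 0) :
    ∃ (hM : IsAlt (C * A⁻¹)) (X : Matrix (Fin m) (Fin m) F) (hX : IsAlt X),
      (g : Grp Q) = symL hQ (C * A⁻¹) hM * lev hQ (Matrix.GeneralLinearGroup.mkOfDetNeZero A hA) * symU hQ X hX := by
  have hu : IsUnit A.det := isUnit_iff_ne_zero.2 hA
  obtain ⟨h1, h2, h3⟩ := h.rel hQ
  have hu' : IsUnit Aᵀ.det := by rwa [Matrix.det_transpose]
  have hM : IsAlt (C * A⁻¹) := by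
    have := h1.congr A⁻¹
    rwa [← Matrix.mul_assoc, ← Matrix.transpose_mul, Matrix.mul_nonsing_inv _ hu, Matrix.transpose_one,
      Matrix.one_mul] at this
  have hCX : C * (A⁻¹ * B) + ((A⁻¹)ᵀ) = D := by
    have e0 : Cᵀ * A = -(Aᵀ * C) := by
      rw [← h1.transpose_eq, Matrix.transpose_mul, Matrix.transpose_transpose]
    have e1 : Aᵀ * D = 1 + Aᵀ * (C * (A⁻¹ * B)) := by
      have : Cᵀ * B = -(Aᵀ * (C * (A⁻¹ * B))) := by
        calc Cᵀ * B = Cᵀ * (A * (A⁻¹ * B)) := by rw [← Matrix.mul_assoc A, Matrix.mul_nonsing_inv _ hu, Matrix.one_mul]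
          _ = (Cᵀ * A) * (A⁻¹ * B) := (Matrix.mul_assoc _ _ _).symm
          _ = _ := by rw [e0, Matrix.neg_mul, Matrix.mul_assoc]
      rw [this, ← sub_eq_add_neg, sub_eq_iff_eq_add] at h3
      exact h3
    have := congrArg (fun X => (Aᵀ)⁻¹ * X) e1
    simp only [← Matrix.mul_assoc (Aᵀ)⁻¹, Matrix.nonsing_inv_mul _ hu', Matrix.one_mul, Matrix.mul_add,
      Matrix.mul_one] at this
    rw [this, Matrix.transpose_nonsing_inv, add_comm]
  have hX : IsAlt (A⁻¹ * B) := fun y => by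
    have e := h2 y
    rw [← hCX, Matrix.mul_add, Matrix.add_mulVec, dotProduct_add] at e
    have e' : y ⬝ᵥ ((Bᵀ * (C * (A⁻¹ * B))) *ᵥ y) = 0 := by
      have hr : Bᵀ * (C * (A⁻¹ * B)) = (A⁻¹ * B)ᵀ * (Aᵀ * C) * (A⁻¹ * B) := by
        rw [Matrix.transpose_mul, Matrix.transpose_nonsing_inv, Matrix.mul_assoc, Matrix.mul_assoc,
          Matrix.mul_assoc, ← Matrix.mul_assoc (Aᵀ)⁻¹, Matrix.nonsing_inv_mul _ hu', Matrix.one_mul]
      rw [hr]; exact h1.congr _ y
    rw [e', zero_add, ← Matrix.transpose_mul] at e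
    rwa [Matrix.dotProduct_mulVec, Matrix.vecMul_transpose, dotProduct_comm] at e
  refine ⟨hM, A⁻¹ * B, hX, mat_inj ?_⟩
  rw [mat_mul, mat_mul, h.eq]
  show _ = fromBlocks 1 0 (C * A⁻¹) 1 * Plus.levMat _ * fromBlocks 1 (A⁻¹ * B) 0 1
  simp only [Plus.levMat, fromBlocks_multiply, Matrix.one_mul, Matrix.zero_mul, Matrix.mul_zero, Matrix.mul_one,
    zero_add, add_zero]
  rw [fromBlocks_inj]
  refine ⟨rfl, ?_, ?_, ?_⟩
  · exact (Matrix.mul_nonsing_inv_cancel_left _ _ hu).symm
  · exact (Matrix.nonsing_inv_mul_cancel_right _ _ hu).symm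
  · rw [show ((Matrix.GeneralLinearGroup.mkOfDetNeZero A hA : GL (Fin m) F) : Matrix (Fin m) (Fin m) F) = A from rfl,
      Matrix.nonsing_inv_mul_cancel_right _ _ hu, Matrix.coe_units_inv]
    exact hCX.symm

theorem exists_normal_form {g : Gam Q} (hg : proj Q g ≠ 1) {r : F} (hr : r ≠ 0) :
    ∃ (g' : Gam Q) (A B C D : Matrix (Fin m) (Fin m) F),
      IsConj g g' ∧ HasBlocks g' A B C D ∧ A.det = r * r ∧ Nonscalar A := by
  obtain ⟨A, B, C, D, h⟩ := hasBlocks hQ g
  obtain ⟨g1, A1, B1, C1, D1, c1, h1, hC1⟩ := exists_C_ne hQ hB hm hg h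
  obtain ⟨g2, A2, B2, D2, c2, h2, hA2⟩ := exists_invertible hQ hB hm _ g1 A1 B1 C1 D1 h1 rfl
  have hu : IsUnit A2.det := isUnit_iff_ne_zero.2 hA2
  obtain ⟨hM, X, hX, hdec⟩ := decomp hQ hB hm h2 hA2
  have hsq : ∃ e : F, A2.det = e * e := by
    by_cases h20 : (2 : F) = 0
    · haveI : CharP F 2 := CharTwo.of_one_ne_zero_of_two_eq_zero one_ne_zero h20
      obtain ⟨e, he⟩ := FiniteField.isSquare_of_char_two (ringChar.eq F 2) A2.det
      exact ⟨e, he⟩
    · have hs := (Orth.of_mem_omega hB g2.2).2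
      rw [hdec, map_mul, map_mul, (symU_class hQ hB hm X hX).2 h20, mul_one,
        (Orth.of_mem_omega hB (symL_mem hQ hB hm _ hM)).2, one_mul,
        (Plus.lev_class hB hQ (by omega) (lev hQ) (fun _ => rfl) _).2 h20, sqc_eq_one] at hs
      exact hs
  obtain ⟨e, he⟩ := hsq
  have he0 : e ≠ 0 := fun h0 => hA2 (by rw [he, h0, zero_mul])
  have hM0 : C1 * A2⁻¹ ≠ 0 := fun e => hC1 (by
    rw [← Matrix.mul_one C1, ← Matrix.nonsing_inv_mul _ hu, ← Matrix.mul_assoc, e, Matrix.zero_mul])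
  obtain ⟨S, hS, hSd⟩ := exists_alt_det hM hM0 (r / e)
  obtain ⟨g3, B3, D3, c3, h3⟩ := conj_symU hQ hB hm h2 S hS
  have e2 : A2 + S * C1 = (1 + S * (C1 * A2⁻¹)) * A2 := by
    rw [Matrix.add_mul, Matrix.one_mul, Matrix.mul_assoc, Matrix.mul_assoc, Matrix.nonsing_inv_mul _ hu,
      Matrix.mul_one]
  have hd3 : (A2 + S * C1).det = r * r := by
    rw [e2, Matrix.det_mul, hSd, he]; field_simp
  by_cases hns : Nonscalar (A2 + S * C1)
  · exact ⟨g3, _, _, _, _, (c1.trans c2).trans c3, h3, hd3, hns⟩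
  simp only [Nonscalar] at hns
  push Not at hns
  obtain ⟨c, hc⟩ := hns
  haveI : Nonempty (Fin m) := ⟨⟨0, by omega⟩⟩
  have hc0 : c ≠ 0 := fun h0 => by
    rw [hc, h0, zero_smul, Matrix.det_zero] at hd3
    exact mul_ne_zero hr hr hd3.symm
  have hA3 : (A2 + S * C1).det ≠ 0 := hd3 ▸ mul_ne_zero hr hr
  have hu3 : IsUnit (A2 + S * C1).det := isUnit_iff_ne_zero.2 hA3
  obtain ⟨hM3, -, -, -⟩ := decomp hQ hB hm h3 hA3
  have hM30 : C1 * (A2 + S * C1)⁻¹ ≠ 0 := fun e => hC1 (by
    rw [← Matrix.mul_one C1, ← Matrix.nonsing_inv_mul _ hu3, ← Matrix.mul_assoc, e, Matrix.zero_mul])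
  obtain ⟨T, hT, hTd, hTn⟩ := exists_alt_nonscalar (by omega) hM3 hM30
  obtain ⟨g4, B4, D4, c4, h4⟩ := conj_symU hQ hB hm h3 T hT
  have e4 : A2 + S * C1 + T * C1 = (1 + T * (C1 * (A2 + S * C1)⁻¹)) * (A2 + S * C1) := by
    rw [Matrix.add_mul, Matrix.one_mul, Matrix.mul_assoc, Matrix.mul_assoc, Matrix.nonsing_inv_mul _ hu3,
      Matrix.mul_one]
  refine ⟨g4, _, _, _, _, ((c1.trans c2).trans c3).trans c4, h4, ?_, ?_⟩
  · rw [e4, Matrix.det_mul, hTd, one_mul, hd3]
  · rw [e4]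
    nth_rw 2 [hc]
    exact hTn.mul_smul hc0

end OrthP

section Final

open CfsgLib.Orth Orth OrthP

variable [Fintype F]

/-- The grading with the first pair in the middle. -/
def plusWt (k : ℕ) : Fin (k + 1) ⊕ Fin (k + 1) → ℤ :=
  Sum.elim (Fin.cons 0 fun _ => 1) (Fin.cons 0 fun _ => -1)

theorem class_sq_pomega_plus_form (hF : 6 ≤ Fintype.card F) {k : ℕ} (hk : 3 ≤ k)
    {Q : QuadraticForm F (Fin (k + 1) ⊕ Fin (k + 1) → F)} (hQ : ⇑Q = Cfsg.quadFormPlus (k + 1) F)
    (hB : Nondeg Q) :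
    ∃ c : ↥(Cfsg.Omega F ⇑Q) ⧸ Subgroup.center ↥(Cfsg.Omega F ⇑Q),
      ∀ g, ∃ x y, g = (x * c * x⁻¹) * (y * c * y⁻¹) := by
  classical
  have hm : 4 ≤ k + 1 := by omega
  obtain ⟨t, ht, ht2⟩ := exists_square_good hF
  set a := t * t with hadef
  have ha : a ≠ 0 := mul_ne_zero ht ht
  have hane : a ≠ a⁻¹ := fun e => ht2 (by nth_rw 2 [e]; exact mul_inv_cancel₀ ha)
  have ha1 : a ≠ 1 := fun e => ht2 (by rw [e, one_mul])
  have hai1 : a⁻¹ ≠ 1 := fun e => ha1 (inv_eq_one.1 e)
  let Γ := ↥(Cfsg.Omega F ⇑Q)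
  let emb : GL (Fin k) F → GL (Fin (k + 1)) F := fun P => blkGL 1 P
  let ψ : (Unit → Matrix.SpecialLinearGroup (Fin k) F) →* Γ :=
    { toFun := fun x => ⟨lev hQ (emb (Matrix.SpecialLinearGroup.toGL (x ()))),
        OrthP.lev_mem hQ hB hm _ fun _ => ⟨1, by
          simp only [emb, det_blkGL, Units.val_one, one_mul]
          exact (x ()).2⟩⟩
      map_one' := Subtype.ext (by
        show lev hQ (emb (Matrix.SpecialLinearGroup.toGL ((1 : Unit → Matrix.SpecialLinearGroup (Fin k) F) ()))) = 1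
        rw [Pi.one_apply, map_one, show emb 1 = 1 from Units.ext (by simp [emb, blk_one]), map_one])
      map_mul' := fun x y => Subtype.ext (by
        show lev hQ (emb (Matrix.SpecialLinearGroup.toGL ((x * y) ()))) = lev hQ _ * lev hQ _
        rw [← map_mul, Pi.mul_apply, map_mul]
        congr 1
        exact Units.ext (by simp [emb, blk_diag_mul])) }
  let s : GL (Fin k) F := Units.map (algebraMap F (Matrix (Fin k) (Fin k) F)).toMonoidHom (Units.mk0 a ha)
  have hs : (s : Matrix (Fin k) (Fin k) F) = a • 1 := Algebra.algebraMap_eq_smul_one a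
  have hsi : ((s⁻¹ : GL (Fin k) F) : Matrix (Fin k) (Fin k) F) = a⁻¹ • 1 := Algebra.algebraMap_eq_smul_one a⁻¹
  let h : Γ := ⟨lev hQ (emb s), OrthP.lev_mem hQ hB hm _ fun _ => ⟨t ^ k, by
    simp only [emb, det_blkGL, Units.val_one, one_mul, hs, Matrix.det_smul, Matrix.det_one, mul_one,
      Fintype.card_fin, hadef, mul_pow]⟩⟩
  haveI : Finite Γ := inferInstance
  let ρ : Γ →* GL (Fin (k + 1) ⊕ Fin (k + 1)) F :=
    (Cfsg.isometryGroup F ⇑Q).subtype.comp (Cfsg.Omega F ⇑Q).subtype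
  have hinj : Function.Injective ρ := fun x y e => Subtype.ext (Subtype.ext e)
  have hgr : ∀ (c : Fˣ) (P : GL (Fin k) F),
      Graded (plusWt k) (Plus.levMat (blkGL c P)) := by
    intro c P i j hij
    rcases i with i | i <;> rcases j with j | j <;>
      simp only [Plus.levMat, fromBlocks_apply₁₁, fromBlocks_apply₁₂, fromBlocks_apply₂₁, fromBlocks_apply₂₂,
        Matrix.zero_apply, ne_eq, not_true_eq_false, Matrix.transpose_apply, coe_blkGL, coe_blkGL_inv] at hij
    all_goals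
      cases i using Fin.cases <;> cases j using Fin.cases <;> simp [plusWt] at hij ⊢
  refine class_sq_of_graded (κ := Unit) (k := fun _ => k) hF (proj Q) (QuotientGroup.mk'_surjective _) ρ hinj
    ψ h (plusWt k) (Sum.elim (Fin.cons 1 fun _ => a) (Fin.cons 1 fun _ => a⁻¹)) ?_ ?_ ?_
    (fun x => hgr 1 _) ?_ ?_ ?_
  · show Plus.levMat (emb s) = _
    ext i j
    rcases i with i | i <;> rcases j with j | j <;>
      simp only [Plus.levMat, fromBlocks_apply₁₁, fromBlocks_apply₁₂, fromBlocks_apply₂₁, fromBlocks_apply₂₂,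
        Matrix.transpose_apply, emb, coe_blkGL, coe_blkGL_inv, hs, hsi]
    all_goals
      cases i using Fin.cases <;> cases j using Fin.cases <;>
        simp [Matrix.diagonal_apply, Matrix.one_apply, Fin.succ_ne_zero, (Fin.succ_ne_zero _).symm, eq_comm]
  · intro i j
    rcases i with i | i <;> rcases j with j | j <;> cases i using Fin.cases <;> cases j using Fin.cases <;>
      simp [plusWt]
  · intro i j
    rcases i with i | i <;> rcases j with j | j <;> cases i using Fin.cases <;> cases j using Fin.cases <;>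
      simp [plusWt, hane, hane.symm, ha1, ha1.symm, hai1, hai1.symm]
  · intro e
    obtain ⟨k', rfl⟩ : ∃ k', k = k' + 1 := ⟨k - 1, by omega⟩
    let D : GL (Fin (k' + 1)) F := blkGL (e ()) 1
    have hD : (D : Matrix (Fin (k' + 1)) (Fin (k' + 1)) F).det = e () := by simp [D, det_blk_zero_row]
    have hT : ((blkGL (e ()) D⁻¹ : GL (Fin (k' + 2)) F) : Matrix (Fin (k' + 2)) (Fin (k' + 2)) F).det = 1 := by
      rw [det_blkGL, Matrix.coe_units_inv, Matrix.det_nonsing_inv, hD, Ring.inverse_eq_inv',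
        mul_inv_cancel₀ (e ()).ne_zero]
    refine ⟨⟨lev hQ (blkGL (e ()) D⁻¹), OrthP.lev_mem hQ hB hm _ fun _ => ⟨1, by rw [hT, mul_one]⟩⟩,
      hgr _ _, fun _ => D, fun _ _ => hD, fun x y hxy => ?_⟩
    refine Subtype.ext ?_
    show lev hQ _ * lev hQ _ * (lev hQ _)⁻¹ = lev hQ _
    rw [← map_inv, ← map_mul, ← map_mul]
    congr 1
    refine Units.ext ?_
    rw [Units.val_mul, Units.val_mul]
    show blk _ 0 0 _ * blk 1 0 0 (x () : Matrix (Fin (k' + 1)) (Fin (k' + 1)) F) * blk _ 0 0 _ =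
      blk 1 0 0 (y () : Matrix (Fin (k' + 1)) (Fin (k' + 1)) F)
    rw [hxy (), blk_diag_mul, blk_diag_mul]
    simp [cj]
  · intro g hg
    obtain ⟨g', A, B, C, D, hc, hb, hd, hns⟩ :=
      exists_normal_form hQ hB hm hg (r := a ^ k) (pow_ne_zero k ha)
    have hA : A.det ≠ 0 := hd ▸ mul_ne_zero (pow_ne_zero k ha) (pow_ne_zero k ha)
    obtain ⟨P, n, l, Y, hP, hdY, hY⟩ := peel_inv (by omega) hns hA (one_ne_zero (α := F))
    rw [div_one, hd] at hdY
    -- make the conjugating matrix unimodular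
    let e0 : Fˣ := (Units.mk0 (P : Matrix (Fin (k + 1)) (Fin (k + 1)) F).det (det_units_ne P))⁻¹
    let R : GL (Fin (k + 1)) F := P * blkGL e0 1
    have hR : (R : Matrix (Fin (k + 1)) (Fin (k + 1)) F).det = 1 := by
      simp only [R, Units.val_mul, Matrix.det_mul, det_blkGL, e0, Units.val_inv_eq_inv_val, Units.val_mk0,
        Units.val_one, Matrix.det_one, mul_one]
      exact mul_inv_cancel₀ (det_units_ne P)
    have hRA : ∃ n' l', cj R A = blk 1 n' 0 1 * blk 1 0 0 Y * blk 1 0 l' 1 := by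
      refine ⟨((e0⁻¹ : Fˣ) : F) • n, (e0 : F) • l, ?_⟩
      rw [← cj_cj, hP, cj_mul, cj_mul, cj_blkGL, cj_blkGL, cj_blkGL]
      simp [cj]
    obtain ⟨n', l', hRA⟩ := hRA
    have hlevmem : ∀ (T : GL (Fin (k + 1)) F), (T : Matrix (Fin (k + 1)) (Fin (k + 1)) F).det = 1 →
        lev hQ T ∈ Cfsg.Omega F ⇑Q := fun T hT => OrthP.lev_mem hQ hB hm _ fun _ => ⟨1, by rw [hT, mul_one]⟩
    let Rg : Γ := ⟨lev hQ R, hlevmem R hR⟩
    set g'' := Rg⁻¹ * g' * Rg with hg''
    have hb'' : ∃ B'' C'' D'', HasBlocks g'' (cj R A) B'' C'' D'' := by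
      refine ⟨((R⁻¹ : GL (Fin (k + 1)) F) : Matrix (Fin (k + 1)) (Fin (k + 1)) F) * B *
          ((R⁻¹ : GL (Fin (k + 1)) F) : Matrix (Fin (k + 1)) (Fin (k + 1)) F)ᵀ,
        (R : Matrix (Fin (k + 1)) (Fin (k + 1)) F)ᵀ * C * (R : Matrix (Fin (k + 1)) (Fin (k + 1)) F),
        (R : Matrix (Fin (k + 1)) (Fin (k + 1)) F)ᵀ * D *
          ((R⁻¹ : GL (Fin (k + 1)) F) : Matrix (Fin (k + 1)) (Fin (k + 1)) F)ᵀ, ⟨?_⟩⟩
      rw [hg'', Subgroup.coe_mul, Subgroup.coe_mul, Subgroup.coe_inv, ← map_inv, mat_mul, mat_mul, hb.eq]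
      show Plus.levMat R⁻¹ * _ * Plus.levMat R = _
      simp only [Plus.levMat, fromBlocks_multiply, Matrix.zero_mul, Matrix.mul_zero, zero_add, add_zero]
      rfl
    obtain ⟨B'', C'', D'', hb''⟩ := hb''
    have hA'' : (cj R A).det ≠ 0 := by rw [det_cj]; exact hA
    obtain ⟨hM, X, hX, hdec⟩ := decomp hQ hB hm hb'' hA''
    have hx : ((a * a)⁻¹ • Y).det = 1 := by
      rw [Matrix.det_smul, hdY, Fintype.card_fin, ← mul_pow a a, ← mul_pow, inv_mul_cancel₀ (mul_ne_zero ha ha),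
        one_pow]
    let Un : GL (Fin (k + 1)) F := Matrix.GeneralLinearGroup.mkOfDetNeZero (blk 1 n' 0 1)
      (by rw [det_blk_zero_col]; simp)
    let Ul : GL (Fin (k + 1)) F := Matrix.GeneralLinearGroup.mkOfDetNeZero (blk 1 0 l' 1)
      (by rw [det_blk_zero_row]; simp)
    let u : Γ := ⟨_, symL_mem hQ hB hm _ hM⟩ * ⟨lev hQ Un, hlevmem _ (by
      show (blk 1 n' 0 1).det = 1
      rw [det_blk_zero_col, Matrix.det_one, mul_one])⟩
    let v : Γ := ⟨lev hQ Ul, hlevmem _ (by
      show (blk 1 0 l' 1).det = 1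
      rw [det_blk_zero_row, Matrix.det_one, mul_one])⟩ * ⟨_, symU_mem hQ hB hm _ hX⟩
    have hwn : ∀ (q : GL (Fin (k + 1)) F) (i j : Fin (k + 1)),
        ((q⁻¹ : GL (Fin (k + 1)) F) : Matrix (Fin (k + 1)) (Fin (k + 1)) F) i j =
          ((q : Matrix (Fin (k + 1)) (Fin (k + 1)) F)⁻¹) i j := fun q i j => by rw [Matrix.coe_units_inv]
    have hUn : ((Un⁻¹ : GL (Fin (k + 1)) F) : Matrix (Fin (k + 1)) (Fin (k + 1)) F) = blk 1 (-n') 0 1 := by
      rw [Matrix.coe_units_inv]
      refine Matrix.inv_eq_right_inv ?_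
      show blk 1 n' 0 1 * blk 1 (-n') 0 1 = 1
      rw [blk_mul]; simp [blk_one]
    have hUl : ((Ul⁻¹ : GL (Fin (k + 1)) F) : Matrix (Fin (k + 1)) (Fin (k + 1)) F) = blk 1 0 (-l') 1 := by
      rw [Matrix.coe_units_inv]
      refine Matrix.inv_eq_right_inv ?_
      show blk 1 0 l' 1 * blk 1 0 (-l') 1 = 1
      rw [blk_mul]; simp [blk_one]
    refine ⟨u, v, ?_, ?_, fun _ => mkSL _ hx, fun _ => Or.inr fun c e => hY (by omega) (a * a * c) ?_, ?_⟩
    · rw [map_mul]
      refine mul_mem ?_ ?_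
      · rw [mem_rad]
        intro i j hij
        change (fromBlocks 1 0 (C'' * (cj R A)⁻¹) 1 - 1 : Matrix _ _ F) i j ≠ 0 at hij
        rcases i with i | i <;> rcases j with j | j <;> simp [Matrix.sub_apply, Matrix.one_apply] at hij
        cases i using Fin.cases with
        | zero => cases j using Fin.cases with
          | zero => exact absurd (hM.diag 0) hij
          | succ j => simp [plusWt]
        | succ i => cases j using Fin.cases <;> simp [plusWt]
      · rw [mem_rad]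
        intro i j hij
        change (Plus.levMat Un - 1 : Matrix _ _ F) i j ≠ 0 at hij
        rw [Plus.levMat, hUn, show ((Un : GL _ F) : Matrix _ _ F) = blk 1 n' 0 1 from rfl] at hij
        rcases i with i | i <;> rcases j with j | j <;> simp [Matrix.sub_apply, Matrix.one_apply] at hij
        all_goals
          cases i using Fin.cases <;> cases j using Fin.cases <;>
            simp [plusWt, Matrix.one_apply, Fin.succ_ne_zero, (Fin.succ_ne_zero _).symm, eq_comm] at hij ⊢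
    · rw [map_mul]
      refine mul_mem ?_ ?_
      · rw [mem_rad]
        intro i j hij
        change (Plus.levMat Ul - 1 : Matrix _ _ F) i j ≠ 0 at hij
        rw [Plus.levMat, hUl, show ((Ul : GL _ F) : Matrix _ _ F) = blk 1 0 l' 1 from rfl] at hij
        rcases i with i | i <;> rcases j with j | j <;> simp [Matrix.sub_apply, Matrix.one_apply] at hij
        all_goals
          cases i using Fin.cases <;> cases j using Fin.cases <;>
            simp [plusWt, Matrix.one_apply, Fin.succ_ne_zero, (Fin.succ_ne_zero _).symm, eq_comm] at hij ⊢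
      · rw [mem_rad]
        intro i j hij
        change (fromBlocks 1 X 0 1 - 1 : Matrix _ _ F) i j ≠ 0 at hij
        rcases i with i | i <;> rcases j with j | j <;> simp [Matrix.sub_apply, Matrix.one_apply] at hij
        cases i using Fin.cases with
        | zero => cases j using Fin.cases with
          | zero => exact absurd (hX.diag 0) hij
          | succ j => simp [plusWt]
        | succ i => cases j using Fin.cases <;> simp [plusWt]
    · have := congrArg (fun Z => (a * a) • Z) e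
      simpa only [coe_mkSL, smul_smul, mul_inv_cancel₀ (mul_ne_zero ha ha), one_smul] using this
    · have e : g'' = u * (h * h * ψ fun _ => mkSL _ hx) * v := by
        refine Subtype.ext ?_
        rw [hdec]
        show _ = symL hQ _ hM * lev hQ Un * (lev hQ (emb s) * lev hQ (emb s) * lev hQ _) * (lev hQ Ul * symU hQ X hX)
        rw [← map_mul, ← map_mul, mul_assoc _ (lev hQ Un), ← map_mul (lev hQ) Un, ← mul_assoc _ (lev hQ Ul),
          mul_assoc _ (lev hQ (Un * _)), ← map_mul]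
        congr 3
        refine Units.ext ?_
        rw [Units.val_mul, Units.val_mul, Units.val_mul, Units.val_mul]
        show cj R A = blk 1 n' 0 1 * (blk 1 0 0 (s : Matrix (Fin k) (Fin k) F) * blk 1 0 0 (s : Matrix (Fin k) (Fin k) F) *
          blk 1 0 0 ((a * a)⁻¹ • Y)) * blk 1 0 l' 1
        rw [hRA, blk_diag_mul, blk_diag_mul, hs]
        congr 3
        · simp
        · simp only [Matrix.smul_mul, Matrix.mul_smul, Matrix.one_mul, smul_smul]
          rw [inv_mul_cancel₀ (mul_ne_zero ha ha), one_smul]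
      rw [← e, hg'']
      exact hc.trans (isConj_iff.2 ⟨Rg⁻¹, by rw [inv_inv]⟩)
  · intro x hx
    refine ⟨fun i => mkSL (x i : Matrix (Fin k) (Fin k) F)ᵀ (by rw [Matrix.det_transpose]; exact (x i).2),
      fun i => (hx i).transpose, ?_⟩
    rw [← map_inv]
    let S : Finset (Fin (k + 1)) := if Even (k + 1) then Finset.univ else Finset.univ.erase 0
    have hS : Even S.card := by
      simp only [S]
      split
      · simpa using ‹Even (k + 1)›
      · rw [Finset.card_erase_of_mem (Finset.mem_univ _), Finset.card_univ, Fintype.card_fin]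
        rename_i hne
        simpa [Nat.even_add_one] using hne
    obtain ⟨ε, hε, hE⟩ : ∃ ε : F, (ε = 0 ∨ ε = 1) ∧ (ind S : Matrix _ _ F) = blk ε 0 0 1 := by
      refine ⟨if Even (k + 1) then 1 else 0, ?_, ?_⟩
      · split <;> simp
      · ext i j
        cases i using Fin.cases <;> cases j using Fin.cases <;>
          simp [ind, S, Matrix.diagonal_apply, Fin.succ_ne_zero, (Fin.succ_ne_zero _).symm, Matrix.one_apply] <;>
          split <;> simp [*] <;> split <;> simp [Fin.succ_ne_zero]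
    refine MonoidHom.map_isConj _ (isConj_iff.2 ⟨⟨sw hQ S, sw_mem hQ hB hm hS⟩, ?_⟩)
    refine Subtype.ext ?_
    show sw hQ S * (lev hQ (emb s) * lev hQ _)⁻¹ * (sw hQ S)⁻¹ = lev hQ (emb s) * lev hQ _
    rw [← map_mul, ← map_mul, ← map_inv]
    refine mat_inj ?_
    rw [mat_mul, mat_mul, mat_inv_eq (g := sw hQ S) (N := mat (sw hQ S)) (swap_sq _)]
    show fromBlocks _ _ _ _ * Plus.levMat _ * fromBlocks _ _ _ _ = Plus.levMat _
    set P := s * Matrix.SpecialLinearGroup.toGL (x ())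
    have e1 : emb s * emb (Matrix.SpecialLinearGroup.toGL (x ())) = emb P :=
      Units.ext (by simp [emb, P, blk_diag_mul])
    have e2 : ((emb s * emb (Matrix.SpecialLinearGroup.toGL (mkSL (x () : Matrix (Fin k) (Fin k) F)ᵀ
        (by rw [Matrix.det_transpose]; exact (x ()).2)))) : GL (Fin (k + 1)) F) =
        ⟨blk 1 0 0 (P : Matrix (Fin k) (Fin k) F)ᵀ, blk 1 0 0 ((P⁻¹ : GL (Fin k) F) : Matrix (Fin k) (Fin k) F)ᵀ,
          by rw [blk_diag_mul, one_mul, ← Matrix.transpose_mul, ← Units.val_mul, inv_mul_cancel, Units.val_one,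
            Matrix.transpose_one, blk_one],
          by rw [blk_diag_mul, one_mul, ← Matrix.transpose_mul, ← Units.val_mul, mul_inv_cancel, Units.val_one,
            Matrix.transpose_one, blk_one]⟩ := by
      refine Units.ext ?_
      show blk 1 0 0 (s : Matrix (Fin k) (Fin k) F) * blk 1 0 0 (x () : Matrix (Fin k) (Fin k) F)ᵀ =
        blk 1 0 0 (P : Matrix (Fin k) (Fin k) F)ᵀ
      rw [blk_diag_mul, one_mul, Units.val_mul, hs, Matrix.smul_mul, Matrix.smul_mul, Matrix.one_mul,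
        Matrix.one_mul, Matrix.transpose_smul]
      rfl
    rw [e1, e2]
    have hE' : (1 : Matrix (Fin (k + 1)) (Fin (k + 1)) F) - blk ε 0 0 1 = blk (1 - ε) 0 0 0 := by
      conv_lhs => rw [← blk_one, blk_sub]
      simp
    have hadd : ∀ (p q : F) (U V : Matrix (Fin k) (Fin k) F), blk p 0 0 U + blk q 0 0 V = blk (p + q) 0 0 (U + V) := by
      intro p q U V; ext i j; cases i using Fin.cases <;> cases j using Fin.cases <;> simp
    have htr : ∀ (p : F) (U : Matrix (Fin k) (Fin k) F), (blk p 0 0 U)ᵀ = blk p 0 0 Uᵀ := by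
      intro p U; ext i j; cases i using Fin.cases <;> cases j using Fin.cases <;> simp
    simp only [Plus.levMat, hE, hE', emb, coe_blkGL, coe_blkGL_inv, inv_inv, inv_one, Units.val_one,
      fromBlocks_multiply, blk_diag_mul, htr, hadd, Matrix.zero_mul, Matrix.mul_zero, zero_add, add_zero,
      mul_one, one_mul, Matrix.one_mul, Matrix.mul_one, Matrix.transpose_transpose, Units.inv_mk]
    rcases hε with rfl | rfl <;> simp [blk_one] <;> (ext i j; cases i using Fin.cases <;> cases j using Fin.cases <;> simp)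

theorem class_sq_pomega_plus (hF : 6 ≤ Fintype.card F) {m : ℕ} (hm : 4 ≤ m) :
    ∃ c : Cfsg.POmega F (Cfsg.quadFormPlus m F), ∀ g, ∃ x y, g = (x * c * x⁻¹) * (y * c * y⁻¹) := by
  obtain ⟨k, rfl⟩ : ∃ k, m = k + 1 := ⟨m - 1, by omega⟩
  obtain ⟨Q, hQ, hB⟩ := exists_quadForm_plus (F := F) (k + 1)
  have := class_sq_pomega_plus_form hF (by omega) hQ hB
  rw [hQ] at this
  exact this

end Final

end CfsgLib.ClassSquare
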