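import Cfsg.Agent.Lib.ClassSquare.Blk
import Cfsg.Agent.Lib.SpPres.Mat

/-!
Changing the basis of a non-scalar matrix to prescribe its corner and keep the Schur complement
non-scalar.
-/

set_option autoImplicit false
set_option linter.unusedSectionVars false

namespace CfsgLib.ClassSquare

open Matrix

variable {K : Type*} [Field K] {k : ℕ}

/-- Not a scalar matrix. -/
def Nonscalar (X : Matrix (Fin k) (Fin k) K) : Prop := ∀ c : K, X ≠ c • 1

theorem exists_not_eigen {X : Matrix (Fin k) (Fin k) K} (hX : Nonscalar X) :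
    ∃ u : Fin k → K, ∀ c : K, X *ᵥ u ≠ c • u := by
  by_contra h
  push Not at h
  rcases Nat.eq_zero_or_pos k with rfl | hk
  · exact hX 0 (Subsingleton.elim _ _)
  choose c hc using fun i : Fin k => h (Pi.single i 1)
  have hdiag : ∀ i j, X i j = if i = j then c j else 0 := fun i j => by
    have := congrFun (hc j) i
    simpa [Matrix.mulVec_single_one, Pi.single_apply] using this
  refine hX (c ⟨0, hk⟩) ?_
  ext i j
  rw [hdiag i j]
  by_cases hij : i = j
  · subst hij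
    simp only [if_true, Matrix.smul_apply, Matrix.one_apply_eq, smul_eq_mul, mul_one]
    by_cases h0 : i = ⟨0, hk⟩
    · rw [h0]
    obtain ⟨d, hd⟩ := h (Pi.single i 1 + Pi.single ⟨0, hk⟩ 1)
    rw [Matrix.mulVec_add, hc, hc] at hd
    have e1 := congrFun hd i
    have e2 := congrFun hd ⟨0, hk⟩
    simp [h0, Ne.symm h0] at e1 e2
    rw [e1, e2]
  · simp [hij]

theorem det_units_ne (P : GL (Fin k) K) : (P : Matrix (Fin k) (Fin k) K).det ≠ 0 :=
  CfsgLib.SpPres.det_ne P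

/-- Conjugate of a matrix. -/
def cj (P : GL (Fin k) K) (X : Matrix (Fin k) (Fin k) K) : Matrix (Fin k) (Fin k) K :=
  ((P⁻¹ : GL (Fin k) K) : Matrix (Fin k) (Fin k) K) * X * (P : Matrix (Fin k) (Fin k) K)

theorem cj_cj (P Q : GL (Fin k) K) (X : Matrix (Fin k) (Fin k) K) : cj Q (cj P X) = cj (P * Q) X := by
  simp only [cj, _root_.mul_inv_rev, Units.val_mul, Matrix.mul_assoc]

theorem cj_inv (P : GL (Fin k) K) (X : Matrix (Fin k) (Fin k) K) : cj P⁻¹ (cj P X) = X := by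
  rw [cj_cj, mul_inv_cancel]; simp [cj]

theorem cj_mul (P : GL (Fin k) K) (X Y : Matrix (Fin k) (Fin k) K) : cj P (X * Y) = cj P X * cj P Y := by
  simp only [cj, Matrix.mul_assoc, Units.mul_inv_cancel_left]

theorem cj_one (P : GL (Fin k) K) : cj P (1 : Matrix (Fin k) (Fin k) K) = 1 := by simp [cj]

theorem cj_sub (P : GL (Fin k) K) (X Y : Matrix (Fin k) (Fin k) K) : cj P (X - Y) = cj P X - cj P Y := by
  simp only [cj, Matrix.mul_sub, Matrix.sub_mul]

theorem cj_smul (P : GL (Fin k) K) (c : K) (X : Matrix (Fin k) (Fin k) K) : cj P (c • X) = c • cj P X := by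
  simp [cj]

theorem det_cj (P : GL (Fin k) K) (X : Matrix (Fin k) (Fin k) K) : (cj P X).det = X.det := by
  rw [cj, Matrix.det_units_conj']

theorem cj_mulVec (P : GL (Fin k) K) (X : Matrix (Fin k) (Fin k) K) (w : Fin k → K) :
    (P : Matrix (Fin k) (Fin k) K) *ᵥ (cj P X *ᵥ w) = X *ᵥ ((P : Matrix (Fin k) (Fin k) K) *ᵥ w) := by
  rw [Matrix.mulVec_mulVec, Matrix.mulVec_mulVec, cj, ← Matrix.mul_assoc, ← Matrix.mul_assoc,
    ← Units.val_mul, mul_inv_cancel, Units.val_one, Matrix.one_mul]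

theorem Nonscalar.cj {X : Matrix (Fin k) (Fin k) K} (h : Nonscalar X) (P : GL (Fin k) K) :
    Nonscalar (cj P X) := fun c e => h c (by
  rw [← cj_inv P X, e, cj_smul, cj_one])

/-- A basis starting with `u`, `X u - a u`. -/
theorem exists_base {k : ℕ} (X : Matrix (Fin (k + 2)) (Fin (k + 2)) K) {u : Fin (k + 2) → K}
    (hu : ∀ c : K, X *ᵥ u ≠ c • u) (a : K) :
    ∃ (P : GL (Fin (k + 2)) K) (n : Fin (k + 1) → K) (D : Matrix (Fin (k + 1)) (Fin (k + 1)) K),
      (P : Matrix (Fin (k + 2)) (Fin (k + 2)) K) *ᵥ Pi.single 0 1 = u ∧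
      (P : Matrix (Fin (k + 2)) (Fin (k + 2)) K) *ᵥ Pi.single 1 1 = X *ᵥ u - a • u ∧
      cj P X = blk a n (Pi.single 0 1) D := by
  have hu0 : u ≠ 0 := fun h => hu 0 (by simp [h])
  obtain ⟨P, hP0, hP1⟩ := CfsgLib.SpPres.exists_two_col (i := (0 : Fin (k + 2))) (j := 1)
    (by simp [Fin.ext_iff]) hu0 (w := X *ᵥ u - a • u)
    (fun c hc => hu (a + c) (by rw [add_smul, ← hc]; abel))
  simp only [CfsgLib.SpPres.bv] at hP0 hP1
  refine ⟨P, fun j => cj P X 0 j.succ, (cj P X).submatrix Fin.succ Fin.succ, hP0, hP1, ?_⟩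
  have hcol : cj P X *ᵥ Pi.single 0 1 = a • Pi.single 0 1 + Pi.single 1 1 := by
    have h := cj_mulVec P X (Pi.single 0 1)
    rw [hP0] at h
    have hinj : Function.Injective ((P : Matrix (Fin (k + 2)) (Fin (k + 2)) K).mulVec) := fun v w e => by
      have := congrArg (fun v => ((P⁻¹ : GL _ K) : Matrix (Fin (k + 2)) (Fin (k + 2)) K) *ᵥ v) e
      simpa [Matrix.mulVec_mulVec, ← Units.val_mul] using this
    apply hinj
    rw [h, Matrix.mulVec_add, Matrix.mulVec_smul, hP0, hP1]; abel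
  conv_lhs => rw [eq_blk (cj P X)]
  rw [blk_inj]
  refine ⟨?_, rfl, ?_, rfl⟩
  · have := congrFun hcol 0
    simpa [Matrix.mulVec_single_one] using this
  · funext i
    have := congrFun hcol i.succ
    simp only [Matrix.mulVec_single_one, Matrix.col_apply, Pi.add_apply, Pi.smul_apply] at this
    rw [this]
    rw [Pi.single_eq_of_ne (Fin.succ_ne_zero i), smul_zero, zero_add, Pi.single_apply, Pi.single_apply]
    exact if_congr (by rw [← Fin.succ_zero_eq_one, Fin.succ_inj]) rfl rfl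

/-- The shear fixing the first basis vector. -/
def shear (t : Fin k → K) : GL (Fin (k + 1)) K :=
  ⟨blk 1 t 0 1, blk 1 (-t) 0 1, by rw [blk_mul]; simp [blk_one], by rw [blk_mul]; simp [blk_one]⟩

@[simp] theorem coe_shear (t : Fin k → K) : (shear t : Matrix (Fin (k + 1)) (Fin (k + 1)) K) = blk 1 t 0 1 := rfl

@[simp] theorem coe_shear_inv (t : Fin k → K) :
    (((shear t)⁻¹ : GL (Fin (k + 1)) K) : Matrix (Fin (k + 1)) (Fin (k + 1)) K) = blk 1 (-t) 0 1 := rfl

theorem cj_shear (t : Fin (k + 1) → K) (ht : t 0 = 0) (a : K) (n : Fin (k + 1) → K)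
    (D : Matrix (Fin (k + 1)) (Fin (k + 1)) K) :
    cj (shear t) (blk a n (Pi.single 0 1) D) =
      blk a (n + a • t - t ᵥ* D) (Pi.single 0 1) (D + vecMulVec (Pi.single 0 1) t) := by
  rw [cj, coe_shear, coe_shear_inv, blk_mul, blk_mul, blk_inj]
  refine ⟨?_, ?_, ?_, ?_⟩
  · simp [ht]
  · simp [ht, Matrix.neg_vecMul]; abel
  · funext i; simp [Matrix.one_apply, Pi.single_apply]
  · ext i j; simp [vecMulVec, Matrix.one_apply, Pi.single_apply]; abel

/-- The Schur complement after shearing. -/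
def schur (a : K) (n t : Fin (k + 1) → K) (D : Matrix (Fin (k + 1)) (Fin (k + 1)) K) :
    Matrix (Fin (k + 1)) (Fin (k + 1)) K :=
  D - a⁻¹ • vecMulVec (Pi.single 0 1) (n - t ᵥ* D)

theorem schur_succ (a : K) (n t : Fin (k + 1) → K) (D : Matrix (Fin (k + 1)) (Fin (k + 1)) K) (i : Fin k) (j) :
    schur a n t D i.succ j = D i.succ j := by
  simp [schur, vecMulVec, Fin.succ_ne_zero]

theorem schur_zero (a : K) (n t : Fin (k + 1) → K) (D : Matrix (Fin (k + 1)) (Fin (k + 1)) K) (j) :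
    schur a n t D 0 j = D 0 j - a⁻¹ * (n j - (t ᵥ* D) j) := by
  simp [schur, vecMulVec]

theorem decomp_shear {a : K} (ha : a ≠ 0) (t : Fin (k + 1) → K) (n : Fin (k + 1) → K)
    (D : Matrix (Fin (k + 1)) (Fin (k + 1)) K) :
    blk a (n + a • t - t ᵥ* D) (Pi.single 0 1) (D + vecMulVec (Pi.single 0 1) t) =
      blk 1 0 (a⁻¹ • Pi.single 0 1) 1 * blk a 0 0 (schur a n t D) *
        blk 1 (a⁻¹ • (n + a • t - t ᵥ* D)) 0 1 := by
  rw [blk_decomp _ _ _ _ ha]
  congr 2
  rw [blk_inj]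
  refine ⟨rfl, rfl, rfl, ?_⟩
  ext i j
  simp [schur, vecMulVec]
  field_simp
  ring

/-- Prescribe the corner of a non-scalar matrix. -/
theorem peel {k : ℕ} {X : Matrix (Fin (k + 2)) (Fin (k + 2)) K} (hX : Nonscalar X) (hd : X.det ≠ 0)
    {a : K} (ha : a ≠ 0) :
    ∃ (P : GL (Fin (k + 2)) K) (n m : Fin (k + 1) → K) (Y : Matrix (Fin (k + 1)) (Fin (k + 1)) K),
      cj P X = blk 1 0 m 1 * blk a 0 0 Y * blk 1 n 0 1 ∧ Y.det = X.det / a ∧ (1 ≤ k → Nonscalar Y) := by
  obtain ⟨u, hu⟩ := exists_not_eigen hX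
  obtain ⟨P, n, D, -, -, hP⟩ := exists_base X hu a
  have hdet : ∀ t : Fin (k + 1) → K, t 0 = 0 → (schur a n t D).det = X.det / a := fun t ht => by
    have h := congrArg Matrix.det (decomp_shear ha t n D)
    rw [← cj_shear t ht, det_cj, ← hP, det_cj, det_mul, det_mul, det_blk_zero_row, det_blk_zero_row,
      det_blk_zero_col] at h
    rw [h]; field_simp; simp
  suffices ∃ t : Fin (k + 1) → K, t 0 = 0 ∧ (1 ≤ k → Nonscalar (schur a n t D)) by
    obtain ⟨t, ht, hns⟩ := this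
    exact ⟨P * shear t, _, _, _, by rw [← cj_cj, hP, cj_shear t ht, decomp_shear ha], hdet t ht, hns⟩
  by_contra hall
  push Not at hall
  obtain ⟨hk, h0⟩ := hall 0 rfl
  simp only [Nonscalar] at h0
  push Not at h0
  obtain ⟨c, hc⟩ := h0
  obtain ⟨i, rfl⟩ : ∃ i, k = i + 1 := ⟨k - 1, by omega⟩
  obtain ⟨-, h1⟩ := hall (Pi.single 1 1) (by simp)
  simp only [Nonscalar] at h1
  push Not at h1
  obtain ⟨c', hc'⟩ := h1
  have e1 : schur a n 0 D 1 1 = D 1 1 := schur_succ a n 0 D 0 1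
  rw [hc] at e1
  have e3 := congrFun (congrFun hc' 0) 1
  have e4 := congrFun (congrFun hc 0) 1
  simp [schur_zero] at e1 e3 e4
  have hD : a⁻¹ * D 1 1 = 0 := by linear_combination e3 - e4
  have hc0 : c = 0 := by
    rw [e1]; exact (mul_eq_zero.1 hD).resolve_left (inv_ne_zero ha)
  have := hdet 0 rfl
  rw [hc, hc0] at this
  exact hd ((div_eq_zero_iff.1 (by simpa [Matrix.det_zero] using this.symm)).resolve_right ha)

end CfsgLib.ClassSquare
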