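import Cfsg.Agent.Lib.ClassSquare.Peel
import Cfsg.Agent.Lib.Classical.RegularUnipotent

/-!
Regular unipotent matrices: the two ways of extending one by a first row or column, and similarity.
-/

set_option autoImplicit false
set_option linter.unusedSectionVars false

namespace CfsgLib.ClassSquare

open Matrix

variable {K : Type*} [Field K] {k : ℕ}

/-- A unipotent matrix whose fixed space is at most a line. -/
def RegUnip (X : Matrix (Fin k) (Fin k) K) : Prop :=
  IsNilpotent (X - 1) ∧ ∃ e : Fin k → K, ∀ w, X *ᵥ w = w → ∃ c : K, w = c • e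

theorem regUnip_one_one : RegUnip (1 : Matrix (Fin 1) (Fin 1) K) :=
  ⟨by rw [sub_self]; exact IsNilpotent.zero, 1, fun w _ => ⟨w 0, by funext i; simp [Subsingleton.elim i 0]⟩⟩

theorem RegUnip.cj {X : Matrix (Fin k) (Fin k) K} (h : RegUnip X) (P : GL (Fin k) K) :
    RegUnip (cj P X) := by
  obtain ⟨⟨j, hj⟩, e, he⟩ := h
  refine ⟨⟨j, ?_⟩, ((P⁻¹ : GL (Fin k) K) : Matrix (Fin k) (Fin k) K) *ᵥ e, fun w hw => ?_⟩
  · rw [← cj_one P, ← cj_sub, ClassSquare.cj, Units.conj_pow', hj]
    simp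
  · obtain ⟨c, hc⟩ := he ((P : Matrix (Fin k) (Fin k) K) *ᵥ w) (by rw [← cj_mulVec, hw])
    refine ⟨c, ?_⟩
    have := congrArg (fun v => ((P⁻¹ : GL (Fin k) K) : Matrix (Fin k) (Fin k) K) *ᵥ v) hc
    simpa [Matrix.mulVec_mulVec, ← Units.val_mul, Matrix.mulVec_smul] using this

theorem blk_zero_col_pow (n : Fin k → K) (N : Matrix (Fin k) (Fin k) K) (j : ℕ) :
    blk 0 n 0 N ^ (j + 1) = blk 0 (n ᵥ* N ^ j) 0 (N ^ (j + 1)) := by
  induction j with
  | zero => simp
  | succ j ih =>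
    rw [pow_succ, ih, blk_mul, blk_inj]
    refine ⟨by simp, ?_, by simp, ?_⟩
    · simp [Matrix.vecMul_vecMul, pow_succ]
    · simp [vecMulVec, pow_succ]; rfl

theorem blk_zero_row_pow (m : Fin k → K) (N : Matrix (Fin k) (Fin k) K) (j : ℕ) :
    blk 0 0 m N ^ (j + 1) = blk 0 0 (N ^ j *ᵥ m) (N ^ (j + 1)) := by
  induction j with
  | zero => simp
  | succ j ih =>
    rw [pow_succ', ih, blk_mul, blk_inj]
    refine ⟨by simp, by simp, ?_, ?_⟩
    · simp [Matrix.mulVec_mulVec, pow_succ']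
    · simp [vecMulVec, pow_succ']; rfl

theorem blk_sub_one (n m : Fin k → K) (D : Matrix (Fin k) (Fin k) K) :
    blk 1 n m D - 1 = blk 0 n m (D - 1) := by
  rw [← blk_one, blk_sub]; simp

/-- Extend by a first row. -/
theorem RegUnip.blk_row {B : Matrix (Fin k) (Fin k) K} (h : RegUnip B) {n : Fin k → K}
    {v : Fin k → K} (hv : B *ᵥ v = v) (hnv : n ⬝ᵥ v ≠ 0) : RegUnip (blk 1 n 0 B) := by
  obtain ⟨⟨j, hj⟩, e, he⟩ := h
  refine ⟨⟨j + 1, ?_⟩, Pi.single 0 1, fun w hw => ⟨w 0, ?_⟩⟩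
  · rw [blk_sub_one, blk_zero_col_pow, hj, pow_succ, hj]
    simp [← blk_one, blk]
    ext a b; cases a using Fin.cases <;> cases b using Fin.cases <;> simp
  · rw [← Fin.cons_self_tail w, blk_mulVec] at hw
    obtain ⟨h1, h2⟩ := Fin.cons_inj.1 hw
    obtain ⟨c, hc⟩ := he (Fin.tail w) (by simpa using h2)
    obtain ⟨d, hd⟩ := he v hv
    have hne : n ⬝ᵥ e ≠ 0 := fun h0 => hnv (by rw [hd, dotProduct_smul, h0, smul_zero])
    have hc0 : c = 0 := by
      rw [hc, dotProduct_smul, one_mul, add_eq_left, smul_eq_mul] at h1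
      exact (mul_eq_zero.1 h1).resolve_right hne
    funext i
    cases i using Fin.cases with
    | zero => simp
    | succ i =>
      have := congrFun hc i
      simp [Fin.tail, hc0] at this
      simp [this, Pi.single_apply, Fin.succ_ne_zero]

/-- Extend by a first column. -/
theorem RegUnip.blk_col {A : Matrix (Fin k) (Fin k) K} (h : RegUnip A) {m : Fin k → K}
    {l : Fin k → K} (hl : l ᵥ* A = l) (hlm : l ⬝ᵥ m ≠ 0) : RegUnip (blk 1 0 m A) := by
  obtain ⟨⟨j, hj⟩, e, he⟩ := h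
  refine ⟨⟨j + 1, ?_⟩, Fin.cons 0 e, fun w hw => ?_⟩
  · rw [blk_sub_one, blk_zero_row_pow, hj, pow_succ, hj]
    ext a b; cases a using Fin.cases <;> cases b using Fin.cases <;> simp
  · rw [← Fin.cons_self_tail w, blk_mulVec] at hw
    obtain ⟨-, h2⟩ := Fin.cons_inj.1 hw
    have h3 := congrArg (fun x => l ⬝ᵥ x) h2
    simp only [dotProduct_add, dotProduct_smul, Matrix.dotProduct_mulVec, hl, add_eq_right, smul_eq_mul] at h3
    have h0 : w 0 = 0 := (mul_eq_zero.1 h3).resolve_right hlm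
    rw [h0, zero_smul, zero_add] at h2
    obtain ⟨c, hc⟩ := he (Fin.tail w) h2
    refine ⟨c, ?_⟩
    funext i
    cases i using Fin.cases with
    | zero => simp [h0]
    | succ i =>
      have := congrFun hc i
      simpa [Fin.tail] using this

theorem RegUnip.pow_eq_zero {X : Matrix (Fin k) (Fin k) K} (h : RegUnip X) : (X - 1) ^ k = 0 := by
  have h1 := Matrix.isNilpotent_charpoly_sub_pow_of_isNilpotent h.1
  have h2 := sub_eq_zero.1 h1.eq_zero
  have h3 := Matrix.aeval_self_charpoly (X - 1)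
  simpa [h2] using h3

theorem RegUnip.det {X : Matrix (Fin k) (Fin k) K} (h : RegUnip X) : X.det = 1 := by
  have h1 := Matrix.isNilpotent_charpoly_sub_pow_of_isNilpotent h.1
  have h2 := sub_eq_zero.1 h1.eq_zero
  have h3 : ((X - 1).charpoly).eval (-1) = (-X).det := by
    rw [Matrix.eval_charpoly]
    congr 1
    rw [map_neg, map_one]; abel
  rw [h2, Matrix.det_neg, Fintype.card_fin] at h3
  simp only [Polynomial.eval_pow, Polynomial.eval_X, Fintype.card_fin] at h3
  exact (mul_eq_left₀ (pow_ne_zero _ (neg_ne_zero.2 one_ne_zero))).1 h3.symm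

theorem RegUnip.rank_eq {X : Matrix (Fin k) (Fin k) K} (h : RegUnip X) : (X - 1).rank = k - 1 := by
  rcases Nat.eq_zero_or_pos k with rfl | hk
  · exact Nat.le_zero.1 (le_of_le_of_eq (Matrix.rank_le_card_width (X - 1)) (by simp))
  obtain ⟨hn, e, he⟩ := h
  have h1 := LinearMap.finrank_range_add_finrank_ker (Matrix.mulVecLin (X - 1))
  rw [Module.finrank_fin_fun] at h1
  have hle : Module.finrank K (LinearMap.ker (Matrix.mulVecLin (X - 1))) ≤ 1 := by
    have hsub : LinearMap.ker (Matrix.mulVecLin (X - 1)) ≤ Submodule.span K {e} := fun w hw => by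
      obtain ⟨c, hc⟩ := he w (by
        simpa [Matrix.sub_mulVec, sub_eq_zero] using hw)
      rw [hc]; exact Submodule.smul_mem _ _ (Submodule.mem_span_singleton_self e)
    exact (Submodule.finrank_mono hsub).trans ((finrank_span_le_card _).trans (by simp))
  have hge : Module.finrank K (LinearMap.ker (Matrix.mulVecLin (X - 1))) ≠ 0 := fun h0 => by
    have hbot := Submodule.finrank_eq_zero.1 h0
    rw [Matrix.ker_mulVecLin_eq_bot_iff] at hbot
    have hdet : (X - 1).det = 0 := by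
      haveI : Nonempty (Fin k) := ⟨⟨0, hk⟩⟩
      obtain ⟨j, hj⟩ := hn
      have := congrArg Matrix.det hj
      rw [Matrix.det_pow, Matrix.det_zero] at this
      exact eq_zero_of_pow_eq_zero this
    obtain ⟨v, hv, hv0⟩ := Matrix.exists_mulVec_eq_zero_iff.2 hdet
    exact hv (hbot v hv0)
  rw [Matrix.rank]
  omega

/-- Regular unipotent matrices are conjugate. -/
theorem RegUnip.exists_cj {X Y : Matrix (Fin k) (Fin k) K} (hX : RegUnip X) (hY : RegUnip Y) :
    ∃ P : GL (Fin k) K, ClassSquare.cj P X = Y := by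
  rcases Nat.eq_zero_or_pos k with rfl | hk
  · exact ⟨1, Subsingleton.elim _ _⟩
  obtain ⟨c, hc⟩ := CfsgLib.Classical.RegularUnipotent.exists_conj hk hY.pow_eq_zero hY.rank_eq
    hX.pow_eq_zero hX.rank_eq
  refine ⟨c, ?_⟩
  rw [← sub_left_inj (a := (1 : Matrix (Fin k) (Fin k) K))]
  conv_lhs => rw [← ClassSquare.cj_one c, ← ClassSquare.cj_sub]
  rw [ClassSquare.cj, Matrix.mul_assoc, ← hc, Units.inv_mul_cancel_left]

end CfsgLib.ClassSquare
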