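import Cfsg.Agent.Lib.ClassSquare.Linear
import Cfsg.Prelude.Def_Classical

/-!
The projective symplectic groups over fields with at least six elements.
-/

set_option autoImplicit false
set_option linter.unusedSectionVars false
set_option linter.unusedSimpArgs false

namespace CfsgLib.ClassSquare

open Matrix

variable {F : Type*} [Field F] {m : ℕ}

/-- The grading of a hyperbolic space. -/
def hypWt (m : ℕ) : Fin m ⊕ Fin m → ℤ := Sum.elim (fun _ => 1) (fun _ => -1)

theorem det_one_add_two (x1 x2 y1 y2 : Fin m → F) :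
    (1 + vecMulVec x1 y1 + vecMulVec x2 y2).det =
      (1 + y1 ⬝ᵥ x1) * (1 + y2 ⬝ᵥ x2) - (y1 ⬝ᵥ x2) * (y2 ⬝ᵥ x1) := by
  let U : Matrix (Fin m) (Fin 2) F := Matrix.of fun i => ![x1 i, x2 i]
  let V : Matrix (Fin 2) (Fin m) F := Matrix.of ![y1, y2]
  have e : vecMulVec x1 y1 + vecMulVec x2 y2 = U * V := by
    ext i j
    simp [U, V, Matrix.mul_apply, vecMulVec]
  rw [add_assoc, e, Matrix.det_one_add_mul_comm, Matrix.det_fin_two]
  simp [U, V, Matrix.mul_apply, dotProduct, Matrix.vecMul]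

theorem det_one_add_one (x y : Fin m → F) : (1 + vecMulVec x y).det = 1 + y ⬝ᵥ x := by
  have := det_one_add_two x (0 : Fin m → F) y (0 : Fin m → F)
  simpa using this

theorem sym_dot {M : Matrix (Fin m) (Fin m) F} (hM : Mᵀ = M) (x y : Fin m → F) :
    (x ᵥ* M) ⬝ᵥ y = (y ᵥ* M) ⬝ᵥ x := by
  rw [← Matrix.dotProduct_mulVec, dotProduct_comm, ← Matrix.vecMul_transpose, hM]

theorem exists_hyp_pair {M : Matrix (Fin m) (Fin m) F} (hM : Mᵀ = M) (h0 : M ≠ 0)
    (hq : ∀ y, (y ᵥ* M) ⬝ᵥ y = 0) :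
    (2 : F) = 0 ∧ ∃ y z : Fin m → F, (y ᵥ* M) ⬝ᵥ z = 1 := by
  obtain ⟨i, j, hij⟩ : ∃ i j, M i j ≠ 0 := by
    by_contra hc
    push Not at hc
    exact h0 (by ext i j; exact hc i j)
  have hd : ∀ k, M k k = 0 := fun k => by simpa [dotProduct_single] using hq (Pi.single k 1)
  have h := hq (Pi.single i 1 + Pi.single j 1)
  simp [Matrix.add_vecMul, dotProduct_single, dotProduct_add, hd] at h
  have hji : M j i = M i j := by conv_lhs => rw [← hM, Matrix.transpose_apply]
  rw [hji, ← two_mul] at h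
  exact ⟨(mul_eq_zero.1 h).resolve_right hij, Pi.single i 1, Pi.single j (M i j)⁻¹,
    by simp [dotProduct_single, mul_inv_cancel₀ hij]⟩

theorem exists_sym_det [Finite F] {M : Matrix (Fin m) (Fin m) F} (hM : Mᵀ = M) (h0 : M ≠ 0) (δ : F) :
    ∃ S : Matrix (Fin m) (Fin m) F, Sᵀ = S ∧ (1 + S * M).det = δ := by
  by_cases hq : ∀ y, (y ᵥ* M) ⬝ᵥ y = 0
  · obtain ⟨h2, y, z, hyz⟩ := exists_hyp_pair hM h0 hq
    haveI : CharP F 2 := by
      obtain ⟨p, hp⟩ := CharP.exists F
      have hd : p ∣ 2 := (CharP.cast_eq_zero_iff F p 2).1 (by exact_mod_cast h2)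
      have := (Nat.prime_dvd_prime_iff_eq (CharP.char_is_prime F p) Nat.prime_two).1 hd
      subst this; exact hp
    obtain ⟨s, hs⟩ := FiniteField.isSquare_of_char_two (ringChar.eq F 2) δ
    refine ⟨(s - 1) • (vecMulVec z y + vecMulVec y z), ?_, ?_⟩
    · simp [Matrix.transpose_vecMulVec, add_comm]
    · rw [Matrix.smul_mul, Matrix.add_mul, Matrix.vecMulVec_mul, Matrix.vecMulVec_mul, smul_add,
        ← Matrix.smul_vecMulVec, ← Matrix.smul_vecMulVec, ← add_assoc, det_one_add_two]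
      simp only [dotProduct_smul, hyz, hq, sym_dot hM z y, smul_eq_mul, mul_zero, mul_one]
      rw [hs]; ring
  · push Not at hq
    obtain ⟨y, hy⟩ := hq
    refine ⟨vecMulVec (((δ - 1) / ((y ᵥ* M) ⬝ᵥ y)) • y) y, ?_, ?_⟩
    · rw [Matrix.transpose_vecMulVec, Matrix.vecMulVec_smul, Matrix.smul_vecMulVec]
    · rw [Matrix.vecMulVec_mul, det_one_add_one, dotProduct_smul, smul_eq_mul, div_mul_cancel₀ _ hy]
      ring

theorem exists_sym_nonscalar {M : Matrix (Fin m) (Fin m) F} (hm : 2 ≤ m) (hM : Mᵀ = M) (h0 : M ≠ 0) :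
    ∃ S : Matrix (Fin m) (Fin m) F, Sᵀ = S ∧ (1 + S * M).det = 1 ∧ Nonscalar (1 + S * M) := by
  by_cases hq : ∀ y, (y ᵥ* M) ⬝ᵥ y = 0
  · obtain ⟨-, y, z, hyz⟩ := exists_hyp_pair hM h0 hq
    refine ⟨vecMulVec y y, Matrix.transpose_vecMulVec _ _, ?_, fun c hc => ?_⟩
    · rw [Matrix.vecMulVec_mul, det_one_add_one, hq, add_zero]
    · have h := congrArg (fun X => X *ᵥ z) hc
      simp only [Matrix.add_mulVec, Matrix.one_mulVec, Matrix.vecMulVec_mul, Matrix.vecMulVec_mulVec, hyz,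
        Matrix.smul_mulVec] at h
      have h' : y = (c - 1) • z := by
        rw [sub_smul, one_smul, ← h]
        simp
      rw [h', Matrix.smul_vecMul, smul_dotProduct, hq, smul_zero] at hyz
      exact zero_ne_one hyz
  · push Not at hq
    obtain ⟨y, hy⟩ := hq
    obtain ⟨y', hy', hy'0⟩ : ∃ y', (y ᵥ* M) ⬝ᵥ y' = 0 ∧ y' ≠ 0 := by
      by_contra hc
      push Not at hc
      have hinj : Function.Injective (dotLin (y ᵥ* M)) := by
        rw [← LinearMap.ker_eq_bot, LinearMap.ker_eq_bot']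
        exact fun v hv => hc v hv
      have := LinearMap.finrank_le_finrank_of_injective hinj
      rw [Module.finrank_fin_fun, Module.finrank_self] at this
      omega
    set ν := (y' ᵥ* M) ⬝ᵥ y'
    set μ := (y ᵥ* M) ⬝ᵥ y
    refine ⟨vecMulVec y' y + vecMulVec y (y' + ν • y), ?_, ?_, fun c hc => ?_⟩
    · simp [Matrix.transpose_vecMulVec, Matrix.vecMulVec_add, Matrix.add_vecMulVec, Matrix.vecMulVec_smul,
        Matrix.smul_vecMulVec]
      abel
    · rw [Matrix.add_mul, Matrix.vecMulVec_mul, Matrix.vecMulVec_mul, ← add_assoc, det_one_add_two]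
      simp only [Matrix.add_vecMul, Matrix.smul_vecMul, add_dotProduct, smul_dotProduct, smul_eq_mul, hy',
        sym_dot hM y' y]
      ring
    · have h := congrArg (fun X => X *ᵥ y) hc
      simp only [Matrix.add_mulVec, Matrix.one_mulVec, Matrix.add_mul, Matrix.vecMulVec_mul,
        Matrix.vecMulVec_mulVec, Matrix.smul_mulVec, op_smul_eq_smul, Matrix.add_vecMul, Matrix.smul_vecMul,
        add_dotProduct, smul_dotProduct, hy', sym_dot hM y' y, smul_eq_mul, zero_add] at h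
      have h' : μ • y' = (c - 1 - ν * μ) • y := by
        rw [sub_smul, sub_smul, one_smul, ← h]; abel
      have h'' := congrArg (fun v => (y ᵥ* M) ⬝ᵥ v) h'
      simp only [dotProduct_smul, hy', smul_eq_mul, mul_zero] at h''
      rw [(mul_eq_zero.1 h''.symm).resolve_right hy, zero_smul] at h'
      exact hy'0 ((smul_eq_zero.1 h').resolve_left hy)

theorem transpose_single_mul (A : Matrix (Fin m) (Fin m) F) (i j p q : Fin m) (c : F) :
    (Aᵀ * Matrix.single i j c * A) p q = A i p * c * A j q := by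
  rw [Matrix.mul_apply, Finset.sum_eq_single j]
  · rw [Matrix.mul_apply, Finset.sum_eq_single i] <;> simp +contextual [Matrix.single_apply, Ne.symm, eq_comm]
  · intro k _ hk
    rw [Matrix.mul_apply, Finset.sum_eq_zero, zero_mul]
    intro l _
    simp [Matrix.single_apply, Ne.symm hk]
  · simp

theorem Nonscalar.mul_smul {X : Matrix (Fin m) (Fin m) F} (h : Nonscalar X) {c : F} (hc : c ≠ 0) :
    Nonscalar (X * (c • 1)) := fun e he => h (e / c) (by
  rw [Matrix.mul_smul, Matrix.mul_one] at he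
  have := congrArg (fun Z => c⁻¹ • Z) he
  simpa [smul_smul, inv_mul_cancel₀ hc, div_eq_inv_mul] using this)

theorem mul_inv_sym {A C : Matrix (Fin m) (Fin m) F} (hA : A.det ≠ 0) (h : Aᵀ * C = Cᵀ * A) :
    (C * A⁻¹)ᵀ = C * A⁻¹ := by
  have hu : IsUnit A.det := isUnit_iff_ne_zero.2 hA
  have hu' : IsUnit Aᵀ.det := by rwa [Matrix.det_transpose]
  rw [Matrix.transpose_mul, Matrix.transpose_nonsing_inv]
  calc (Aᵀ)⁻¹ * Cᵀ = (Aᵀ)⁻¹ * (Cᵀ * A) * A⁻¹ := by
        rw [Matrix.mul_assoc, Matrix.mul_assoc, Matrix.mul_nonsing_inv _ hu, Matrix.mul_one]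
    _ = C * A⁻¹ := by rw [← h, ← Matrix.mul_assoc, Matrix.nonsing_inv_mul _ hu', Matrix.one_mul]

namespace Symp

/-- An element of the symplectic group. -/
def mk (X : Matrix (Fin m ⊕ Fin m) (Fin m ⊕ Fin m) F) (h : X ∈ Matrix.symplecticGroup (Fin m) F) :
    Matrix.symplecticGroup (Fin m) F := ⟨X, h⟩

@[simp] theorem coe_mk (X : Matrix (Fin m ⊕ Fin m) (Fin m ⊕ Fin m) F) (h) :
    (mk X h : Matrix (Fin m ⊕ Fin m) (Fin m ⊕ Fin m) F) = X := rfl

/-- Upper unipotent. -/
def symU (S : Matrix (Fin m) (Fin m) F) (hS : Sᵀ = S) : Matrix.symplecticGroup (Fin m) F :=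
  mk (fromBlocks 1 S 0 1) (SymplecticGroup.fromBlocks_mem_iff.2 (by simp [hS]))

/-- Lower unipotent. -/
def symL (S : Matrix (Fin m) (Fin m) F) (hS : Sᵀ = S) : Matrix.symplecticGroup (Fin m) F :=
  mk (fromBlocks 1 0 S 1) (SymplecticGroup.fromBlocks_mem_iff.2 (by simp [hS]))

theorem lev_mem (A : GL (Fin m) F) :
    fromBlocks (A : Matrix (Fin m) (Fin m) F) 0 0 ((A⁻¹ : GL (Fin m) F) : Matrix (Fin m) (Fin m) F)ᵀ ∈
      Matrix.symplecticGroup (Fin m) F := by
  rw [SymplecticGroup.fromBlocks_mem_iff]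
  refine ⟨by simp, by simp, ?_⟩
  rw [Matrix.transpose_zero, Matrix.zero_mul, sub_zero, ← Matrix.transpose_mul, ← Units.val_mul,
    inv_mul_cancel, Units.val_one, Matrix.transpose_one]

/-- The Levi subgroup. -/
def lev : GL (Fin m) F →* Matrix.symplecticGroup (Fin m) F where
  toFun A := mk _ (lev_mem A)
  map_one' := Subtype.ext (by simp)
  map_mul' A B := Subtype.ext (by
    rw [Submonoid.coe_mul]
    simp [fromBlocks_multiply, Matrix.transpose_mul])

@[simp] theorem coe_lev (A : GL (Fin m) F) : (lev A : Matrix (Fin m ⊕ Fin m) (Fin m ⊕ Fin m) F) =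
    fromBlocks (A : Matrix (Fin m) (Fin m) F) 0 0 ((A⁻¹ : GL (Fin m) F) : Matrix (Fin m) (Fin m) F)ᵀ := rfl

/-- The blocks. -/
structure HasBlocks (g : Matrix.symplecticGroup (Fin m) F) (A B C D : Matrix (Fin m) (Fin m) F) : Prop where
  eq : (g : Matrix (Fin m ⊕ Fin m) (Fin m ⊕ Fin m) F) = fromBlocks A B C D

theorem hasBlocks (g : Matrix.symplecticGroup (Fin m) F) :
    ∃ A B C D, HasBlocks g A B C D := ⟨_, _, _, _, ⟨(fromBlocks_toBlocks _).symm⟩⟩

theorem HasBlocks.rel {g : Matrix.symplecticGroup (Fin m) F} {A B C D : Matrix (Fin m) (Fin m) F}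
    (h : HasBlocks g A B C D) : Aᵀ * C = Cᵀ * A ∧ Bᵀ * D = Dᵀ * B ∧ Aᵀ * D - Cᵀ * B = 1 :=
  SymplecticGroup.fromBlocks_mem_iff.1 (h.eq ▸ g.2)

theorem conj_symU {g : Matrix.symplecticGroup (Fin m) F} {A B C D : Matrix (Fin m) (Fin m) F}
    (h : HasBlocks g A B C D) (S : Matrix (Fin m) (Fin m) F) (hS : Sᵀ = S) :
    ∃ g' B' D', IsConj g g' ∧ HasBlocks g' (A + S * C) B' C D' := by
  refine ⟨symU S hS * g * (symU S hS)⁻¹, B + S * D - (A + S * C) * S, D - C * S, isConj_iff.2 ⟨_, rfl⟩, ⟨?_⟩⟩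
  have hi : (symU S hS)⁻¹ = symU (-S) (by rw [Matrix.transpose_neg, hS]) :=
    inv_eq_of_mul_eq_one_right (Subtype.ext (by
      rw [Submonoid.coe_mul]; simp [symU, fromBlocks_multiply]))
  rw [hi, Submonoid.coe_mul, Submonoid.coe_mul]
  simp only [symU, coe_mk, h.eq, fromBlocks_multiply, Matrix.one_mul, Matrix.zero_mul, Matrix.mul_zero,
    Matrix.mul_one, zero_add, add_zero, Matrix.mul_neg]
  congr 1 <;> abel

theorem exists_invertible (n : ℕ) : ∀ (g : Matrix.symplecticGroup (Fin m) F)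
    (A B C D : Matrix (Fin m) (Fin m) F), HasBlocks g A B C D →
    Module.finrank F (LinearMap.ker (Matrix.mulVecLin A)) = n →
    ∃ g' A' B' C' D', IsConj g g' ∧ HasBlocks g' A' B' C' D' ∧ A'.det ≠ 0 := by
  induction n using Nat.strong_induction_on with
  | _ n ih =>
    intro g A B C D h hn
    by_cases hA : A.det = 0
    swap
    · exact ⟨g, A, B, C, D, IsConj.refl g, h, hA⟩
    obtain ⟨k, hk0, hk⟩ := Matrix.exists_mulVec_eq_zero_iff.2 hA
    obtain ⟨h1, -, h3⟩ := h.rel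
    have hCk : C *ᵥ k ≠ 0 := fun hc => by
      have hinj : Function.Injective ((g : Matrix (Fin m ⊕ Fin m) (Fin m ⊕ Fin m) F)).mulVec :=
        Matrix.mulVec_injective_iff_isUnit.2 ((Matrix.isUnit_iff_isUnit_det _).2 (SymplecticGroup.symplectic_det g.2))
      have := @hinj (Sum.elim k 0) 0 (by rw [h.eq, fromBlocks_mulVec, Matrix.mulVec_zero]; simp [hk, hc])
      exact hk0 (funext fun i => by simpa using congrFun this (Sum.inl i))
    obtain ⟨y, hy⟩ := exists_dot_ne hCk
    have hperp : ∀ w, (C *ᵥ k) ⬝ᵥ (A *ᵥ w) = 0 := fun w => by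
      calc (C *ᵥ k) ⬝ᵥ (A *ᵥ w) = k ⬝ᵥ ((Cᵀ * A) *ᵥ w) := by
            rw [← Matrix.mulVec_mulVec, Matrix.dotProduct_mulVec k, Matrix.vecMul_transpose]
        _ = k ⬝ᵥ ((Aᵀ * C) *ᵥ w) := by rw [h1]
        _ = (A *ᵥ k) ⬝ᵥ (C *ᵥ w) := by
            rw [← Matrix.mulVec_mulVec, Matrix.dotProduct_mulVec k, Matrix.vecMul_transpose]
        _ = 0 := by rw [hk, zero_dotProduct]
    obtain ⟨g', B', D', hgg', hb⟩ := conj_symU h (vecMulVec y y) (Matrix.transpose_vecMulVec y y)
    have happ : ∀ w, (A + vecMulVec y y * C) *ᵥ w = A *ᵥ w + ((y ᵥ* C) ⬝ᵥ w) • y := fun w => by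
      rw [Matrix.add_mulVec, Matrix.vecMulVec_mul, Matrix.vecMulVec_mulVec, op_smul_eq_smul]
    have hlt : Module.finrank F (LinearMap.ker (Matrix.mulVecLin (A + vecMulVec y y * C))) < n := by
      rw [← hn]
      refine Submodule.finrank_lt_finrank_of_lt (SetLike.lt_iff_le_and_exists.2 ⟨fun w hw => ?_, k, ?_, ?_⟩)
      · simp only [LinearMap.mem_ker, Matrix.mulVecLin_apply] at hw ⊢
        rw [happ] at hw
        have e := congrArg (fun v => (C *ᵥ k) ⬝ᵥ v) hw
        simp only [dotProduct_add, dotProduct_smul, hperp, zero_add, dotProduct_zero, smul_eq_mul] at e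
        rw [(mul_eq_zero.1 e).resolve_right hy, zero_smul, add_zero] at hw
        exact hw
      · simpa using hk
      · simp only [LinearMap.mem_ker, Matrix.mulVecLin_apply]
        rw [happ, hk, zero_add, ← Matrix.dotProduct_mulVec, dotProduct_comm]
        intro e
        rcases smul_eq_zero.1 e with e | e
        · exact hy e
        · exact hy (by rw [e, dotProduct_zero])
    obtain ⟨g'', A'', B'', C'', D'', hc, hb', hd⟩ := ih _ hlt g' _ _ _ _ hb rfl
    exact ⟨g'', A'', B'', C'', D'', hgg'.trans hc, hb', hd⟩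

theorem conj_J {g : Matrix.symplecticGroup (Fin m) F} {A B C D : Matrix (Fin m) (Fin m) F}
    (h : HasBlocks g A B C D) :
    IsConj g (SymplecticGroup.symJ (Fin m) F * g * (SymplecticGroup.symJ (Fin m) F)⁻¹) ∧
      HasBlocks (SymplecticGroup.symJ (Fin m) F * g * (SymplecticGroup.symJ (Fin m) F)⁻¹) D (-C) (-B) A := by
  refine ⟨isConj_iff.2 ⟨_, rfl⟩, ⟨?_⟩⟩
  rw [Submonoid.coe_mul, Submonoid.coe_mul, SymplecticGroup.coe_inv', SymplecticGroup.coe_J, Matrix.J_inv,
    h.eq, Matrix.J, Matrix.fromBlocks_neg]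
  simp [fromBlocks_multiply]

theorem mem_center_of_pm {g : Matrix.symplecticGroup (Fin m) F} {c : F}
    (h : (g : Matrix (Fin m ⊕ Fin m) (Fin m ⊕ Fin m) F) = c • 1) :
    g ∈ Subgroup.center (Matrix.symplecticGroup (Fin m) F) := by
  refine Subgroup.mem_center_iff.2 fun x => Subtype.ext ?_
  rw [Submonoid.coe_mul, Submonoid.coe_mul, h]
  simp

theorem exists_C_ne {g : Matrix.symplecticGroup (Fin m) F}
    (hg : g ∉ Subgroup.center (Matrix.symplecticGroup (Fin m) F))
    {A B C D : Matrix (Fin m) (Fin m) F} (h : HasBlocks g A B C D) (hA : A.det ≠ 0) :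
    ∃ g' A' B' C' D', IsConj g g' ∧ HasBlocks g' A' B' C' D' ∧ A'.det ≠ 0 ∧ C' ≠ 0 := by
  by_cases hC : C = 0
  swap
  · exact ⟨g, A, B, C, D, IsConj.refl g, h, hA, hC⟩
  obtain ⟨-, -, h3⟩ := h.rel
  rw [hC, Matrix.transpose_zero, Matrix.zero_mul, sub_zero] at h3
  have hD : D.det ≠ 0 := fun e => by
    have := congrArg Matrix.det h3
    rw [Matrix.det_mul, e, mul_zero, Matrix.det_one] at this
    exact zero_ne_one this
  by_cases hB : B = 0
  swap
  · obtain ⟨hc, hb⟩ := conj_J h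
    exact ⟨_, _, _, _, _, hc, hb, hD, neg_ne_zero.2 hB⟩
  by_contra hall
  push Not at hall
  have key : ∀ S : Matrix (Fin m) (Fin m) F, Sᵀ = S → Aᵀ * S * A = S := by
    intro S hS
    have hi : (symL S hS)⁻¹ = symL (-S) (by rw [Matrix.transpose_neg, hS]) :=
      inv_eq_of_mul_eq_one_right (Subtype.ext (by rw [Submonoid.coe_mul]; simp [symL, fromBlocks_multiply]))
    have hb : HasBlocks (symL S hS * g * (symL S hS)⁻¹) A 0 (S * A - D * S) D := ⟨by
      rw [hi, Submonoid.coe_mul, Submonoid.coe_mul]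
      simp only [symL, coe_mk, h.eq, hB, hC, fromBlocks_multiply, Matrix.one_mul, Matrix.zero_mul,
        Matrix.mul_zero, Matrix.mul_one, zero_add, add_zero, Matrix.mul_neg]
      congr 1 <;> abel⟩
    have h0 := hall _ _ _ _ _ (isConj_iff.2 ⟨_, rfl⟩) hb hA
    rw [sub_eq_zero] at h0
    rw [Matrix.mul_assoc, h0, ← Matrix.mul_assoc, h3, Matrix.one_mul]
  have hoff : ∀ i p, p ≠ i → A i p = 0 := fun i p hp => by
    have h := congrFun (congrFun (key (Matrix.single i i 1) (by simp)) p) p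
    rw [transpose_single_mul] at h
    simp [Matrix.single_apply, Ne.symm hp] at h
    exact h
  have hdd : ∀ i j, A i i * A j j = 1 := fun i j => by
    rcases eq_or_ne i j with rfl | hij
    · have h := congrFun (congrFun (key (Matrix.single i i 1) (by simp)) i) i
      rw [transpose_single_mul] at h
      simpa using h
    · have h := congrFun (congrFun (key (Matrix.single i j 1 + Matrix.single j i 1) (by simp [add_comm])) i) j
      rw [Matrix.mul_add, Matrix.add_mul, Matrix.add_apply, transpose_single_mul, transpose_single_mul] at h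
      simpa [hij, hoff _ _ hij, hoff _ _ hij.symm] using h
  rcases Nat.eq_zero_or_pos m with rfl | hm
  · exact hg (mem_center_of_pm (c := 1) (Matrix.ext fun i => isEmptyElim i))
  obtain ⟨c, hc⟩ : ∃ c, c = A ⟨0, hm⟩ ⟨0, hm⟩ := ⟨_, rfl⟩
  have hcc : c * c = 1 := hc ▸ hdd _ _
  have hAc : A = c • 1 := by
    ext i p
    rcases eq_or_ne p i with rfl | hp
    · have e : A p p * c = 1 := hc ▸ hdd p _
      simp [Matrix.one_apply]
      calc A p p = A p p * (c * c) := by rw [hcc, mul_one]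
        _ = c := by rw [← mul_assoc, e, one_mul]
    · simp [hoff i p hp, Ne.symm hp]
  have hDc : D = c • 1 := by
    rw [hAc, Matrix.transpose_smul, Matrix.transpose_one, Matrix.smul_mul, Matrix.one_mul] at h3
    have := congrArg (fun X => c • X) h3
    simpa [smul_smul, hcc] using this
  refine hg (mem_center_of_pm (c := c) ?_)
  rw [h.eq, hB, hC, hAc, hDc, ← fromBlocks_one, fromBlocks_smul, smul_zero]

theorem exists_normal_form [Finite F] (hm : 2 ≤ m) {g : Matrix.symplecticGroup (Fin m) F}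
    (hg : g ∉ Subgroup.center (Matrix.symplecticGroup (Fin m) F)) {δ : F} (hδ : δ ≠ 0) :
    ∃ g' A B C D, IsConj g g' ∧ HasBlocks g' A B C D ∧ A.det = δ ∧ Nonscalar A := by
  obtain ⟨A, B, C, D, h⟩ := hasBlocks g
  obtain ⟨g1, A1, B1, C1, D1, c1, h1, hA1⟩ := exists_invertible _ g A B C D h rfl
  have hg1 : g1 ∉ Subgroup.center (Matrix.symplecticGroup (Fin m) F) := fun hc => hg (by
    obtain ⟨x, rfl⟩ := isConj_iff.1 c1
    have := (inferInstance : (Subgroup.center (Matrix.symplecticGroup (Fin m) F)).Normal).conj_mem _ hc x⁻¹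
    simpa [mul_assoc] using this)
  obtain ⟨g2, A2, B2, C2, D2, c2, h2, hA2, hC2⟩ := exists_C_ne hg1 h1 hA1
  have hu : IsUnit A2.det := isUnit_iff_ne_zero.2 hA2
  have hM0 : C2 * A2⁻¹ ≠ 0 := fun e => hC2 (by
    rw [← Matrix.mul_one C2, ← Matrix.nonsing_inv_mul _ hu, ← Matrix.mul_assoc, e, Matrix.zero_mul])
  obtain ⟨S, hS, hSd⟩ := exists_sym_det (mul_inv_sym hA2 h2.rel.1) hM0 (δ / A2.det)
  obtain ⟨g3, B3, D3, c3, h3⟩ := conj_symU h2 S hS
  have e : A2 + S * C2 = (1 + S * (C2 * A2⁻¹)) * A2 := by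
    rw [Matrix.add_mul, Matrix.one_mul, Matrix.mul_assoc, Matrix.mul_assoc, Matrix.nonsing_inv_mul _ hu,
      Matrix.mul_one]
  have hd3 : (A2 + S * C2).det = δ := by rw [e, Matrix.det_mul, hSd, div_mul_cancel₀ _ hA2]
  by_cases hns : Nonscalar (A2 + S * C2)
  · exact ⟨g3, _, _, _, _, (c1.trans c2).trans c3, h3, hd3, hns⟩
  simp only [Nonscalar] at hns
  push Not at hns
  obtain ⟨c, hc⟩ := hns
  haveI : Nonempty (Fin m) := ⟨⟨0, by omega⟩⟩
  have hc0 : c ≠ 0 := fun h0 => by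
    rw [hc, h0, zero_smul, Matrix.det_zero] at hd3
    exact hδ hd3.symm
  have hA3 : (A2 + S * C2).det ≠ 0 := hd3 ▸ hδ
  have hu3 : IsUnit (A2 + S * C2).det := isUnit_iff_ne_zero.2 hA3
  have hM3 : C2 * (A2 + S * C2)⁻¹ ≠ 0 := fun e => hC2 (by
    rw [← Matrix.mul_one C2, ← Matrix.nonsing_inv_mul _ hu3, ← Matrix.mul_assoc, e, Matrix.zero_mul])
  obtain ⟨T, hT, hTd, hTn⟩ := exists_sym_nonscalar hm (mul_inv_sym hA3 h3.rel.1) hM3
  obtain ⟨g4, B4, D4, c4, h4⟩ := conj_symU h3 T hT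
  have e4 : A2 + S * C2 + T * C2 = (1 + T * (C2 * (A2 + S * C2)⁻¹)) * (A2 + S * C2) := by
    rw [Matrix.add_mul, Matrix.one_mul, Matrix.mul_assoc, Matrix.mul_assoc, Matrix.nonsing_inv_mul _ hu3,
      Matrix.mul_one]
  refine ⟨g4, _, _, _, _, ((c1.trans c2).trans c3).trans c4, h4, ?_, ?_⟩
  · rw [e4, Matrix.det_mul, hTd, one_mul, hd3]
  · rw [e4]
    nth_rw 2 [hc]
    exact hTn.mul_smul hc0

/-- The matrix map to the general linear group. -/
def toGL : Matrix.symplecticGroup (Fin m) F →* GL (Fin m ⊕ Fin m) F :=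
  (Submonoid.subtype _).toHomUnits

@[simp] theorem coe_toGL (g : Matrix.symplecticGroup (Fin m) F) :
    (toGL g : Matrix (Fin m ⊕ Fin m) (Fin m ⊕ Fin m) F) = g := rfl

theorem class_sq_psp [Fintype F] (hF : 6 ≤ Fintype.card F) (hm : 2 ≤ m) :
    ∃ c : Cfsg.PSp m F, ∀ g, ∃ x y, g = (x * c * x⁻¹) * (y * c * y⁻¹) := by
  classical
  obtain ⟨a, ha, ha2⟩ := exists_ne_zero_one_neg_one hF
  have hane : a ≠ a⁻¹ := fun e => ha2 (by nth_rw 2 [e]; exact mul_inv_cancel₀ ha)
  let ψ : (Unit → Matrix.SpecialLinearGroup (Fin m) F) →* Matrix.symplecticGroup (Fin m) F :=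
    lev.comp (Matrix.SpecialLinearGroup.toGL.comp (Pi.evalMonoidHom _ ()))
  let s : GL (Fin m) F := Units.map (algebraMap F (Matrix (Fin m) (Fin m) F)).toMonoidHom (Units.mk0 a ha)
  have hs : (s : Matrix (Fin m) (Fin m) F) = a • 1 := Algebra.algebraMap_eq_smul_one a
  have hsi : ((s⁻¹ : GL (Fin m) F) : Matrix (Fin m) (Fin m) F) = a⁻¹ • 1 :=
    Algebra.algebraMap_eq_smul_one a⁻¹
  haveI : Finite (Matrix.symplecticGroup (Fin m) F) := Finite.of_injective _ Subtype.val_injective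
  have hgr : ∀ A : GL (Fin m) F, Graded (hypWt m) (toGL (lev A) : Matrix (Fin m ⊕ Fin m) (Fin m ⊕ Fin m) F) := by
    intro A i j hij
    rcases i with i | i <;> rcases j with j | j <;> simp [hypWt] at hij ⊢
  have hinj : Function.Injective (toGL (m := m) (F := F)) := fun x y e =>
    Subtype.ext (congrArg Units.val e)
  refine class_sq_of_graded (κ := Unit) (k := fun _ => m) hF (QuotientGroup.mk' _)
    (QuotientGroup.mk'_surjective _) toGL hinj ψ (lev s) (hypWt m)
    (Sum.elim (fun _ => a) (fun _ => a⁻¹)) ?_ ?_ ?_ (fun x => hgr _) ?_ ?_ ?_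
  · rw [coe_toGL, coe_lev, hs, hsi]
    simp only [Matrix.transpose_smul, Matrix.transpose_one, smul_one_eq_diagonal]
    rw [diagonal_transpose, fromBlocks_diagonal]
  · intro i j; rcases i with i | i <;> rcases j with j | j <;> simp [hypWt]
  · intro i j; rcases i with i | i <;> rcases j with j | j <;> simp [hypWt, hane, hane.symm]
  · intro e
    obtain ⟨m', rfl⟩ : ∃ m', m = m' + 1 := ⟨m - 1, by omega⟩
    let D : GL (Fin (m' + 1)) F := blkGL (e ()) 1
    refine ⟨lev D⁻¹, hgr _, fun _ => D, fun _ _ => by simp [D, det_blk_zero_row], fun x y hxy => ?_⟩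
    show lev D⁻¹ * lev _ * (lev D⁻¹)⁻¹ = lev _
    rw [← map_inv, ← map_mul, ← map_mul]
    congr 1
    refine Units.ext ?_
    rw [inv_inv, Units.val_mul, Units.val_mul]
    exact (hxy ()).symm
  · intro g hg
    have hg' : g ∉ Subgroup.center (Matrix.symplecticGroup (Fin m) F) := fun h => hg (by
      rw [QuotientGroup.mk'_apply, QuotientGroup.eq_one_iff]; exact h)
    obtain ⟨g', A, B, C, D, hc, hb, hd, hns⟩ := exists_normal_form hm hg' (pow_ne_zero m (mul_ne_zero ha ha))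
    have hA : A.det ≠ 0 := hd ▸ pow_ne_zero m (mul_ne_zero ha ha)
    have hu : IsUnit A.det := isUnit_iff_ne_zero.2 hA
    let Ag : GL (Fin m) F := Matrix.GeneralLinearGroup.mkOfDetNeZero A hA
    have hAg : (Ag : Matrix (Fin m) (Fin m) F) = A := rfl
    let u := symL (C * A⁻¹) (mul_inv_sym hA hb.rel.1)
    let v := (u * lev Ag)⁻¹ * g'
    have hx : ((a * a)⁻¹ • A).det = 1 := by
      rw [Matrix.det_smul, hd, Fintype.card_fin, ← mul_pow, inv_mul_cancel₀ (mul_ne_zero ha ha), one_pow]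
    refine ⟨u, v, ?_, ?_, fun _ => mkSL _ hx, fun _ => Or.inr fun c e => hns (a * a * c) ?_, ?_⟩
    · rw [mem_rad]
      intro i j hij
      rw [coe_toGL] at hij
      rcases i with i | i <;> rcases j with j | j <;>
        simp [u, symL, hypWt, ← fromBlocks_one] at hij ⊢
    · obtain ⟨P, Q, R, T, hPQ⟩ := hasBlocks v
      have e : (u : Matrix (Fin m ⊕ Fin m) (Fin m ⊕ Fin m) F) * lev Ag * v = g' := by
        rw [← Submonoid.coe_mul, ← Submonoid.coe_mul, mul_inv_cancel_left]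
      rw [hPQ.eq, hb.eq, coe_lev, hAg] at e
      simp only [u, symL, coe_mk, fromBlocks_multiply, Matrix.one_mul, Matrix.zero_mul, Matrix.mul_zero,
        zero_add, add_zero, fromBlocks_inj] at e
      obtain ⟨e1, -, e3, -⟩ := e
      have hP : P = 1 := by
        have := congrArg (fun X => A⁻¹ * X) e1
        simpa [← Matrix.mul_assoc, Matrix.nonsing_inv_mul _ hu] using this
      rw [hP, Matrix.mul_one, Matrix.mul_assoc C, Matrix.nonsing_inv_mul _ hu, Matrix.mul_one] at e3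
      have hR : R = 0 := by
        have e3' := add_eq_left.1 e3
        have := congrArg (fun X => ((Ag : Matrix (Fin m) (Fin m) F))ᵀ * X) e3'
        simpa [← Matrix.mul_assoc, ← Matrix.transpose_mul, ← Units.val_mul] using this
      obtain ⟨-, -, h3⟩ := hPQ.rel
      rw [hP, hR, Matrix.transpose_one, Matrix.one_mul, Matrix.transpose_zero, Matrix.zero_mul, sub_zero] at h3
      rw [mem_rad]
      intro i j hij
      rw [coe_toGL, hPQ.eq, hP, hR, h3] at hij
      rcases i with i | i <;> rcases j with j | j <;> simp [hypWt, ← fromBlocks_one] at hij ⊢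
    · have := congrArg (fun X => (a * a) • X) e
      simpa only [coe_mkSL, smul_smul, mul_inv_cancel₀ (mul_ne_zero ha ha), one_smul] using this
    · have e : lev s * lev s * ψ (fun _ => mkSL _ hx) = lev Ag := by
        show lev s * lev s * lev _ = lev Ag
        rw [← map_mul, ← map_mul]
        congr 1
        refine Units.ext ?_
        rw [Units.val_mul, Units.val_mul, hs, hAg]
        show a • (1 : Matrix (Fin m) (Fin m) F) * a • 1 * ((a * a)⁻¹ • A) = A
        simp only [Matrix.smul_mul, Matrix.mul_smul, Matrix.one_mul, smul_smul]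
        rw [inv_mul_cancel₀ (mul_ne_zero ha ha), one_smul]
      rw [e, mul_inv_cancel_left]
      exact hc
  · intro x hx
    refine ⟨fun i => mkSL (x i : Matrix (Fin m) (Fin m) F)ᵀ (by rw [Matrix.det_transpose]; exact (x i).2),
      fun i => (hx i).transpose, ?_⟩
    rw [← map_inv]
    refine MonoidHom.map_isConj _ (isConj_iff.2 ⟨SymplecticGroup.symJ (Fin m) F, ?_⟩)
    show _ * (lev s * lev _)⁻¹ * _ = lev s * lev _
    rw [← map_mul, ← map_mul, ← map_inv]
    obtain ⟨-, hb⟩ := conj_J (g := lev ((s * Matrix.SpecialLinearGroup.toGL (x ()))⁻¹)) (A := _) (B := 0) (C := 0) (D := _)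
      ⟨coe_lev _⟩
    simp only [MonoidHom.comp_apply, Pi.evalMonoidHom_apply]
    refine Subtype.ext ?_
    rw [hb.eq, coe_lev, fromBlocks_inj]
    have e1 : ((s * Matrix.SpecialLinearGroup.toGL (x ()) : GL (Fin m) F) : Matrix (Fin m) (Fin m) F)ᵀ =
        a • (x () : Matrix (Fin m) (Fin m) F)ᵀ := by
      rw [Units.val_mul, hs, Matrix.smul_mul, Matrix.one_mul, Matrix.transpose_smul]
      rfl
    refine ⟨?_, neg_zero, neg_zero, ?_⟩
    · rw [inv_inv, e1, Units.val_mul, hs, Matrix.smul_mul, Matrix.one_mul]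
      rfl
    · have e2 : (s * Matrix.SpecialLinearGroup.toGL (mkSL (x () : Matrix (Fin m) (Fin m) F)ᵀ
          (by rw [Matrix.det_transpose]; exact (x ()).2)) : GL (Fin m) F) =
          ⟨((s * Matrix.SpecialLinearGroup.toGL (x ()) : GL (Fin m) F) : Matrix (Fin m) (Fin m) F)ᵀ,
            (((s * Matrix.SpecialLinearGroup.toGL (x ()))⁻¹ : GL (Fin m) F) : Matrix (Fin m) (Fin m) F)ᵀ,
            by rw [← Matrix.transpose_mul, ← Units.val_mul, inv_mul_cancel, Units.val_one, Matrix.transpose_one],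
            by rw [← Matrix.transpose_mul, ← Units.val_mul, mul_inv_cancel, Units.val_one, Matrix.transpose_one]⟩ := by
        refine Units.ext ?_
        refine Eq.trans ?_ e1.symm
        rw [Units.val_mul, hs, Matrix.smul_mul, Matrix.one_mul]
        rfl
      rw [e2]
      simp

end Symp

end CfsgLib.ClassSquare
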