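import Cfsg.Agent.Lib.Chev.TwistD4Split
import Cfsg.Agent.Lib.ClassSquare.ChevComp
import Cfsg.Agent.Lib.ClassSquare.ChevGauss

/-!
The two opposite unipotent subgroups of `³D₄(q)`, their parts away from one class of simple roots,
and the representative of the longest element.
-/

set_option autoImplicit false
set_option linter.unusedSectionVars false
set_option maxRecDepth 100000

open scoped commutatorElement

namespace CfsgLib.ClassSquare.Triality

open Cfsg.Lie CfsgLib.Chev CfsgLib.Chev.Cert CfsgLib.Chev.D4Root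
open CfsgLib.Chev.TorusD4 (up low sl2_closure)
open scoped MatrixGroups

/-- The field map and the two sizes. -/
structure Ctx (K : Type*) [Field K] [Fintype K] (q : ℕ) where
  /-- the field map -/
  f : K →+* K
  hf : ∀ t, f t = t ^ q
  hK : Fintype.card K = q ^ 3
  hq : IsPrimePow q

/-- The field map exists. -/
theorem exists_ctx {K : Type*} [Field K] [Fintype K] {q p : ℕ} [Fact p.Prime] [CharP K p]
    (hq : IsPrimePow q) (hK : Fintype.card K = q ^ 3) : Nonempty (Ctx K q) := by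
  obtain ⟨r, e, hr, he, rfl⟩ := hq
  obtain ⟨n, -, hn⟩ := FiniteField.card K p
  have hrp : r = p := by
    have h1 : r ∣ Fintype.card K := hK ▸ (dvd_pow_self r he.ne').trans (dvd_pow_self _ (by norm_num))
    rw [hn] at h1
    exact (Nat.prime_dvd_prime_iff_eq (Nat.prime_iff.2 hr) Fact.out).1
      ((Nat.prime_iff.2 hr).dvd_of_dvd_pow h1)
  subst hrp
  haveI : ExpChar K r := ExpChar.prime Fact.out
  exact ⟨⟨iterateFrobenius K r e, fun t => iterateFrobenius_def r e t, hK, ⟨r, e, hr, he, rfl⟩⟩⟩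

theorem half_lt {r : ℕ} (hr : r < 24) : r < tabD4.n := lt_of_lt_of_eq hr n_eq.symm

/-- The roots of a positive class. -/
def rootsL : Fin 2 → List ℕ := ![[18, 13, 12], [14]]

theorem rts_eq : ∀ i : Fin 2, rts i = rootsL i := by decide +kernel

/-- The positive roots outside a class. -/
def ubL (i : Fin 2) : List ℕ := (List.range' 12 12).filter fun r => decide (r ∉ rootsL i)

/-- The negative roots outside a class. -/
def vbL (i : Fin 2) : List ℕ := (List.range 12).filter fun r => decide (23 - r ∉ rootsL i)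

/-- The roots of a class with their negatives. -/
def bothL (i : Fin 2) : List ℕ := rootsL i ++ (rootsL i).map fun r => 23 - r

/-- The check that the group of the roots of `R` normalizes the group of the roots of `S`. -/
noncomputable def chkNorm (R S : List ℕ) : Bool :=
  R.all fun a => decide (a < tabD4.n) && S.all fun b =>
    decide (b < tabD4.n) && (decide (b ≠ a) && (decide (b ≠ tabD4.neg a) &&
      (tabD4.commTerms a b).all fun c => S.contains c.1))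

variable {K : Type*} [Field K] [Fintype K] {q : ℕ}

theorem gen_le_normalizer {R S : List ℕ} (hc : chkNorm R S = true) :
    gen chevD4 K {r | r ∈ R} ≤ Subgroup.normalizer (gen chevD4 K {r | r ∈ S} : Set (GL chevD4.Idx K)) := by
  simp only [chkNorm, Bool.and_eq_true, List.all_eq_true, decide_eq_true_eq, List.contains_iff_mem] at hc
  refine (Subgroup.closure_le _).2 ?_
  rintro _ ⟨a, ha, t, rfl⟩
  refine le_normalizer_closure (H := gen chevD4 K {a}) ?_ (X_mem_gen chevD4 (Set.mem_singleton a) t)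
  rintro y hy _ ⟨b, hb, u, rfl⟩
  obtain ⟨h1, h2⟩ := hc a ha
  obtain ⟨s, rfl⟩ := (certD4.gen_singleton h1).1 hy
  obtain ⟨h3, h4, h5, h6⟩ := h2 b hb
  exact certD4.X_conj_mem (S := {r | r ∈ S}) h1 h3 h4 h5 hb h6 _ _

/-- The longest word. -/
def w0 : List ℕ := [0, 2, 3, 1, 0, 2, 3, 1, 0, 2, 3, 1]

theorem wordOK_w0 : WordOK tabD4 w0 := wordOK_of_all (by decide +kernel)

theorem actW_w0 : ∀ r : Fin 24, actW tabD4 w0 r = (23 - (r : ℕ), -1) := by decide +kernel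

/-- The representative of the longest element. -/
noncomputable def n0 (K : Type*) [Field K] : GL chevD4.Idx K := nW chevD4 K w0

theorem n0_conj_X {r : ℕ} (hr : r < 24) (t : K) :
    n0 K * X chevD4 r t * (n0 K)⁻¹ = X chevD4 (23 - r) (-t) := by
  rw [n0, CfsgLib.ClassSquare.nW_conj_X certD4 wordOK_w0 (half_lt hr), actW_w0 ⟨r, hr⟩]
  simp

theorem n0_conj_gen {S S' : Set ℕ} (hS : ∀ r ∈ S, r < 24 ∧ 23 - r ∈ S') {u : GL chevD4.Idx K}
    (hu : u ∈ gen chevD4 K S) : n0 K * u * (n0 K)⁻¹ ∈ gen chevD4 K S' :=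
  conj_gen_le (fun r hr => ⟨23 - r, (hS r hr).2, -1, by simp, fun t => by
    rw [n0_conj_X (hS r hr).1, neg_one_mul]⟩) hu

theorem n0inv_conj_gen {S S' : Set ℕ} (hS : ∀ r ∈ S, r < 24 ∧ 23 - r ∈ S') {u : GL chevD4.Idx K}
    (hu : u ∈ gen chevD4 K S) : (n0 K)⁻¹ * u * n0 K ∈ gen chevD4 K S' := by
  have := conj_gen_le (g := (n0 K)⁻¹) (S' := S') (fun r hr => ?_) hu
  · rwa [inv_inv] at this
  refine ⟨23 - r, (hS r hr).2, -1, by simp, fun t => ?_⟩
  rw [inv_inv, neg_one_mul, eq_comm, ← (MulAut.conj (n0 K)).injective.eq_iff]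
  simp only [MulAut.conj_apply]
  rw [n0_conj_X (by have := (hS r hr).1; omega), _root_.neg_neg, show 23 - (23 - r) = r by
    have := (hS r hr).1; omega]
  group

namespace Ctx

variable (c : Ctx K q)
include c

theorem hK' (t : K) : ((t ^ q) ^ q) ^ q = t := pow_cubeD4 c.hK t

/-- The group. -/
noncomputable def Gr : Subgroup (GL chevD4.Idx K) := (endoD4 c.f).fix

theorem Gr_eq : c.Gr = twistedD4 K q := fix_eq_twistedD4 c.f c.hf c.hK c.hq

/-- The positive unipotent subgroup. -/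
noncomputable def U : Subgroup (GL chevD4.Idx K) := c.Gr ⊓ gen chevD4 K {r | r ∈ List.range' 12 12}

/-- The negative unipotent subgroup. -/
noncomputable def V : Subgroup (GL chevD4.Idx K) := c.Gr ⊓ gen chevD4 K {r | r ∈ List.range 12}

/-- The part of `U` outside a class. -/
noncomputable def Ub (i : Fin 2) : Subgroup (GL chevD4.Idx K) := c.Gr ⊓ gen chevD4 K {r | r ∈ ubL i}

/-- The part of `V` outside a class. -/
noncomputable def Vb (i : Fin 2) : Subgroup (GL chevD4.Idx K) := c.Gr ⊓ gen chevD4 K {r | r ∈ vbL i}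

theorem Ub_le_U (i : Fin 2) : c.Ub i ≤ c.U :=
  inf_le_inf_left _ (gen_mono _ fun _ hr => (List.mem_filter.1 hr).1)

theorem Vb_le_V (i : Fin 2) : c.Vb i ≤ c.V :=
  inf_le_inf_left _ (gen_mono _ fun _ hr => (List.mem_filter.1 hr).1)

theorem ev_mem {k : Fin 6} {t : K} (ht : Par q k t) : D4Root.ev q k t ∈ c.Gr :=
  ev_mem_fix c.f c.hf c.hK' ht

theorem ev_mem_U {k : Fin 6} {t : K} (ht : Par q k t) : D4Root.ev q k t ∈ c.U := by
  refine ⟨c.ev_mem ht, ev_mem_gen k t fun r hr => ?_⟩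
  have h : ∀ k : Fin 6, ((orb k).list twistD4a.rt).all (fun r => decide (12 ≤ r ∧ r < 24)) = true := by
    decide +kernel
  have := List.all_eq_true.1 (h k) r hr
  simp only [decide_eq_true_eq] at this
  exact List.mem_range'_1.2 ⟨this.1, by omega⟩

theorem th_mem_Gr {v u : Kˣ} (hu : u ^ q = u) : th q v u ∈ c.Gr := (th_mem c.f c.hf c.hK' hu).1

theorem tri_mem_Gr (g : SL(2, K)) : tri c.f g ∈ c.Gr := tri_mem c.f c.hf c.hK g

theorem mid_mem_Gr (g : SL(2, ↥(fixFld c.f))) : mid c.f g ∈ c.Gr := mid_mem c.f c.hf c.hK g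

theorem tri_mem_gen (g : SL(2, K)) : tri c.f g ∈ gen chevD4 K {r | r ∈ bothL 0} := by
  have htop : (gen chevD4 K {r | r ∈ bothL 0}).comap (tri c.f) = (⊤ : Subgroup SL(2, K)) :=
    sl2_closure (fun t => Subgroup.mem_comap.2 (by
        rw [tri_up c.f c.hf c.hK]
        simp only [D4Root.ev, word, List.map_cons, List.map_nil, List.prod_cons, List.prod_nil, mul_one]
        exact mul_mem (X_mem_gen _ (by decide) _) (mul_mem (X_mem_gen _ (by decide) _)
          (X_mem_gen _ (by decide) _))))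
      (fun t => Subgroup.mem_comap.2 (by
        rw [tri_low c.f c.hf c.hK]
        exact mul_mem (mul_mem (X_mem_gen _ (by decide) _) (X_mem_gen _ (by decide) _))
          (X_mem_gen _ (by decide) _)))
  exact (htop ▸ Subgroup.mem_top g : g ∈ (gen chevD4 K {r | r ∈ bothL 0}).comap (tri c.f))

theorem mid_mem_gen (g : SL(2, ↥(fixFld c.f))) : mid c.f g ∈ gen chevD4 K {r | r ∈ bothL 1} := by
  have htop : (gen chevD4 K {r | r ∈ bothL 1}).comap (mid c.f) = (⊤ : Subgroup SL(2, ↥(fixFld c.f))) :=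
    sl2_closure (fun t => Subgroup.mem_comap.2 (by
        rw [mid_up (q := q) c.f c.hf]
        simp only [D4Root.ev, word, List.map_cons, List.map_nil, List.prod_cons, List.prod_nil, mul_one]
        exact X_mem_gen _ (by decide) _))
      (fun t => Subgroup.mem_comap.2 (by
        rw [mid_low]
        exact X_mem_gen _ (by decide) _))
  exact (htop ▸ Subgroup.mem_top g : g ∈ (gen chevD4 K {r | r ∈ bothL 1}).comap (mid c.f))

theorem conj_mem_Ub {i : Fin 2} {x u : GL chevD4.Idx K} (hx : x ∈ c.Gr)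
    (hx' : x ∈ gen chevD4 K {r | r ∈ bothL i}) (hu : u ∈ c.Ub i) : x * u * x⁻¹ ∈ c.Ub i := by
  have h : ∀ i : Fin 2, chkNorm (bothL i) (ubL i) = true := by decide +kernel
  exact Subgroup.mem_inf.2 ⟨mul_mem (mul_mem hx hu.1) (inv_mem hx),
    (Subgroup.mem_normalizer_iff.1 (gen_le_normalizer (h i) hx') u).1 hu.2⟩

theorem conj_mem_Vb {i : Fin 2} {x u : GL chevD4.Idx K} (hx : x ∈ c.Gr)
    (hx' : x ∈ gen chevD4 K {r | r ∈ bothL i}) (hu : u ∈ c.Vb i) : x * u * x⁻¹ ∈ c.Vb i := by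
  have h : ∀ i : Fin 2, chkNorm (bothL i) (vbL i) = true := by decide +kernel
  exact Subgroup.mem_inf.2 ⟨mul_mem (mul_mem hx hu.1) (inv_mem hx),
    (Subgroup.mem_normalizer_iff.1 (gen_le_normalizer (h i) hx') u).1 hu.2⟩

/-- An element of the positive group as an element of the first layer and a deeper one. -/
theorem exists_split_U {u : GL chevD4.Idx K} (hu : u ∈ c.U) :
    (∃ t, ∃ a ∈ c.Ub 0, u = D4Root.ev q 0 t * a) ∧ ∃ t, Par q 1 t ∧ ∃ a ∈ c.Ub 1, u = D4Root.ev q 1 t * a := by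
  have hlist : sfx 0 = [18, 13, 12, 14, 19, 16, 15, 17, 20, 21, 22, 23] := by decide +kernel
  have hn : (⟨u, hu.1⟩ : ↥(endoD4 c.f).fix) ∈ lay c.f 0 := Subgroup.mem_subgroupOf.2
    (gen_mono _ (fun r hr => by
      show r ∈ sfx 0
      rw [hlist]
      obtain ⟨h1, h2⟩ := List.mem_range'_1.1 hr
      interval_cases r <;> simp) hu.2)
  obtain ⟨t0, ht0, h1⟩ := exists_coord c.f c.hf c.hK c.hq 0 hn
  obtain ⟨t1, ht1, h2⟩ := exists_coord c.f c.hf c.hK c.hq 1
    (n := (el c.f q 0 t0)⁻¹ * ⟨u, hu.1⟩) h1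
  have hsub : ∀ k : Fin 2, ∀ r ∈ sfx (k.val + 1), r ∈ ubL k := by decide +kernel
  have hsub' : ∀ r ∈ sfx 2, r ∈ ubL 1 := hsub 1
  have e1 : (((el c.f q 0 t0)⁻¹ * ⟨u, hu.1⟩ : ↥(endoD4 c.f).fix) : GL chevD4.Idx K) =
      (D4Root.ev q 0 t0)⁻¹ * u := by
    rw [Subgroup.coe_mul, Subgroup.coe_inv, coe_el c.f c.hf c.hK ht0]
  refine ⟨⟨t0, (D4Root.ev q 0 t0)⁻¹ * u, Subgroup.mem_inf.2 ⟨mul_mem (inv_mem (c.ev_mem ht0)) hu.1, ?_⟩, by group⟩,
    t1, ht1, ?_⟩
  · rw [← e1]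
    exact gen_mono _ (fun r hr => hsub 0 r hr) (Subgroup.mem_subgroupOf.1 h1)
  set m := (D4Root.ev q 1 t1)⁻¹ * ((D4Root.ev q 0 t0)⁻¹ * u) with hm
  have hm' : m ∈ c.Ub 1 := by
    refine Subgroup.mem_inf.2 ⟨mul_mem (inv_mem (c.ev_mem ht1)) (mul_mem (inv_mem (c.ev_mem ht0)) hu.1),
      gen_mono _ hsub' ?_⟩
    have := Subgroup.mem_subgroupOf.1 h2
    rwa [Subgroup.coe_mul, Subgroup.coe_inv, coe_el c.f c.hf c.hK ht1, e1] at this
  have h0 : D4Root.ev q 0 t0 ∈ c.Ub 1 := by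
    refine ⟨c.ev_mem ht0, ev_mem_gen _ _ fun r hr => ?_⟩
    have e : (orb 0).list twistD4a.rt = [18, 13, 12] := by decide +kernel
    rw [e] at hr
    simp only [List.mem_cons, List.not_mem_nil, or_false] at hr
    rcases hr with rfl | rfl | rfl <;> decide
  have hy : (D4Root.ev q 1 t1)⁻¹ ∈ gen chevD4 K {r | r ∈ bothL 1} := by
    refine inv_mem (ev_mem_gen _ _ fun r hr => ?_)
    have e : (orb 1).list twistD4a.rt = [14] := by decide +kernel
    rw [e] at hr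
    simp only [List.mem_cons, List.not_mem_nil, or_false] at hr
    subst hr; decide
  have hcj := c.conj_mem_Ub (inv_mem (c.ev_mem ht1)) hy h0
  refine ⟨(D4Root.ev q 1 t1)⁻¹ * D4Root.ev q 0 t0 * ((D4Root.ev q 1 t1)⁻¹)⁻¹ * m, mul_mem hcj hm', ?_⟩
  rw [hm]; group

theorem n0_mem : n0 K ∈ c.Gr := by
  have h1 : nW chevD4 K [0, 2, 3] ∈ c.Gr := tri_wel c.f c.hf c.hK ▸ c.tri_mem_Gr _
  have h2 : nW chevD4 K [1] ∈ c.Gr := by
    have := c.mid_mem_Gr (wel ↥(fixFld c.f))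
    rw [mid_wel] at this
    simpa [nW, nS_simpleD4 c.f c.hf (show 1 < tabD4.l by decide),
      show tabD4.simple 1 = 14 by decide +kernel] using this
  have h3 := mul_mem (mul_mem (mul_mem h1 h2) (mul_mem h1 h2)) (mul_mem h1 h2)
  simp only [nW, List.map_cons, List.map_nil, List.prod_cons, List.prod_nil, mul_one] at h3
  simpa [n0, w0, nW, mul_assoc] using h3

theorem n0_conj_U {u : GL chevD4.Idx K} (hu : u ∈ c.U) : n0 K * u * (n0 K)⁻¹ ∈ c.V :=
  Subgroup.mem_inf.2 ⟨mul_mem (mul_mem c.n0_mem hu.1) (inv_mem c.n0_mem), n0_conj_gen (fun r hr => by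
    obtain ⟨h1, h2⟩ := List.mem_range'_1.1 hr
    exact ⟨by omega, List.mem_range.2 (by omega)⟩) hu.2⟩

theorem n0_conj_V {u : GL chevD4.Idx K} (hu : u ∈ c.V) : n0 K * u * (n0 K)⁻¹ ∈ c.U :=
  Subgroup.mem_inf.2 ⟨mul_mem (mul_mem c.n0_mem hu.1) (inv_mem c.n0_mem), n0_conj_gen (fun r hr => by
    have := List.mem_range.1 hr
    exact ⟨by omega, List.mem_range'_1.2 (by omega)⟩) hu.2⟩

theorem n0inv_conj_U {u : GL chevD4.Idx K} (hu : u ∈ c.U) : (n0 K)⁻¹ * u * n0 K ∈ c.V :=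
  Subgroup.mem_inf.2 ⟨mul_mem (mul_mem (inv_mem c.n0_mem) hu.1) c.n0_mem, n0inv_conj_gen (fun r hr => by
    obtain ⟨h1, h2⟩ := List.mem_range'_1.1 hr
    exact ⟨by omega, List.mem_range.2 (by omega)⟩) hu.2⟩

theorem n0inv_conj_V {u : GL chevD4.Idx K} (hu : u ∈ c.V) : (n0 K)⁻¹ * u * n0 K ∈ c.U :=
  Subgroup.mem_inf.2 ⟨mul_mem (mul_mem (inv_mem c.n0_mem) hu.1) c.n0_mem, n0inv_conj_gen (fun r hr => by
    have := List.mem_range.1 hr
    exact ⟨by omega, List.mem_range'_1.2 (by omega)⟩) hu.2⟩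

theorem n0_conj_Ub {i : Fin 2} {u : GL chevD4.Idx K} (hu : u ∈ c.Ub i) :
    n0 K * u * (n0 K)⁻¹ ∈ c.Vb i := by
  have h : ∀ i : Fin 2, ∀ r ∈ ubL i, r < 24 ∧ 23 - r ∈ vbL i := by decide +kernel
  exact Subgroup.mem_inf.2 ⟨mul_mem (mul_mem c.n0_mem hu.1) (inv_mem c.n0_mem), n0_conj_gen (fun r hr => h i r hr) hu.2⟩

theorem n0_conj_Vb {i : Fin 2} {u : GL chevD4.Idx K} (hu : u ∈ c.Vb i) :
    n0 K * u * (n0 K)⁻¹ ∈ c.Ub i := by
  have h : ∀ i : Fin 2, ∀ r ∈ vbL i, r < 24 ∧ 23 - r ∈ ubL i := by decide +kernel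
  exact Subgroup.mem_inf.2 ⟨mul_mem (mul_mem c.n0_mem hu.1) (inv_mem c.n0_mem), n0_conj_gen (fun r hr => h i r hr) hu.2⟩

theorem n0inv_conj_Ub {i : Fin 2} {u : GL chevD4.Idx K} (hu : u ∈ c.Ub i) :
    (n0 K)⁻¹ * u * n0 K ∈ c.Vb i := by
  have h : ∀ i : Fin 2, ∀ r ∈ ubL i, r < 24 ∧ 23 - r ∈ vbL i := by decide +kernel
  exact Subgroup.mem_inf.2 ⟨mul_mem (mul_mem (inv_mem c.n0_mem) hu.1) c.n0_mem, n0inv_conj_gen (fun r hr => h i r hr) hu.2⟩

/-- The negative part of a simple class. -/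
theorem n0_conj_ev (t : K) : n0 K * D4Root.ev q 0 t * (n0 K)⁻¹ =
      X chevD4 d4m1 (-t) * X chevD4 d4m3 (-(t ^ q)) * X chevD4 d4m4 (-((t ^ q) ^ q)) ∧
    n0 K * D4Root.ev q 1 t * (n0 K)⁻¹ = X chevD4 d4m2 (-t) := by
  have e : d4m1 = 5 ∧ d4m3 = 10 ∧ d4m4 = 11 ∧ d4m2 = 9 := by decide
  constructor
  · rw [← MulAut.conj_apply]
    simp only [D4Root.ev, word, List.map_cons, List.map_nil, List.prod_cons, List.prod_nil, mul_one, map_mul]
    simp only [MulAut.conj_apply, n0_conj_X (show 18 < 24 by omega), n0_conj_X (show 13 < 24 by omega),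
      n0_conj_X (show 12 < 24 by omega), e, mul_assoc]
  · simp only [D4Root.ev, word, List.map_cons, List.map_nil, List.prod_cons, List.prod_nil, mul_one]
    rw [n0_conj_X (show 14 < 24 by omega), e.2.2.2]

theorem tri_low_eq (t : K) : tri c.f (low t) = n0 K * D4Root.ev q 0 (-t) * (n0 K)⁻¹ := by
  rw [tri_low c.f c.hf c.hK, (c.n0_conj_ev _).1]
  simp [← c.hf]

theorem mid_low_eq (t : ↥(fixFld c.f)) : mid c.f (low t) = n0 K * D4Root.ev q 1 (-(t : K)) * (n0 K)⁻¹ := by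
  rw [mid_low, (c.n0_conj_ev _).2, _root_.neg_neg]

theorem par_neg' {k : Fin 6} {t : K} (ht : Par q k t) : Par q k (-t) := D4Root.par_neg c.f c.hf ht

/-- An element of the negative group along a class. -/
theorem exists_split_V {u : GL chevD4.Idx K} (hu : u ∈ c.V) :
    (∃ t, ∃ a ∈ c.Vb 0, u = a * tri c.f (low t)) ∧
      ∃ t : ↥(fixFld c.f), ∃ a ∈ c.Vb 1, u = a * mid c.f (low t) := by
  obtain ⟨⟨t, a, ha, e⟩, ⟨s, hs, b, hb, e'⟩⟩ := c.exists_split_U (c.n0inv_conj_V (inv_mem hu))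
  constructor
  · refine ⟨t, n0 K * a⁻¹ * (n0 K)⁻¹, c.n0_conj_Ub (inv_mem ha), ?_⟩
    rw [c.tri_low_eq, ev_neg c.f c.hf]
    calc u = n0 K * ((n0 K)⁻¹ * u⁻¹ * n0 K)⁻¹ * (n0 K)⁻¹ := by group
      _ = _ := by rw [e]; group
  · have hs' : (s : K) ∈ fixFld c.f := (mem_fixFld c.f c.hf).2 (hs rfl)
    refine ⟨⟨s, hs'⟩, n0 K * b⁻¹ * (n0 K)⁻¹, c.n0_conj_Ub (inv_mem hb), ?_⟩
    rw [c.mid_low_eq, ev_neg c.f c.hf]
    calc u = n0 K * ((n0 K)⁻¹ * u⁻¹ * n0 K)⁻¹ * (n0 K)⁻¹ := by group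
      _ = _ := by rw [e']; group

theorem exists_split_U' {u : GL chevD4.Idx K} (hu : u ∈ c.U) :
    (∃ t, ∃ a ∈ c.Ub 0, u = tri c.f (up t) * a) ∧
      ∃ t : ↥(fixFld c.f), ∃ a ∈ c.Ub 1, u = mid c.f (up t) * a := by
  obtain ⟨⟨t, a, ha, e⟩, ⟨s, hs, b, hb, e'⟩⟩ := c.exists_split_U hu
  refine ⟨⟨t, a, ha, by rw [tri_up c.f c.hf c.hK]; exact e⟩,
    ⟨⟨s, (mem_fixFld c.f c.hf).2 (hs rfl)⟩, b, hb, ?_⟩⟩
  rw [mid_up (q := q) c.f c.hf]; exact e'

theorem tri_up_mem_U (t : K) : tri c.f (up t) ∈ c.U := by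
  rw [tri_up c.f c.hf c.hK]; exact c.ev_mem_U fun h => absurd h (by decide)

theorem mid_up_mem_U (t : ↥(fixFld c.f)) : mid c.f (up t) ∈ c.U := by
  rw [mid_up (q := q) c.f c.hf]; exact c.ev_mem_U fun _ => (mem_fixFld c.f c.hf).1 t.2

theorem tri_low_mem_V (t : K) : tri c.f (low t) ∈ c.V := by
  rw [c.tri_low_eq]; exact c.n0_conj_U (c.ev_mem_U fun h => absurd h (by decide))

theorem mid_low_mem_V (t : ↥(fixFld c.f)) : mid c.f (low t) ∈ c.V := by
  rw [c.mid_low_eq]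
  exact c.n0_conj_U (c.ev_mem_U (c.par_neg' fun _ => (mem_fixFld c.f c.hf).1 t.2))

end Ctx

end CfsgLib.ClassSquare.Triality
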