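import Cfsg.Agent.Lib.ClassSquare.TrialityGauss

/-!
The relations between the root elements used to collect the products in the parabolic subgroup of a
long root of `³D₄(q)`.
-/

set_option autoImplicit false
set_option linter.unusedSectionVars false
set_option maxRecDepth 100000
set_option synthInstance.maxSize 2000

namespace CfsgLib.ClassSquare.Triality.Coll

open Cfsg.Lie CfsgLib.Chev CfsgLib.Chev.Cert

variable {K : Type*} [Field K]

/-- The check of a single pair of roots. -/
noncomputable def chkPair (a b : ℕ) (l : List (ℕ × ℤ × ℕ × ℕ)) : Bool :=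
  decide (a < tabD4.n) && (decide (b < tabD4.n) && (decide (b ≠ a) && (decide (b ≠ tabD4.neg a) &&
    (decide (tabD4.commTerms a b = l) && l.all fun x => decide (x.1 < tabD4.n) &&
      (decide (x.1 ≠ b) && (decide (x.1 ≠ tabD4.neg b) && decide (tabD4.commTerms b x.1 = [])))))))

theorem swap_none {a b : ℕ} (h : chkPair a b [] = true) (t u : K) (R : GL chevD4.Idx K) :
    X chevD4 a t * (X chevD4 b u * R) = X chevD4 b u * (X chevD4 a t * R) := by
  simp only [chkPair, Bool.and_eq_true, decide_eq_true_eq] at h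
  obtain ⟨h1, h2, h3, h4, h5, -⟩ := h
  rw [← mul_assoc, (commute_X certD4 h1 h2 h3 h4 h5 t u).eq, mul_assoc]

theorem swap_one {a b r : ℕ} {M : ℤ} {t u s : K} (h : chkPair a b [(r, M, 1, 1)] = true)
    (hs : (M : K) * t * u = s) (R : GL chevD4.Idx K) :
    X chevD4 a t * (X chevD4 b u * R) = X chevD4 b u * (X chevD4 r s * (X chevD4 a t * R)) := by
  simp only [chkPair, Bool.and_eq_true, decide_eq_true_eq, List.all_eq_true, List.mem_singleton,
    forall_eq] at h
  obtain ⟨h1, h2, h3, h4, h5, hr, h6, h7, h8⟩ := h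
  have hc : ∀ v w : K, Commute (X chevD4 b v) (X chevD4 r w) := commute_X certD4 h2 hr h6 h7 h8
  have e := commutator_X certD4 h1 h2 h3 h4 h5 hc t u
  rw [hs, commutatorElement_def, mul_inv_eq_iff_eq_mul, mul_inv_eq_iff_eq_mul] at e
  rw [← mul_assoc, e, ← (hc u s).eq]
  simp only [mul_assoc]

theorem merge {a : ℕ} (h : a < 24) (t u : K) (R : GL chevD4.Idx K) :
    X chevD4 a t * (X chevD4 a u * R) = X chevD4 a (t + u) * R := by
  rw [← certD4.X_add (half_lt h), mul_assoc]

theorem m4 (t u : K) (R : GL chevD4.Idx K) :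
    X chevD4 4 t * (X chevD4 4 u * R) = X chevD4 4 (t + u) * R := merge (by omega) t u R

theorem m7 (t u : K) (R : GL chevD4.Idx K) :
    X chevD4 7 t * (X chevD4 7 u * R) = X chevD4 7 (t + u) * R := merge (by omega) t u R

theorem m8 (t u : K) (R : GL chevD4.Idx K) :
    X chevD4 8 t * (X chevD4 8 u * R) = X chevD4 8 (t + u) * R := merge (by omega) t u R

theorem m9 (t u : K) (R : GL chevD4.Idx K) :
    X chevD4 9 t * (X chevD4 9 u * R) = X chevD4 9 (t + u) * R := merge (by omega) t u R

theorem m6 (t u : K) (R : GL chevD4.Idx K) :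
    X chevD4 6 t * (X chevD4 6 u * R) = X chevD4 6 (t + u) * R := merge (by omega) t u R

theorem m3 (t u : K) (R : GL chevD4.Idx K) :
    X chevD4 3 t * (X chevD4 3 u * R) = X chevD4 3 (t + u) * R := merge (by omega) t u R

theorem m2 (t u : K) (R : GL chevD4.Idx K) :
    X chevD4 2 t * (X chevD4 2 u * R) = X chevD4 2 (t + u) * R := merge (by omega) t u R

theorem m1 (t u : K) (R : GL chevD4.Idx K) :
    X chevD4 1 t * (X chevD4 1 u * R) = X chevD4 1 (t + u) * R := merge (by omega) t u R

theorem m0 (t u : K) (R : GL chevD4.Idx K) :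
    X chevD4 0 t * (X chevD4 0 u * R) = X chevD4 0 (t + u) * R := merge (by omega) t u R

theorem m5 (t u : K) (R : GL chevD4.Idx K) :
    X chevD4 5 t * (X chevD4 5 u * R) = X chevD4 5 (t + u) * R := merge (by omega) t u R

theorem m10 (t u : K) (R : GL chevD4.Idx K) :
    X chevD4 10 t * (X chevD4 10 u * R) = X chevD4 10 (t + u) * R := merge (by omega) t u R

theorem m11 (t u : K) (R : GL chevD4.Idx K) :
    X chevD4 11 t * (X chevD4 11 u * R) = X chevD4 11 (t + u) * R := merge (by omega) t u R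

theorem m12 (t u : K) (R : GL chevD4.Idx K) :
    X chevD4 12 t * (X chevD4 12 u * R) = X chevD4 12 (t + u) * R := merge (by omega) t u R

theorem m13 (t u : K) (R : GL chevD4.Idx K) :
    X chevD4 13 t * (X chevD4 13 u * R) = X chevD4 13 (t + u) * R := merge (by omega) t u R

theorem m18 (t u : K) (R : GL chevD4.Idx K) :
    X chevD4 18 t * (X chevD4 18 u * R) = X chevD4 18 (t + u) * R := merge (by omega) t u R

theorem m14 (t u : K) (R : GL chevD4.Idx K) :
    X chevD4 14 t * (X chevD4 14 u * R) = X chevD4 14 (t + u) * R := merge (by omega) t u R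

theorem s7_4 (t u : K) (R : GL chevD4.Idx K) :
    X chevD4 7 t * (X chevD4 4 u * R) = X chevD4 4 u * (X chevD4 7 t * R) :=
  swap_none (by decide +kernel) t u R

theorem s8_4 (t u : K) (R : GL chevD4.Idx K) :
    X chevD4 8 t * (X chevD4 4 u * R) = X chevD4 4 u * (X chevD4 8 t * R) :=
  swap_none (by decide +kernel) t u R

theorem s8_7 (t u : K) (R : GL chevD4.Idx K) :
    X chevD4 8 t * (X chevD4 7 u * R) = X chevD4 7 u * (X chevD4 8 t * R) :=
  swap_none (by decide +kernel) t u R

theorem s9_4 (t u : K) (R : GL chevD4.Idx K) :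
    X chevD4 9 t * (X chevD4 4 u * R) = X chevD4 4 u * (X chevD4 9 t * R) :=
  swap_none (by decide +kernel) t u R

theorem s9_7 (t u : K) (R : GL chevD4.Idx K) :
    X chevD4 9 t * (X chevD4 7 u * R) = X chevD4 7 u * (X chevD4 9 t * R) :=
  swap_none (by decide +kernel) t u R

theorem s9_8 (t u : K) (R : GL chevD4.Idx K) :
    X chevD4 9 t * (X chevD4 8 u * R) = X chevD4 8 u * (X chevD4 9 t * R) :=
  swap_none (by decide +kernel) t u R

theorem s6_4 (t u : K) (R : GL chevD4.Idx K) :
    X chevD4 6 t * (X chevD4 4 u * R) = X chevD4 4 u * (X chevD4 0 (-(t * u)) * (X chevD4 6 t * R)) :=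
  swap_one (M := -1) (by decide +kernel) (by simp) R

theorem s6_7 (t u : K) (R : GL chevD4.Idx K) :
    X chevD4 6 t * (X chevD4 7 u * R) = X chevD4 7 u * (X chevD4 6 t * R) :=
  swap_none (by decide +kernel) t u R

theorem s6_8 (t u : K) (R : GL chevD4.Idx K) :
    X chevD4 6 t * (X chevD4 8 u * R) = X chevD4 8 u * (X chevD4 6 t * R) :=
  swap_none (by decide +kernel) t u R

theorem s6_9 (t u : K) (R : GL chevD4.Idx K) :
    X chevD4 6 t * (X chevD4 9 u * R) = X chevD4 9 u * (X chevD4 6 t * R) :=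
  swap_none (by decide +kernel) t u R

theorem s3_4 (t u : K) (R : GL chevD4.Idx K) :
    X chevD4 3 t * (X chevD4 4 u * R) = X chevD4 4 u * (X chevD4 3 t * R) :=
  swap_none (by decide +kernel) t u R

theorem s3_7 (t u : K) (R : GL chevD4.Idx K) :
    X chevD4 3 t * (X chevD4 7 u * R) = X chevD4 7 u * (X chevD4 0 (-(t * u)) * (X chevD4 3 t * R)) :=
  swap_one (M := -1) (by decide +kernel) (by simp) R

theorem s3_8 (t u : K) (R : GL chevD4.Idx K) :
    X chevD4 3 t * (X chevD4 8 u * R) = X chevD4 8 u * (X chevD4 3 t * R) :=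
  swap_none (by decide +kernel) t u R

theorem s3_9 (t u : K) (R : GL chevD4.Idx K) :
    X chevD4 3 t * (X chevD4 9 u * R) = X chevD4 9 u * (X chevD4 3 t * R) :=
  swap_none (by decide +kernel) t u R

theorem s3_6 (t u : K) (R : GL chevD4.Idx K) :
    X chevD4 3 t * (X chevD4 6 u * R) = X chevD4 6 u * (X chevD4 3 t * R) :=
  swap_none (by decide +kernel) t u R

theorem s2_4 (t u : K) (R : GL chevD4.Idx K) :
    X chevD4 2 t * (X chevD4 4 u * R) = X chevD4 4 u * (X chevD4 2 t * R) :=
  swap_none (by decide +kernel) t u R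

theorem s2_7 (t u : K) (R : GL chevD4.Idx K) :
    X chevD4 2 t * (X chevD4 7 u * R) = X chevD4 7 u * (X chevD4 2 t * R) :=
  swap_none (by decide +kernel) t u R

theorem s2_8 (t u : K) (R : GL chevD4.Idx K) :
    X chevD4 2 t * (X chevD4 8 u * R) = X chevD4 8 u * (X chevD4 0 (-(t * u)) * (X chevD4 2 t * R)) :=
  swap_one (M := -1) (by decide +kernel) (by simp) R

theorem s2_9 (t u : K) (R : GL chevD4.Idx K) :
    X chevD4 2 t * (X chevD4 9 u * R) = X chevD4 9 u * (X chevD4 2 t * R) :=
  swap_none (by decide +kernel) t u R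

theorem s2_6 (t u : K) (R : GL chevD4.Idx K) :
    X chevD4 2 t * (X chevD4 6 u * R) = X chevD4 6 u * (X chevD4 2 t * R) :=
  swap_none (by decide +kernel) t u R

theorem s2_3 (t u : K) (R : GL chevD4.Idx K) :
    X chevD4 2 t * (X chevD4 3 u * R) = X chevD4 3 u * (X chevD4 2 t * R) :=
  swap_none (by decide +kernel) t u R

theorem s1_4 (t u : K) (R : GL chevD4.Idx K) :
    X chevD4 1 t * (X chevD4 4 u * R) = X chevD4 4 u * (X chevD4 1 t * R) :=
  swap_none (by decide +kernel) t u R

theorem s1_7 (t u : K) (R : GL chevD4.Idx K) :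
    X chevD4 1 t * (X chevD4 7 u * R) = X chevD4 7 u * (X chevD4 1 t * R) :=
  swap_none (by decide +kernel) t u R

theorem s1_8 (t u : K) (R : GL chevD4.Idx K) :
    X chevD4 1 t * (X chevD4 8 u * R) = X chevD4 8 u * (X chevD4 1 t * R) :=
  swap_none (by decide +kernel) t u R

theorem s1_9 (t u : K) (R : GL chevD4.Idx K) :
    X chevD4 1 t * (X chevD4 9 u * R) = X chevD4 9 u * (X chevD4 0 (t * u) * (X chevD4 1 t * R)) :=
  swap_one (M := 1) (by decide +kernel) (by simp) R

theorem s1_6 (t u : K) (R : GL chevD4.Idx K) :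
    X chevD4 1 t * (X chevD4 6 u * R) = X chevD4 6 u * (X chevD4 1 t * R) :=
  swap_none (by decide +kernel) t u R

theorem s1_3 (t u : K) (R : GL chevD4.Idx K) :
    X chevD4 1 t * (X chevD4 3 u * R) = X chevD4 3 u * (X chevD4 1 t * R) :=
  swap_none (by decide +kernel) t u R

theorem s1_2 (t u : K) (R : GL chevD4.Idx K) :
    X chevD4 1 t * (X chevD4 2 u * R) = X chevD4 2 u * (X chevD4 1 t * R) :=
  swap_none (by decide +kernel) t u R

theorem s0_4 (t u : K) (R : GL chevD4.Idx K) :
    X chevD4 0 t * (X chevD4 4 u * R) = X chevD4 4 u * (X chevD4 0 t * R) :=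
  swap_none (by decide +kernel) t u R

theorem s0_7 (t u : K) (R : GL chevD4.Idx K) :
    X chevD4 0 t * (X chevD4 7 u * R) = X chevD4 7 u * (X chevD4 0 t * R) :=
  swap_none (by decide +kernel) t u R

theorem s0_8 (t u : K) (R : GL chevD4.Idx K) :
    X chevD4 0 t * (X chevD4 8 u * R) = X chevD4 8 u * (X chevD4 0 t * R) :=
  swap_none (by decide +kernel) t u R

theorem s0_9 (t u : K) (R : GL chevD4.Idx K) :
    X chevD4 0 t * (X chevD4 9 u * R) = X chevD4 9 u * (X chevD4 0 t * R) :=
  swap_none (by decide +kernel) t u R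

theorem s0_6 (t u : K) (R : GL chevD4.Idx K) :
    X chevD4 0 t * (X chevD4 6 u * R) = X chevD4 6 u * (X chevD4 0 t * R) :=
  swap_none (by decide +kernel) t u R

theorem s0_3 (t u : K) (R : GL chevD4.Idx K) :
    X chevD4 0 t * (X chevD4 3 u * R) = X chevD4 3 u * (X chevD4 0 t * R) :=
  swap_none (by decide +kernel) t u R

theorem s0_2 (t u : K) (R : GL chevD4.Idx K) :
    X chevD4 0 t * (X chevD4 2 u * R) = X chevD4 2 u * (X chevD4 0 t * R) :=
  swap_none (by decide +kernel) t u R

theorem s0_1 (t u : K) (R : GL chevD4.Idx K) :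
    X chevD4 0 t * (X chevD4 1 u * R) = X chevD4 1 u * (X chevD4 0 t * R) :=
  swap_none (by decide +kernel) t u R

theorem s5_4 (t u : K) (R : GL chevD4.Idx K) :
    X chevD4 5 t * (X chevD4 4 u * R) = X chevD4 4 u * (X chevD4 5 t * R) :=
  swap_none (by decide +kernel) t u R

theorem s5_7 (t u : K) (R : GL chevD4.Idx K) :
    X chevD4 5 t * (X chevD4 7 u * R) = X chevD4 7 u * (X chevD4 2 (t * u) * (X chevD4 5 t * R)) :=
  swap_one (M := 1) (by decide +kernel) (by simp) R

theorem s5_8 (t u : K) (R : GL chevD4.Idx K) :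
    X chevD4 5 t * (X chevD4 8 u * R) = X chevD4 8 u * (X chevD4 3 (t * u) * (X chevD4 5 t * R)) :=
  swap_one (M := 1) (by decide +kernel) (by simp) R

theorem s5_9 (t u : K) (R : GL chevD4.Idx K) :
    X chevD4 5 t * (X chevD4 9 u * R) = X chevD4 9 u * (X chevD4 4 (t * u) * (X chevD4 5 t * R)) :=
  swap_one (M := 1) (by decide +kernel) (by simp) R

theorem s5_6 (t u : K) (R : GL chevD4.Idx K) :
    X chevD4 5 t * (X chevD4 6 u * R) = X chevD4 6 u * (X chevD4 1 (t * u) * (X chevD4 5 t * R)) :=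
  swap_one (M := 1) (by decide +kernel) (by simp) R

theorem s5_3 (t u : K) (R : GL chevD4.Idx K) :
    X chevD4 5 t * (X chevD4 3 u * R) = X chevD4 3 u * (X chevD4 5 t * R) :=
  swap_none (by decide +kernel) t u R

theorem s5_2 (t u : K) (R : GL chevD4.Idx K) :
    X chevD4 5 t * (X chevD4 2 u * R) = X chevD4 2 u * (X chevD4 5 t * R) :=
  swap_none (by decide +kernel) t u R

theorem s5_1 (t u : K) (R : GL chevD4.Idx K) :
    X chevD4 5 t * (X chevD4 1 u * R) = X chevD4 1 u * (X chevD4 5 t * R) :=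
  swap_none (by decide +kernel) t u R

theorem s5_0 (t u : K) (R : GL chevD4.Idx K) :
    X chevD4 5 t * (X chevD4 0 u * R) = X chevD4 0 u * (X chevD4 5 t * R) :=
  swap_none (by decide +kernel) t u R

theorem s10_4 (t u : K) (R : GL chevD4.Idx K) :
    X chevD4 10 t * (X chevD4 4 u * R) = X chevD4 4 u * (X chevD4 2 (-(t * u)) * (X chevD4 10 t * R)) :=
  swap_one (M := -1) (by decide +kernel) (by simp) R

theorem s10_7 (t u : K) (R : GL chevD4.Idx K) :
    X chevD4 10 t * (X chevD4 7 u * R) = X chevD4 7 u * (X chevD4 10 t * R) :=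
  swap_none (by decide +kernel) t u R

theorem s10_8 (t u : K) (R : GL chevD4.Idx K) :
    X chevD4 10 t * (X chevD4 8 u * R) = X chevD4 8 u * (X chevD4 6 (-(t * u)) * (X chevD4 10 t * R)) :=
  swap_one (M := -1) (by decide +kernel) (by simp) R

theorem s10_9 (t u : K) (R : GL chevD4.Idx K) :
    X chevD4 10 t * (X chevD4 9 u * R) = X chevD4 9 u * (X chevD4 7 (-(t * u)) * (X chevD4 10 t * R)) :=
  swap_one (M := -1) (by decide +kernel) (by simp) R

theorem s10_6 (t u : K) (R : GL chevD4.Idx K) :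
    X chevD4 10 t * (X chevD4 6 u * R) = X chevD4 6 u * (X chevD4 10 t * R) :=
  swap_none (by decide +kernel) t u R

theorem s10_3 (t u : K) (R : GL chevD4.Idx K) :
    X chevD4 10 t * (X chevD4 3 u * R) = X chevD4 3 u * (X chevD4 1 (-(t * u)) * (X chevD4 10 t * R)) :=
  swap_one (M := -1) (by decide +kernel) (by simp) R

theorem s10_2 (t u : K) (R : GL chevD4.Idx K) :
    X chevD4 10 t * (X chevD4 2 u * R) = X chevD4 2 u * (X chevD4 10 t * R) :=
  swap_none (by decide +kernel) t u R

theorem s10_1 (t u : K) (R : GL chevD4.Idx K) :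
    X chevD4 10 t * (X chevD4 1 u * R) = X chevD4 1 u * (X chevD4 10 t * R) :=
  swap_none (by decide +kernel) t u R

theorem s10_0 (t u : K) (R : GL chevD4.Idx K) :
    X chevD4 10 t * (X chevD4 0 u * R) = X chevD4 0 u * (X chevD4 10 t * R) :=
  swap_none (by decide +kernel) t u R

theorem s10_5 (t u : K) (R : GL chevD4.Idx K) :
    X chevD4 10 t * (X chevD4 5 u * R) = X chevD4 5 u * (X chevD4 10 t * R) :=
  swap_none (by decide +kernel) t u R

theorem s11_4 (t u : K) (R : GL chevD4.Idx K) :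
    X chevD4 11 t * (X chevD4 4 u * R) = X chevD4 4 u * (X chevD4 3 (-(t * u)) * (X chevD4 11 t * R)) :=
  swap_one (M := -1) (by decide +kernel) (by simp) R

theorem s11_7 (t u : K) (R : GL chevD4.Idx K) :
    X chevD4 11 t * (X chevD4 7 u * R) = X chevD4 7 u * (X chevD4 6 (-(t * u)) * (X chevD4 11 t * R)) :=
  swap_one (M := -1) (by decide +kernel) (by simp) R

theorem s11_8 (t u : K) (R : GL chevD4.Idx K) :
    X chevD4 11 t * (X chevD4 8 u * R) = X chevD4 8 u * (X chevD4 11 t * R) :=
  swap_none (by decide +kernel) t u R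

theorem s11_9 (t u : K) (R : GL chevD4.Idx K) :
    X chevD4 11 t * (X chevD4 9 u * R) = X chevD4 9 u * (X chevD4 8 (-(t * u)) * (X chevD4 11 t * R)) :=
  swap_one (M := -1) (by decide +kernel) (by simp) R

theorem s11_6 (t u : K) (R : GL chevD4.Idx K) :
    X chevD4 11 t * (X chevD4 6 u * R) = X chevD4 6 u * (X chevD4 11 t * R) :=
  swap_none (by decide +kernel) t u R

theorem s11_3 (t u : K) (R : GL chevD4.Idx K) :
    X chevD4 11 t * (X chevD4 3 u * R) = X chevD4 3 u * (X chevD4 11 t * R) :=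
  swap_none (by decide +kernel) t u R

theorem s11_2 (t u : K) (R : GL chevD4.Idx K) :
    X chevD4 11 t * (X chevD4 2 u * R) = X chevD4 2 u * (X chevD4 1 (-(t * u)) * (X chevD4 11 t * R)) :=
  swap_one (M := -1) (by decide +kernel) (by simp) R

theorem s11_1 (t u : K) (R : GL chevD4.Idx K) :
    X chevD4 11 t * (X chevD4 1 u * R) = X chevD4 1 u * (X chevD4 11 t * R) :=
  swap_none (by decide +kernel) t u R

theorem s11_0 (t u : K) (R : GL chevD4.Idx K) :
    X chevD4 11 t * (X chevD4 0 u * R) = X chevD4 0 u * (X chevD4 11 t * R) :=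
  swap_none (by decide +kernel) t u R

theorem s11_5 (t u : K) (R : GL chevD4.Idx K) :
    X chevD4 11 t * (X chevD4 5 u * R) = X chevD4 5 u * (X chevD4 11 t * R) :=
  swap_none (by decide +kernel) t u R

theorem s11_10 (t u : K) (R : GL chevD4.Idx K) :
    X chevD4 11 t * (X chevD4 10 u * R) = X chevD4 10 u * (X chevD4 11 t * R) :=
  swap_none (by decide +kernel) t u R

theorem s12_4 (t u : K) (R : GL chevD4.Idx K) :
    X chevD4 12 t * (X chevD4 4 u * R) = X chevD4 4 u * (X chevD4 12 t * R) :=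
  swap_none (by decide +kernel) t u R

theorem s12_7 (t u : K) (R : GL chevD4.Idx K) :
    X chevD4 12 t * (X chevD4 7 u * R) = X chevD4 7 u * (X chevD4 12 t * R) :=
  swap_none (by decide +kernel) t u R

theorem s12_8 (t u : K) (R : GL chevD4.Idx K) :
    X chevD4 12 t * (X chevD4 8 u * R) = X chevD4 8 u * (X chevD4 9 (-(t * u)) * (X chevD4 12 t * R)) :=
  swap_one (M := -1) (by decide +kernel) (by simp) R

theorem s12_9 (t u : K) (R : GL chevD4.Idx K) :
    X chevD4 12 t * (X chevD4 9 u * R) = X chevD4 9 u * (X chevD4 12 t * R) :=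
  swap_none (by decide +kernel) t u R

theorem s12_6 (t u : K) (R : GL chevD4.Idx K) :
    X chevD4 12 t * (X chevD4 6 u * R) = X chevD4 6 u * (X chevD4 7 (-(t * u)) * (X chevD4 12 t * R)) :=
  swap_one (M := -1) (by decide +kernel) (by simp) R

theorem s12_3 (t u : K) (R : GL chevD4.Idx K) :
    X chevD4 12 t * (X chevD4 3 u * R) = X chevD4 3 u * (X chevD4 4 (-(t * u)) * (X chevD4 12 t * R)) :=
  swap_one (M := -1) (by decide +kernel) (by simp) R

theorem s12_2 (t u : K) (R : GL chevD4.Idx K) :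
    X chevD4 12 t * (X chevD4 2 u * R) = X chevD4 2 u * (X chevD4 12 t * R) :=
  swap_none (by decide +kernel) t u R

theorem s12_1 (t u : K) (R : GL chevD4.Idx K) :
    X chevD4 12 t * (X chevD4 1 u * R) = X chevD4 1 u * (X chevD4 2 (-(t * u)) * (X chevD4 12 t * R)) :=
  swap_one (M := -1) (by decide +kernel) (by simp) R

theorem s12_0 (t u : K) (R : GL chevD4.Idx K) :
    X chevD4 12 t * (X chevD4 0 u * R) = X chevD4 0 u * (X chevD4 12 t * R) :=
  swap_none (by decide +kernel) t u R

theorem s12_5 (t u : K) (R : GL chevD4.Idx K) :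
    X chevD4 12 t * (X chevD4 5 u * R) = X chevD4 5 u * (X chevD4 12 t * R) :=
  swap_none (by decide +kernel) t u R

theorem s12_10 (t u : K) (R : GL chevD4.Idx K) :
    X chevD4 12 t * (X chevD4 10 u * R) = X chevD4 10 u * (X chevD4 12 t * R) :=
  swap_none (by decide +kernel) t u R

theorem s13_4 (t u : K) (R : GL chevD4.Idx K) :
    X chevD4 13 t * (X chevD4 4 u * R) = X chevD4 4 u * (X chevD4 13 t * R) :=
  swap_none (by decide +kernel) t u R

theorem s13_7 (t u : K) (R : GL chevD4.Idx K) :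
    X chevD4 13 t * (X chevD4 7 u * R) = X chevD4 7 u * (X chevD4 9 (-(t * u)) * (X chevD4 13 t * R)) :=
  swap_one (M := -1) (by decide +kernel) (by simp) R

theorem s13_8 (t u : K) (R : GL chevD4.Idx K) :
    X chevD4 13 t * (X chevD4 8 u * R) = X chevD4 8 u * (X chevD4 13 t * R) :=
  swap_none (by decide +kernel) t u R

theorem s13_9 (t u : K) (R : GL chevD4.Idx K) :
    X chevD4 13 t * (X chevD4 9 u * R) = X chevD4 9 u * (X chevD4 13 t * R) :=
  swap_none (by decide +kernel) t u R

theorem s13_6 (t u : K) (R : GL chevD4.Idx K) :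
    X chevD4 13 t * (X chevD4 6 u * R) = X chevD4 6 u * (X chevD4 8 (-(t * u)) * (X chevD4 13 t * R)) :=
  swap_one (M := -1) (by decide +kernel) (by simp) R

theorem s13_3 (t u : K) (R : GL chevD4.Idx K) :
    X chevD4 13 t * (X chevD4 3 u * R) = X chevD4 3 u * (X chevD4 13 t * R) :=
  swap_none (by decide +kernel) t u R

theorem s13_2 (t u : K) (R : GL chevD4.Idx K) :
    X chevD4 13 t * (X chevD4 2 u * R) = X chevD4 2 u * (X chevD4 4 (-(t * u)) * (X chevD4 13 t * R)) :=
  swap_one (M := -1) (by decide +kernel) (by simp) R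

theorem s13_1 (t u : K) (R : GL chevD4.Idx K) :
    X chevD4 13 t * (X chevD4 1 u * R) = X chevD4 1 u * (X chevD4 3 (-(t * u)) * (X chevD4 13 t * R)) :=
  swap_one (M := -1) (by decide +kernel) (by simp) R

theorem s13_0 (t u : K) (R : GL chevD4.Idx K) :
    X chevD4 13 t * (X chevD4 0 u * R) = X chevD4 0 u * (X chevD4 13 t * R) :=
  swap_none (by decide +kernel) t u R

theorem s13_5 (t u : K) (R : GL chevD4.Idx K) :
    X chevD4 13 t * (X chevD4 5 u * R) = X chevD4 5 u * (X chevD4 13 t * R) :=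
  swap_none (by decide +kernel) t u R

theorem s13_11 (t u : K) (R : GL chevD4.Idx K) :
    X chevD4 13 t * (X chevD4 11 u * R) = X chevD4 11 u * (X chevD4 13 t * R) :=
  swap_none (by decide +kernel) t u R

theorem s13_12 (t u : K) (R : GL chevD4.Idx K) :
    X chevD4 13 t * (X chevD4 12 u * R) = X chevD4 12 u * (X chevD4 13 t * R) :=
  swap_none (by decide +kernel) t u R

theorem s18_4 (t u : K) (R : GL chevD4.Idx K) :
    X chevD4 18 t * (X chevD4 4 u * R) = X chevD4 4 u * (X chevD4 9 (t * u) * (X chevD4 18 t * R)) :=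
  swap_one (M := 1) (by decide +kernel) (by simp) R

theorem s18_7 (t u : K) (R : GL chevD4.Idx K) :
    X chevD4 18 t * (X chevD4 7 u * R) = X chevD4 7 u * (X chevD4 18 t * R) :=
  swap_none (by decide +kernel) t u R

theorem s18_8 (t u : K) (R : GL chevD4.Idx K) :
    X chevD4 18 t * (X chevD4 8 u * R) = X chevD4 8 u * (X chevD4 18 t * R) :=
  swap_none (by decide +kernel) t u R

theorem s18_9 (t u : K) (R : GL chevD4.Idx K) :
    X chevD4 18 t * (X chevD4 9 u * R) = X chevD4 9 u * (X chevD4 18 t * R) :=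
  swap_none (by decide +kernel) t u R

theorem s18_6 (t u : K) (R : GL chevD4.Idx K) :
    X chevD4 18 t * (X chevD4 6 u * R) = X chevD4 6 u * (X chevD4 18 t * R) :=
  swap_none (by decide +kernel) t u R

theorem s18_3 (t u : K) (R : GL chevD4.Idx K) :
    X chevD4 18 t * (X chevD4 3 u * R) = X chevD4 3 u * (X chevD4 8 (t * u) * (X chevD4 18 t * R)) :=
  swap_one (M := 1) (by decide +kernel) (by simp) R

theorem s18_2 (t u : K) (R : GL chevD4.Idx K) :
    X chevD4 18 t * (X chevD4 2 u * R) = X chevD4 2 u * (X chevD4 7 (t * u) * (X chevD4 18 t * R)) :=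
  swap_one (M := 1) (by decide +kernel) (by simp) R

theorem s18_1 (t u : K) (R : GL chevD4.Idx K) :
    X chevD4 18 t * (X chevD4 1 u * R) = X chevD4 1 u * (X chevD4 6 (t * u) * (X chevD4 18 t * R)) :=
  swap_one (M := 1) (by decide +kernel) (by simp) R

theorem s18_0 (t u : K) (R : GL chevD4.Idx K) :
    X chevD4 18 t * (X chevD4 0 u * R) = X chevD4 0 u * (X chevD4 18 t * R) :=
  swap_none (by decide +kernel) t u R

theorem s18_10 (t u : K) (R : GL chevD4.Idx K) :
    X chevD4 18 t * (X chevD4 10 u * R) = X chevD4 10 u * (X chevD4 18 t * R) :=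
  swap_none (by decide +kernel) t u R

theorem s18_11 (t u : K) (R : GL chevD4.Idx K) :
    X chevD4 18 t * (X chevD4 11 u * R) = X chevD4 11 u * (X chevD4 18 t * R) :=
  swap_none (by decide +kernel) t u R

theorem s18_12 (t u : K) (R : GL chevD4.Idx K) :
    X chevD4 18 t * (X chevD4 12 u * R) = X chevD4 12 u * (X chevD4 18 t * R) :=
  swap_none (by decide +kernel) t u R

theorem s18_13 (t u : K) (R : GL chevD4.Idx K) :
    X chevD4 18 t * (X chevD4 13 u * R) = X chevD4 13 u * (X chevD4 18 t * R) :=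
  swap_none (by decide +kernel) t u R

theorem s14_4 (t u : K) (R : GL chevD4.Idx K) :
    X chevD4 14 t * (X chevD4 4 u * R) = X chevD4 4 u * (X chevD4 5 (-(t * u)) * (X chevD4 14 t * R)) :=
  swap_one (M := -1) (by decide +kernel) (by simp) R

theorem s14_7 (t u : K) (R : GL chevD4.Idx K) :
    X chevD4 14 t * (X chevD4 7 u * R) = X chevD4 7 u * (X chevD4 10 (t * u) * (X chevD4 14 t * R)) :=
  swap_one (M := 1) (by decide +kernel) (by simp) R

theorem s14_8 (t u : K) (R : GL chevD4.Idx K) :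
    X chevD4 14 t * (X chevD4 8 u * R) = X chevD4 8 u * (X chevD4 11 (t * u) * (X chevD4 14 t * R)) :=
  swap_one (M := 1) (by decide +kernel) (by simp) R

theorem s14_6 (t u : K) (R : GL chevD4.Idx K) :
    X chevD4 14 t * (X chevD4 6 u * R) = X chevD4 6 u * (X chevD4 14 t * R) :=
  swap_none (by decide +kernel) t u R

theorem s14_3 (t u : K) (R : GL chevD4.Idx K) :
    X chevD4 14 t * (X chevD4 3 u * R) = X chevD4 3 u * (X chevD4 14 t * R) :=
  swap_none (by decide +kernel) t u R

theorem s14_2 (t u : K) (R : GL chevD4.Idx K) :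
    X chevD4 14 t * (X chevD4 2 u * R) = X chevD4 2 u * (X chevD4 14 t * R) :=
  swap_none (by decide +kernel) t u R

theorem s14_1 (t u : K) (R : GL chevD4.Idx K) :
    X chevD4 14 t * (X chevD4 1 u * R) = X chevD4 1 u * (X chevD4 14 t * R) :=
  swap_none (by decide +kernel) t u R

theorem s14_0 (t u : K) (R : GL chevD4.Idx K) :
    X chevD4 14 t * (X chevD4 0 u * R) = X chevD4 0 u * (X chevD4 1 (-(t * u)) * (X chevD4 14 t * R)) :=
  swap_one (M := -1) (by decide +kernel) (by simp) R

theorem s14_5 (t u : K) (R : GL chevD4.Idx K) :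
    X chevD4 14 t * (X chevD4 5 u * R) = X chevD4 5 u * (X chevD4 14 t * R) :=
  swap_none (by decide +kernel) t u R

theorem s14_10 (t u : K) (R : GL chevD4.Idx K) :
    X chevD4 14 t * (X chevD4 10 u * R) = X chevD4 10 u * (X chevD4 14 t * R) :=
  swap_none (by decide +kernel) t u R

theorem s14_11 (t u : K) (R : GL chevD4.Idx K) :
    X chevD4 14 t * (X chevD4 11 u * R) = X chevD4 11 u * (X chevD4 14 t * R) :=
  swap_none (by decide +kernel) t u R

theorem s14_12 (t u : K) (R : GL chevD4.Idx K) :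
    X chevD4 14 t * (X chevD4 12 u * R) = X chevD4 12 u * (X chevD4 15 (-(t * u)) * (X chevD4 14 t * R)) :=
  swap_one (M := -1) (by decide +kernel) (by simp) R

theorem s14_13 (t u : K) (R : GL chevD4.Idx K) :
    X chevD4 14 t * (X chevD4 13 u * R) = X chevD4 13 u * (X chevD4 16 (-(t * u)) * (X chevD4 14 t * R)) :=
  swap_one (M := -1) (by decide +kernel) (by simp) R

theorem s14_18 (t u : K) (R : GL chevD4.Idx K) :
    X chevD4 14 t * (X chevD4 18 u * R) = X chevD4 18 u * (X chevD4 19 (t * u) * (X chevD4 14 t * R)) :=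
  swap_one (M := 1) (by decide +kernel) (by simp) R

end CfsgLib.ClassSquare.Triality.Coll
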