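import Cfsg.Agent.Lib.ClassSquare.TrialityBase

/-!
Gauss decompositions in `³D₄(q)`: every element is conjugate into the big cell `V t U`, and the
coordinates of `t` can be changed at a movable class.
-/

set_option autoImplicit false
set_option linter.unusedSectionVars false
set_option maxRecDepth 100000

namespace CfsgLib.ClassSquare.Triality

open Cfsg.Lie CfsgLib.Chev CfsgLib.Chev.Cert CfsgLib.Chev.D4Root
open CfsgLib.Chev.TorusD4 (up low sl2_closure)
open scoped MatrixGroups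

/-! ### The rank one moves -/

section Core

variable {Γ : Type*} [Group Γ] {k : Type*} [Field k]

theorem up_add (a b : k) : up a * up b = up (a + b) := by
  refine Subtype.ext ?_
  rw [Matrix.SpecialLinearGroup.coe_mul, TorusD4.up_val, TorusD4.up_val, TorusD4.up_val]
  ext i j; fin_cases i <;> fin_cases j <;> simp [Matrix.mul_apply, Fin.sum_univ_two, add_comm]

theorem low_add (a b : k) : low a * low b = low (a + b) := by
  refine Subtype.ext ?_
  rw [Matrix.SpecialLinearGroup.coe_mul, TorusD4.low_val, TorusD4.low_val, TorusD4.low_val]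
  ext i j; fin_cases i <;> fin_cases j <;> simp [Matrix.mul_apply, Fin.sum_univ_two, add_comm]

theorem dia_val (e : kˣ) : (dia e : SL(2, k)).1 = !![(e : k), 0; 0, (e : k)⁻¹] := by
  simp [dia]

theorem up_inv (a : k) : (up a)⁻¹ = up (-a) := by
  refine inv_eq_of_mul_eq_one_right ?_
  rw [up_add, add_neg_cancel, up_zero]

theorem low_inv (a : k) : (low a)⁻¹ = low (-a) := by
  refine inv_eq_of_mul_eq_one_right ?_
  rw [low_add, add_neg_cancel]
  exact Subtype.ext (by rw [TorusD4.low_val]; simp [Matrix.one_fin_two])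

theorem up_mul_low {t e : k} (w : kˣ) (hw : (w : k) = 1 + t * e) :
    up t * low e = low (e / w) * dia w * up (t / w) := by
  refine Subtype.ext ?_
  have hne := w.ne_zero
  simp only [Matrix.SpecialLinearGroup.coe_mul, TorusD4.up_val, TorusD4.low_val, dia_val]
  ext i j; fin_cases i <;> fin_cases j <;> simp [Matrix.mul_apply, Fin.sum_univ_two] <;> field_simp <;>
    first
      | linear_combination -hw
      | linear_combination hw
      | ring

theorem low_one_eq : low (1 : k) = up 1 * dia (-1 : kˣ) * wel k * up 1 := by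
  refine Subtype.ext ?_
  simp only [Matrix.SpecialLinearGroup.coe_mul, TorusD4.up_val, TorusD4.low_val, wel_val, dia_val]
  ext i j; fin_cases i <;> fin_cases j <;> simp [Matrix.mul_apply, Fin.sum_univ_two]

theorem wel_dia (e : kˣ) : wel k * dia e * (wel k)⁻¹ = dia e⁻¹ := by
  rw [mul_inv_eq_iff_eq_mul]
  refine Subtype.ext ?_
  simp only [Matrix.SpecialLinearGroup.coe_mul, wel_val, dia_val]
  ext i j; fin_cases i <;> fin_cases j <;> simp [Matrix.mul_apply, Fin.sum_univ_two]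

/-- The change of the torus part by a conjugation in one rank one subgroup. -/
theorem move_core (φ : SL(2, k) →* Γ) {Vb Ub : Subgroup Γ}
    (hV : ∀ M, ∀ a ∈ Vb, φ M * a * (φ M)⁻¹ ∈ Vb) (hU : ∀ M, ∀ a ∈ Ub, φ M * a * (φ M)⁻¹ ∈ Ub)
    {T : Γ} {χ : k} (hχ : χ ≠ 0) (hTu : ∀ s, T * φ (up s) * T⁻¹ = φ (up (χ * s)))
    (hTl : ∀ s, T * φ (low s) * T⁻¹ = φ (low (χ⁻¹ * s))) {v' v : Γ} (hv' : v' ∈ Vb) (hv : v ∈ Ub)
    {e g : k} (hmov : e ≠ 0 ∨ g ≠ 0 ∨ χ ≠ 1) (w : kˣ) :
    ∃ y ∈ φ.range, ∃ a ∈ Vb, ∃ b ∈ Ub, ∃ e' g' : k,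
      y * (v' * φ (low e) * T * (φ (up g) * v)) * y⁻¹ =
        a * φ (low e') * (φ (dia w) * T) * (φ (up g') * b) := by
  have pU : ∀ s, φ (up s) * T = T * φ (up (χ⁻¹ * s)) := fun s => by
    have h := mul_inv_eq_iff_eq_mul.1 (hTu (χ⁻¹ * s))
    rw [mul_inv_cancel_left₀ hχ] at h
    exact h.symm
  have pL : ∀ s, φ (low s) * T = T * φ (low (χ * s)) := fun s => by
    have h := mul_inv_eq_iff_eq_mul.1 (hTl (χ * s))
    rw [inv_mul_cancel_left₀ hχ] at h
    exact h.symm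
  have step : ∀ (P : SL(2, k)) (v' v : Γ) (e g : k), φ P * (v' * φ (low e) * T * (φ (up g) * v)) * (φ P)⁻¹ =
      φ P * v' * (φ P)⁻¹ * (φ P * φ (low e) * T * φ (up g) * φ P⁻¹) * (φ P * v * (φ P)⁻¹) := fun P v' v e g => by
    rw [map_inv]; group
  -- a nonzero lower entry
  by_cases he : e ≠ 0
  · set t := ((w : k) - 1) / e with ht
    have hw : (w : k) = 1 + t * e := by rw [ht, div_mul_cancel₀ _ he]; ring
    refine ⟨φ (up t), ⟨_, rfl⟩, φ (up t) * v' * (φ (up t))⁻¹, hV _ _ hv', φ (up t) * v * (φ (up t))⁻¹,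
      hU _ _ hv, e / w, χ⁻¹ * (t / w) + (g + -t), ?_⟩
    have mid' : φ (up t) * φ (low e) * T * φ (up g) * φ (up t)⁻¹ =
        φ (low (e / w)) * (φ (dia w) * T) * φ (up (χ⁻¹ * (t / w) + (g + -t))) := by
      rw [up_inv, mul_assoc _ (φ (up g)), ← map_mul φ (up g), up_add, ← map_mul φ (up t),
        up_mul_low w hw, map_mul, map_mul, mul_assoc (φ (low _) * φ (dia w)), pU, ← up_add (χ⁻¹ * (t / w)), map_mul]
      group
    rw [step, mid']
    group
  rw [not_not] at he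
  subst he
  -- a nonzero upper entry
  have upper : ∀ (v' v : Γ), v' ∈ Vb → v ∈ Ub → ∀ g : k, g ≠ 0 → ∃ y ∈ φ.range, ∃ a ∈ Vb, ∃ b ∈ Ub,
      ∃ e' g' : k, y * (v' * φ (low 0) * T * (φ (up g) * v)) * y⁻¹ =
        a * φ (low e') * (φ (dia w) * T) * (φ (up g') * b) := by
    intro v' v hv' hv g hg
    set t := (1 - (w : k)) / g with ht
    have hw : (w : k) = 1 + g * -t := by rw [ht]; field_simp; ring
    refine ⟨φ (low t), ⟨_, rfl⟩, φ (low t) * v' * (φ (low t))⁻¹, hV _ _ hv', φ (low t) * v * (φ (low t))⁻¹,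
      hU _ _ hv, t + χ⁻¹ * (-t / w), g / w, ?_⟩
    have h1 : T * φ (low (-t / w)) = φ (low (χ⁻¹ * (-t / w))) * T := mul_inv_eq_iff_eq_mul.1 (hTl _)
    have h2 : T * φ (dia w) = φ (dia w) * T := by
      have hd : dia w = up ((w : k) - 1) * low 1 * (up ((1 : k) - (w : k)⁻¹))⁻¹ * (low (w : k))⁻¹ := by
        refine Subtype.ext ?_
        have hne := w.ne_zero
        rw [up_inv, low_inv]
        simp only [Matrix.SpecialLinearGroup.coe_mul, TorusD4.up_val, TorusD4.low_val, dia_val]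
        ext i j; fin_cases i <;> fin_cases j <;> simp [Matrix.mul_apply, Fin.sum_univ_two] <;>
          field_simp <;> ring
      have hd' : dia w = up (χ * ((w : k) - 1)) * low (χ⁻¹ * 1) * (up (χ * ((1 : k) - (w : k)⁻¹)))⁻¹ *
          (low (χ⁻¹ * (w : k)))⁻¹ := by
        refine Subtype.ext ?_
        have hne := w.ne_zero
        rw [up_inv, low_inv]
        simp only [Matrix.SpecialLinearGroup.coe_mul, TorusD4.up_val, TorusD4.low_val, dia_val]
        ext i j; fin_cases i <;> fin_cases j <;> simp [Matrix.mul_apply, Fin.sum_univ_two] <;>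
          field_simp <;> ring
      rw [← mul_inv_eq_iff_eq_mul]
      conv_lhs => rw [hd]
      conv_rhs => rw [hd']
      simp only [map_mul, map_inv, ← hTu, ← hTl]
      group
    have mid' : φ (low t) * φ (low 0) * T * φ (up g) * φ (low t)⁻¹ =
        φ (low (t + χ⁻¹ * (-t / w))) * (φ (dia w) * T) * φ (up (g / w)) := by
      rw [low_inv, mul_assoc _ (φ (up g)), ← map_mul φ (up g), up_mul_low w hw, map_mul, map_mul,
        show low (0 : k) = 1 from Subtype.ext (by rw [TorusD4.low_val]; simp [Matrix.one_fin_two]), map_one,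
        mul_one, ← low_add, map_mul]
      calc φ (low t) * T * (φ (low (-t / w)) * φ (dia w) * φ (up (g / w)))
          = φ (low t) * (T * φ (low (-t / w))) * φ (dia w) * φ (up (g / w)) := by group
        _ = φ (low t) * φ (low (χ⁻¹ * (-t / w))) * (T * φ (dia w)) * φ (up (g / w)) := by rw [h1]; group
        _ = _ := by rw [h2]
    rw [step, mid']
    group
  by_cases hg : g ≠ 0
  · exact upper v' v hv' hv g hg
  rw [not_not] at hg
  subst hg
  have hχ1 : χ ≠ 1 := by simpa using hmov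
  obtain ⟨y, hy, a, ha, b, hb, e', g', h⟩ := upper _ _ (hV (up 1) _ hv') (hU (up 1) _ hv) (χ⁻¹ - 1)
    (sub_ne_zero.2 fun e => hχ1 (inv_eq_one.1 e))
  refine ⟨y * φ (up 1), mul_mem hy ⟨_, rfl⟩, a, ha, b, hb, e', g', ?_⟩
  rw [← h, show y * φ (up 1) * (v' * φ (low 0) * T * (φ (up 0) * v)) * (y * φ (up 1))⁻¹ =
    y * (φ (up 1) * (v' * φ (low 0) * T * (φ (up 0) * v)) * (φ (up 1))⁻¹) * y⁻¹ by group, step]
  have mid' : φ (up 1) * φ (low 0) * T * φ (up 0) * φ (up 1)⁻¹ =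
      φ (low 0) * T * φ (up (χ⁻¹ - 1)) := by
    rw [show low (0 : k) = 1 from Subtype.ext (by rw [TorusD4.low_val]; simp [Matrix.one_fin_two]), map_one,
      mul_one, up_inv, up_zero k, map_one, mul_one, pU, mul_assoc T, ← map_mul, up_add, mul_one,
      ← sub_eq_add_neg, one_mul]
  rw [mid']
  group

end Core

/-! ### The big cell -/

variable {K : Type*} [Field K] [Fintype K] {q : ℕ}

theorem rword_wd_diag {m d : GL chevD4.Idx K} (hd : d ∈ chevD4.diagonalSubgroup K) {r s : ℕ}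
    (hs : s < tabD4.n) (h : Maps chevD4 m r s) : Maps chevD4 (d * m) r s :=
  Cert.Maps_mul h (certD4.Maps_diagonal hd hs)

namespace Ctx

variable (c : Ctx K q)
include c

/-- The fixed field. -/
abbrev k := ↥(fixFld c.f)

/-- The inclusion of the units of the fixed field. -/
noncomputable abbrev iu : (c.k)ˣ →* Kˣ := Units.map (fixFld c.f).subtype.toMonoidHom

theorem iu_pow (u : (c.k)ˣ) : c.iu u ^ q = c.iu u := unit_fix c.f c.hf u

/-- The torus element. -/
noncomputable def tt (v : Kˣ) (u : (c.k)ˣ) : GL chevD4.Idx K := th q v (c.iu u)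

theorem tt_mem (v : Kˣ) (u : (c.k)ˣ) : c.tt v u ∈ c.Gr := c.th_mem_Gr (c.iu_pow u)

theorem tt_mem_diag (v : Kˣ) (u : (c.k)ˣ) : c.tt v u ∈ chevD4.diagonalSubgroup K :=
  (th_mem c.f c.hf c.hK' (c.iu_pow u)).2

theorem th_mul (v v' u u' : Kˣ) : th q (v * v') (u * u') = th q v u * th q v' u' := by
  rw [th, th, th, ← map_mul]
  congr 1
  funext i
  obtain ⟨i, hi⟩ := i
  have hi' : i < 4 := hi
  interval_cases i <;> simp [par, mul_pow]

theorem tt_mul (v v' : Kˣ) (u u' : (c.k)ˣ) : c.tt (v * v') (u * u') = c.tt v u * c.tt v' u' := by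
  rw [tt, tt, tt, map_mul, c.th_mul]

theorem tt_one : c.tt 1 1 = 1 := by
  have h := c.tt_mul 1 1 1 1
  rwa [mul_one, mul_one, left_eq_mul] at h

theorem tt_inv (v : Kˣ) (u : (c.k)ˣ) : (c.tt v u)⁻¹ = c.tt v⁻¹ u⁻¹ := by
  refine inv_eq_of_mul_eq_one_right ?_
  rw [← c.tt_mul, mul_inv_cancel, mul_inv_cancel, c.tt_one]

theorem tri_dia_eq (e : Kˣ) : tri c.f (dia e) = c.tt e 1 := by
  rw [tri_dia c.f c.hf c.hK, tt, map_one]

theorem mid_dia_eq (e : (c.k)ˣ) : mid c.f (dia e) = c.tt 1 e := by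
  rw [mid_dia (q := q) c.f c.hf]; rfl

theorem n0_sq_X {r : ℕ} (hr : r < 24) (t : K) :
    n0 K * (n0 K * X chevD4 r t * (n0 K)⁻¹) * (n0 K)⁻¹ = X chevD4 r t := by
  rw [n0_conj_X hr, n0_conj_X (show 23 - r < 24 by omega), _root_.neg_neg, show 23 - (23 - r) = r by omega]

theorem n0_sq_ev (i : Fin 2) (t : K) :
    n0 K * (n0 K * D4Root.ev q (six i) t * (n0 K)⁻¹) * (n0 K)⁻¹ = D4Root.ev q (six i) t := by
  fin_cases i <;>
    (simp only [six, D4Root.ev, word, List.map_cons, List.map_nil, List.prod_cons, List.prod_nil, mul_one,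
      Matrix.cons_val_zero, Matrix.cons_val_one, Fin.zero_eta, Fin.mk_one]
     simp only [← MulAut.conj_apply, map_mul]
     simp only [MulAut.conj_apply, c.n0_sq_X (show 18 < 24 by omega), c.n0_sq_X (show 13 < 24 by omega),
       c.n0_sq_X (show 12 < 24 by omega), c.n0_sq_X (show 14 < 24 by omega)])

theorem n0_tri (M : SL(2, K)) : n0 K * tri c.f M * (n0 K)⁻¹ = tri c.f (wel K * M * (wel K)⁻¹) := by
  let a : SL(2, K) →* GL chevD4.Idx K := (MulAut.conj (n0 K)).toMonoidHom.comp (tri c.f)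
  let b : SL(2, K) →* GL chevD4.Idx K := (tri c.f).comp (MulAut.conj (wel K)).toMonoidHom
  have h : a.eqLocus b = ⊤ := sl2_closure (fun t => by
      show n0 K * tri c.f (up t) * (n0 K)⁻¹ = tri c.f (wel K * up t * (wel K)⁻¹)
      rw [show wel K * up t * (wel K)⁻¹ = low (-t) by rw [wel_mul_low, _root_.neg_neg],
        tri_up c.f c.hf c.hK, c.tri_low_eq, _root_.neg_neg])
    (fun t => by
      show n0 K * tri c.f (low t) * (n0 K)⁻¹ = tri c.f (wel K * low t * (wel K)⁻¹)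
      rw [show wel K * low t * (wel K)⁻¹ = up (-t) by
          rw [wel_mul_low t, show wel K * (wel K * up (-t) * (wel K)⁻¹) * (wel K)⁻¹ =
            (wel K * wel K) * up (-t) * (wel K * wel K)⁻¹ by group, wel_sq, mul_inv_eq_iff_eq_mul]
          refine Subtype.ext ?_
          simp only [Matrix.SpecialLinearGroup.coe_mul, TorusD4.up_val, dia_val]
          ext i j; fin_cases i <;> fin_cases j <;> simp [Matrix.mul_apply, Fin.sum_univ_two],
        tri_up c.f c.hf c.hK, c.tri_low_eq]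
      exact c.n0_sq_ev 0 (-t))
  exact (h ▸ Subgroup.mem_top M : M ∈ a.eqLocus b)

theorem n0_mid (M : SL(2, c.k)) :
    n0 K * mid c.f M * (n0 K)⁻¹ = mid c.f (wel c.k * M * (wel c.k)⁻¹) := by
  let a : SL(2, c.k) →* GL chevD4.Idx K := (MulAut.conj (n0 K)).toMonoidHom.comp (mid c.f)
  let b : SL(2, c.k) →* GL chevD4.Idx K := (mid c.f).comp (MulAut.conj (wel c.k)).toMonoidHom
  have h : a.eqLocus b = ⊤ := sl2_closure (fun t => by
      show n0 K * mid c.f (up t) * (n0 K)⁻¹ = mid c.f (wel c.k * up t * (wel c.k)⁻¹)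
      rw [show wel c.k * up t * (wel c.k)⁻¹ = low (-t) by rw [wel_mul_low, _root_.neg_neg],
        mid_up (q := q) c.f c.hf, c.mid_low_eq]
      simp)
    (fun t => by
      show n0 K * mid c.f (low t) * (n0 K)⁻¹ = mid c.f (wel c.k * low t * (wel c.k)⁻¹)
      rw [show wel c.k * low t * (wel c.k)⁻¹ = up (-t) by
          rw [wel_mul_low t, show wel c.k * (wel c.k * up (-t) * (wel c.k)⁻¹) * (wel c.k)⁻¹ =
            (wel c.k * wel c.k) * up (-t) * (wel c.k * wel c.k)⁻¹ by group, wel_sq, mul_inv_eq_iff_eq_mul]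
          refine Subtype.ext ?_
          simp only [Matrix.SpecialLinearGroup.coe_mul, TorusD4.up_val, dia_val]
          ext i j; fin_cases i <;> fin_cases j <;> simp [Matrix.mul_apply, Fin.sum_univ_two],
        mid_up (q := q) c.f c.hf, c.mid_low_eq]
      simpa [six] using c.n0_sq_ev 1 (-(t : K)))
  exact (h ▸ Subgroup.mem_top M : M ∈ a.eqLocus b)

theorem tt_eq (v : Kˣ) (u : (c.k)ˣ) : c.tt v u = tri c.f (dia v) * mid c.f (dia u) := by
  rw [c.tri_dia_eq, c.mid_dia_eq, ← c.tt_mul, mul_one, one_mul]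

theorem n0_tt (v : Kˣ) (u : (c.k)ˣ) : n0 K * c.tt v u * (n0 K)⁻¹ = c.tt v⁻¹ u⁻¹ := by
  rw [c.tt_eq v u, c.tt_eq v⁻¹ u⁻¹, show n0 K * (tri c.f (dia v) * mid c.f (dia u)) * (n0 K)⁻¹ =
    (n0 K * tri c.f (dia v) * (n0 K)⁻¹) * (n0 K * mid c.f (dia u) * (n0 K)⁻¹) by group,
    c.n0_tri, c.n0_mid, wel_dia, wel_dia]

/-- The characters of the two classes. -/
noncomputable def ch0 (v : Kˣ) (u : (c.k)ˣ) : K := (v : K) ^ 2 / ((u : c.k) : K)

theorem norm_mem (x : K) : x * x ^ q * (x ^ q) ^ q ∈ fixFld c.f := by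
  rw [mem_fixFld c.f c.hf, mul_pow, mul_pow, c.hK']; ring

/-- The norm to the fixed field. -/
noncomputable def nm (x : K) : c.k := ⟨x * x ^ q * (x ^ q) ^ q, c.norm_mem x⟩

/-- The character of the middle class. -/
noncomputable def ch1 (v : Kˣ) (u : (c.k)ˣ) : c.k := (u : c.k) ^ 2 / c.nm v

theorem coe_ch1 (v : Kˣ) (u : (c.k)ˣ) : (c.ch1 v u : K) = chi q 1 (v : K) ((u : c.k) : K) := by
  simp [ch1, nm, chi]

theorem ch0_ne (v : Kˣ) (u : (c.k)ˣ) : c.ch0 v u ≠ 0 :=
  div_ne_zero (pow_ne_zero _ v.ne_zero) (by simpa using u.ne_zero)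

theorem ch1_ne (v : Kˣ) (u : (c.k)ˣ) : c.ch1 v u ≠ 0 := by
  refine div_ne_zero (pow_ne_zero _ u.ne_zero) fun e => ?_
  have h := congrArg Subtype.val e
  simp [nm] at h

theorem ch0_inv (v : Kˣ) (u : (c.k)ˣ) : c.ch0 v⁻¹ u⁻¹ = (c.ch0 v u)⁻¹ := by
  simp [ch0, div_eq_mul_inv, mul_comm]

theorem ch1_inv (v : Kˣ) (u : (c.k)ˣ) : c.ch1 v⁻¹ u⁻¹ = (c.ch1 v u)⁻¹ := by
  refine Subtype.ext ?_
  simp [ch1, nm, div_eq_mul_inv, mul_comm, mul_left_comm]

theorem tt_tri_up (v : Kˣ) (u : (c.k)ˣ) (s : K) :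
    c.tt v u * tri c.f (up s) * (c.tt v u)⁻¹ = tri c.f (up (c.ch0 v u * s)) := by
  rw [tri_up c.f c.hf c.hK, tri_up c.f c.hf c.hK, tt, th_conj c.f c.hf c.hK' (c.iu_pow u)]
  rfl

theorem tt_mid_up (v : Kˣ) (u : (c.k)ˣ) (s : c.k) :
    c.tt v u * mid c.f (up s) * (c.tt v u)⁻¹ = mid c.f (up (c.ch1 v u * s)) := by
  rw [mid_up (q := q) c.f c.hf, mid_up (q := q) c.f c.hf, tt, th_conj c.f c.hf c.hK' (c.iu_pow u)]
  congr 1

theorem tt_tri_low (v : Kˣ) (u : (c.k)ˣ) (s : K) :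
    c.tt v u * tri c.f (low s) * (c.tt v u)⁻¹ = tri c.f (low ((c.ch0 v u)⁻¹ * s)) := by
  rw [← (MulAut.conj (n0 K)).injective.eq_iff]
  have e : ∀ t : K, MulAut.conj (n0 K) (tri c.f (low t)) = tri c.f (up (-t)) := fun t => by
    rw [MulAut.conj_apply, c.tri_low_eq, tri_up c.f c.hf c.hK]; exact c.n0_sq_ev 0 (-t)
  rw [map_mul, map_mul, map_inv, e, e, MulAut.conj_apply, c.n0_tt, c.tt_tri_up, c.ch0_inv, mul_neg]

theorem tt_mid_low (v : Kˣ) (u : (c.k)ˣ) (s : c.k) :
    c.tt v u * mid c.f (low s) * (c.tt v u)⁻¹ = mid c.f (low ((c.ch1 v u)⁻¹ * s)) := by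
  rw [← (MulAut.conj (n0 K)).injective.eq_iff]
  have e : ∀ t : c.k, MulAut.conj (n0 K) (mid c.f (low t)) = mid c.f (up (-t)) := fun t => by
    rw [MulAut.conj_apply, c.mid_low_eq, mid_up (q := q) c.f c.hf]
    simpa [six] using c.n0_sq_ev 1 (-(t : K))
  rw [map_mul, map_mul, map_inv, e, e, MulAut.conj_apply, c.n0_tt, c.tt_mid_up, c.ch1_inv, mul_neg]

/-- Conjugate into `V t(v,u) U`. -/
def InGauss (g : GL chevD4.Idx K) (v : Kˣ) (u : (c.k)ˣ) : Prop :=
  ∃ y ∈ c.Gr, ∃ a ∈ c.V, ∃ b ∈ c.U, y * g * y⁻¹ = a * c.tt v u * b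

/-- Changing the first coordinate. -/
theorem move0 {g y v' b : GL chevD4.Idx K} {v : Kˣ} {u : (c.k)ˣ} {e h : K} (hy : y ∈ c.Gr)
    (hv' : v' ∈ c.Vb 0) (hb : b ∈ c.Ub 0)
    (hrep : y * g * y⁻¹ = v' * tri c.f (low e) * c.tt v u * (tri c.f (up h) * b))
    (hmov : e ≠ 0 ∨ h ≠ 0 ∨ c.ch0 v u ≠ 1) (w : Kˣ) : c.InGauss g (v * w) u := by
  obtain ⟨z, ⟨M, rfl⟩, a, ha, b', hb', e', h', he⟩ := move_core (tri c.f)
    (fun M a ha => c.conj_mem_Vb (c.tri_mem_Gr M) (c.tri_mem_gen M) ha)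
    (fun M a ha => c.conj_mem_Ub (c.tri_mem_Gr M) (c.tri_mem_gen M) ha)
    (c.ch0_ne v u) (c.tt_tri_up v u) (c.tt_tri_low v u) hv' hb hmov w
  refine ⟨tri c.f M * y, mul_mem (c.tri_mem_Gr M) hy, a * tri c.f (low e'),
    mul_mem (c.Vb_le_V 0 ha) (c.tri_low_mem_V e'), tri c.f (up h') * b',
    mul_mem (c.tri_up_mem_U h') (c.Ub_le_U 0 hb'), ?_⟩
  rw [show tri c.f M * y * g * (tri c.f M * y)⁻¹ = tri c.f M * (y * g * y⁻¹) * (tri c.f M)⁻¹ by group,
    hrep, he, c.tri_dia_eq, ← c.tt_mul, one_mul, mul_comm w v]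

/-- Changing the second coordinate. -/
theorem move1 {g y v' b : GL chevD4.Idx K} {v : Kˣ} {u : (c.k)ˣ} {e h : c.k} (hy : y ∈ c.Gr)
    (hv' : v' ∈ c.Vb 1) (hb : b ∈ c.Ub 1)
    (hrep : y * g * y⁻¹ = v' * mid c.f (low e) * c.tt v u * (mid c.f (up h) * b))
    (hmov : e ≠ 0 ∨ h ≠ 0 ∨ c.ch1 v u ≠ 1) (w : (c.k)ˣ) : c.InGauss g v (u * w) := by
  obtain ⟨z, ⟨M, rfl⟩, a, ha, b', hb', e', h', he⟩ := move_core (mid c.f)
    (fun M a ha => c.conj_mem_Vb (c.mid_mem_Gr M) (c.mid_mem_gen M) ha)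
    (fun M a ha => c.conj_mem_Ub (c.mid_mem_Gr M) (c.mid_mem_gen M) ha)
    (c.ch1_ne v u) (c.tt_mid_up v u) (c.tt_mid_low v u) hv' hb hmov w
  refine ⟨mid c.f M * y, mul_mem (c.mid_mem_Gr M) hy, a * mid c.f (low e'),
    mul_mem (c.Vb_le_V 1 ha) (c.mid_low_mem_V e'), mid c.f (up h') * b',
    mul_mem (c.mid_up_mem_U h') (c.Ub_le_U 1 hb'), ?_⟩
  rw [show mid c.f M * y * g * (mid c.f M * y)⁻¹ = mid c.f M * (y * g * y⁻¹) * (mid c.f M)⁻¹ by group,
    hrep, he, c.mid_dia_eq, ← c.tt_mul, one_mul, mul_comm w u]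

theorem move0_good {g : GL chevD4.Idx K} {v : Kˣ} {u : (c.k)ˣ} (hg : c.InGauss g v u)
    (hne : c.ch0 v u ≠ 1) (w : Kˣ) : c.InGauss g (v * w) u := by
  obtain ⟨y, hy, a, ha, b, hb, hrep⟩ := hg
  obtain ⟨e, a', ha', rfl⟩ := (c.exists_split_V ha).1
  obtain ⟨h, b', hb', rfl⟩ := (c.exists_split_U' hb).1
  exact c.move0 hy ha' hb' hrep (Or.inr (Or.inr hne)) w

theorem move1_good {g : GL chevD4.Idx K} {v : Kˣ} {u : (c.k)ˣ} (hg : c.InGauss g v u)
    (hne : c.ch1 v u ≠ 1) (w : (c.k)ˣ) : c.InGauss g v (u * w) := by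
  obtain ⟨y, hy, a, ha, b, hb, hrep⟩ := hg
  obtain ⟨e, a', ha', rfl⟩ := (c.exists_split_V ha).2
  obtain ⟨h, b', hb', rfl⟩ := (c.exists_split_U' hb).2
  exact c.move1 hy ha' hb' hrep (Or.inr (Or.inr hne)) w

theorem tt_eq_one {v : Kˣ} {u : (c.k)ˣ} (h0 : c.ch0 v u = 1) (h1 : c.ch1 v u = 1) : c.tt v u = 1 := by
  refine CfsgLib.ClassSquare.torusHom_eq_one certD4 fun i => ?_
  have hu : ((u : c.k) : K) ^ q = ((u : c.k) : K) := (mem_fixFld c.f c.hf).1 (u : c.k).2
  have h1' : chi q 1 (v : K) ((u : c.k) : K) = 1 := by rw [← c.coe_ch1, h1]; rfl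
  have h0' : (v : K) ^ 2 = ((u : c.k) : K) := by
    rw [← div_eq_one_iff_eq (by simpa using u.ne_zero)]; exact h0
  have hcar : ∀ i : Fin 4, (List.range 4).map (fun j => tabD4.car j (tabD4.simple i)) =
      ([[2, -1, 0, 0], [-1, 2, -1, -1], [0, -1, 2, 0], [0, -1, 0, 2]] : List (List ℤ)).getD i [] := by
    decide +kernel
  have hi : (i : ℕ) < 4 := i.2
  have := hcar ⟨i, hi⟩
  unfold chi' charOf
  show (∏ j ∈ Finset.range 4, _) = (1 : K)
  rw [Finset.prod_range_succ, Finset.prod_range_succ, Finset.prod_range_succ,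
    Finset.prod_range_succ, Finset.prod_range_zero, one_mul]
  have h2 : (v : K) ^ 2 / ((u : c.k) : K) = 1 := h0
  have h3 : (((v : K) ^ q)) ^ 2 / ((u : c.k) : K) = 1 := by
    rw [← hu, ← pow_mul, mul_comm q 2, pow_mul, h0', div_self]
    exact pow_ne_zero _ (by simpa using u.ne_zero)
  have h4 : ((((v : K) ^ q) ^ q)) ^ 2 / ((u : c.k) : K) = 1 := by
    rw [← hu, ← pow_mul, mul_comm q 2, pow_mul, show ((v : K) ^ q) ^ 2 = ((u : c.k) : K) by
      rwa [div_eq_one_iff_eq (by simpa using u.ne_zero)] at h3, div_self]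
    exact pow_ne_zero _ (by simpa using u.ne_zero)
  have hu0 : ((u : c.k) : K) ≠ 0 := by simpa using u.ne_zero
  have hv0 : (v : K) ≠ 0 := v.ne_zero
  interval_cases hij : (i : ℕ) <;>
    simp only [List.range_succ, List.range_zero, List.nil_append, List.cons_append, List.map_cons,
      List.map_nil, List.cons.injEq, and_true, List.getD_cons_zero, List.getD_cons_succ, hij] at this <;>
    obtain ⟨e0, e1, e2, e3⟩ := this <;>
    simp only [hij, e0, e1, e2, e3] <;>
    simp [extC, par, show tabD4.l = 4 from rfl, chi, zpow_ofNat] at h1' h2 h3 h4 ⊢ <;>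
    field_simp at h1' h2 h3 h4 ⊢ <;>
    first
      | linear_combination h2
      | linear_combination h3
      | linear_combination h4
      | linear_combination h1'

/-- Every element is conjugate into the big cell. -/
theorem exists_inGauss {g : GL chevD4.Idx K} (hg : g ∈ c.Gr) : ∃ v u, c.InGauss g v u := by
  classical
  have hn0 := c.n0_mem
  let S : (ℕ → ℕ) → Finset ℕ := fun π => (Finset.Ico 12 24).filter fun r => π r < 12
  have main : ∀ N, ∀ (y m u1 u2 : GL chevD4.Idx K) (π : ℕ → ℕ), y ∈ c.Gr → m ∈ c.Gr →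
      m ∈ chevD4.monomialSubgroup K → (∀ r < tabD4.n, π r < tabD4.n ∧ Maps chevD4 m r (π r)) →
      u1 ∈ c.U → u2 ∈ c.U → n0 K * (y * g * y⁻¹) = u1 * m * u2 → 24 - (S π).card = N →
      ∃ v u, c.InGauss g v u := by
    intro N
    induction N using Nat.strong_induction_on with
    | _ N ih =>
      intro y m u1 u2 π hy hmG hmn hπ hu1 hu2 e hN
      obtain ⟨πi, hπi, horb⟩ := mon_perm c.f (m := (⟨m⁻¹, inv_mem hmG⟩ : ↥(endoD4 c.f).fix))
        (Subgroup.mem_subgroupOf.2 (inv_mem hmn))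
      have hinv : ∀ r < tabD4.n, π (πi r) = r ∧ πi (π r) = r := fun r hr => by
        obtain ⟨h1, h2, -⟩ := hπi r hr
        obtain ⟨h3, h4⟩ := hπ _ h1
        have e1 := Cert.Maps_mul h2 h4
        obtain ⟨h5, h6⟩ := hπ r hr
        obtain ⟨h7, h8, -⟩ := hπi _ h5
        have e2 := Cert.Maps_mul h6 h8
        simp only [mul_inv_cancel] at e1
        simp only [inv_mul_cancel] at e2
        exact ⟨certD4.Maps_unique h3 hr e1 ⟨1, one_ne_zero, fun t => by simp⟩,
          certD4.Maps_unique h7 hr e2 ⟨1, one_ne_zero, fun t => by simp⟩⟩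
      by_cases hex : ∃ i : Fin 2, ∀ r ∈ rootsL i, 12 ≤ πi r
      · obtain ⟨i, hpos⟩ := hex
        -- the data of the rank one subgroup of the class
        obtain ⟨P, D, W, hP, hW, hWM, hD, hDd, hx, hnU, hsp, hsn⟩ : ∃ P D W : GL chevD4.Idx K, P ∈ c.U ∧
            W ∈ c.Gr ∧ (∀ r < tabD4.n, Maps chevD4 W r (rword tabD4 (wd i) r)) ∧ D ∈ c.Gr ∧
            D ∈ chevD4.diagonalSubgroup K ∧ P * D * W * P ∈ c.V ∧
            (∀ x ∈ c.Ub i, D * W * x * (D * W)⁻¹ ∈ c.Ub i) ∧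
            (∀ x ∈ c.U, ∃ a ∈ c.Ub i, ∃ b ∈ c.Gr,
              b ∈ gen chevD4 K {r | r ∈ rootsL i} ∧ x = a * b) ∧
            W ∈ chevD4.monomialSubgroup K := by
          fin_cases i
          · refine ⟨tri c.f (up 1), tri c.f (dia (-1)), tri c.f (wel K), c.tri_up_mem_U _, c.tri_mem_Gr _,
              (rkA c.f c.hf c.hK).wel_maps, c.tri_mem_Gr _, ?_, ?_, fun x hx => ?_, fun x hx => ?_,
              (rkA c.f c.hf c.hK).wel_mon⟩
            · rw [c.tri_dia_eq]; exact c.tt_mem_diag _ _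
            · rw [← map_mul, ← map_mul, ← map_mul, ← low_one_eq]; exact c.tri_low_mem_V _
            · rw [← map_mul]; exact c.conj_mem_Ub (c.tri_mem_Gr _) (c.tri_mem_gen _) hx
            · obtain ⟨t, a, ha, e⟩ := (c.exists_split_U' (inv_mem hx)).1
              refine ⟨a⁻¹, inv_mem ha, (tri c.f (up t))⁻¹, inv_mem (c.tri_mem_Gr _), inv_mem ?_,
                by rw [← mul_inv_rev, ← e, inv_inv]⟩
              rw [tri_up c.f c.hf c.hK]
              exact ev_mem_gen _ _ fun r hr => by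
                rw [show (orb 0).list twistD4a.rt = [18, 13, 12] by decide +kernel] at hr; exact hr
          · refine ⟨mid c.f (up 1), mid c.f (dia (-1)), mid c.f (wel c.k), c.mid_up_mem_U _, c.mid_mem_Gr _,
              (rkB c.f c.hf c.hK).wel_maps, c.mid_mem_Gr _, ?_, ?_, fun x hx => ?_, fun x hx => ?_,
              (rkB c.f c.hf c.hK).wel_mon⟩
            · rw [c.mid_dia_eq]; exact c.tt_mem_diag _ _
            · rw [← map_mul, ← map_mul, ← map_mul, ← low_one_eq]; exact c.mid_low_mem_V _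
            · rw [← map_mul]; exact c.conj_mem_Ub (c.mid_mem_Gr _) (c.mid_mem_gen _) hx
            · obtain ⟨t, a, ha, e⟩ := (c.exists_split_U' (inv_mem hx)).2
              refine ⟨a⁻¹, inv_mem ha, (mid c.f (up t))⁻¹, inv_mem (c.mid_mem_Gr _), inv_mem ?_,
                by rw [← mul_inv_rev, ← e, inv_inv]⟩
              rw [mid_up (q := q) c.f c.hf]
              exact ev_mem_gen _ _ fun r hr => by
                rw [show (orb 1).list twistD4a.rt = [14] by decide +kernel] at hr; exact hr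
        obtain ⟨a, ha, b, hbG, hb, eab⟩ := hsp (P * u1) (mul_mem hP hu1)
        have hmb : m⁻¹ * b * m ∈ c.U := by
          refine Subgroup.mem_inf.2 ⟨mul_mem (mul_mem (inv_mem hmG) hbG) hmG, ?_⟩
          have := conj_gen_le (g := m⁻¹) (S' := {r | r ∈ List.range' 12 12}) (fun r hr => ?_) hb
          · rwa [inv_inv] at this
          have hr' : r < tabD4.n := by
            have hlt : ∀ i : Fin 2, ∀ r ∈ rootsL i, r < tabD4.n := by decide +kernel
            exact hlt i r hr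
          exact ⟨πi r, List.mem_range'_1.2 ⟨hpos r hr, by
            have := (hπi r hr').1; rw [n_eq] at this; omega⟩, (hπi r hr').2.1⟩
        set z := (n0 K)⁻¹ * (P * D * W * P) * n0 K with hz
        have hzU : z ∈ c.U := c.n0inv_conj_V hx
        have hlt : (S π).card < (S fun r => rword tabD4 (wd i) (π r)).card := by
          refine Finset.card_lt_card (Finset.ssubset_iff_of_subset (fun r hr => ?_) |>.2 ?_)
          · obtain ⟨hr1, hr2⟩ := Finset.mem_filter.1 hr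
            refine Finset.mem_filter.2 ⟨hr1, ?_⟩
            obtain ⟨hr3, hr4⟩ := Finset.mem_Ico.1 hr1
            have hrn : r < tabD4.n := half_lt hr4
            have hchk : ∀ i : Fin 2, ∀ x : Fin 12, 23 - (x : ℕ) ∉ rootsL i →
                rword tabD4 (wd i) x < 12 := by decide +kernel
            refine hchk i ⟨π r, hr2⟩ fun hmem => ?_
            have h1 := hpos _ hmem
            have hne : 23 - π r = tabD4.neg (π r) := by rw [Tab.neg, n_eq]
            rw [hne, (hπi _ (hπ r hrn).1).2.2, (hinv r hrn).2, Tab.neg, n_eq] at h1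
            omega
          · obtain ⟨r, hr⟩ : ∃ r, r ∈ rootsL i := by fin_cases i <;> exact ⟨_, List.mem_cons_self⟩
            have hdata : ∀ i : Fin 2, ∀ r ∈ rootsL i, r < tabD4.n ∧ 12 ≤ r ∧ rword tabD4 (wd i) r < 12 := by
              decide +kernel
            obtain ⟨hrn, hr12, hneg⟩ := hdata i r hr
            have h24 : πi r < 24 := n_eq ▸ (hπi r hrn).1
            refine ⟨πi r, Finset.mem_filter.2 ⟨Finset.mem_Ico.2 ⟨hpos r hr, h24⟩, ?_⟩, fun hm => ?_⟩
            · show rword tabD4 (wd i) (π (πi r)) < 12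
              rw [(hinv r hrn).1]; exact hneg
            · have := (Finset.mem_filter.1 hm).2
              rw [(hinv r hrn).1] at this
              omega
        have hcard : (S fun r => rword tabD4 (wd i) (π r)).card ≤ 24 :=
          (Finset.card_filter_le _ _).trans (by simp)
        refine ih _ (by omega) (z * y) (D * W * m) (P * (D * W * a * (D * W)⁻¹))
          (m⁻¹ * b * m * u2 * z⁻¹) (fun r => rword tabD4 (wd i) (π r)) (mul_mem (hzU.1) hy)
          (mul_mem (mul_mem hD hW) hmG) ?_ (fun r hr => ?_)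
          (mul_mem hP (c.Ub_le_U i (hnU a ha))) (mul_mem (mul_mem hmb hu2) (inv_mem hzU)) ?_ rfl
        · exact mul_mem (mul_mem (Cert.diagonal_le_monomial hDd) hsn) hmn
        · obtain ⟨h1, h2⟩ := hπ r hr
          have h3 := certD4.rword_lt (wd_ok i) h1
          exact ⟨h3, Cert.Maps_mul h2 (Cert.Maps_mul (hWM _ h1) (certD4.Maps_diagonal hDd h3))⟩
        · calc n0 K * (z * y * g * (z * y)⁻¹)
              = P * D * W * (P * (n0 K * (y * g * y⁻¹))) * z⁻¹ := by rw [hz]; group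
            _ = P * D * W * ((P * u1) * m * u2) * z⁻¹ := by rw [e]; group
            _ = _ := by rw [eab]; group
      · push Not at hex
        have hneg : ∀ i : Fin 2, ∀ r ∈ rootsL i, πi r < 12 := fun i r hr => by
          obtain ⟨r', hr', hlt⟩ := hex i
          rw [← rts_eq] at hr hr'
          have h1 := horb inv_pos (i := i) hr
          have h2 := horb inv_pos (i := i) hr'
          by_contra hge
          have h3 : tabD4.half ≤ πi r := by rw [half_eq]; omega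
          have h4 := h2.1 (h1.2 h3)
          rw [half_eq] at h4
          omega
        obtain ⟨w, hw, t, ht, em⟩ := certD4.exists_word_of_monomial (inv_mem hmn)
        have hwM : ∀ r < tabD4.n, Maps chevD4 m⁻¹ r (rword tabD4 w r) := fun r hr => by
          rw [em]; exact Cert.Maps_mul (certD4.Maps_diagonal ht hr) (certD4.Maps_nW hw hr)
        have hall : ∀ r, tabD4.half ≤ r → r < tabD4.n → πi r < 12 := fun r hr hrn => by
          have hsimp : ∀ j < tabD4.l, rword tabD4 w (tabD4.simple j) < tabD4.half := fun j hj => by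
            have hd : ∀ j : Fin 4, ∃ i : Fin 2, tabD4.simple j ∈ rootsL i := by decide +kernel
            obtain ⟨i, hi⟩ := hd ⟨j, hj⟩
            have hjn := certD4.simple_lt hj
            rw [certD4.Maps_unique (certD4.rword_lt hw hjn) (hπi _ hjn).1 (hwM _ hjn) (hπi _ hjn).2.1,
              half_eq]
            exact hneg i _ hi
          rw [certD4.Maps_unique (hπi _ hrn).1 (certD4.rword_lt hw hrn) (hπi _ hrn).2.1 (hwM _ hrn), ← half_eq]
          exact certD4.rword_neg_of_simple hw hsimp hr hrn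
        have hn0M : n0 K ∈ chevD4.monomialSubgroup K := certD4.nW_mem_monomial wordOK_w0
        have hrw : ∀ r : Fin 24, rword tabD4 w0 r = 23 - (r : ℕ) := by decide +kernel
        have hd : (n0 K)⁻¹ * m ∈ chevD4.diagonalSubgroup K := by
          have h := certD4.mem_diagonal_of_perm (g := m⁻¹ * n0 K) (mul_mem (inv_mem hmn) hn0M) fun j hj s hs hM => by
            have hjn := certD4.simple_lt hj
            have h1 := certD4.Maps_nW (F := K) wordOK_w0 hjn
            have hj24 : tabD4.simple j < 24 := n_eq ▸ hjn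
            rw [hrw ⟨_, hj24⟩] at h1
            have hp := (certD4.simple_spec hj).1
            rw [half_eq] at hp
            have h23 : 23 - tabD4.simple j < tabD4.n := half_lt (by omega)
            have e1 := Cert.Maps_mul h1 (hπi _ h23).2.1
            have hsn : s < tabD4.n := by
              have := certD4.two_mul_half; omega
            have e2 := certD4.Maps_unique hsn (hπi _ h23).1 hM e1
            have h5 := (hπi _ hjn).2.2
            rw [show 23 - tabD4.simple j = tabD4.neg (tabD4.simple j) by rw [Tab.neg, n_eq], h5, Tab.neg, n_eq] at e2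
            have h6 := hall _ (by rw [half_eq]; omega) hjn
            rw [half_eq] at hs
            omega
          simpa using inv_mem h
        obtain ⟨v, u, hu, e2⟩ := exists_tel c.f c.hf c.hK
          (g := (⟨(n0 K)⁻¹ * m, mul_mem (inv_mem hn0) hmG⟩ : ↥(endoD4 c.f).fix))
          (Subgroup.mem_subgroupOf.2 hd)
        have e3 := congrArg Subtype.val e2
        rw [coe_tel c.f c.hf c.hK hu] at e3
        have hu' : (u : K) ∈ fixFld c.f := (mem_fixFld c.f c.hf).2 (by rw [← Units.val_pow_eq_pow_val, hu])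
        refine ⟨v, Units.mk0 ⟨u, hu'⟩ (fun e => u.ne_zero (congrArg Subtype.val e)), y, hy,
          (n0 K)⁻¹ * u1 * n0 K, c.n0inv_conj_U hu1, u2, hu2, ?_⟩
        rw [show c.tt v (Units.mk0 (⟨u, hu'⟩ : c.k) (fun e => u.ne_zero (congrArg Subtype.val e))) =
          th q v u from congrArg (th q v) (Units.ext rfl), ← show (n0 K)⁻¹ * m = th q v u from e3,
          ← inv_mul_cancel_left (n0 K) (y * g * y⁻¹), e]
        group
  have hg' : n0 K * g ∈ c.Gr := mul_mem hn0 hg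
  obtain ⟨w, hw, -, m, -, hmf, hmn, hmM, b, hb, u, hu, e⟩ := (endoD4 c.f).bruhat_fix
    (dataOK_D4 c.f).cls (std_fixD4 c.f c.hf c.hK c.hq).reps hg'
  obtain ⟨u1, hu1, t, ht, rfl⟩ := (endoD4 c.f).borel_fix.1 hb
  have hpos : ∀ x, x ∈ (endoD4 c.f).fix ⊓ chevD4.posUnipotent K → x ∈ c.U := fun x hx => by
    refine Subgroup.mem_inf.2 ⟨hx.1, ?_⟩
    have h2 := hx.2
    rw [certD4.posUnipotent_eq] at h2
    refine gen_mono _ (fun r hr => ?_) h2
    obtain ⟨h3, h4⟩ : tabD4.half ≤ r ∧ r < tabD4.n := hr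
    rw [half_eq] at h3; rw [n_eq] at h4
    exact List.mem_range'_1.2 ⟨h3, by omega⟩
  exact main _ 1 (t * m) u1 u (fun r => rword tabD4 w r) (one_mem _) (mul_mem ht.1 hmf)
    (mul_mem (Cert.diagonal_le_monomial ht.2) hmn)
    (fun r hr => ⟨certD4.rword_lt hw hr, rword_wd_diag ht.2 (certD4.rword_lt hw hr) (hmM r hr)⟩)
    (hpos _ hu1) (hpos _ ⟨hu.1, Endo.cellUnipotent_le_pos (h := certD4) hw hmM hu.2⟩)
    (by rw [one_mul, inv_one, mul_one, e]; group) rfl

theorem U_inf_V {x : GL chevD4.Idx K} (h1 : x ∈ c.U) (h2 : x ∈ c.V) : x = 1 := by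
  have ha : x ∈ chevD4.borelSubgroup K ⊓ chevD4.negUnipotent K := by
    refine ⟨Subgroup.mem_sup_left (certD4.gen_pos_le (fun r hr => ?_) h1.2),
      certD4.gen_neg_le (fun r hr => ?_) h2.2⟩
    · obtain ⟨h3, h4⟩ := List.mem_range'_1.1 hr
      exact ⟨by rw [half_eq]; exact h3, half_lt (by omega)⟩
    · rw [half_eq]; exact List.mem_range.1 hr
  rwa [certD4.borel_inf_negUnipotent, Subgroup.mem_bot] at ha

/-- Some class is movable. -/
theorem exists_move {g : GL chevD4.Idx K} (hg : g ∈ c.Gr) (hne : g ≠ 1) :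
    (∃ u, ∀ v, c.InGauss g v u) ∨ ∃ v, ∀ u, c.InGauss g v u := by
  by_contra hno
  push Not at hno
  obtain ⟨hno0, hno1⟩ := hno
  have key : ∀ {y a b : GL chevD4.Idx K} {v : Kˣ} {u : (c.k)ˣ}, y ∈ c.Gr → a ∈ c.V → b ∈ c.U →
      y * g * y⁻¹ = a * c.tt v u * b →
      (c.ch0 v u = 1 ∧ a ∈ c.Vb 0 ∧ b ∈ c.Ub 0) ∧ (c.ch1 v u = 1 ∧ a ∈ c.Vb 1 ∧ b ∈ c.Ub 1) := by
    intro y a b v u hy ha hb hrep
    constructor
    · obtain ⟨e, a', ha', rfl⟩ := (c.exists_split_V ha).1
      obtain ⟨h, b', hb', rfl⟩ := (c.exists_split_U' hb).1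
      obtain ⟨w, hw⟩ := hno0 u
      have h0 : ¬(e ≠ 0 ∨ h ≠ 0 ∨ c.ch0 v u ≠ 1) := fun hm => hw (by
        simpa using c.move0 hy ha' hb' hrep hm (v⁻¹ * w))
      push Not at h0
      obtain ⟨rfl, rfl, h3⟩ := h0
      rw [show low (0 : K) = 1 from Subtype.ext (by rw [TorusD4.low_val]; simp [Matrix.one_fin_two]),
        up_zero, map_one, mul_one, one_mul]
      exact ⟨h3, ha', hb'⟩
    · obtain ⟨e, a', ha', rfl⟩ := (c.exists_split_V ha).2
      obtain ⟨h, b', hb', rfl⟩ := (c.exists_split_U' hb).2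
      obtain ⟨w, hw⟩ := hno1 v
      have h0 : ¬(e ≠ 0 ∨ h ≠ 0 ∨ c.ch1 v u ≠ 1) := fun hm => hw (by
        simpa using c.move1 hy ha' hb' hrep hm (u⁻¹ * w))
      push Not at h0
      obtain ⟨rfl, rfl, h3⟩ := h0
      rw [show low (0 : c.k) = 1 from Subtype.ext (by rw [TorusD4.low_val]; simp [Matrix.one_fin_two]),
        up_zero, map_one, mul_one, one_mul]
      exact ⟨h3, ha', hb'⟩
  obtain ⟨v, u, y, hy, a, ha, b, hb, hrep⟩ := c.exists_inGauss hg
  obtain ⟨⟨h0, -⟩, ⟨h1, -⟩⟩ := key hy ha hb hrep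
  rw [c.tt_eq_one h0 h1, mul_one] at hrep
  set A := tri c.f (wel K)
  set B := mid c.f (wel c.k)
  let P : GL chevD4.Idx K → Prop := fun m => m ∈ c.Gr ∧ m * a * m⁻¹ ∈ c.V ∧ m * b * m⁻¹ ∈ c.U
  have hr : ∀ m, P m → m * y * g * (m * y)⁻¹ = (m * a * m⁻¹) * c.tt 1 1 * (m * b * m⁻¹) := fun m _ => by
    rw [c.tt_one, mul_one, show m * y * g * (m * y)⁻¹ = m * (y * g * y⁻¹) * m⁻¹ by group, hrep]; group
  have hA : ∀ m, P m → P (A * m) := fun m hm => by
    obtain ⟨⟨-, h2, h3⟩, -⟩ := key (mul_mem hm.1 hy) hm.2.1 hm.2.2 (hr m hm)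
    exact ⟨mul_mem (c.tri_mem_Gr _) hm.1, by
      rw [show A * m * a * (A * m)⁻¹ = A * (m * a * m⁻¹) * A⁻¹ by group]
      exact c.Vb_le_V 0 (c.conj_mem_Vb (c.tri_mem_Gr _) (c.tri_mem_gen _) h2), by
      rw [show A * m * b * (A * m)⁻¹ = A * (m * b * m⁻¹) * A⁻¹ by group]
      exact c.Ub_le_U 0 (c.conj_mem_Ub (c.tri_mem_Gr _) (c.tri_mem_gen _) h3)⟩
  have hB : ∀ m, P m → P (B * m) := fun m hm => by
    obtain ⟨-, ⟨-, h2, h3⟩⟩ := key (mul_mem hm.1 hy) hm.2.1 hm.2.2 (hr m hm)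
    exact ⟨mul_mem (c.mid_mem_Gr _) hm.1, by
      rw [show B * m * a * (B * m)⁻¹ = B * (m * a * m⁻¹) * B⁻¹ by group]
      exact c.Vb_le_V 1 (c.conj_mem_Vb (c.mid_mem_Gr _) (c.mid_mem_gen _) h2), by
      rw [show B * m * b * (B * m)⁻¹ = B * (m * b * m⁻¹) * B⁻¹ by group]
      exact c.Ub_le_U 1 (c.conj_mem_Ub (c.mid_mem_Gr _) (c.mid_mem_gen _) h3)⟩
  have h1' : P 1 := ⟨one_mem _, by simpa using ha, by simpa using hb⟩
  obtain ⟨-, hfa, hfb⟩ := hA _ (hB _ (hA _ (hB _ (hA _ (hB _ h1')))))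
  have en : A * (B * (A * (B * (A * (B * 1))))) = n0 K := by
    have e2 : B = nW chevD4 K [1] := by
      show mid c.f (wel c.k) = _
      rw [mid_wel]
      simp [nW, nS_simpleD4 c.f c.hf (show 1 < tabD4.l by decide),
        show tabD4.simple 1 = 14 by decide +kernel]
    rw [show A = nW chevD4 K [0, 2, 3] from tri_wel c.f c.hf c.hK, e2]
    simp [n0, w0, nW, mul_assoc]
  rw [en] at hfa hfb
  have hb1 := c.U_inf_V hfb (c.n0_conj_U hb)
  have ha1 := c.U_inf_V (c.n0_conj_V ha) hfa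
  rw [conj_eq_one_iff] at hb1 ha1
  rw [ha1, hb1, mul_one, conj_eq_one_iff] at hrep
  exact hne hrep

end Ctx

end CfsgLib.ClassSquare.Triality
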