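import Cfsg.Agent.Lib.ClassSquare.TrialityGauss

/-!
For `q ≥ 4` the square of the class of a regular element of the split torus covers `³D₄(q)` apart from
the identity.
-/

set_option autoImplicit false
set_option linter.unusedSectionVars false
set_option maxRecDepth 100000

namespace CfsgLib.ClassSquare.Triality

open Cfsg.Lie CfsgLib.Chev CfsgLib.Chev.Cert CfsgLib.Chev.D4Root
open CfsgLib.Chev.TorusD4 (up low sl2_closure)
open scoped MatrixGroups

/-- An element without fixed points normalizing a finite subgroup is conjugate to its translates. -/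
theorem exists_conj_of_fix {Γ : Type*} [Group Γ] {U : Subgroup Γ} [Finite U] {c : Γ}
    (hn : ∀ u ∈ U, c * u * c⁻¹ ∈ U) (hfix : ∀ u ∈ U, Commute u c → u = 1) {u : Γ} (hu : u ∈ U) :
    ∃ x ∈ U, x * c * x⁻¹ = u * c := by
  let φ : U → U := fun x => ⟨x * (c * (x : Γ)⁻¹ * c⁻¹), U.mul_mem x.2 (hn _ (U.inv_mem x.2))⟩
  have hφ : Function.Injective φ := fun x y e => by
    have h := congrArg Subtype.val e
    simp only [φ] at h
    have h1 : (x : Γ) * c * (x : Γ)⁻¹ = y * c * (y : Γ)⁻¹ := by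
      rw [show (x : Γ) * c * (x : Γ)⁻¹ = x * (c * (x : Γ)⁻¹ * c⁻¹) * c by group, h]; group
    have h2 : Commute ((y : Γ)⁻¹ * x) c := by
      show (y : Γ)⁻¹ * x * c = c * ((y : Γ)⁻¹ * x)
      calc (y : Γ)⁻¹ * x * c = (y : Γ)⁻¹ * (x * c * (x : Γ)⁻¹) * x := by group
        _ = c * ((y : Γ)⁻¹ * x) := by rw [h1]; group
    exact (Subtype.ext (inv_mul_eq_one.1 (hfix _ (U.mul_mem (U.inv_mem y.2) x.2) h2))).symm
  obtain ⟨x, hx⟩ := Finite.injective_iff_surjective.1 hφ ⟨u, hu⟩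
  refine ⟨x, x.2, ?_⟩
  rw [← show (x : Γ) * (c * (x : Γ)⁻¹ * c⁻¹) = u from congrArg Subtype.val hx]
  group

variable {K : Type*} [Field K] [Fintype K] {q : ℕ}

namespace Ctx

variable (c : Ctx K q)
include c

theorem two_le : 2 ≤ q := c.hq.two_le

theorem card_units : Nat.card Kˣ = (q - 1) * (q ^ 2 + q + 1) := by
  rw [Nat.card_units, Nat.card_eq_fintype_card, c.hK]
  obtain ⟨m, rfl⟩ : ∃ m, q = m + 1 := ⟨q - 1, by have := c.two_le; omega⟩
  simp only [Nat.add_sub_cancel]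
  rw [Nat.sub_eq_iff_eq_add (Nat.one_le_pow _ _ (by omega))]
  ring

theorem card_k : Nat.card c.k = q := by
  have h := card_pow_eq_self (F := K) (q := q) (by have := c.two_le; omega) (dvd_card_D4 c.hK)
  refine Eq.trans (Nat.card_congr (Equiv.subtypeEquivRight fun t => mem_fixFld c.f c.hf)) h

theorem card_k_units : Nat.card (c.k)ˣ = q - 1 := by
  rw [Nat.card_units, c.card_k]

/-- The norm as a homomorphism. -/
noncomputable def nmHom : Kˣ →* (c.k)ˣ :=
  MonoidHom.toHomUnits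
    { toFun := fun v => c.nm (v : K)
      map_one' := Subtype.ext (by simp [nm])
      map_mul' := fun a b => Subtype.ext (by simp [nm, mul_pow]; ring) }

theorem coe_nmHom (v : Kˣ) : (((c.nmHom v : (c.k)ˣ) : c.k) : K) = (v : K) ^ (q ^ 2 + q + 1) := by
  show (v : K) * (v : K) ^ q * ((v : K) ^ q) ^ q = _
  rw [← pow_mul, ← pow_succ', ← pow_add]
  congr 1; ring

theorem card_nm_fibre (w : (c.k)ˣ) : Nat.card {v : Kˣ // c.nmHom v = w} = q ^ 2 + q + 1 := by
  classical
  have hker : Nat.card c.nmHom.ker ≤ q ^ 2 + q + 1 := by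
    haveI : NeZero (q ^ 2 + q + 1) := ⟨by omega⟩
    refine le_trans (Nat.card_le_card_of_injective (fun v : c.nmHom.ker => (⟨v.1, by
      rw [mem_rootsOfUnity]
      refine Units.ext ?_
      rw [Units.val_pow_eq_pow_val, ← c.coe_nmHom, MonoidHom.mem_ker.1 v.2]; simp⟩ :
        rootsOfUnity (q ^ 2 + q + 1) K)) fun a b e => by simpa using e) ?_
    exact card_rootsOfUnity (R := K) (k := q ^ 2 + q + 1)
  have h1 := c.nmHom.ker.card_eq_card_quotient_mul_card_subgroup
  rw [Nat.card_congr (QuotientGroup.quotientKerEquivRange c.nmHom).toEquiv, c.card_units] at h1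
  have hq := c.two_le
  have h2 : Nat.card c.nmHom.range ≤ q - 1 := c.card_k_units ▸ Subgroup.card_le_card_group _
  have h4 : Nat.card c.nmHom.range = q - 1 := by
    by_contra hne
    have h5 : Nat.card c.nmHom.range < q - 1 := lt_of_le_of_ne h2 hne
    have h6 := Nat.mul_lt_mul_of_lt_of_le h5 hker (by positivity)
    omega
  have h7 : Nat.card c.nmHom.ker = q ^ 2 + q + 1 := by
    rw [h4] at h1
    exact (Nat.eq_of_mul_eq_mul_left (by omega) h1).symm
  obtain ⟨v₀, hv₀⟩ := (Subgroup.eq_top_of_card_eq c.nmHom.range (h4.trans c.card_k_units.symm) ▸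
    Subgroup.mem_top w : w ∈ c.nmHom.range)
  rw [← h7]
  refine Nat.card_congr
    { toFun := fun v => ⟨v.1 * v₀⁻¹, by rw [MonoidHom.mem_ker, map_mul, v.2, map_inv, hv₀, mul_inv_cancel]⟩
      invFun := fun z => ⟨z.1 * v₀, by rw [map_mul, MonoidHom.mem_ker.1 z.2, one_mul, hv₀]⟩
      left_inv := fun v => Subtype.ext (by simp)
      right_inv := fun z => Subtype.ext (by simp) }

theorem card_sq_le (a : K) : Nat.card {v : Kˣ // (v : K) ^ 2 = a} ≤ 2 := by
  classical
  refine le_trans (Nat.card_le_card_of_injective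
    (fun v : {v : Kˣ // (v : K) ^ 2 = a} => (⟨(v.1 : K), by
      rw [Multiset.mem_toFinset, Polynomial.mem_nthRoots (by norm_num)]; exact v.2⟩ :
        ↥((Polynomial.nthRoots 2 a).toFinset))) fun a b e => Subtype.ext (Units.ext (by simpa using e))) ?_
  rw [Nat.card_eq_fintype_card, Fintype.card_coe]
  exact (Multiset.toFinset_card_le _).trans (Polynomial.card_nthRoots 2 a)

/-- A unit of given norm whose square avoids three values. -/
theorem exists_nm_sq (w : (c.k)ˣ) (a b d : K) :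
    ∃ v : Kˣ, c.nmHom v = w ∧ (v : K) ^ 2 ≠ a ∧ (v : K) ^ 2 ≠ b ∧ (v : K) ^ 2 ≠ d := by
  classical
  by_contra hno
  push Not at hno
  have h7 : 7 ≤ q ^ 2 + q + 1 := by have := c.two_le; nlinarith
  have hsub : (Finset.univ.filter fun v : Kˣ => c.nmHom v = w) ⊆
      (Finset.univ.filter fun v : Kˣ => (v : K) ^ 2 = a) ∪ (Finset.univ.filter fun v : Kˣ => (v : K) ^ 2 = b) ∪
        (Finset.univ.filter fun v : Kˣ => (v : K) ^ 2 = d) := fun v hv => by
    simp only [Finset.mem_filter, Finset.mem_univ, true_and, Finset.mem_union] at hv ⊢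
    by_cases h1 : (v : K) ^ 2 = a
    · exact Or.inl (Or.inl h1)
    by_cases h2 : (v : K) ^ 2 = b
    · exact Or.inl (Or.inr h2)
    exact Or.inr (hno v hv h1 h2)
  have e : ∀ p : Kˣ → Prop, Nat.card {v // p v} = (Finset.univ.filter p).card := fun p => by
    rw [Nat.card_eq_fintype_card, Fintype.card_subtype]
  have h := (Finset.card_le_card hsub).trans ((Finset.card_union_le _ _).trans
    (Nat.add_le_add_right (Finset.card_union_le _ _) _))
  simp only [← e] at h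
  have h0 : (Finset.univ.filter fun v : Kˣ => c.nmHom v = w).card = q ^ 2 + q + 1 := by
    rw [← c.card_nm_fibre w, Nat.card_eq_fintype_card, Fintype.card_subtype]
  have := c.card_sq_le a
  have := c.card_sq_le b
  have := c.card_sq_le d
  omega

/-- A unit of the fixed field avoiding two values. -/
theorem exists_unit_avoid_two {x y : c.k} (h : 4 ≤ q) : ∃ t : (c.k)ˣ, (t : c.k) ≠ x ∧ (t : c.k) ≠ y := by
  classical
  haveI : Fintype c.k := Fintype.ofFinite _
  obtain ⟨t, -, ht⟩ := Finset.exists_mem_notMem_of_card_lt_card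
    (s := ({0, x, y} : Finset c.k)) (t := Finset.univ) (lt_of_le_of_lt Finset.card_le_three (by
      rw [Finset.card_univ, ← Nat.card_eq_fintype_card, c.card_k]; omega))
  simp only [Finset.mem_insert, Finset.mem_singleton, not_or] at ht
  exact ⟨Units.mk0 t ht.1, ht.2.1, ht.2.2⟩

theorem coe_ch1' (v : Kˣ) (u : (c.k)ˣ) : c.ch1 v u = (u : c.k) ^ 2 / (c.nmHom v : c.k) := rfl

/-- Prescribed coordinates. -/
theorem exists_target (h4 : 4 ≤ q) {g : GL chevD4.Idx K} (hg : g ∈ c.Gr) (hne : g ≠ 1) (V : Kˣ)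
    (U : (c.k)ˣ) : c.InGauss g V U := by
  have main : ∀ u : (c.k)ˣ, (∀ v, c.InGauss g v u) → c.InGauss g V U := by
    intro u hu
    obtain ⟨n, hn1, -⟩ := c.exists_unit_avoid_two (x := (u : c.k) ^ 2) (y := (u : c.k) ^ 2) h4
    obtain ⟨v, hv1, hv2, -, -⟩ := c.exists_nm_sq n ((U : c.k) : K) ((U : c.k) : K) ((U : c.k) : K)
    have h1 : c.ch1 v u ≠ 1 := by
      rw [c.coe_ch1', hv1, ne_eq, div_eq_one_iff_eq n.ne_zero]; exact fun e => hn1 e.symm
    have h2 := c.move1_good (hu v) h1 (u⁻¹ * U)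
    rw [mul_inv_cancel_left] at h2
    have h3 : c.ch0 v U ≠ 1 := by
      rw [ch0, ne_eq, div_eq_one_iff_eq (by simpa using U.ne_zero)]; exact hv2
    have := c.move0_good h2 h3 (v⁻¹ * V)
    rwa [mul_inv_cancel_left] at this
  rcases c.exists_move hg hne with ⟨u, hu⟩ | ⟨v, hv⟩
  · exact main u hu
  · obtain ⟨u, hu⟩ : ∃ u : (c.k)ˣ, c.ch0 v u ≠ 1 := by
      obtain ⟨a, ha, -⟩ := c.exists_unit_avoid_two (x := 1) (y := 1) h4
      by_contra hall
      push Not at hall
      have h1 := hall 1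
      have h2 := hall a
      simp only [ch0, Units.val_one, OneMemClass.coe_one, div_one] at h1 h2
      rw [h1, one_div, inv_eq_one] at h2
      exact ha (Subtype.ext h2)
    refine main u fun w => ?_
    have := c.move0_good (hv u) hu (v⁻¹ * w)
    rwa [mul_inv_cancel_left] at this

theorem tel_eq (v : Kˣ) (u : (c.k)ˣ) : (tel c.f q v (c.iu u) : GL chevD4.Idx K) = c.tt v u :=
  coe_tel c.f c.hf c.hK (c.iu_pow u)

/-- A regular torus element fixes only the identity of `U`. -/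
theorem fix_U {v : Kˣ} {u : (c.k)ˣ} (hreg : ∀ k : Fin 6, chi q k (v : K) ((u : c.k) : K) ≠ 1)
    {x : GL chevD4.Idx K} (hx : x ∈ c.U) (hc : Commute x (c.tt v u)) : x = 1 := by
  set n : ↥(endoD4 c.f).fix := ⟨x, hx.1⟩ with hn
  have hu : c.iu u ^ q = c.iu u := c.iu_pow u
  have hcn : tel c.f q v (c.iu u) * n * (tel c.f q v (c.iu u))⁻¹ = n := by
    refine Subtype.ext ?_
    rw [Subgroup.coe_mul, Subgroup.coe_mul, Subgroup.coe_inv, c.tel_eq, mul_inv_eq_iff_eq_mul]
    exact hc.eq.symm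
  have h0 : n ∈ lay c.f 0 := by
    refine Subgroup.mem_subgroupOf.2 (gen_mono _ (fun r hr => ?_) hx.2)
    show r ∈ sfx 0
    rw [show sfx 0 = [18, 13, 12, 14, 19, 16, 15, 17, 20, 21, 22, 23] by decide +kernel]
    obtain ⟨h1, h2⟩ := List.mem_range'_1.1 hr
    interval_cases r <;> simp
  have step : ∀ k, k ≤ 6 → n ∈ lay c.f k := by
    intro k
    induction k with
    | zero => exact fun _ => h0
    | succ k ih =>
      intro hk
      have hk6 : k < 6 := by omega
      obtain ⟨t, ht, hm⟩ := exists_coord c.f c.hf c.hK c.hq ⟨k, hk6⟩ (ih (by omega))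
      set m := (el c.f q ⟨k, hk6⟩ t)⁻¹ * n with hmdef
      have hm' := lay_conj c.f (tel_mem c.f c.hf c.hK hu (v := v)) hm
      have e1 : el c.f q ⟨k, hk6⟩ (chi q ⟨k, hk6⟩ (v : K) (c.iu u : K) * t) *
          (tel c.f q v (c.iu u) * m * (tel c.f q v (c.iu u))⁻¹) = el c.f q ⟨k, hk6⟩ t * m := by
        rw [← tel_conj c.f c.hf c.hK hu ht]
        conv_rhs => rw [hmdef, mul_inv_cancel_left, ← hcn]
        rw [hmdef]; group
      have hpar := D4Root.par_mul (chi_par c.hK hu ⟨k, hk6⟩ (v := v)) ht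
      have e2 : el c.f q ⟨k, hk6⟩ ((chi q ⟨k, hk6⟩ (v : K) (c.iu u : K) - 1) * t) ∈ lay c.f (k + 1) := by
        rw [show (chi q ⟨k, hk6⟩ (v : K) (c.iu u : K) - 1) * t =
          -t + chi q ⟨k, hk6⟩ (v : K) (c.iu u : K) * t by ring,
          el_add c.f c.hf c.hK (D4Root.par_neg c.f c.hf ht) hpar, el_neg c.f c.hf c.hK ht]
        have := mul_mem hm (inv_mem hm')
        rwa [show m * (tel c.f q v (c.iu u) * m * (tel c.f q v (c.iu u))⁻¹)⁻¹ =
          (el c.f q ⟨k, hk6⟩ t)⁻¹ * el c.f q ⟨k, hk6⟩ (chi q ⟨k, hk6⟩ (v : K) (c.iu u : K) * t) by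
            rw [eq_inv_mul_iff_mul_eq, ← mul_assoc, ← e1]; group] at this
      have hpar2 : Par q ⟨k, hk6⟩ ((chi q ⟨k, hk6⟩ (v : K) (c.iu u : K) - 1) * t) := by
        rw [sub_mul, one_mul, sub_eq_add_neg]
        exact D4Root.par_add c.f c.hf hpar (D4Root.par_neg c.f c.hf ht)
      have h1 := el_eq_zero c.f c.hf c.hK hpar2 e2
      rcases mul_eq_zero.1 h1 with h2 | h2
      · exact absurd (sub_eq_zero.1 h2) (hreg _)
      · subst h2
        rwa [hmdef, el_zero c.f c.hf c.hK, inv_one, one_mul] at hm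
  have h6 := step 6 le_rfl
  rw [lay_six, Subgroup.mem_bot] at h6
  exact congrArg Subtype.val h6

theorem tt_conj_U {v : Kˣ} {u : (c.k)ˣ} {x : GL chevD4.Idx K} (hx : x ∈ c.U) :
    c.tt v u * x * (c.tt v u)⁻¹ ∈ c.U := by
  refine Subgroup.mem_inf.2 ⟨mul_mem (mul_mem (c.tt_mem v u) hx.1) (inv_mem (c.tt_mem v u)), ?_⟩
  exact (Subgroup.mem_normalizer_iff.1 (certD4.diagonal_le_normalizer_gen
    (S := {r | r ∈ List.range' 12 12}) (fun r hr => half_lt (by
      have := (List.mem_range'_1.1 hr).2; omega)) (c.tt_mem_diag v u)) x).1 hx.2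

theorem tt_conj_V {v : Kˣ} {u : (c.k)ˣ} {x : GL chevD4.Idx K} (hx : x ∈ c.V) :
    c.tt v u * x * (c.tt v u)⁻¹ ∈ c.V := by
  refine Subgroup.mem_inf.2 ⟨mul_mem (mul_mem (c.tt_mem v u) hx.1) (inv_mem (c.tt_mem v u)), ?_⟩
  exact (Subgroup.mem_normalizer_iff.1 (certD4.diagonal_le_normalizer_gen
    (S := {r | r ∈ List.range 12}) (fun r hr => half_lt (by
      have := List.mem_range.1 hr; omega)) (c.tt_mem_diag v u)) x).1 hx.2

theorem fix_V {v : Kˣ} {u : (c.k)ˣ} (hreg : ∀ k : Fin 6, chi q k (v : K) ((u : c.k) : K) ≠ 1)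
    {x : GL chevD4.Idx K} (hx : x ∈ c.V) (hc : Commute x (c.tt v u)) : x = 1 := by
  have h1 := hc.map (MulAut.conj (n0 K)).toMonoidHom
  simp only [MulEquiv.coe_toMonoidHom, MulAut.conj_apply, c.n0_tt, ← c.tt_inv] at h1
  exact conj_eq_one_iff.1 (c.fix_U hreg (c.n0_conj_V hx) (by simpa using h1.inv_right))

theorem pow_card_tt (v : Kˣ) (u : (c.k)ˣ) : c.tt v u ^ Nat.card Kˣ = 1 := by
  rw [tt, th, ← map_pow, show par q v (c.iu u) ^ Nat.card Kˣ = 1 from funext fun i => pow_card_eq_one',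
    map_one]

theorem not_dvd_order {p : ℕ} [Fact p.Prime] [CharP K p] {x : GL chevD4.Idx K} {N : ℕ}
    (hN : ¬ p ∣ N) (hx : x ^ N = 1) : ¬ p ∣ orderOf x :=
  fun h => hN (h.trans (orderOf_dvd_of_pow_eq_one hx))

theorem not_dvd_units {p : ℕ} [Fact p.Prime] [CharP K p] : ¬ p ∣ Nat.card Kˣ := by
  rw [Nat.card_units, Nat.card_eq_fintype_card]
  intro h
  obtain ⟨n, -, hn⟩ := FiniteField.card K p
  have hp : p ∣ Fintype.card K := hn ▸ dvd_pow_self p n.ne_zero
  have := Nat.dvd_sub hp h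
  rw [Nat.sub_sub_self Fintype.card_pos] at this
  exact (Fact.out : p.Prime).not_dvd_one this

/-- The covering for `q ≥ 4`. -/
theorem cover_split (h4 : 4 ≤ q) (p : ℕ) [Fact p.Prime] [CharP K p] :
    ∃ x ∈ c.Gr, ¬ p ∣ orderOf x ∧ ∀ g ∈ c.Gr, g ≠ 1 →
      ∃ a ∈ c.Gr, ∃ b ∈ c.Gr, g = (a * x * a⁻¹) * (b * x * b⁻¹) := by
  obtain ⟨u, hu1, -⟩ := c.exists_unit_avoid_two (x := 1) (y := 1) h4
  obtain ⟨n, hn1, hn2⟩ := c.exists_unit_avoid_two (x := (u : c.k)) (y := (u : c.k) ^ 2) h4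
  obtain ⟨v, hv, hv1, hv2, hv3⟩ := c.exists_nm_sq n ((u : c.k) : K) (((n : c.k) : K) / ((u : c.k) : K))
    ((n : c.k) : K)
  have hN : (v : K) * (v : K) ^ q * ((v : K) ^ q) ^ q = ((n : c.k) : K) := by rw [← hv]; rfl
  have hv0 : (v : K) ≠ 0 := v.ne_zero
  have hvq : (v : K) ^ q * ((v : K) ^ q) ^ q ≠ 0 := mul_ne_zero (pow_ne_zero _ hv0) (pow_ne_zero _ (pow_ne_zero _ hv0))
  have hu0 : ((u : c.k) : K) ≠ 0 := by simpa using u.ne_zero
  have hreg : ∀ k : Fin 6, chi q k (v : K) ((u : c.k) : K) ≠ 1 := by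
    intro k
    fin_cases k <;> simp only [chi, List.getD_cons_zero, List.getD_cons_succ] <;> intro e
    · exact hv1 ((div_eq_one_iff_eq hu0).1 e)
    · rw [hN, div_eq_one_iff_eq (by simpa using n.ne_zero)] at e
      exact hn2 (Subtype.ext (by simpa using e.symm))
    · rw [div_eq_one_iff_eq hvq] at e
      refine hv2 ?_
      rw [eq_div_iff hu0, ← hN, mul_assoc (v : K), ← e]; ring
    · rw [div_eq_one_iff_eq hv0] at e
      refine hv3 ?_
      rw [← hN, mul_assoc (v : K), e, sq]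
    · rw [hN, div_eq_one_iff_eq hu0] at e
      exact hn1 (Subtype.ext e)
    · exact hu1 (Subtype.ext e)
  haveI : Finite (GL chevD4.Idx K) := inferInstance
  refine ⟨c.tt v u, c.tt_mem v u, c.not_dvd_order c.not_dvd_units (c.pow_card_tt v u), fun g hg hne => ?_⟩
  obtain ⟨y, hy, a, ha, b, hb, e⟩ := c.exists_target h4 hg hne (v * v) (u * u)
  obtain ⟨a', ha', ea⟩ := exists_conj_of_fix (fun x hx => c.tt_conj_V hx)
    (fun x hx hc => c.fix_V hreg hx hc) ha
  obtain ⟨b', hb', eb⟩ := exists_conj_of_fix (fun x hx => c.tt_conj_U hx)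
    (fun x hx hc => c.fix_U hreg hx hc) (c.tt_conj_U (v := v) (u := u) hb)
  refine ⟨y⁻¹ * a', mul_mem (inv_mem hy) ha'.1, y⁻¹ * b', mul_mem (inv_mem hy) hb'.1, ?_⟩
  have eb' : b' * c.tt v u * b'⁻¹ = c.tt v u * b := by rw [eb]; group
  calc g = y⁻¹ * (y * g * y⁻¹) * y := by group
    _ = y⁻¹ * ((a * c.tt v u) * (c.tt v u * b)) * y := by rw [e, c.tt_mul]; group
    _ = _ := by rw [← ea, ← eb']; group

end Ctx

end CfsgLib.ClassSquare.Triality
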