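import Cfsg.Agent.Lib.ClassSquare.TrialityNeg
import Cfsg.Agent.Lib.ClassSquare.TrialitySplit

/-!
The parabolic subgroup of a long root of `³D₄(q)`: elements written as `n L n'` with `n` in the negative
radical, `L` in the Levi subgroup and `n'` in the positive radical, and the conjugations between them.
-/

set_option autoImplicit false
set_option linter.unusedSectionVars false
set_option maxRecDepth 100000

namespace CfsgLib.ClassSquare.Triality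

open Cfsg.Lie CfsgLib.Chev CfsgLib.Chev.Cert CfsgLib.Chev.D4Root
open CfsgLib.Chev.TorusD4 (up low sl2_closure)
open scoped MatrixGroups

theorem finite_normalizer {Γ : Type*} [Group Γ] {N : Subgroup Γ} [Finite N] {x : Γ}
    (h : ∀ y ∈ N, x * y * x⁻¹ ∈ N) : x ∈ Subgroup.normalizer (N : Set Γ) := by
  let φ : N → N := fun y => ⟨x * y * x⁻¹, h y y.2⟩
  have hφ : Function.Surjective φ := Finite.injective_iff_surjective.1 fun a b e =>
    Subtype.ext ((MulAut.conj x).injective (congrArg Subtype.val e))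
  refine Subgroup.mem_normalizer_iff.2 fun y => ⟨h y, fun hy => ?_⟩
  obtain ⟨z, hz⟩ := hφ ⟨_, hy⟩
  have : (z : Γ) = y := (MulAut.conj x).injective (congrArg Subtype.val hz)
  exact this ▸ z.2

/-- The conjugation of `SL₂` by `diag(χ, 1)`. -/
noncomputable def scl {k : Type*} [Field k] (χ : kˣ) : SL(2, k) →* SL(2, k) :=
  MonoidHom.mk' (fun S => ⟨!![S.1 0 0, χ * S.1 0 1; (χ⁻¹ : kˣ) * S.1 1 0, S.1 1 1], by
    have h := S.2
    rw [Matrix.det_fin_two] at h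
    rw [Matrix.det_fin_two]
    simp only [Matrix.cons_val', Matrix.cons_val_zero, Matrix.cons_val_one, Matrix.of_apply,
      Matrix.cons_val_fin_one]
    rw [show (χ : k) * S.1 0 1 * ((χ⁻¹ : kˣ) * S.1 1 0) = S.1 0 1 * S.1 1 0 * ((χ : k) * (χ⁻¹ : kˣ)) by ring,
      ← Units.val_mul, mul_inv_cancel, Units.val_one, mul_one]
    exact h⟩) fun S T => by
      refine Subtype.ext ?_
      show !![(S.1 * T.1) 0 0, χ * (S.1 * T.1) 0 1; (χ⁻¹ : kˣ) * (S.1 * T.1) 1 0, (S.1 * T.1) 1 1] =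
        !![S.1 0 0, χ * S.1 0 1; (χ⁻¹ : kˣ) * S.1 1 0, S.1 1 1] *
          !![T.1 0 0, χ * T.1 0 1; (χ⁻¹ : kˣ) * T.1 1 0, T.1 1 1]
      have hc : (χ : k) * (χ⁻¹ : kˣ) = 1 := by rw [← Units.val_mul, mul_inv_cancel, Units.val_one]
      ext i j
      fin_cases i <;> fin_cases j <;>
        simp [Matrix.mul_apply, Fin.sum_univ_two] <;>
        field_simp <;> ring

theorem scl_val {k : Type*} [Field k] (χ : kˣ) (S : SL(2, k)) :
    (scl χ S).1 = !![S.1 0 0, χ * S.1 0 1; (χ⁻¹ : kˣ) * S.1 1 0, S.1 1 1] := rfl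

theorem scl_one {k : Type*} [Field k] (S : SL(2, k)) : scl (1 : kˣ) S = S :=
  Subtype.ext (by ext i j; fin_cases i <;> fin_cases j <;> simp [scl_val])

theorem scl_dia {k : Type*} [Field k] (χ e : kˣ) : scl χ (dia e : SL(2, k)) = dia e :=
  Subtype.ext (by simp only [scl_val, dia_val]; ext i j; fin_cases i <;> fin_cases j <;> simp)

variable {K : Type*} [Field K] [Fintype K] {q : ℕ}

/-- The factors on the positive side. -/
noncomputable def posW (q : ℕ) (s : St K) : GL chevD4.Idx K :=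
  D4Root.ev q 2 (-s.c) * (D4Root.ev q 3 (-s.g) * (D4Root.ev q 4 (-s.h) * D4Root.ev q 5 (-s.k))) *
    D4Root.ev q 0 (-s.e)

namespace Ctx

variable (c : Ctx K q)
include c

theorem hf3 (x : K) : c.f (c.f (c.f x)) = x := by rw [c.hf, c.hf, c.hf, c.hK']

theorem fix_k (a : c.k) : c.f (a : K) = a := by rw [c.hf]; exact (mem_fixFld c.f c.hf).1 a.2

/-- The coordinates of elements of the group. -/
def Ok (s : St K) : Prop := c.f s.h = s.h ∧ c.f s.k = s.k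

theorem ok_par {s : St K} (hs : c.Ok s) : Par q 4 s.h ∧ Par q 5 s.k :=
  ⟨fun _ => by rw [← c.hf]; exact hs.1, fun _ => by rw [← c.hf]; exact hs.2⟩

theorem neg_eq (s : St K) : neg c.f s = n0 K * posW q s * (n0 K)⁻¹ := by
  rw [← MulAut.conj_apply]
  simp only [posW, D4Root.ev, word, List.map_cons, List.map_nil, List.prod_cons, List.prod_nil, mul_one,
    map_mul]
  simp only [MulAut.conj_apply, n0_conj_X (show 18 < 24 by omega), n0_conj_X (show 13 < 24 by omega),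
    n0_conj_X (show 12 < 24 by omega), n0_conj_X (show 19 < 24 by omega), n0_conj_X (show 16 < 24 by omega),
    n0_conj_X (show 15 < 24 by omega), n0_conj_X (show 17 < 24 by omega), n0_conj_X (show 20 < 24 by omega),
    n0_conj_X (show 21 < 24 by omega), n0_conj_X (show 22 < 24 by omega), n0_conj_X (show 23 < 24 by omega),
    ← c.hf, map_neg, _root_.neg_neg, neg, W, E, X0_9.1, mul_one, mul_assoc]

theorem pos_mem {s : St K} (hs : c.Ok s) : posW q s ∈ c.Gr :=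
  mul_mem (mul_mem (c.ev_mem fun h => absurd h (by decide)) (mul_mem (c.ev_mem fun h => absurd h (by decide))
    (mul_mem (c.ev_mem (c.par_neg' (c.ok_par hs).1)) (c.ev_mem (c.par_neg' (c.ok_par hs).2)))))
    (c.ev_mem fun h => absurd h (by decide))

theorem neg_mem {s : St K} (hs : c.Ok s) : neg c.f s ∈ c.Gr := by
  rw [c.neg_eq]; exact mul_mem (mul_mem c.n0_mem (c.pos_mem hs)) (inv_mem c.n0_mem)

theorem peel {k : Fin 6} {a b : K} (ha : Par q k a) (hb : Par q k b) {x y : ↥(endoD4 c.f).fix}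
    (hx : x ∈ lay c.f (k.val + 1)) (hy : y ∈ lay c.f (k.val + 1))
    (e : el c.f q k a * x = el c.f q k b * y) : a = b ∧ x = y := by
  have h1 : (el c.f q k b)⁻¹ * el c.f q k a = y * x⁻¹ := by
    rw [eq_mul_inv_iff_mul_eq, mul_assoc, e, inv_mul_cancel_left]
  have h2 : el c.f q k (-b + a) = y * x⁻¹ := by
    rw [el_add c.f c.hf c.hK (c.par_neg' hb) ha, el_neg c.f c.hf c.hK hb, h1]
  have h3 := el_eq_zero c.f c.hf c.hK (D4Root.par_add c.f c.hf (c.par_neg' hb) ha)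
    (h2 ▸ mul_mem hy (inv_mem hx))
  have h4 : a = b := by linear_combination h3
  subst h4
  exact ⟨rfl, mul_left_cancel e⟩

theorem neg_inj {s t : St K} (hs : c.Ok s) (ht : c.Ok t) (e : neg c.f s = neg c.f t) : s = t := by
  rw [c.neg_eq, c.neg_eq] at e
  have e' : posW q s = posW q t := mul_left_cancel (mul_right_cancel e)
  let P : ∀ k : Fin 6, K → ↥(endoD4 c.f).fix := el c.f q
  have hp : ∀ (k : Fin 6) {a : K}, Par q k a → ∀ j, j ≤ k.val → P k a ∈ lay c.f j := fun k a h j hj =>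
    el_mem c.f c.hf c.hK h hj
  have p0 : ∀ a : K, Par q 0 a := fun a h => absurd h (by decide)
  have p2 : ∀ a : K, Par q 2 a := fun a h => absurd h (by decide)
  have p3 : ∀ a : K, Par q 3 a := fun a h => absurd h (by decide)
  have p4 := c.par_neg' (c.ok_par hs).1
  have p4' := c.par_neg' (c.ok_par ht).1
  have p5 := c.par_neg' (c.ok_par hs).2
  have p5' := c.par_neg' (c.ok_par ht).2
  let R : St K → ↥(endoD4 c.f).fix := fun u => P 2 (-u.c) * (P 3 (-u.g) * (P 4 (-u.h) * P 5 (-u.k)))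
  have hR : ∀ u, c.Ok u → R u ∈ lay c.f 2 := fun u hu =>
    mul_mem (hp 2 (p2 _) 2 le_rfl) (mul_mem (hp 3 (p3 _) 2 (by decide))
      (mul_mem (hp 4 (c.par_neg' (c.ok_par hu).1) 2 (by decide)) (hp 5 (c.par_neg' (c.ok_par hu).2) 2 (by decide))))
  have e2 : R s * P 0 (-s.e) = R t * P 0 (-t.e) := by
    refine Subtype.ext ?_
    simp only [R, P, Subgroup.coe_mul, coe_el c.f c.hf c.hK (p0 _), coe_el c.f c.hf c.hK (p2 _),
      coe_el c.f c.hf c.hK (p3 _), coe_el c.f c.hf c.hK p4, coe_el c.f c.hf c.hK p4', coe_el c.f c.hf c.hK p5,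
      coe_el c.f c.hf c.hK p5']
    exact e'
  have he : s.e = t.e := by
    have h1 : P 0 (-s.e) * (P 0 (-t.e))⁻¹ = (R s)⁻¹ * R t := by
      rw [mul_inv_eq_iff_eq_mul, mul_assoc, ← e2, inv_mul_cancel_left]
    have h2 : el c.f q 0 (-s.e + t.e) ∈ lay c.f 1 := by
      rw [el_add c.f c.hf c.hK (p0 _) (p0 _), show el c.f q 0 t.e = (P 0 (-t.e))⁻¹ by
        show _ = (el c.f q 0 (-t.e))⁻¹
        rw [el_neg c.f c.hf c.hK (p0 _), inv_inv]]
      show P 0 (-s.e) * _ ∈ _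
      rw [h1]
      exact lay_anti c.f (by norm_num) (mul_mem (inv_mem (hR s hs)) (hR t ht))
    linear_combination -(el_eq_zero c.f c.hf c.hK (p0 _) h2)
  rw [he] at e2
  have e3 := mul_right_cancel e2
  obtain ⟨h2, e4⟩ := c.peel (p2 _) (p2 _) (mul_mem (hp 3 (p3 _) 3 le_rfl)
      (mul_mem (hp 4 p4 3 (by decide)) (hp 5 p5 3 (by decide))))
    (mul_mem (hp 3 (p3 _) 3 le_rfl) (mul_mem (hp 4 p4' 3 (by decide)) (hp 5 p5' 3 (by decide)))) e3
  obtain ⟨h3, e5⟩ := c.peel (p3 _) (p3 _) (mul_mem (hp 4 p4 4 le_rfl) (hp 5 p5 4 (by decide)))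
    (mul_mem (hp 4 p4' 4 le_rfl) (hp 5 p5' 4 (by decide))) e4
  obtain ⟨h4, e6⟩ := c.peel p4 p4' (hp 5 p5 5 le_rfl) (hp 5 p5' 5 le_rfl) e5
  obtain ⟨h5, -⟩ := c.peel p5 p5' (x := 1) (y := 1) (one_mem _) (one_mem _) (by rw [mul_one, mul_one]; exact e6)
  obtain ⟨sc, sg, sh, sk, se⟩ := s
  obtain ⟨tc, tg, th', tk, te⟩ := t
  simp only [_root_.neg_inj] at h2 h3 h4 h5 he
  subst h2; subst h3; subst h4; subst h5; subst he
  rfl

theorem ok_mul {a b : St K} (ha : c.Ok a) (hb : c.Ok b) : c.Ok (mulF c.f a b) := by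
  refine ⟨?_, ?_⟩
  · simp only [mulF, tr3, map_add, map_mul, map_sub, c.hf3, ha.1, hb.1]; ring
  · simp only [mulF, tr3, map_add, map_mul, map_sub, c.hf3, ha.2, hb.2]; ring

theorem ok_low {a : c.k} {s : St K} (hs : c.Ok s) : c.Ok (lowF c.f (a : K) s) := by
  refine ⟨?_, ?_⟩
  · simp only [lowF, nm3, map_add, map_mul, map_sub, c.hf3, c.fix_k, hs.1]; ring
  · simp only [lowF, nm3, tr3, map_add, map_mul, map_sub, c.hf3, c.fix_k, hs.1, hs.2]; ring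

theorem ok_upp {a : c.k} {s : St K} (hs : c.Ok s) : c.Ok (uppF c.f (a : K) s) := by
  refine ⟨?_, ?_⟩
  · simp only [uppF, nm3, tr3, map_add, map_mul, map_sub, c.hf3, c.fix_k, hs.1, hs.2]; ring
  · simp only [uppF, nm3, map_add, map_mul, map_sub, c.hf3, c.fix_k, hs.2]; ring

theorem ok_sev (t e : K) {s : St K} (hs : c.Ok s) :
    c.Ok { sevF c.f t s with e := e } ∧ Pf c.f t s ∈ fixFld c.f := by
  refine ⟨⟨hs.1, ?_⟩, ?_⟩
  · simp only [sevF, nm3, tr3, map_add, map_mul, map_sub, map_ofNat, c.hf3, hs.1, hs.2]; ring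
  · rw [mem_fixFld c.f c.hf, ← c.hf]
    simp only [Pf, nm3, tr3, map_add, map_mul, c.hf3, hs.1]; ring

theorem neg_zero' : neg c.f (⟨0, 0, 0, 0, 0⟩ : St K) = 1 := by
  simp only [neg, W, E, map_zero, neg_zero, X_zero' (show 4 < 24 by omega), X_zero' (show 7 < 24 by omega),
    X_zero' (show 8 < 24 by omega), X_zero' (show 9 < 24 by omega), X_zero' (show 6 < 24 by omega),
    X_zero' (show 3 < 24 by omega), X_zero' (show 2 < 24 by omega), X_zero' (show 1 < 24 by omega),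
    X_zero' (show 0 < 24 by omega), X_zero' (show 5 < 24 by omega), X_zero' (show 10 < 24 by omega),
    X_zero' (show 11 < 24 by omega), mul_one]

/-- The negative radical. -/
noncomputable def N : Subgroup (GL chevD4.Idx K) :=
  let M : Submonoid (GL chevD4.Idx K) :=
    { carrier := {x | ∃ s, c.Ok s ∧ x = neg c.f s}
      one_mem' := ⟨⟨0, 0, 0, 0, 0⟩, ⟨map_zero _, map_zero _⟩, c.neg_zero'.symm⟩
      mul_mem' := by
        rintro _ _ ⟨a, ha, rfl⟩ ⟨b, hb, rfl⟩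
        exact ⟨mulF c.f a b, c.ok_mul ha hb, mul_eq c.hf3 a b⟩ }
  { M with
    inv_mem' := fun {x} hx => by
      have h : x⁻¹ = x ^ (orderOf x - 1) := by
        refine inv_eq_of_mul_eq_one_right ?_
        rw [← pow_succ', Nat.sub_add_cancel (orderOf_pos x), pow_orderOf_eq_one]
      show x⁻¹ ∈ M
      exact h ▸ pow_mem hx _ }

theorem mem_N {x : GL chevD4.Idx K} : x ∈ c.N ↔ ∃ s, c.Ok s ∧ x = neg c.f s := Iff.rfl

theorem N_le_Gr : c.N ≤ c.Gr := fun _ ⟨_, hs, e⟩ => e ▸ c.neg_mem hs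

/-- The positive radical. -/
noncomputable def Np : Subgroup (GL chevD4.Idx K) := c.N.comap (MulAut.conj (n0 K)).toMonoidHom

theorem mem_Np {x : GL chevD4.Idx K} : x ∈ c.Np ↔ n0 K * x * (n0 K)⁻¹ ∈ c.N := Iff.rfl

theorem Np_le_Gr : c.Np ≤ c.Gr := fun x hx => by
  have h : (n0 K)⁻¹ * (n0 K * x * (n0 K)⁻¹) * n0 K ∈ c.Gr :=
    mul_mem (mul_mem (inv_mem c.n0_mem) (c.N_le_Gr hx)) c.n0_mem
  rwa [show (n0 K)⁻¹ * (n0 K * x * (n0 K)⁻¹) * n0 K = x by group] at h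

theorem low_conj (a : c.k) (s : St K) :
    mid c.f (low a) * neg c.f s * (mid c.f (low a))⁻¹ = neg c.f (lowF c.f (a : K) s) := by
  rw [mid_low, show d4m2 = 9 by decide, mul_inv_eq_iff_eq_mul]
  exact low_eq c.hf3 (c.fix_k a) s

theorem upp_conj (a : c.k) (s : St K) :
    mid c.f (up a) * neg c.f s * (mid c.f (up a))⁻¹ = neg c.f (uppF c.f (a : K) s) := by
  rw [mid_up (q := q) c.f c.hf, mul_inv_eq_iff_eq_mul]
  simp only [D4Root.ev, word, List.map_cons, List.map_nil, List.prod_cons, List.prod_nil, mul_one]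
  exact upp_eq c.hf3 (c.fix_k a) s

/-- The scaling by a torus element. -/
noncomputable def ttF (v : Kˣ) (u : (c.k)ˣ) (s : St K) : St K :=
  let z := fun k => chi q k ((v⁻¹ : Kˣ) : K) (((u⁻¹ : (c.k)ˣ) : c.k) : K)
  ⟨z 2 * s.c, z 3 * s.g, z 4 * s.h, z 5 * s.k, z 0 * s.e⟩

theorem tt_conj (v : Kˣ) (u : (c.k)ˣ) (s : St K) :
    c.tt v u * neg c.f s * (c.tt v u)⁻¹ = neg c.f (c.ttF v u s) := by
  rw [c.neg_eq, c.neg_eq]
  have e : c.tt v u * n0 K = n0 K * c.tt v⁻¹ u⁻¹ := by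
    have h := c.n0_tt v⁻¹ u⁻¹
    rw [inv_inv, inv_inv, mul_inv_eq_iff_eq_mul] at h
    exact h.symm
  have hc : ∀ (k : Fin 6) (t : K), c.tt v⁻¹ u⁻¹ * D4Root.ev q k t * (c.tt v⁻¹ u⁻¹)⁻¹ =
      D4Root.ev q k (chi q k ((v⁻¹ : Kˣ) : K) (((u⁻¹ : (c.k)ˣ) : c.k) : K) * t) := fun k t => by
    rw [tt, th_conj c.f c.hf c.hK' (c.iu_pow _)]; rfl
  calc c.tt v u * (n0 K * posW q s * (n0 K)⁻¹) * (c.tt v u)⁻¹
      = (c.tt v u * n0 K) * posW q s * ((c.tt v u) * n0 K)⁻¹ := by group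
    _ = n0 K * (MulAut.conj (c.tt v⁻¹ u⁻¹) (posW q s)) * (n0 K)⁻¹ := by rw [e, MulAut.conj_apply]; group
    _ = _ := by
      simp only [posW, map_mul, ttF]
      simp only [MulAut.conj_apply, hc, mul_neg]

theorem ok_tt {v : Kˣ} {u : (c.k)ˣ} {s : St K} (hs : c.Ok s) : c.Ok (c.ttF v u s) := by
  have h := fun k => chi_par c.hK (c.iu_pow u⁻¹) (v := v⁻¹) k
  refine ⟨?_, ?_⟩
  · simp only [ttF, map_mul, hs.1]
    rw [c.hf]
    exact congrArg (· * s.h) (h 4 (by decide))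
  · simp only [ttF, map_mul, hs.2]
    rw [c.hf]
    exact congrArg (· * s.k) (h 5 (by decide))

theorem tt_norm (v : Kˣ) (u : (c.k)ˣ) : c.tt v u ∈ Subgroup.normalizer (c.N : Set (GL chevD4.Idx K)) :=
  finite_normalizer (by
    rintro _ ⟨s, hs, rfl⟩
    exact ⟨_, c.ok_tt hs, c.tt_conj v u s⟩)

theorem mid_norm (S : SL(2, c.k)) : mid c.f S ∈ Subgroup.normalizer (c.N : Set (GL chevD4.Idx K)) := by
  have htop : (Subgroup.normalizer (c.N : Set (GL chevD4.Idx K))).comap (mid c.f) = (⊤ : Subgroup SL(2, c.k)) :=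
    sl2_closure (fun t => finite_normalizer (by
        rintro _ ⟨s, hs, rfl⟩
        exact ⟨_, c.ok_upp hs, c.upp_conj t s⟩))
      (fun t => finite_normalizer (by
        rintro _ ⟨s, hs, rfl⟩
        exact ⟨_, c.ok_low hs, c.low_conj t s⟩))
  exact (htop ▸ Subgroup.mem_top S : S ∈ (Subgroup.normalizer (c.N : Set (GL chevD4.Idx K))).comap (mid c.f))

/-- The elements of the Levi subgroup. -/
noncomputable def Lv (v : Kˣ) (S : SL(2, c.k)) : GL chevD4.Idx K := c.tt v (c.nmHom v) * mid c.f S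

theorem Lv_mem (v : Kˣ) (S : SL(2, c.k)) : c.Lv v S ∈ c.Gr := mul_mem (c.tt_mem _ _) (c.mid_mem_Gr _)

theorem Lv_norm (v : Kˣ) (S : SL(2, c.k)) : c.Lv v S ∈ Subgroup.normalizer (c.N : Set (GL chevD4.Idx K)) :=
  mul_mem (c.tt_norm _ _) (c.mid_norm _)

theorem Lv_one (S : SL(2, c.k)) : c.Lv 1 S = mid c.f S := by rw [Lv, map_one, c.tt_one, one_mul]

/-- The character of the middle class as a unit. -/
noncomputable def ch1u (v : Kˣ) (u : (c.k)ˣ) : (c.k)ˣ := Units.mk0 (c.ch1 v u) (c.ch1_ne v u)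

theorem tt_mid (v : Kˣ) (u : (c.k)ˣ) (S : SL(2, c.k)) :
    c.tt v u * mid c.f S * (c.tt v u)⁻¹ = mid c.f (scl (c.ch1u v u) S) := by
  let a : SL(2, c.k) →* GL chevD4.Idx K := (MulAut.conj (c.tt v u)).toMonoidHom.comp (mid c.f)
  let b : SL(2, c.k) →* GL chevD4.Idx K := (mid c.f).comp (scl (c.ch1u v u))
  have h : a.eqLocus b = ⊤ := sl2_closure (fun t => by
      show c.tt v u * mid c.f (up t) * (c.tt v u)⁻¹ = mid c.f (scl _ (up t))
      rw [c.tt_mid_up]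
      congr 1
      refine Subtype.ext ?_
      simp only [scl_val, TorusD4.up_val]
      ext i j; fin_cases i <;> fin_cases j <;> simp [ch1u])
    (fun t => by
      show c.tt v u * mid c.f (low t) * (c.tt v u)⁻¹ = mid c.f (scl _ (low t))
      rw [c.tt_mid_low]
      congr 1
      refine Subtype.ext ?_
      simp only [scl_val, TorusD4.low_val]
      ext i j; fin_cases i <;> fin_cases j <;> simp [ch1u])
  exact (h ▸ Subgroup.mem_top S : S ∈ a.eqLocus b)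

theorem ch1u_nm (v : Kˣ) : c.ch1u v (c.nmHom v) = c.nmHom v := by
  refine Units.ext ?_
  show c.ch1 v (c.nmHom v) = _
  rw [c.coe_ch1', sq, mul_div_assoc, div_self (c.nmHom v).ne_zero, mul_one]

theorem Lv_mul (v w : Kˣ) (S T : SL(2, c.k)) :
    c.Lv v S * c.Lv w T = c.Lv (v * w) (scl (c.nmHom w)⁻¹ S * T) := by
  have e : mid c.f S * c.tt w (c.nmHom w) = c.tt w (c.nmHom w) * mid c.f (scl (c.nmHom w)⁻¹ S) := by
    have h := c.tt_mid w⁻¹ (c.nmHom w⁻¹) S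
    rw [c.ch1u_nm, map_inv, ← c.tt_inv, inv_inv] at h
    rw [← h]; group
  rw [Lv, Lv, Lv, show c.tt v (c.nmHom v) * mid c.f S * (c.tt w (c.nmHom w) * mid c.f T) =
    c.tt v (c.nmHom v) * (mid c.f S * c.tt w (c.nmHom w)) * mid c.f T by group, e, map_mul, map_mul, c.tt_mul]
  group

theorem tt_eq_Lv (v : Kˣ) (u : (c.k)ˣ) : c.tt v u = c.Lv v (dia ((c.nmHom v)⁻¹ * u)) := by
  rw [Lv, c.mid_dia_eq, ← c.tt_mul, mul_one, mul_inv_cancel_left]

theorem n0_Lv (v : Kˣ) (S : SL(2, c.k)) :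
    n0 K * c.Lv v S * (n0 K)⁻¹ = c.Lv v⁻¹ (wel c.k * S * (wel c.k)⁻¹) := by
  rw [Lv, show n0 K * (c.tt v (c.nmHom v) * mid c.f S) * (n0 K)⁻¹ = (n0 K * c.tt v (c.nmHom v) * (n0 K)⁻¹) *
    (n0 K * mid c.f S * (n0 K)⁻¹) by group, c.n0_tt, c.n0_mid, Lv, map_inv]

theorem Lv_conj_Np (v : Kˣ) (S : SL(2, c.k)) {b : GL chevD4.Idx K} (hb : b ∈ c.Np) :
    c.Lv v S * b * (c.Lv v S)⁻¹ ∈ c.Np := by
  rw [c.mem_Np, show n0 K * (c.Lv v S * b * (c.Lv v S)⁻¹) * (n0 K)⁻¹ =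
    (n0 K * c.Lv v S * (n0 K)⁻¹) * (n0 K * b * (n0 K)⁻¹) * (n0 K * c.Lv v S * (n0 K)⁻¹)⁻¹ by group, c.n0_Lv]
  exact (Subgroup.mem_normalizer_iff.1 (c.Lv_norm _ _) _).1 hb

theorem tri_low_neg (e : K) : tri c.f (low e) = neg c.f (⟨0, 0, 0, 0, e⟩ : St K) := by
  rw [tri_low c.f c.hf c.hK, ← c.hf, ← c.hf, show d4m1 = 5 by decide, show d4m3 = 10 by decide,
    show d4m4 = 11 by decide]
  simp only [neg, W, E, map_zero, neg_zero, X_zero' (show 4 < 24 by omega), X_zero' (show 7 < 24 by omega),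
    X_zero' (show 8 < 24 by omega), X_zero' (show 9 < 24 by omega), X_zero' (show 6 < 24 by omega),
    X_zero' (show 3 < 24 by omega), X_zero' (show 2 < 24 by omega), X_zero' (show 1 < 24 by omega),
    X_zero' (show 0 < 24 by omega), one_mul]

theorem tri_up_Np (t : K) : tri c.f (up t) ∈ c.Np := by
  rw [c.mem_Np]
  refine ⟨⟨0, 0, 0, 0, -t⟩, ⟨map_zero _, map_zero _⟩, ?_⟩
  rw [← c.tri_low_neg, c.tri_low_eq, _root_.neg_neg, tri_up c.f c.hf c.hK]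

theorem split_e (s : St K) : neg c.f s = neg c.f { s with e := 0 } * tri c.f (low s.e) := by
  rw [c.tri_low_neg, mul_eq c.hf3]
  simp only [mulF, tr3, map_zero, mul_zero, zero_mul, add_zero, zero_add, sub_zero]

/-- A conjugate of `g` of given coordinates. -/
def Rep (g : GL chevD4.Idx K) (v : Kˣ) (S : SL(2, c.k)) (s : St K) : Prop :=
  c.Ok s ∧ ∃ y ∈ c.Gr, ∃ b ∈ c.Np, y * g * y⁻¹ = neg c.f s * c.Lv v S * b

theorem rep_conj {g : GL chevD4.Idx K} {v w : Kˣ} {S R : SL(2, c.k)} {s s' : St K} (h : c.Rep g v S s)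
    (hs' : c.Ok s') (e : c.Lv w R * neg c.f s * (c.Lv w R)⁻¹ = neg c.f s') {v' : Kˣ} {S' : SL(2, c.k)}
    (e' : c.Lv w R * c.Lv v S = c.Lv v' S' * c.Lv w R) : c.Rep g v' S' s' := by
  obtain ⟨-, y, hy, b, hb, hrep⟩ := h
  refine ⟨hs', c.Lv w R * y, mul_mem (c.Lv_mem _ _) hy, c.Lv w R * b * (c.Lv w R)⁻¹, c.Lv_conj_Np w R hb, ?_⟩
  rw [show c.Lv w R * y * g * (c.Lv w R * y)⁻¹ = c.Lv w R * (y * g * y⁻¹) * (c.Lv w R)⁻¹ by group, hrep,
    ← e, show c.Lv v' S' = c.Lv w R * c.Lv v S * (c.Lv w R)⁻¹ by rw [e', mul_inv_cancel_right]]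
  group

theorem rep_low {g : GL chevD4.Idx K} {v : Kˣ} {S : SL(2, c.k)} {s : St K} (h : c.Rep g v S s) (a : c.k) :
    c.Rep g v (scl (c.nmHom v)⁻¹ (low a) * S * low (-a)) (lowF c.f (a : K) s) := by
  refine c.rep_conj (w := 1) (R := low a) h (c.ok_low h.1) (by rw [c.Lv_one, c.low_conj]) ?_
  rw [c.Lv_mul, c.Lv_mul, one_mul, mul_one, map_one, inv_one, scl_one, ← low_inv]
  congr 1; group

theorem rep_upp {g : GL chevD4.Idx K} {v : Kˣ} {S : SL(2, c.k)} {s : St K} (h : c.Rep g v S s) (a : c.k) :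
    c.Rep g v (scl (c.nmHom v)⁻¹ (up a) * S * up (-a)) (uppF c.f (a : K) s) := by
  refine c.rep_conj (w := 1) (R := up a) h (c.ok_upp h.1) (by rw [c.Lv_one, c.upp_conj]) ?_
  rw [c.Lv_mul, c.Lv_mul, one_mul, mul_one, map_one, inv_one, scl_one, ← up_inv]
  congr 1; group

theorem rep_scale {g : GL chevD4.Idx K} {v : Kˣ} {S : SL(2, c.k)} {s : St K} (h : c.Rep g v S s) (w : Kˣ)
    (a : (c.k)ˣ) :
    c.Rep g v (scl (c.nmHom w) (scl (c.nmHom v)⁻¹ (dia ((c.nmHom w)⁻¹ * a)) * S *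
      (dia ((c.nmHom w)⁻¹ * a))⁻¹)) (c.ttF w a s) := by
  set R : SL(2, c.k) := dia ((c.nmHom w)⁻¹ * a)
  have hS : c.Lv w R * c.Lv v S = c.Lv v (scl (c.nmHom w) (scl (c.nmHom v)⁻¹ R * S * R⁻¹)) * c.Lv w R := by
    rw [c.Lv_mul, c.Lv_mul, mul_comm w v]
    congr 1
    rw [← map_inv, show ∀ T : SL(2, c.k), scl (c.nmHom w)⁻¹ (scl (c.nmHom w) T) = T from fun T => by
      refine Subtype.ext ?_
      have hw := (c.nmHom w).ne_zero
      ext i j; fin_cases i <;> fin_cases j <;> simp [scl_val, hw], inv_mul_cancel_right]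
  refine c.rep_conj (w := w) (R := R) h (c.ok_tt h.1) ?_ hS
  rw [← c.tt_eq_Lv]; exact c.tt_conj w a s

theorem rep_move {g : GL chevD4.Idx K} {v : Kˣ} {S : SL(2, c.k)} {s : St K} (h : c.Rep g v S s) (t : K)
    (w : Kˣ) (hw : (w : K) = 1 + t * s.e) :
    ∃ P : c.k, (P : K) = Pf c.f t s ∧
      c.Rep g (w * v) (scl (c.nmHom (w * v))⁻¹ (low P) * (dia (c.nmHom w)⁻¹ * S))
        (moveF c.f t (w : K) s) := by
  obtain ⟨hs, y, hy, b, hb, hrep⟩ := h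
  obtain ⟨hk, hP⟩ := c.ok_sev t 0 hs
  set P : c.k := ⟨Pf c.f t s, hP⟩ with hPdef
  set s0 : St K := { s with e := 0 } with hs0
  set e' : St K := ⟨0, 0, 0, 0, s.e / (w : K)⟩ with he'
  set X0 := tri c.f (up t) with hX0
  have hm : moveF c.f t (w : K) s = mulF c.f (sevF c.f t s0) (lowF c.f (P : K) e') := rfl
  have hok : c.Ok (moveF c.f t (w : K) s) := by
    rw [hm]
    exact c.ok_mul hk (c.ok_low ⟨map_zero _, map_zero _⟩)
  refine ⟨P, rfl, hok, ?_⟩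
  have hX : X0 = X chevD4 18 t * (X chevD4 13 (c.f t) * X chevD4 12 (c.f (c.f t))) := by
    rw [hX0, tri_up c.f c.hf c.hK]
    simp only [D4Root.ev, word, List.map_cons, List.map_nil, List.prod_cons, List.prod_nil, mul_one, c.hf]
  have e1 : X0 * neg c.f s0 = neg c.f (sevF c.f t s0) * mid c.f (low P) * X0 := by
    rw [hX, mid_low, show d4m2 = 9 by decide]
    exact sev_eq c.hf3 t s.c s.g s.h s.k hs.1
  have e2 : X0 * tri c.f (low s.e) = tri c.f (low (s.e / w)) * c.Lv w (dia (c.nmHom w)⁻¹) *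
      tri c.f (up (t / w)) := by
    rw [hX0, ← map_mul, up_mul_low w hw, map_mul, map_mul, c.tri_dia_eq, c.tt_eq_Lv, mul_one]
  have e3 : neg c.f (sevF c.f t s0) * mid c.f (low P) * tri c.f (low (s.e / w)) =
      neg c.f (moveF c.f t (w : K) s) * mid c.f (low P) := by
    rw [hm, ← mul_eq c.hf3, ← c.low_conj P, c.tri_low_neg, mul_assoc _ _ (mid c.f (low P)), inv_mul_cancel_right,
      ← mul_assoc]
  refine ⟨X0 * y, mul_mem (c.tri_mem_Gr _) hy,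
    (c.Lv v S)⁻¹ * tri c.f (up (t / w)) * c.Lv v S * b * X0⁻¹, ?_, ?_⟩
  · refine mul_mem (mul_mem ?_ hb) (inv_mem (c.tri_up_Np t))
    obtain ⟨v', S', e⟩ : ∃ v' S', (c.Lv v S)⁻¹ = c.Lv v' S' := by
      refine ⟨v⁻¹, (scl (c.nmHom v⁻¹)⁻¹ S)⁻¹, inv_eq_of_mul_eq_one_right ?_⟩
      rw [c.Lv_mul, mul_inv_cancel, mul_inv_cancel, c.Lv_one, map_one]
    have := c.Lv_conj_Np v' S' (c.tri_up_Np (t / w))
    rwa [← e, inv_inv] at this
  · rw [show X0 * y * g * (X0 * y)⁻¹ = X0 * (y * g * y⁻¹) * X0⁻¹ by group, hrep, c.split_e s,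
      show X0 * (neg c.f s0 * tri c.f (low s.e) * c.Lv v S * b) * X0⁻¹ =
        (X0 * neg c.f s0) * tri c.f (low s.e) * c.Lv v S * b * X0⁻¹ by group, e1,
      show neg c.f (sevF c.f t s0) * mid c.f (low P) * X0 * tri c.f (low s.e) =
        neg c.f (sevF c.f t s0) * mid c.f (low P) * (X0 * tri c.f (low s.e)) by group, e2,
      ← mul_assoc, ← mul_assoc, e3]
    rw [← c.Lv_one (low P), show neg c.f (moveF c.f t (w : K) s) * c.Lv 1 (low P) *
        c.Lv w (dia (c.nmHom w)⁻¹) * tri c.f (up (t / w)) * c.Lv v S * b * X0⁻¹ =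
      neg c.f (moveF c.f t (w : K) s) * (c.Lv 1 (low P) * (c.Lv w (dia (c.nmHom w)⁻¹) * c.Lv v S)) *
        ((c.Lv v S)⁻¹ * tri c.f (up (t / w)) * c.Lv v S * b * X0⁻¹) by group, c.Lv_mul, c.Lv_mul, scl_dia,
      one_mul]

/-- An element of `V` along the middle class. -/
theorem split_V {a : GL chevD4.Idx K} (ha : a ∈ c.V) :
    ∃ s, c.Ok s ∧ ∃ x : c.k, a = neg c.f s * mid c.f (low x) := by
  have hu := c.n0inv_conj_V ha
  have hlist : sfx 0 = [18, 13, 12, 14, 19, 16, 15, 17, 20, 21, 22, 23] := by decide +kernel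
  have hn : (⟨(n0 K)⁻¹ * a * n0 K, hu.1⟩ : ↥(endoD4 c.f).fix) ∈ lay c.f 0 := Subgroup.mem_subgroupOf.2
    (gen_mono _ (fun r hr => by
      show r ∈ sfx 0
      rw [hlist]
      obtain ⟨h1, h2⟩ := List.mem_range'_1.1 hr
      interval_cases r <;> simp) hu.2)
  obtain ⟨t0, p0, h0⟩ := exists_coord c.f c.hf c.hK c.hq 0 hn
  obtain ⟨t1, p1, h1⟩ := exists_coord c.f c.hf c.hK c.hq 1 h0
  obtain ⟨t2, p2, h2⟩ := exists_coord c.f c.hf c.hK c.hq 2 h1
  obtain ⟨t3, p3, h3⟩ := exists_coord c.f c.hf c.hK c.hq 3 h2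
  obtain ⟨t4, p4, h4⟩ := exists_coord c.f c.hf c.hK c.hq 4 h3
  obtain ⟨t5, p5, h5⟩ := exists_coord c.f c.hf c.hK c.hq 5 h4
  rw [show ((5 : Fin 6) : ℕ) + 1 = 6 from rfl, lay_six, Subgroup.mem_bot] at h5
  have e := congrArg Subtype.val h5
  simp only [Subgroup.coe_mul, Subgroup.coe_inv, OneMemClass.coe_one, coe_el c.f c.hf c.hK p0,
    coe_el c.f c.hf c.hK p1, coe_el c.f c.hf c.hK p2, coe_el c.f c.hf c.hK p3, coe_el c.f c.hf c.hK p4,
    coe_el c.f c.hf c.hK p5] at e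
  set sF : St K := ⟨-t2, -t3, -t4, -t5, 0⟩ with hsF
  have hok : c.Ok sF := ⟨by rw [map_neg, c.hf, p4 (by decide)], by rw [map_neg, c.hf, p5 (by decide)]⟩
  have eF : neg c.f sF = n0 K * (D4Root.ev q 2 t2 * (D4Root.ev q 3 t3 * (D4Root.ev q 4 t4 * D4Root.ev q 5 t5))) *
      (n0 K)⁻¹ := by
    rw [c.neg_eq, hsF, posW]
    simp only [_root_.neg_neg, neg_zero, D4Root.ev_zero c.f c.hf, mul_one]
  have hk : -t1 ∈ fixFld c.f := (fixFld c.f).neg_mem ((mem_fixFld c.f c.hf).2 (p1 (by decide)))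
  have eX : mid c.f (low (⟨-t1, hk⟩ : c.k)) = n0 K * D4Root.ev q 1 t1 * (n0 K)⁻¹ := by
    rw [c.mid_low_eq]; simp
  have eE : neg c.f (⟨0, 0, 0, 0, -t0⟩ : St K) = n0 K * D4Root.ev q 0 t0 * (n0 K)⁻¹ := by
    rw [← c.tri_low_neg, c.tri_low_eq, _root_.neg_neg]
  refine ⟨mulF c.f ⟨0, 0, 0, 0, -t0⟩ (lowF c.f (-t1) sF),
    c.ok_mul ⟨map_zero _, map_zero _⟩ (c.ok_low (a := ⟨-t1, hk⟩) hok), ⟨-t1, hk⟩, ?_⟩
  rw [← mul_eq c.hf3]
  have hlc := c.low_conj ⟨-t1, hk⟩ sF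
  rw [show neg c.f (lowF c.f (-t1) sF) = neg c.f (lowF c.f ((⟨-t1, hk⟩ : c.k) : K) sF) from rfl, ← hlc, eX, eF, eE]
  have e' : (n0 K)⁻¹ * a * n0 K = D4Root.ev q 0 t0 * D4Root.ev q 1 t1 *
      (D4Root.ev q 2 t2 * (D4Root.ev q 3 t3 * (D4Root.ev q 4 t4 * D4Root.ev q 5 t5))) := by
    have h := e
    rw [inv_mul_eq_one, eq_inv_mul_iff_mul_eq, eq_inv_mul_iff_mul_eq, eq_inv_mul_iff_mul_eq, eq_inv_mul_iff_mul_eq,
      eq_inv_mul_iff_mul_eq] at h
    rw [← h]; group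
  calc a = n0 K * ((n0 K)⁻¹ * a * n0 K) * (n0 K)⁻¹ := by group
    _ = _ := by rw [e']; group

/-- The shape of the representatives given by the big cell. -/
theorem exists_rep {g : GL chevD4.Idx K} {v : Kˣ} {u : (c.k)ˣ} (h : c.InGauss g v u) :
    ∃ x z : c.k, ∃ s, c.Rep g v (scl (c.nmHom v)⁻¹ (low x) * dia ((c.nmHom v)⁻¹ * u) * up z) s := by
  obtain ⟨y, hy, a, ha, b, hb, hrep⟩ := h
  obtain ⟨sa, hsa, x, ea⟩ := c.split_V ha
  obtain ⟨sb, hsb, z, eb⟩ := c.split_V (c.n0_conj_U hb)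
  have hnb : (n0 K)⁻¹ * neg c.f sb * n0 K ∈ c.Np := ⟨sb, hsb, by simp [mul_assoc]⟩
  have ez : (n0 K)⁻¹ * mid c.f (low z) * n0 K = mid c.f (up (-z)) := by
    rw [c.mid_low_eq, mid_up (q := q) c.f c.hf]; push_cast; group
  refine ⟨x, -z, sa, hsa, y, hy,
    (mid c.f (up (-z)))⁻¹ * ((n0 K)⁻¹ * neg c.f sb * n0 K) * mid c.f (up (-z)), ?_, ?_⟩
  · have := c.Lv_conj_Np 1 (up (-z))⁻¹ hnb
    rwa [c.Lv_one, map_inv, inv_inv] at this
  · have eb' : b = ((n0 K)⁻¹ * neg c.f sb * n0 K) * mid c.f (up (-z)) := by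
      rw [← ez, show b = (n0 K)⁻¹ * (n0 K * b * (n0 K)⁻¹) * n0 K by group, eb]; group
    have eL : c.Lv v (scl (c.nmHom v)⁻¹ (low x) * dia ((c.nmHom v)⁻¹ * u) * up (-z)) =
        mid c.f (low x) * c.tt v u * mid c.f (up (-z)) := by
      rw [← c.Lv_one (low x), ← c.Lv_one (up (-z)), c.tt_eq_Lv, c.Lv_mul, c.Lv_mul, one_mul, mul_one, map_one,
        inv_one, scl_one]
    rw [hrep, ea, eb', eL]; group

/-- The vanishing of all coordinates. -/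
theorem neg_eq_one {s : St K} (hs : c.Ok s) : neg c.f s = 1 ↔ s = ⟨0, 0, 0, 0, 0⟩ :=
  ⟨fun e => c.neg_inj hs ⟨map_zero _, map_zero _⟩ (e.trans c.neg_zero'.symm), fun e => e ▸ c.neg_zero'⟩

theorem exists_rep_ne {g : GL chevD4.Idx K} (hg : g ∈ c.Gr) (hne : g ≠ 1) :
    ∃ v S s, c.Rep g v S s ∧ s ≠ ⟨0, 0, 0, 0, 0⟩ := by
  obtain ⟨v, u, hgu⟩ := c.exists_inGauss hg
  obtain ⟨x, z, s, hs, y, hy, b, hb, hrep⟩ := c.exists_rep hgu
  set S := scl (c.nmHom v)⁻¹ (low x) * dia ((c.nmHom v)⁻¹ * u) * up z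
  by_cases h0 : s = ⟨0, 0, 0, 0, 0⟩
  swap
  · exact ⟨v, S, s, ⟨hs, y, hy, b, hb, hrep⟩, h0⟩
  rw [h0, c.neg_zero', one_mul] at hrep
  set L := c.Lv v S
  by_cases hb1 : b = 1
  swap
  · obtain ⟨s', hs', es'⟩ := hb
    change n0 K * b * (n0 K)⁻¹ = _ at es'
    set L' := n0 K * L * (n0 K)⁻¹ with hL'
    have hL'e : L' = c.Lv v⁻¹ (wel c.k * S * (wel c.k)⁻¹) := c.n0_Lv v S
    obtain ⟨s2, hs2, e2⟩ := (Subgroup.mem_normalizer_iff.1 (c.Lv_norm v⁻¹ (wel c.k * S * (wel c.k)⁻¹)) _).1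
      (show neg c.f s' ∈ c.N from ⟨s', hs', rfl⟩)
    rw [← hL'e] at e2
    refine ⟨v⁻¹, wel c.k * S * (wel c.k)⁻¹, s2, ⟨hs2, n0 K * y, mul_mem c.n0_mem hy, 1, one_mem _, ?_⟩, ?_⟩
    · rw [mul_one, ← hL'e, ← e2, ← es', hL', show n0 K * y * g * (n0 K * y)⁻¹ =
        n0 K * (y * g * y⁻¹) * (n0 K)⁻¹ by group, hrep]
      group
    · intro h
      rw [h, c.neg_zero', conj_eq_one_iff, ← es', conj_eq_one_iff] at e2
      exact hb1 e2
  subst hb1
  rw [mul_one] at hrep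
  have key : ∀ s0 : St K, c.Ok s0 → L * neg c.f s0 * L⁻¹ ≠ neg c.f s0 →
      ∃ v S s, c.Rep g v S s ∧ s ≠ ⟨0, 0, 0, 0, 0⟩ := by
    intro s0 hs0 hne0
    have hm : L * (neg c.f s0)⁻¹ * L⁻¹ ∈ c.N :=
      (Subgroup.mem_normalizer_iff.1 (c.Lv_norm v S) _).1 (inv_mem ⟨s0, hs0, rfl⟩)
    obtain ⟨s2, hs2, e2⟩ := mul_mem (show neg c.f s0 ∈ c.N from ⟨s0, hs0, rfl⟩) hm
    refine ⟨v, S, s2, ⟨hs2, neg c.f s0 * y, mul_mem (c.neg_mem hs0) hy, 1, one_mem _, ?_⟩, fun h => ?_⟩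
    · rw [mul_one, ← e2, show neg c.f s0 * y * g * (neg c.f s0 * y)⁻¹ =
        neg c.f s0 * (y * g * y⁻¹) * (neg c.f s0)⁻¹ by group, hrep]
      show neg c.f s0 * L * (neg c.f s0)⁻¹ = neg c.f s0 * (L * (neg c.f s0)⁻¹ * L⁻¹) * L
      group
    · rw [h, c.neg_zero', ← inv_inj, inv_one] at e2
      refine hne0 ?_
      rwa [show (neg c.f s0 * (L * (neg c.f s0)⁻¹ * L⁻¹))⁻¹ = (L * neg c.f s0 * L⁻¹) * (neg c.f s0)⁻¹ by group,
        mul_inv_eq_one] at e2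
  have eL : L = mid c.f (low x) * c.tt v u * mid c.f (up z) := by
    show c.Lv v S = _
    rw [← c.Lv_one (low x), ← c.Lv_one (up z), c.tt_eq_Lv, c.Lv_mul, c.Lv_mul, one_mul, mul_one, map_one,
      inv_one, scl_one]
  have hconj : ∀ s0, L * neg c.f s0 * L⁻¹ = neg c.f (lowF c.f (x : K) (c.ttF v u (uppF c.f (z : K) s0))) := by
    intro s0
    rw [eL, ← c.low_conj x, ← c.tt_conj v u, ← c.upp_conj z]; group
  by_contra hno
  have hfix : ∀ s0, c.Ok s0 → lowF c.f (x : K) (c.ttF v u (uppF c.f (z : K) s0)) = s0 := fun s0 hs0 =>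
    c.neg_inj (c.ok_low (c.ok_tt (c.ok_upp hs0))) hs0 (by
      rw [← hconj]; by_contra h; exact hno (key s0 hs0 h))
  have h1 := hfix ⟨1, 0, 0, 0, 0⟩ ⟨map_zero _, map_zero _⟩
  have h2 := hfix ⟨0, 0, 0, 0, 1⟩ ⟨map_zero _, map_zero _⟩
  simp only [lowF, uppF, ttF, St.mk.injEq] at h1 h2
  obtain ⟨h1c, -, -, -, h1e⟩ := h1
  obtain ⟨h2c, -, -, -, h2e⟩ := h2
  simp only [mul_zero, sub_zero, mul_one, zero_sub] at h1c h1e h2c h2e
  rw [h2e] at h1e h2c h1c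
  have hz : z = 0 := by
    refine Subtype.ext ?_
    show (z : K) = 0
    linear_combination -h1e
  have hx : x = 0 := by
    refine Subtype.ext ?_
    show (x : K) = 0
    linear_combination -h2c
  have h3 : chi q 2 ((v⁻¹ : Kˣ) : K) (((u⁻¹ : (c.k)ˣ) : c.k) : K) = 1 := by
    rw [hx] at h1c; simpa using h1c
  have hv := v⁻¹.ne_zero
  have hu : (((u⁻¹ : (c.k)ˣ) : c.k) : K) ≠ 0 := by simpa using u.ne_zero
  have h4 : c.ch0 v⁻¹ u⁻¹ = 1 := h2e
  have h5 : c.ch1 v⁻¹ u⁻¹ = 1 := by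
    refine Subtype.ext ?_
    rw [c.coe_ch1]
    show chi q 1 _ _ = (1 : K)
    rw [← h3, ← one_mul (chi q 1 _ _), ← h4]
    simp [chi, ch0]
    field_simp
  rw [c.ch0_inv, inv_eq_one] at h4
  rw [c.ch1_inv, inv_eq_one] at h5
  apply hne
  rw [eL, hx, hz, show low (0 : c.k) = 1 from Subtype.ext (by rw [TorusD4.low_val]; simp [Matrix.one_fin_two]),
    up_zero, map_one, one_mul, mul_one, c.tt_eq_one h4 h5, conj_eq_one_iff] at hrep
  exact hrep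

/-- A finite subgroup without fixed points under an element is in its class times the element. -/
theorem cover_of_rep {g x : GL chevD4.Idx K} {v : Kˣ} {S : SL(2, c.k)} {s : St K} (h : c.Rep g v S s)
    {v1 v2 : Kˣ} {S1 S2 : SL(2, c.k)} (e : c.Lv v1 S1 * c.Lv v2 S2 = c.Lv v S)
    (f1 : ∀ n ∈ c.N, Commute n (c.Lv v1 S1) → n = 1)
    (f2 : ∀ n ∈ c.N, Commute n (c.Lv v2⁻¹ (wel c.k * S2 * (wel c.k)⁻¹)) → n = 1)
    (c1 : ∃ a ∈ c.Gr, a * x * a⁻¹ = c.Lv v1 S1) (c2 : ∃ a ∈ c.Gr, a * x * a⁻¹ = c.Lv v2 S2) :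
    ∃ a ∈ c.Gr, ∃ b ∈ c.Gr, g = (a * x * a⁻¹) * (b * x * b⁻¹) := by
  obtain ⟨hs, y, hy, b, hb, hrep⟩ := h
  obtain ⟨a1, ha1, e1⟩ := c1
  obtain ⟨a2, ha2, e2⟩ := c2
  obtain ⟨n, hn, en⟩ := exists_conj_of_fix (fun u hu => (Subgroup.mem_normalizer_iff.1 (c.Lv_norm v1 S1) u).1 hu)
    f1 (show neg c.f s ∈ c.N from ⟨s, hs, rfl⟩)
  have hf2 : ∀ u ∈ c.Np, Commute u (c.Lv v2 S2) → u = 1 := fun u hu hc => by
    have h1 := hc.map (MulAut.conj (n0 K)).toMonoidHom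
    simp only [MulEquiv.coe_toMonoidHom, MulAut.conj_apply, c.n0_Lv] at h1
    exact conj_eq_one_iff.1 (f2 _ hu h1)
  obtain ⟨m, hm, em⟩ := exists_conj_of_fix (fun u hu => c.Lv_conj_Np v2 S2 hu) hf2
    (c.Lv_conj_Np v2 S2 hb)
  refine ⟨y⁻¹ * n * a1, mul_mem (mul_mem (inv_mem hy) (c.N_le_Gr hn)) ha1,
    y⁻¹ * m * a2, mul_mem (mul_mem (inv_mem hy) (c.Np_le_Gr hm)) ha2, ?_⟩
  calc g = y⁻¹ * (y * g * y⁻¹) * y := by group
    _ = y⁻¹ * ((neg c.f s * c.Lv v1 S1) * (c.Lv v2 S2 * b * (c.Lv v2 S2)⁻¹ * c.Lv v2 S2)) * y := by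
      rw [hrep, ← e]; group
    _ = _ := by rw [← en, ← em, ← e1, ← e2]; group

end Ctx

end CfsgLib.ClassSquare.Triality
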