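import Cfsg.Agent.Lib.ClassSquare.TrialitySmallCover

/-!
The square of some class of elements of order prime to the characteristic covers `³D₄(q)` apart from
the identity.
-/

set_option autoImplicit false
set_option linter.unusedSectionVars false
set_option maxRecDepth 100000

namespace CfsgLib.ClassSquare.Triality

open scoped MatrixGroups Polynomial

variable {K : Type*} [Field K] [Fintype K]

theorem exists_root_two [CharP K 2] (hK : Fintype.card K = 8) : ∃ α : K, α ^ 3 = 1 + 1 * α := by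
  classical
  obtain ⟨g, -, hg⟩ : ∃ g : K, g ∈ (Finset.univ : Finset K) ∧ g ∉ ({0, 1} : Finset K) :=
    Finset.exists_mem_notMem_of_card_lt_card (lt_of_le_of_lt Finset.card_le_two (by rw [Finset.card_univ, hK]; norm_num))
  simp only [Finset.mem_insert, Finset.mem_singleton, not_or] at hg
  have h7 : g ^ 7 = 1 := by
    have := FiniteField.pow_card_sub_one_eq_one g hg.1
    rwa [hK] at this
  have h2 : (2 : K) = 0 := CharP.cast_eq_zero K 2
  have h : (g - 1) * ((g ^ 3 + g + 1) * (g ^ 3 + g ^ 2 + 1)) = 0 := by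
    linear_combination h7 + (g ^ 4 - g ^ 3) * h2
  rcases mul_eq_zero.1 ((mul_eq_zero.1 h).resolve_left (sub_ne_zero.2 hg.2)) with e | e
  · exact ⟨g, by linear_combination e - (1 + g) * h2⟩
  · refine ⟨g⁻¹, ?_⟩
    have hg0 := hg.1
    field_simp
    linear_combination -e + h2

theorem exists_root_three [CharP K 3] (hK : Fintype.card K = 27) : ∃ α : K, α ^ 3 = 2 + 1 * α := by
  classical
  have h3 : (3 : K) = 0 := CharP.cast_eq_zero K 3
  by_contra hno
  push Not at hno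
  let Tp : K[X] := Polynomial.X
  let Q : K[X] := (Tp ^ 8 - Tp ^ 7 + Tp ^ 6 - Tp ^ 5 + Tp ^ 4 - Tp ^ 3 + Polynomial.C 2 * Tp ^ 2 - Polynomial.C 2 * Tp).comp
    (Tp ^ 3 - Tp)
  have hroot : ∀ t : K, Q.eval t = 0 := fun t => by
    have ht : t ^ 27 = t := by
      have := FiniteField.pow_card t
      rwa [hK] at this
    set s := t ^ 3 - t with hs
    have hs3 : s ^ 3 = t ^ 9 - t ^ 3 := by
      rw [hs]; linear_combination (-(t ^ 7) + t ^ 5) * h3
    have hs9 : s ^ 9 = t ^ 27 - t ^ 9 := by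
      have e : s ^ 9 = (s ^ 3) ^ 3 := by ring
      rw [e, hs3]
      linear_combination (-(t ^ 21) + t ^ 15) * h3
    have h1 : s + 1 ≠ 0 := fun e => hno t (by rw [hs] at e; linear_combination e - h3)
    have key : (s + 1) * (s ^ 8 - s ^ 7 + s ^ 6 - s ^ 5 + s ^ 4 - s ^ 3 + 2 * s ^ 2 - 2 * s) = 0 := by
      linear_combination hs9 + hs3 + ht - s * h3 + hs
    simp only [Q, Tp, Polynomial.eval_comp, Polynomial.eval_add, Polynomial.eval_sub, Polynomial.eval_pow,
      Polynomial.eval_mul, Polynomial.eval_C, Polynomial.eval_X, ← hs]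
    exact (mul_eq_zero.1 key).resolve_left h1
  have hdeg : Q.natDegree = 24 := by
    have h1 : (Tp ^ 8 - Tp ^ 7 + Tp ^ 6 - Tp ^ 5 + Tp ^ 4 - Tp ^ 3 + Polynomial.C 2 * Tp ^ 2 -
        Polynomial.C 2 * Tp : K[X]).natDegree = 8 := by
      simp only [Tp]; compute_degree!
    have h2 : (Tp ^ 3 - Tp : K[X]).natDegree = 3 := by simp only [Tp]; compute_degree!
    rw [Polynomial.natDegree_comp, h1, h2]
  have hQ : Q ≠ 0 := fun e => by rw [e, Polynomial.natDegree_zero] at hdeg; omega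
  have := Polynomial.eq_zero_of_natDegree_lt_card_of_eval_eq_zero Q (f := id) Function.injective_id hroot
    (by rw [hdeg, hK]; norm_num)
  exact hQ this

open Cfsg.Lie CfsgLib.Chev CfsgLib.Chev.Cert CfsgLib.Chev.D4Root
open CfsgLib.Chev.TorusD4 (up low)

/-- The reading of codes by a root of the cubic. -/
def iotaOf (q : ℕ) (α : K) (a : ℕ) : K :=
  ((a % q : ℕ) : K) + ((a / q % q : ℕ) : K) * α + ((a / q / q % q : ℕ) : K) * (α * α)

theorem enc_digits {q : ℕ} (hq : 0 < q) (x y z : ℕ) :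
    (x % q + q * (y % q) + q * q * (z % q)) % q = x % q ∧
      (x % q + q * (y % q) + q * q * (z % q)) / q % q = y % q ∧
      (x % q + q * (y % q) + q * q * (z % q)) / q / q % q = z % q := by
  have e1 : x % q + q * (y % q) + q * q * (z % q) = x % q + q * (y % q + q * (z % q)) := by ring
  have hx := Nat.mod_lt x hq
  have hy := Nat.mod_lt y hq
  have d1 : (x % q + q * (y % q + q * (z % q))) / q = y % q + q * (z % q) := by
    rw [Nat.add_mul_div_left _ _ hq, Nat.div_eq_of_lt hx, zero_add]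
  refine ⟨?_, ?_, ?_⟩
  · rw [e1, Nat.add_mul_mod_self_left, Nat.mod_mod]
  · rw [e1, d1, Nat.add_mul_mod_self_left, Nat.mod_mod]
  · rw [e1, d1, Nat.add_mul_div_left _ _ hq, Nat.div_eq_of_lt hy, zero_add, Nat.mod_mod]

theorem exists_small {q : ℕ} (c : Ctx K q) (M : Mdl) (hMq : M.q = q) [CharP K q] (hq : q = 2 ∨ q = 3) (u w : ℕ)
    (α : K) (hα : α ^ 3 = (u : K) + (w : K) * α) (hchk : M.chk u w = true) (hfacts : M.Facts = true) :
    ∃ P : Small K q, P.c = c ∧ P.M = M := by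
  have hq0 : 0 < q := by omega
  have hn : M.n = q * q * q := by rw [Mdl.n, hMq]
  set ι := iotaOf q α with hι
  have hc : ∀ a : ℕ, ((a % q : ℕ) : K) = (a : K) := fun a => by
    rw [CharP.natCast_eq_natCast K q]; exact Nat.mod_modEq a q
  have per : ∀ a, ι (a % M.n) = ι a := fun a => by
    have e1 : a % (q * q * q) % q = a % q := Nat.mod_mod_of_dvd _ (dvd_mul_left _ _)
    have e2 : a % (q * q * q) / q = a / q % (q * q) := by
      rw [show q * q * q = q * (q * q) by ring, Nat.mod_mul_right_div_self]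
    simp only [hι, iotaOf, hn, e1, e2, Nat.mod_mul_right_div_self, Nat.mod_mod_of_dvd _ (dvd_mul_left q q),
      Nat.mod_mod]
  simp only [Mdl.chk, Bool.and_eq_true, List.all_eq_true, List.mem_range, decide_eq_true_eq] at hchk
  obtain ⟨h2, h1⟩ := hchk
  have hn0 : 0 < M.n := by rw [hn]; positivity
  have enc : ∀ x y z : ℕ, ι (M.enc x y z) = (x : K) + (y : K) * α + (z : K) * (α * α) := fun x y z => by
    obtain ⟨e1, e2, e3⟩ := enc_digits hq0 x y z
    simp only [hι, iotaOf, Mdl.enc, hMq, e1, e2, e3, hc]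
  have red2 : ∀ (g : ℕ → ℕ → ℕ), (∀ a b, g a b = g (a % M.n) (b % M.n)) → ∀ (G : K → K → K),
      (∀ a < M.n, ∀ b < M.n, ι (g a b) = G (ι a) (ι b)) → ∀ a b, ι (g a b) = G (ι a) (ι b) := fun g hg G h a b => by
    rw [hg, h _ (Nat.mod_lt _ hn0) _ (Nat.mod_lt _ hn0), per, per]
  have red1 : ∀ (g : ℕ → ℕ), (∀ a, g a = g (a % M.n)) → ∀ (G : K → K),
      (∀ a < M.n, ι (g a) = G (ι a)) → ∀ a, ι (g a) = G (ι a) := fun g hg G h a => by
    rw [hg, h _ (Nat.mod_lt _ hn0), per]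
  have hdig : ∀ a : ℕ, ι a = ((a % q : ℕ) : K) + ((a / q % q : ℕ) : K) * α + ((a / q / q % q : ℕ) : K) * (α * α) :=
    fun a => rfl
  have had : ∀ a b, ι (M.ad a b) = ι a + ι b := red2 _ (fun a b => by simp [Mdl.ad]) _ fun a ha b hb => by
    rw [(h2 a ha b hb).1, Mdl.adS, enc, hdig a, hdig b, hMq]
    push_cast; ring
  have hml : ∀ a b, ι (M.ml a b) = ι a * ι b := red2 _ (fun a b => by simp [Mdl.ml]) _ fun a ha b hb => by
    rw [(h2 a ha b hb).2, hdig a, hdig b]
    simp only [Mdl.mlS, enc, hMq]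
    push_cast
    have h4 : α ^ 4 = (u : K) * α + (w : K) * (α * α) := by linear_combination α * hα
    linear_combination -(((a / q % q : ℕ) : K) * ((b / q / q % q : ℕ) : K) +
      ((a / q / q % q : ℕ) : K) * ((b / q % q : ℕ) : K)) * hα - ((a / q / q % q : ℕ) : K) * ((b / q / q % q : ℕ) : K) * h4
  have hcast : ∀ a < q, ι a = (a : K) := fun a ha => by
    simp only [hι, iotaOf, Nat.mod_eq_of_lt ha, Nat.div_eq_of_lt ha, Nat.zero_mod, Nat.zero_div, Nat.cast_zero,
      zero_mul, add_zero]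
  have h0 : ι 0 = 0 := by rw [hcast 0 hq0, Nat.cast_zero]
  have hone : ι 1 = 1 := by rw [hcast 1 (by omega), Nat.cast_one]
  have hng : ∀ a, ι (M.ng a) = -ι a := red1 _ (fun a => by simp [Mdl.ng]) _ fun a ha => by
    have h := had a (M.ng a)
    rw [(h1 a ha).1, h0] at h
    linear_combination -h
  have hfr : ∀ a, ι (M.fr a) = c.f (ι a) := red1 _ (fun a => by simp [Mdl.fr]) _ fun a ha => by
    have h := (h1 a ha).2.1
    rw [c.hf]
    rcases hq with rfl | rfl
    · rw [if_pos hMq, decide_eq_true_eq] at h; rw [h, hml, sq]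
    · rw [if_neg (by rw [hMq]; norm_num), decide_eq_true_eq] at h; rw [h, hml, hml]; ring
  have hiv0 : ∀ a < M.n, a ≠ 0 → ι a * ι (M.iv a) = 1 := fun a ha hne => by
    have h := (h1 a ha).2.2.2
    rw [if_neg hne, decide_eq_true_eq] at h
    rw [← hml, h, hone]
  have hiv : ∀ a, ι (M.iv a) = (ι a)⁻¹ := red1 _ (fun a => by simp [Mdl.iv]) _ fun a ha => by
    by_cases hne : a = 0
    · have h := (h1 a ha).2.2.2
      rw [if_pos hne, decide_eq_true_eq] at h
      rw [h, hne, h0, inv_zero]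
    · exact eq_inv_of_mul_eq_one_right (hiv0 a ha hne)
  have hzero : ∀ a < M.n, ι a = 0 → a = 0 := fun a ha e => by
    by_contra hne
    have h := hiv0 a ha hne
    rw [e, zero_mul] at h
    exact zero_ne_one h
  have digits : ∀ a < M.n, a = a % q + q * (a / q % q) + q * q * (a / q / q % q) := fun a ha => by
    have h3 : a / q / q < q := by
      rw [Nat.div_div_eq_div_mul, Nat.div_lt_iff_lt_mul (by positivity)]
      rw [hn] at ha; linarith
    have e1 := Nat.mod_add_div a q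
    have e2 := Nat.mod_add_div (a / q) q
    rw [Nat.mod_eq_of_lt h3]
    nlinarith
  have inj : ∀ a < M.n, ∀ b < M.n, ι a = ι b → a = b := fun a ha b hb e => by
    -- the coordinates agree as `1, α, α²` are independent
    have hind : ∀ x y z : ℕ, (x : K) + (y : K) * α + (z : K) * (α * α) = 0 → q ∣ x ∧ q ∣ y ∧ q ∣ z := by
      intro x y z h
      obtain ⟨e1, e2, e3⟩ := enc_digits hq0 x y z
      have h0' : M.enc x y z % M.n = 0 := hzero _ (Nat.mod_lt _ hn0) (by rw [per, enc, h])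
      have hlt : M.enc x y z < M.n := by
        have hx := Nat.mod_lt x hq0
        have hy := Nat.mod_lt y hq0
        have hz' := Nat.mod_lt z hq0
        rw [Mdl.enc, hMq, hn]; nlinarith
      rw [Nat.mod_eq_of_lt hlt, Mdl.enc, hMq] at h0'
      rw [h0'] at e1 e2 e3
      simp only [Nat.zero_mod, Nat.zero_div] at e1 e2 e3
      exact ⟨Nat.dvd_of_mod_eq_zero e1.symm, Nat.dvd_of_mod_eq_zero e2.symm, Nat.dvd_of_mod_eq_zero e3.symm⟩
    rw [hdig a, hdig b] at e
    have key2 := hind (a % q + (q - b % q)) (a / q % q + (q - b / q % q)) (a / q / q % q + (q - b / q / q % q)) (by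
      have hb1 := (Nat.mod_lt b hq0).le
      have hb2 := (Nat.mod_lt (b / q) hq0).le
      have hb3 := (Nat.mod_lt (b / q / q) hq0).le
      rw [Nat.cast_add, Nat.cast_add, Nat.cast_add, Nat.cast_sub hb1, Nat.cast_sub hb2, Nat.cast_sub hb3,
        CharP.cast_eq_zero K q]
      linear_combination e)
    have eq1 : ∀ x y, x < q → y < q → q ∣ x + (q - y) → x = y := by
      intro x y hx hy hd
      rcases hq with rfl | rfl <;> omega
    rw [digits a ha, digits b hb, eq1 _ _ (Nat.mod_lt _ hq0) (Nat.mod_lt _ hq0) key2.1,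
      eq1 _ _ (Nat.mod_lt _ hq0) (Nat.mod_lt _ hq0) key2.2.1, eq1 _ _ (Nat.mod_lt _ hq0) (Nat.mod_lt _ hq0) key2.2.2]
  refine ⟨{ c := c, M := M, ι := ι, hq := hMq, hchar := inferInstance, per := per, ι_cast := hcast, ι_ad := had,
            ι_ml := hml, ι_ng := hng, ι_fr := hfr, ι_iv := hiv, inj := inj, surj := fun x => ?_, facts := hfacts },
    rfl, rfl⟩
  obtain ⟨a, ha⟩ := ((Fintype.bijective_iff_injective_and_card fun a : Fin M.n => ι a).2
    ⟨fun a b e => Fin.ext (inj _ a.2 _ b.2 e), by rw [Fintype.card_fin, hn, c.hK]; ring⟩).2 x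
  exact ⟨a, a.2, ha⟩

namespace Ctx

variable {q : ℕ} (c : Ctx K q)
include c

theorem Lv_pow {v : Kˣ} (hv : c.nmHom v = 1) (S : SL(2, c.k)) (m : ℕ) : c.Lv v S ^ m = c.Lv (v ^ m) (S ^ m) := by
  induction m with
  | zero => rw [pow_zero, pow_zero, pow_zero, c.Lv_one, map_one]
  | succ m ih => rw [pow_succ, ih, c.Lv_mul, hv, inv_one, scl_one, pow_succ, pow_succ]

end Ctx

/-- The covering. -/
theorem exists_cover {p q : ℕ} [Fact p.Prime] [CharP K p] (c : Ctx K q) :
    ∃ x ∈ c.Gr, ¬ p ∣ orderOf x ∧ ∀ g ∈ c.Gr, g ≠ 1 →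
      ∃ a ∈ c.Gr, ∃ b ∈ c.Gr, g = (a * x * a⁻¹) * (b * x * b⁻¹) := by
  by_cases h4 : 4 ≤ q
  · exact c.cover_split h4 p
  have h2 := c.two_le
  have hpq : p = q := by
    obtain ⟨n, -, hn⟩ := FiniteField.card K p
    rw [c.hK] at hn
    have hpr : Nat.Prime q := by
      rcases (show q = 2 ∨ q = 3 by omega) with rfl | rfl <;> norm_num
    have h1 : p ∣ q ^ 3 := hn ▸ dvd_pow_self p n.ne_zero
    exact (Nat.prime_dvd_prime_iff_eq Fact.out hpr).1 ((Fact.out : p.Prime).dvd_of_dvd_pow h1)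
  subst hpq
  rcases (show p = 2 ∨ p = 3 by omega) with rfl | rfl
  · obtain ⟨α, hα⟩ := exists_root_two (K := K) (by rw [c.hK]; norm_num)
    obtain ⟨P, rfl, hM⟩ := exists_small c m2 rfl (Or.inl rfl) 1 1 α (by push_cast; exact hα) m2_chk m2_facts
    obtain ⟨k1, k2, k3, k4, k5⟩ := m2_small
    have H : P.Checks masks2 [(1, 1, 0, 1)] := by
      refine ⟨?_, ?_, ?_, ?_, ?_, fun J hJ => ?_⟩ <;> rw [hM]
      exacts [k1, k2, k3, k4, k5, (List.mem_singleton.1 hJ) ▸ m2_cov]
    refine ⟨P.x, P.x_mem, P.c.not_dvd_order (by norm_num : ¬ (2 : ℕ) ∣ 21) ?_, fun g hg hne => P.cover H hg hne⟩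
    have hd : P.c.nmHom P.v0 = 1 := P.nm_of_two rfl _
    have hS : P.sL P.M.S0 ^ 21 = 1 := by
      have h3 : P.sL P.M.S0 ^ 3 = 1 := by
        rw [pow_succ, sq, ← P.sL_mm P.isSL_S0 P.isSL_S0, ← P.sL_mm (P.isSL_mm P.isSL_S0 P.isSL_S0) P.isSL_S0,
          show P.M.mm (P.M.mm P.M.S0 P.M.S0) P.M.S0 = (1, 0, 0, 1) by rw [hM]; decide, P.sL_up 0 |>.trans ?_]
        rw [Nat.cast_zero, up_zero]
      rw [show (21 : ℕ) = 3 * 7 by norm_num, pow_mul, h3, one_pow]
    have hv : P.v0 ^ 21 = 1 := by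
      have h : P.v0 ^ 7 = 1 := by
        have := pow_card_eq_one' (G := Kˣ) (x := P.v0)
        rwa [Nat.card_units, Nat.card_eq_fintype_card, P.c.hK] at this
      rw [show (21 : ℕ) = 7 * 3 by norm_num, pow_mul, h, one_pow]
    rw [Small.x, P.c.Lv_pow hd, hS, hv, P.c.Lv_one, map_one]
  · obtain ⟨α, hα⟩ := exists_root_three (K := K) (by rw [c.hK]; norm_num)
    obtain ⟨P, rfl, hM⟩ := exists_small c m3 rfl (Or.inr rfl) 2 1 α (by push_cast; exact hα) m3_chk m3_facts
    obtain ⟨k1, k2, k3, k4, k5⟩ := m3_small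
    have H : P.Checks masks3 [(2, 1, 0, 2), (2, 2, 0, 2), (1, 0, 0, 1)] := by
      refine ⟨?_, ?_, ?_, ?_, ?_, fun J hJ => ?_⟩ <;> rw [hM]
      · exact k1
      · exact k2
      · exact k3
      · exact k4
      · exact k5
      · simp only [List.mem_cons, List.not_mem_nil, or_false] at hJ
        rcases hJ with rfl | rfl | rfl
        exacts [m3_cov_J, m3_cov_J', m3_cov_I]
    refine ⟨P.x, P.x_mem, P.c.not_dvd_order (by norm_num : ¬ (3 : ℕ) ∣ 104) ?_, fun g hg hne => P.cover H hg hne⟩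
    obtain ⟨hd, ed⟩ := P.scl_dd P.isSL_S0
    set T : Mdl.Q4 := P.M.mm (P.M.sd P.M.S0) P.M.S0 with hT
    have hT' : P.IsSL T := P.isSL_mm hd P.isSL_S0
    have h2 : P.x ^ 2 = P.c.Lv (P.v0 * P.v0) (P.sL T) := by
      rw [sq, Small.x, P.c.Lv_mul, P.nm_v0, P.dd_inv, P.sL_mm hd P.isSL_S0, ed]
    have hn2 : P.c.nmHom (P.v0 * P.v0) = 1 := P.nm_tgtU 0
    have hT4 : P.sL T ^ 4 = 1 := by
      rw [show (4 : ℕ) = 2 * 2 by norm_num, pow_mul, sq, sq, ← P.sL_mm hT' hT',
        ← P.sL_mm (P.isSL_mm hT' hT') (P.isSL_mm hT' hT'),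
        show P.M.mm (P.M.mm T T) (P.M.mm T T) = (1, 0, 0, 1) by rw [hT, hM]; decide, P.sL_up 0, Nat.cast_zero,
        up_zero]
    have hv : (P.v0 * P.v0) ^ 52 = 1 := by
      have h : P.v0 ^ 26 = 1 := by
        have := pow_card_eq_one' (G := Kˣ) (x := P.v0)
        rwa [Nat.card_units, Nat.card_eq_fintype_card, P.c.hK] at this
      rw [← sq, ← pow_mul, show (2 * 52 : ℕ) = 26 * 4 by norm_num, pow_mul, h, one_pow]
    rw [show (104 : ℕ) = 2 * 52 by norm_num, pow_mul, h2, P.c.Lv_pow hn2, hv,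
      show (52 : ℕ) = 4 * 13 by norm_num, pow_mul, hT4, one_pow, P.c.Lv_one, map_one]

end CfsgLib.ClassSquare.Triality
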