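import Cfsg.Agent.Lib.ClassSquare.TrialityLevi

/-!
Tables for the fields of 8 and 27 elements, and the formulas of the moves evaluated in them.
-/

set_option autoImplicit false
set_option linter.unusedSectionVars false
set_option maxRecDepth 100000

namespace CfsgLib.ClassSquare.Triality

/-- Tables for a field of `q³` elements, with a determinant `d` and an element `v₀` of norm `d`. -/
structure Mdl where
  q : ℕ
  d : ℕ
  v0 : ℕ
  AD : ℕ
  ML : ℕ
  NG : ℕ
  FR : ℕ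
  IV : ℕ

namespace Mdl

variable (M : Mdl)

/-- The size. -/
def n : ℕ := M.q * M.q * M.q

/-- The sum. -/
def ad (a b : ℕ) : ℕ := (M.AD >>> (5 * (a % M.n * M.n + b % M.n))) &&& 31

/-- The product. -/
def ml (a b : ℕ) : ℕ := (M.ML >>> (5 * (a % M.n * M.n + b % M.n))) &&& 31

/-- The negative. -/
def ng (a : ℕ) : ℕ := (M.NG >>> (5 * (a % M.n))) &&& 31

/-- The field map. -/
def fr (a : ℕ) : ℕ := (M.FR >>> (5 * (a % M.n))) &&& 31

/-- The inverse. -/
def iv (a : ℕ) : ℕ := (M.IV >>> (5 * (a % M.n))) &&& 31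

/-- The difference. -/
def sb (a b : ℕ) : ℕ := M.ad a (M.ng b)

/-- The trace. -/
def tr (a : ℕ) : ℕ := M.ad (M.ad a (M.fr a)) (M.fr (M.fr a))

/-- The norm. -/
def nm (a : ℕ) : ℕ := M.ml (M.ml a (M.fr a)) (M.fr (M.fr a))

/-- The code of the three coordinates over the prime field, with sums and products reduced. -/
def enc (a b c : ℕ) : ℕ := a % M.q + M.q * (b % M.q) + M.q * M.q * (c % M.q)

/-- The sum by coordinates. -/
def adS (a b : ℕ) : ℕ :=
  M.enc (a % M.q + b % M.q) (a / M.q % M.q + b / M.q % M.q) (a / M.q / M.q % M.q + b / M.q / M.q % M.q)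

/-- The product by coordinates, the cube of the generator being `u + w` times it. -/
def mlS (u w a b : ℕ) : ℕ :=
  let a0 := a % M.q
  let a1 := a / M.q % M.q
  let a2 := a / M.q / M.q % M.q
  let b0 := b % M.q
  let b1 := b / M.q % M.q
  let b2 := b / M.q / M.q % M.q
  let r3 := a1 * b2 + a2 * b1
  let r4 := a2 * b2
  M.enc (a0 * b0 + u * r3) (a0 * b1 + a1 * b0 + w * r3 + u * r4) (a0 * b2 + a1 * b1 + a2 * b0 + w * r4)

/-- The check of the tables. -/
def chk (u w : ℕ) : Bool :=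
  ((List.range M.n).all fun a => (List.range M.n).all fun b =>
    decide (M.ad a b = M.adS a b) && decide (M.ml a b = M.mlS u w a b)) &&
  ((List.range M.n).all fun a => decide (M.ad a (M.ng a) = 0) &&
    ((if M.q = 2 then decide (M.fr a = M.ml a a) else decide (M.fr a = M.ml a (M.ml a a))) &&
      (decide (M.iv a < M.n) && (if a = 0 then decide (M.iv a = 0) else decide (M.ml a (M.iv a) = 1)))))

/-- The addition of coordinates. -/
def mulF' (a b : St ℕ) : St ℕ :=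
  ⟨M.ad a.c b.c, M.ad (M.ad (M.ad a.g b.g) (M.ml (M.fr b.c) (M.fr (M.fr a.e)))) (M.ml (M.fr (M.fr b.c)) (M.fr a.e)),
    M.ad (M.ad (M.ad a.h b.h) (M.tr (M.ml b.c (M.ml (M.fr a.e) (M.fr (M.fr a.e)))))) (M.tr (M.ml b.g a.e)),
    M.sb (M.sb (M.ad a.k b.k) (M.tr (M.ml a.g b.c)))
      (M.ad (M.ad (M.ml (M.ml b.c (M.fr b.c)) (M.fr (M.fr a.e))) (M.ml (M.ml (M.fr b.c) (M.fr (M.fr b.c))) a.e))
        (M.ml (M.ml b.c (M.fr (M.fr b.c))) (M.fr a.e))),
    M.ad a.e b.e⟩

/-- The conjugation by the middle root on the negative side. -/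
def lowF' (a : ℕ) (s : St ℕ) : St ℕ :=
  ⟨M.sb s.c (M.ml a s.e), M.sb s.g (M.ml a (M.ml (M.fr s.e) (M.fr (M.fr s.e)))), M.sb s.h (M.ml a (M.nm s.e)),
    M.sb (M.ad (M.sb s.k (M.ml (M.ml a a) (M.nm s.e))) (M.ml a (M.tr (M.ml s.e s.g)))) (M.ml a s.h), s.e⟩

/-- The conjugation by the middle root on the positive side. -/
def uppF' (a : ℕ) (s : St ℕ) : St ℕ :=
  ⟨s.c, M.sb s.g (M.ml a (M.ml (M.fr s.c) (M.fr (M.fr s.c)))),
    M.sb (M.sb (M.ad s.h (M.ml (M.ml a a) (M.nm s.c))) (M.ml a (M.tr (M.ml s.c s.g)))) (M.ml a s.k),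
    M.ad s.k (M.ml a (M.nm s.c)), M.sb s.e (M.ml a s.c)⟩

/-- The part of the middle root after a move. -/
def Pf' (t : ℕ) (s : St ℕ) : ℕ :=
  M.ad (M.ad (M.tr (M.ml s.c t)) (M.tr (M.ml s.g (M.ml (M.fr t) (M.fr (M.fr t)))))) (M.ml s.h (M.nm t))

/-- The coordinates after a move, the last left alone. -/
def sevF' (t : ℕ) (s : St ℕ) : St ℕ :=
  ⟨M.ad (M.ad (M.ad s.c (M.ml (M.fr s.g) (M.fr (M.fr t)))) (M.ml (M.fr (M.fr s.g)) (M.fr t)))
      (M.ml s.h (M.ml (M.fr t) (M.fr (M.fr t)))),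
    M.ad s.g (M.ml s.h t), s.h,
    M.sb (M.sb (M.sb (M.sb s.k (M.ml s.h (M.tr (M.ml s.c t))))
      (M.ad (M.ad (M.ml (M.ml s.g (M.fr s.g)) (M.fr (M.fr t))) (M.ml (M.ml (M.fr s.g) (M.fr (M.fr s.g))) t))
        (M.ml (M.ml s.g (M.fr (M.fr s.g))) (M.fr t))))
      (M.ml (M.ml (M.ad 1 1) s.h) (M.tr (M.ml s.g (M.ml (M.fr t) (M.fr (M.fr t)))))))
      (M.ml (M.ml (M.ml (M.ad 1 1) s.h) s.h) (M.nm t)), s.e⟩

/-- The coordinates after a move. -/
def moveF' (t w : ℕ) (s : St ℕ) : St ℕ :=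
  M.mulF' (M.sevF' t { s with e := 0 }) (M.lowF' (M.Pf' t s) ⟨0, 0, 0, 0, M.ml s.e (M.iv w)⟩)

/-- The scaling by a torus element. -/
def ttF' (v u : ℕ) (s : St ℕ) : St ℕ :=
  let v' := M.iv v
  let u' := M.iv u
  let N := M.ml (M.ml v' (M.fr v')) (M.fr (M.fr v'))
  let d2 := M.iv (M.ml (M.fr v') (M.fr (M.fr v')))
  ⟨M.ml (M.ml (M.ml u' v') d2) s.c, M.ml (M.ml (M.ml (M.fr v') (M.fr (M.fr v'))) (M.iv v')) s.g,
    M.ml (M.ml N (M.iv u')) s.h, M.ml u' s.k, M.ml (M.ml (M.ml v' v') (M.iv u')) s.e⟩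

/-- The product of two matrices. -/
def mm (A B : ℕ × ℕ × ℕ × ℕ) : ℕ × ℕ × ℕ × ℕ :=
  let (a, b, c, d) := A
  let (a', b', c', d') := B
  ((a * a' + b * c') % M.q, (a * b' + b * d') % M.q, (c * a' + d * c') % M.q, (c * b' + d * d') % M.q)

end Mdl

/-- The table of the field of eight elements. -/
def m2 : Mdl := ⟨2, 1, 2, 0x443214c708062290e610c0131c8518820398a4214c700443290e60806231c8510c01398a418820,
  0x190c1114e02086509cc030ce2204a00944638c80104872986029c2331040398a4188200000000000,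
  0x398a418820, 0x188e629020, 0x20c4731420⟩

/-- The table of the field of twenty seven elements. -/
def m3 : Mdl := ⟨3, 2, 3, 0xd639495c1f120ca1008e645ab79ca99c698e6a56a7c6032900209907aded2a4f1acb9ac5a93183ca41882041cd7b569396b38525707c5ac704023990419672a671ab56e95a9f1831cd0082641c6524a93c6b35bd96a4c60f735820810731483a4e5ace2f6ac1f16b1ca4ace64106508059c6ad5bce547c60c7352b51907194801071acd6f69527183dcd62d4941cc520c4106b38bdab49c8832840239916ade72a671a6b1ca4ae0f88ca40082641eb7b4a93c6b2c7352b53e30290620810735ed5a4e5ace1cd62d498c1e1008e6410659ca99c6ad5ba92b83e2d638020990719492a4f1acd6f64ad4f8c18e6882041cc520e9396b38bdaab526307b9ac39904194201671ab56f39520f8b58e5256641c6520041c6b35bda549be30639a95a907314831041ace2f6ad2728c1ee6b16a4dab79ca99c69ac7292b83e241942011cc8aded2a4f1acb1cd4ad4f8c06520041320f7b569396b387358b52630794831040839a72a671ab56ea4ae0f8b58e08047320832ca93c6b35bd92b53e30639a0104c838ca4a4e5ace2f6aad498c1ee6b041020e629079c6ad5bce5483e2d6394959cc820ca100b1acd6f69526f8c18e6a56a320e3290020eb38bdab49ca307b9ac5a928398a418820,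
  0xba9f2260e140bb0f996e654891426cdd02a8516126e0573a48fa3341b19638cdd901d564d4d742df21d0b12427a1382dcb300c952c9a04fb2f043ba550c46ad50cd85c0285666727441af370bdb241d94c1551b0192321d499db9229381957a146f60c1f500db7126678e2415e8d0b158fca1d522a808610fd1e39336a565c8eb0d52126815cc1412ec46e0cf4474154c6cabae5864e9900377ac79935069ba02ae9242e14c3d2d1038f2c2c81ac66c4172978ac6a3543d5e00c2464ca965d3914930c79b43684457abc0f250f74e98181648aab0d14473359797026f2b83835d42cb2ab3c0744a2c49474d0169193c7024ea9328f645d6d0e45a76180bb095696ce1e9e7c411989a890c9429ac06d4032596cc48a6d1de27c55c4cbd14501419c51a60ea4b345459b0fcc0f77164904ada19c4f538a60c52da57305b277c11002184a64732be2961a0297416d7ea7529c115bb54ba04553613b64243b1e9ae243301030d3167260c544c414b379eaad5bce50262d31435a64e315a5a53dd79e17062080b4f2d540813d3575c5c24171593d8930c0d732117a969b5eb9d6274910a33a0c110359c5ed5a4e5183dcd62d4941cc520c4100000000000000000000000000000000000,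
  0x35cc845ea5a6d7ae7589d24428ce830440, 0x5ed595279c69495c60f639a641c8328820, 0x4525534901bb5444ac735f2f62f1598820⟩

theorem m2_chk : m2.chk 1 1 = true := by decide +kernel

theorem m3_chk : m3.chk 2 1 = true := by decide +kernel

end CfsgLib.ClassSquare.Triality
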