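import Cfsg.Agent.Lib.ClassSquare.TrialityColl

/-!
The coordinates on the unipotent radical of a long root parabolic subgroup of `³D₄(q)` on the negative
side, and the identities for the conjugations used to move between them.
-/

set_option autoImplicit false
set_option linter.unusedSectionVars false
set_option linter.unusedSimpArgs false
set_option maxRecDepth 100000
set_option maxHeartbeats 8000000

namespace CfsgLib.ClassSquare.Triality

open Cfsg.Lie CfsgLib.Chev CfsgLib.Chev.Cert CfsgLib.Chev.D4Root Coll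
open CfsgLib.Chev.TorusD4 (up low sl2_closure)
open scoped MatrixGroups

/-- The coordinates. -/
structure St (K : Type*) where
  c : K
  g : K
  h : K
  k : K
  e : K

variable {K : Type*} [Field K]

/-- The product of the nine roots of the radical and of the middle root. -/
noncomputable def W (a b c d e f g h i : K) : GL chevD4.Idx K :=
  X chevD4 4 a * X chevD4 7 b * X chevD4 8 c * X chevD4 9 d * X chevD4 6 e * X chevD4 3 f * X chevD4 2 g *
    X chevD4 1 h * X chevD4 0 i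

/-- The product of the first layer. -/
noncomputable def E (a b c : K) : GL chevD4.Idx K := X chevD4 5 a * X chevD4 10 b * X chevD4 11 c

/-- The trace. -/
def tr3 (f : K →+* K) (x : K) : K := x + f x + f (f x)

/-- The norm. -/
def nm3 (f : K →+* K) (x : K) : K := x * f x * f (f x)

variable (f : K →+* K)

/-- The element of given coordinates. -/
noncomputable def neg (s : St K) : GL chevD4.Idx K :=
  W s.c (-f s.c) (-f (f s.c)) 0 s.g (-f s.g) (-f (f s.g)) s.h s.k * E s.e (f s.e) (f (f s.e))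

/-- The conjugation by the middle root on the negative side. -/
def lowF (a : K) (s : St K) : St K :=
  ⟨s.c - a * s.e, s.g - a * (f s.e * f (f s.e)), s.h - a * nm3 f s.e,
    s.k - a * a * nm3 f s.e + a * tr3 f (s.e * s.g) - a * s.h, s.e⟩

/-- The conjugation by the middle root on the positive side. -/
def uppF (a : K) (s : St K) : St K :=
  ⟨s.c, s.g - a * (f s.c * f (f s.c)), s.h + a * a * nm3 f s.c - a * tr3 f (s.c * s.g) - a * s.k,
    s.k + a * nm3 f s.c, s.e - a * s.c⟩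

/-- The part of the middle root after a move. -/
def Pf (t : K) (s : St K) : K :=
  tr3 f (s.c * t) + tr3 f (s.g * (f t * f (f t))) + s.h * nm3 f t

/-- The coordinates after a move, the last left alone. -/
def sevF (t : K) (s : St K) : St K :=
  ⟨s.c + f s.g * f (f t) + f (f s.g) * f t + s.h * (f t * f (f t)), s.g + s.h * t, s.h,
    s.k - s.h * tr3 f (s.c * t) -
      (s.g * f s.g * f (f t) + f s.g * f (f s.g) * t + s.g * f (f s.g) * f t) -
      2 * s.h * tr3 f (s.g * (f t * f (f t))) - 2 * s.h * s.h * nm3 f t, s.e⟩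

/-- The product of two elements. -/
def mulF (a b : St K) : St K :=
  ⟨a.c + b.c, a.g + b.g + f b.c * f (f a.e) + f (f b.c) * f a.e,
    a.h + b.h + tr3 f (b.c * (f a.e * f (f a.e))) + tr3 f (b.g * a.e),
    a.k + b.k - tr3 f (a.g * b.c) -
      (b.c * f b.c * f (f a.e) + f b.c * f (f b.c) * a.e + b.c * f (f b.c) * f a.e), a.e + b.e⟩

/-- The coordinates after a move. -/
def moveF (t w : K) (s : St K) : St K :=
  mulF f (sevF f t { s with e := 0 }) (lowF f (Pf f t s) ⟨0, 0, 0, 0, s.e / w⟩)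

theorem X_zero' {r : ℕ} (hr : r < 24) : X chevD4 r (0 : K) = 1 := certD4.X_zero (half_lt hr)

theorem X0_9 : X chevD4 9 (0 : K) = 1 ∧ X chevD4 5 (0 : K) = 1 ∧ X chevD4 10 (0 : K) = 1 ∧
    X chevD4 11 (0 : K) = 1 :=
  ⟨X_zero' (by omega), X_zero' (by omega), X_zero' (by omega), X_zero' (by omega)⟩

variable {f} (hf3 : ∀ x : K, f (f (f x)) = x)

include hf3

theorem low_eq {a : K} (ha : f a = a) (s : St K) :
    X chevD4 9 a * neg f s = neg f (lowF f a s) * X chevD4 9 a := by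
  simp only [neg, W, E, map_zero, X0_9.1, X0_9.2.1, X0_9.2.2.1, X0_9.2.2.2, mul_one, one_mul]
  refine mul_right_cancel (b := (1 : GL chevD4.Idx K)) ?_
  simp only [mul_assoc]
  simp only [
    s7_4, s8_4, s8_7, s9_4, s9_7, s9_8, s6_4, s6_7, s6_8, s6_9, s3_4, s3_7, s3_8, s3_9, s3_6, 
    s2_4, s2_7, s2_8, s2_9, s2_6, s2_3, s1_4, s1_7, s1_8, s1_9, s1_6, s1_3, s1_2, s0_4, s0_7, 
    s0_8, s0_9, s0_6, s0_3, s0_2, s0_1, s5_4, s5_7, s5_8, s5_9, s5_6, s5_3, s5_2, s5_1, s5_0, 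
    s10_4, s10_7, s10_8, s10_9, s10_6, s10_3, s10_2, s10_1, s10_0, s10_5, s11_4, s11_7, 
    s11_8, s11_9, s11_6, s11_3, s11_2, s11_1, s11_0, s11_5, s11_10, s12_4, s12_7, s12_8, 
    s12_9, s12_6, s12_3, s12_2, s12_1, s12_0, s12_5, s12_10, s13_4, s13_7, s13_8, s13_9, 
    s13_6, s13_3, s13_2, s13_1, s13_0, s13_5, s13_11, s13_12, s18_4, s18_7, s18_8, s18_9, 
    s18_6, s18_3, s18_2, s18_1, s18_0, s18_10, s18_11, s18_12, s18_13, s14_4, s14_7, s14_8, 
    s14_6, s14_3, s14_2, s14_1, s14_0, s14_5, s14_10, s14_11, s14_12, s14_13, s14_18, m4, m7, 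
    m8, m9, m6, m3, m2, m1, m0, m5, m10, m11, m12, m13, m18, m14]
  simp only [tr3, nm3, lowF, ha, map_add, map_sub, map_neg, map_mul, map_ofNat, hf3]
  ring_nf

theorem upp_eq {a : K} (ha : f a = a) (s : St K) :
    X chevD4 14 a * neg f s = neg f (uppF f a s) * X chevD4 14 a := by
  simp only [neg, W, E, map_zero, X0_9.1, X0_9.2.1, X0_9.2.2.1, X0_9.2.2.2, mul_one, one_mul]
  refine mul_right_cancel (b := (1 : GL chevD4.Idx K)) ?_
  simp only [mul_assoc]
  simp only [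
    s7_4, s8_4, s8_7, s9_4, s9_7, s9_8, s6_4, s6_7, s6_8, s6_9, s3_4, s3_7, s3_8, s3_9, s3_6, 
    s2_4, s2_7, s2_8, s2_9, s2_6, s2_3, s1_4, s1_7, s1_8, s1_9, s1_6, s1_3, s1_2, s0_4, s0_7, 
    s0_8, s0_9, s0_6, s0_3, s0_2, s0_1, s5_4, s5_7, s5_8, s5_9, s5_6, s5_3, s5_2, s5_1, s5_0, 
    s10_4, s10_7, s10_8, s10_9, s10_6, s10_3, s10_2, s10_1, s10_0, s10_5, s11_4, s11_7, 
    s11_8, s11_9, s11_6, s11_3, s11_2, s11_1, s11_0, s11_5, s11_10, s12_4, s12_7, s12_8, 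
    s12_9, s12_6, s12_3, s12_2, s12_1, s12_0, s12_5, s12_10, s13_4, s13_7, s13_8, s13_9, 
    s13_6, s13_3, s13_2, s13_1, s13_0, s13_5, s13_11, s13_12, s18_4, s18_7, s18_8, s18_9, 
    s18_6, s18_3, s18_2, s18_1, s18_0, s18_10, s18_11, s18_12, s18_13, s14_4, s14_7, s14_8, 
    s14_6, s14_3, s14_2, s14_1, s14_0, s14_5, s14_10, s14_11, s14_12, s14_13, s14_18, m4, m7, 
    m8, m9, m6, m3, m2, m1, m0, m5, m10, m11, m12, m13, m18, m14]
  simp only [tr3, nm3, uppF, ha, map_add, map_sub, map_neg, map_mul, map_ofNat, hf3]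
  ring_nf

theorem sev_eq (t : K) (c g h k : K) (hh : f h = h) :
    X chevD4 18 t * (X chevD4 13 (f t) * X chevD4 12 (f (f t))) * neg f ⟨c, g, h, k, 0⟩ =
      neg f (sevF f t ⟨c, g, h, k, 0⟩) * X chevD4 9 (Pf f t ⟨c, g, h, k, 0⟩) *
        (X chevD4 18 t * (X chevD4 13 (f t) * X chevD4 12 (f (f t)))) := by
  simp only [neg, W, E, sevF, Pf, map_zero, X0_9.1, X0_9.2.1, X0_9.2.2.1, X0_9.2.2.2, mul_one, one_mul]
  refine mul_right_cancel (b := (1 : GL chevD4.Idx K)) ?_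
  simp only [mul_assoc]
  simp only [
    s7_4, s8_4, s8_7, s9_4, s9_7, s9_8, s6_4, s6_7, s6_8, s6_9, s3_4, s3_7, s3_8, s3_9, s3_6, 
    s2_4, s2_7, s2_8, s2_9, s2_6, s2_3, s1_4, s1_7, s1_8, s1_9, s1_6, s1_3, s1_2, s0_4, s0_7, 
    s0_8, s0_9, s0_6, s0_3, s0_2, s0_1, s5_4, s5_7, s5_8, s5_9, s5_6, s5_3, s5_2, s5_1, s5_0, 
    s10_4, s10_7, s10_8, s10_9, s10_6, s10_3, s10_2, s10_1, s10_0, s10_5, s11_4, s11_7, 
    s11_8, s11_9, s11_6, s11_3, s11_2, s11_1, s11_0, s11_5, s11_10, s12_4, s12_7, s12_8, 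
    s12_9, s12_6, s12_3, s12_2, s12_1, s12_0, s12_5, s12_10, s13_4, s13_7, s13_8, s13_9, 
    s13_6, s13_3, s13_2, s13_1, s13_0, s13_5, s13_11, s13_12, s18_4, s18_7, s18_8, s18_9, 
    s18_6, s18_3, s18_2, s18_1, s18_0, s18_10, s18_11, s18_12, s18_13, s14_4, s14_7, s14_8, 
    s14_6, s14_3, s14_2, s14_1, s14_0, s14_5, s14_10, s14_11, s14_12, s14_13, s14_18, m4, m7, 
    m8, m9, m6, m3, m2, m1, m0, m5, m10, m11, m12, m13, m18, m14]
  simp only [tr3, nm3, sevF, Pf, hh, map_add, map_sub, map_neg, map_mul, map_ofNat, hf3]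
  ring_nf

theorem mul_eq (a b : St K) : neg f a * neg f b = neg f (mulF f a b) := by
  simp only [neg, W, E, map_zero, X0_9.1, X0_9.2.1, X0_9.2.2.1, X0_9.2.2.2, mul_one, one_mul]
  refine mul_right_cancel (b := (1 : GL chevD4.Idx K)) ?_
  simp only [mul_assoc]
  simp only [
    s7_4, s8_4, s8_7, s9_4, s9_7, s9_8, s6_4, s6_7, s6_8, s6_9, s3_4, s3_7, s3_8, s3_9, s3_6, 
    s2_4, s2_7, s2_8, s2_9, s2_6, s2_3, s1_4, s1_7, s1_8, s1_9, s1_6, s1_3, s1_2, s0_4, s0_7, 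
    s0_8, s0_9, s0_6, s0_3, s0_2, s0_1, s5_4, s5_7, s5_8, s5_9, s5_6, s5_3, s5_2, s5_1, s5_0, 
    s10_4, s10_7, s10_8, s10_9, s10_6, s10_3, s10_2, s10_1, s10_0, s10_5, s11_4, s11_7, 
    s11_8, s11_9, s11_6, s11_3, s11_2, s11_1, s11_0, s11_5, s11_10, s12_4, s12_7, s12_8, 
    s12_9, s12_6, s12_3, s12_2, s12_1, s12_0, s12_5, s12_10, s13_4, s13_7, s13_8, s13_9, 
    s13_6, s13_3, s13_2, s13_1, s13_0, s13_5, s13_11, s13_12, s18_4, s18_7, s18_8, s18_9, 
    s18_6, s18_3, s18_2, s18_1, s18_0, s18_10, s18_11, s18_12, s18_13, s14_4, s14_7, s14_8, 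
    s14_6, s14_3, s14_2, s14_1, s14_0, s14_5, s14_10, s14_11, s14_12, s14_13, s14_18, m4, m7, 
    m8, m9, m6, m3, m2, m1, m0, m5, m10, m11, m12, m13, m18, m14]
  simp only [tr3, nm3, mulF, map_add, map_sub, map_neg, map_mul, map_ofNat, hf3]
  ring_nf

end CfsgLib.ClassSquare.Triality
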