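import Cfsg.Agent.Lib.ClassSquare.TrialityTable

/-!
For `q ≤ 3` the square of the class of a semisimple element of the long root Levi subgroup covers
`³D₄(q)` apart from the identity.
-/

set_option autoImplicit false
set_option linter.unusedSectionVars false
set_option maxRecDepth 100000

namespace CfsgLib.ClassSquare.Triality

open Cfsg.Lie CfsgLib.Chev CfsgLib.Chev.Cert CfsgLib.Chev.D4Root
open CfsgLib.Chev.TorusD4 (up low)
open scoped MatrixGroups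

variable {K : Type*} [Field K] [Fintype K] {q : ℕ}

/-- A context with a table of the field. -/
structure Small (K : Type*) [Field K] [Fintype K] (q : ℕ) where
  /-- the context -/
  c : Ctx K q
  /-- the tables -/
  M : Mdl
  /-- the reading of the tables -/
  ι : ℕ → K
  hq : M.q = q
  hchar : CharP K q
  per : ∀ a, ι (a % M.n) = ι a
  ι_cast : ∀ a < q, ι a = (a : K)
  ι_ad : ∀ a b, ι (M.ad a b) = ι a + ι b
  ι_ml : ∀ a b, ι (M.ml a b) = ι a * ι b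
  ι_ng : ∀ a, ι (M.ng a) = -ι a
  ι_fr : ∀ a, ι (M.fr a) = c.f (ι a)
  ι_iv : ∀ a, ι (M.iv a) = (ι a)⁻¹
  inj : ∀ a < M.n, ∀ b < M.n, ι a = ι b → a = b
  surj : ∀ x : K, ∃ a < M.n, ι a = x
  facts : M.Facts = true

namespace Small

variable (P : Small K q)

theorem hn : P.M.n = q * q * q := by rw [Mdl.n, P.hq]

theorem facts' : (0 < q ∧ q ≤ 3 ∧ P.M.d < q ∧ P.M.d * P.M.d % q = 1 ∧ P.M.v0 < P.M.n ∧ P.M.v0 ≠ 0 ∧
    P.M.nm P.M.v0 % P.M.n = P.M.d) ∧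
    (P.M.mm (P.M.mm (0, 1, q - 1, 0) P.M.S0) (P.M.inv4 (0, 1, q - 1, 0)) = P.M.S1 ∧
      P.M.mm (P.M.mm (0, 1, q - 1, 0) P.M.S1) (P.M.inv4 (0, 1, q - 1, 0)) = P.M.S0) ∧
    (∀ l ∈ P.M.words, ∀ o ∈ l, o.2 < q) ∧ ∀ l ∈ P.M.words3, ∀ o ∈ l, o.2 < q := by
  have h := P.facts
  simp only [Mdl.Facts, Bool.and_eq_true, decide_eq_true_eq, List.all_eq_true, P.hq] at h
  exact ⟨h.1.1.1, h.1.1.2, h.1.2, h.2⟩

theorem lt_n {a : ℕ} (ha : a < q) : a < P.M.n := by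
  rw [P.hn]; nlinarith [Nat.le_mul_self (q * q), P.facts'.1.1]

theorem ι_zero : P.ι 0 = 0 := by rw [P.ι_cast 0 P.facts'.1.1, Nat.cast_zero]

theorem ι_one : P.ι 1 = 1 := by
  rw [P.ι_cast 1 P.c.two_le, Nat.cast_one]

theorem ι_sb (a b : ℕ) : P.ι (P.M.sb a b) = P.ι a - P.ι b := by
  rw [Mdl.sb, P.ι_ad, P.ι_ng, sub_eq_add_neg]

theorem ι_tr (a : ℕ) : P.ι (P.M.tr a) = tr3 P.c.f (P.ι a) := by
  rw [Mdl.tr, P.ι_ad, P.ι_ad, P.ι_fr, P.ι_fr, P.ι_fr]; rfl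

theorem ι_nm (a : ℕ) : P.ι (P.M.nm a) = nm3 P.c.f (P.ι a) := by
  rw [Mdl.nm, P.ι_ml, P.ι_ml, P.ι_fr, P.ι_fr, P.ι_fr]; rfl

theorem mod_eq {a b : ℕ} (hb : b < P.M.n) (h : P.ι a = P.ι b) : a % P.M.n = b :=
  P.inj _ (Nat.mod_lt _ (lt_of_le_of_lt (Nat.zero_le b) hb)) b hb (by rw [P.per, h])

theorem mod_eq_zero {a : ℕ} : a % P.M.n = 0 ↔ P.ι a = 0 :=
  ⟨fun h => by rw [← P.per, h, P.ι_zero], fun h => P.mod_eq (P.lt_n P.facts'.1.1) (by rw [h, P.ι_zero])⟩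

/-- The reading of coordinates. -/
noncomputable def st (s : St ℕ) : St K := ⟨P.ι s.c, P.ι s.g, P.ι s.h, P.ι s.k, P.ι s.e⟩

theorem st_mulF (a b : St ℕ) : P.st (P.M.mulF' a b) = mulF P.c.f (P.st a) (P.st b) := by
  simp only [st, Mdl.mulF', mulF, P.ι_ad, P.ι_sb, P.ι_ml, P.ι_fr, P.ι_tr]

theorem st_lowF (a : ℕ) (s : St ℕ) : P.st (P.M.lowF' a s) = lowF P.c.f (P.ι a) (P.st s) := by
  simp only [st, Mdl.lowF', lowF, P.ι_ad, P.ι_sb, P.ι_ml, P.ι_fr, P.ι_tr, P.ι_nm]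

theorem st_uppF (a : ℕ) (s : St ℕ) : P.st (P.M.uppF' a s) = uppF P.c.f (P.ι a) (P.st s) := by
  simp only [st, Mdl.uppF', uppF, P.ι_ad, P.ι_sb, P.ι_ml, P.ι_fr, P.ι_tr, P.ι_nm]

theorem ι_Pf (t : ℕ) (s : St ℕ) : P.ι (P.M.Pf' t s) = Pf P.c.f (P.ι t) (P.st s) := by
  simp only [st, Mdl.Pf', Pf, P.ι_ad, P.ι_ml, P.ι_fr, P.ι_tr, P.ι_nm]

theorem st_moveF (t w : ℕ) (s : St ℕ) :
    P.st (P.M.moveF' t w s) = moveF P.c.f (P.ι t) (P.ι w) (P.st s) := by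
  have h2 : P.ι (P.M.ad 1 1) = 2 := by rw [P.ι_ad, P.ι_one]; norm_num
  simp only [Mdl.moveF', moveF, P.st_mulF]
  congr 1
  · simp only [st, Mdl.sevF', sevF, P.ι_ad, P.ι_sb, P.ι_ml, P.ι_fr, P.ι_tr, P.ι_nm, P.ι_one, one_add_one_eq_two, P.ι_zero]
  · rw [P.st_lowF, P.ι_Pf]
    simp only [st, P.ι_ml, P.ι_iv, P.ι_zero, div_eq_mul_inv]

/-- A prime field element of the fixed field. -/
theorem exists_cast (x : P.c.k) : ∃ a < q, x = (a : P.c.k) := by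
  classical
  haveI : Fintype P.c.k := Fintype.ofFinite _
  let e : Fin q → P.c.k := fun a => ((a : ℕ) : P.c.k)
  have he : Function.Injective e := fun a b h => by
    have h' : ((a : ℕ) : K) = ((b : ℕ) : K) := by
      have := congrArg (Subtype.val) h
      simpa [e] using this
    rw [← P.ι_cast a a.2, ← P.ι_cast b b.2] at h'
    exact Fin.ext (P.inj _ (P.lt_n a.2) _ (P.lt_n b.2) h')
  obtain ⟨a, ha⟩ := ((Fintype.bijective_iff_injective_and_card e).2 ⟨he, by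
    rw [Fintype.card_fin, ← Nat.card_eq_fintype_card, P.c.card_k]⟩).2 x
  exact ⟨a, a.2, ha.symm⟩

theorem ι_k {a : ℕ} (ha : a < q) : P.ι a = ((a : P.c.k) : K) := by rw [P.ι_cast a ha]; simp

theorem charP_k : CharP P.c.k q :=
  haveI := P.hchar
  (fixFld P.c.f).subtype.charP_iff Subtype.val_injective q |>.2 P.hchar

theorem cast_mod (a : ℕ) : ((a % q : ℕ) : P.c.k) = (a : P.c.k) := by
  haveI := P.charP_k
  rw [CharP.natCast_eq_natCast P.c.k q]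
  exact Nat.mod_modEq a q

theorem cast_inj {a b : ℕ} (ha : a < q) (hb : b < q) (h : (a : P.c.k) = (b : P.c.k)) : a = b :=
  P.inj _ (P.lt_n ha) _ (P.lt_n hb) (by rw [P.ι_k ha, P.ι_k hb, h])

/-- The matrix of a code. -/
noncomputable def mat (S : Mdl.Q4) : Matrix (Fin 2) (Fin 2) P.c.k :=
  !![(S.1 : P.c.k), (S.2.1 : P.c.k); (S.2.2.1 : P.c.k), (S.2.2.2 : P.c.k)]

/-- The element of a code. -/
noncomputable def sL (S : Mdl.Q4) : SL(2, P.c.k) :=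
  @dite _ ((P.mat S).det = 1) (_root_.Classical.propDecidable _) (fun h => ⟨P.mat S, h⟩) fun _ => 1

/-- Codes of determinant one. -/
def IsSL (S : Mdl.Q4) : Prop := (P.mat S).det = 1

theorem sL_val {S : Mdl.Q4} (h : P.IsSL S) : (P.sL S).1 = P.mat S := congrArg Subtype.val (dif_pos h)

theorem mat_mm (A B : Mdl.Q4) : P.mat (P.M.mm A B) = P.mat A * P.mat B := by
  obtain ⟨a, b, c, d⟩ := A
  obtain ⟨a', b', c', d'⟩ := B
  simp only [mat, Mdl.mm, P.hq, P.cast_mod, Nat.cast_add, Nat.cast_mul, Matrix.mul_fin_two]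

theorem isSL_mm {A B : Mdl.Q4} (hA : P.IsSL A) (hB : P.IsSL B) : P.IsSL (P.M.mm A B) := by
  rw [IsSL, P.mat_mm, Matrix.det_mul, hA, hB, mul_one]

theorem sL_mm {A B : Mdl.Q4} (hA : P.IsSL A) (hB : P.IsSL B) : P.sL (P.M.mm A B) = P.sL A * P.sL B := by
  refine Subtype.ext ?_
  rw [P.sL_val (P.isSL_mm hA hB), Matrix.SpecialLinearGroup.coe_mul, P.sL_val hA, P.sL_val hB, P.mat_mm]

theorem isSL_up (a : ℕ) : P.IsSL (1, a, 0, 1) := by simp [IsSL, mat, Matrix.det_fin_two]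

theorem isSL_low (a : ℕ) : P.IsSL (1, 0, a, 1) := by simp [IsSL, mat, Matrix.det_fin_two]

theorem sL_up (a : ℕ) : P.sL (1, a, 0, 1) = up (a : P.c.k) := by
  refine Subtype.ext ?_
  rw [P.sL_val (P.isSL_up a), TorusD4.up_val]; simp [mat]

theorem sL_low (a : ℕ) : P.sL (1, 0, a, 1) = low (a : P.c.k) := by
  refine Subtype.ext ?_
  rw [P.sL_val (P.isSL_low a), TorusD4.low_val]; simp [mat]

theorem cast_sub_mod {a : ℕ} (ha : a ≤ q) : (((q - a) % q : ℕ) : P.c.k) = -(a : P.c.k) := by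
  haveI := P.charP_k
  rw [P.cast_mod, Nat.cast_sub ha, CharP.cast_eq_zero, zero_sub]

theorem exists_Q4 (S : SL(2, P.c.k)) :
    ∃ A : Mdl.Q4, P.IsSL A ∧ A ∈ P.M.sl ∧ P.sL A = S := by
  obtain ⟨a, ha, ea⟩ := P.exists_cast (S.1 0 0)
  obtain ⟨b, hb, eb⟩ := P.exists_cast (S.1 0 1)
  obtain ⟨c, hc, ec⟩ := P.exists_cast (S.1 1 0)
  obtain ⟨d, hd, ed⟩ := P.exists_cast (S.1 1 1)
  have e : P.mat (a, b, c, d) = S.1 := by
    ext i j; fin_cases i <;> fin_cases j <;> simp [mat, ea, eb, ec, ed]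
  have h : P.IsSL (a, b, c, d) := by rw [IsSL, e]; exact S.2
  refine ⟨_, h, List.mem_filter.2 ⟨?_, ?_⟩, Subtype.ext (by rw [P.sL_val h, e])⟩
  · simp only [P.hq, List.mem_flatMap, List.mem_map, List.mem_range]
    exact ⟨a, ha, b, hb, c, hc, d, hd, rfl⟩
  · simp only [P.hq, decide_eq_true_eq]
    have hdet : (a : P.c.k) * d - (b : P.c.k) * c = 1 := by
      have := h; rw [IsSL, mat, Matrix.det_fin_two] at this; simpa using this
    haveI := P.charP_k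
    have hle : b * c ≤ a * d + q * q := by nlinarith
    refine P.cast_inj (Nat.mod_lt _ P.facts'.1.1) P.c.two_le ?_
    rw [P.cast_mod, Nat.cast_sub hle, Nat.cast_add, Nat.cast_mul, Nat.cast_mul, Nat.cast_mul, CharP.cast_eq_zero P.c.k q,
      mul_zero, add_zero, Nat.cast_one, hdet]

theorem sl_spec {A : Mdl.Q4} (h : A ∈ P.M.sl) :
    P.IsSL A ∧ A.1 < q ∧ A.2.1 < q ∧ A.2.2.1 < q ∧ A.2.2.2 < q := by
  obtain ⟨h1, h2⟩ := List.mem_filter.1 h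
  simp only [P.hq, List.mem_flatMap, List.mem_map, List.mem_range] at h1
  obtain ⟨a, ha, b, hb, c, hc, d, hd, rfl⟩ := h1
  refine ⟨?_, ha, hb, hc, hd⟩
  simp only [P.hq, decide_eq_true_eq] at h2
  haveI := P.charP_k
  have hle : b * c ≤ a * d + q * q := by nlinarith
  have h3 := P.cast_mod (a * d + q * q - b * c)
  rw [h2, Nat.cast_sub hle, Nat.cast_add, Nat.cast_mul, Nat.cast_mul, Nat.cast_mul, CharP.cast_eq_zero P.c.k q,
    mul_zero, add_zero, Nat.cast_one] at h3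
  rw [IsSL, mat, Matrix.det_fin_two]
  simpa using h3.symm

theorem isSL_inv4 {A : Mdl.Q4} (h : A ∈ P.M.sl) : P.IsSL (P.M.inv4 A) ∧ P.sL (P.M.inv4 A) = (P.sL A)⁻¹ := by
  obtain ⟨hA, ha, hb, hc, hd⟩ := P.sl_spec h
  have e : P.mat (P.M.inv4 A) = (P.mat A).adjugate := by
    simp only [mat, Mdl.inv4, P.hq, Matrix.adjugate_fin_two, P.cast_sub_mod hb.le, P.cast_sub_mod hc.le]
    ext i j; fin_cases i <;> fin_cases j <;> simp
  have h' : P.IsSL (P.M.inv4 A) := by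
    have := hA
    rw [IsSL, Matrix.det_fin_two] at this ⊢
    rw [e, Matrix.adjugate_fin_two]
    simp only [Matrix.of_apply, Matrix.cons_val', Matrix.cons_val_zero, Matrix.cons_val_one,
      Matrix.cons_val_fin_one]
    rw [← this]; ring
  refine ⟨h', Subtype.ext ?_⟩
  rw [P.sL_val h', Matrix.SpecialLinearGroup.coe_inv, P.sL_val hA, e]

/-- The determinant. -/
noncomputable def dd : (P.c.k)ˣ :=
  haveI := P.charP_k
  ⟨(P.M.d : P.c.k), (P.M.d : P.c.k), by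
      rw [← Nat.cast_mul, ← P.cast_mod, P.facts'.1.2.2.2.1, Nat.cast_one], by
      rw [← Nat.cast_mul, ← P.cast_mod, P.facts'.1.2.2.2.1, Nat.cast_one]⟩

theorem dd_inv : P.dd⁻¹ = P.dd := rfl

theorem scl_dd {A : Mdl.Q4} (hA : P.IsSL A) : P.IsSL (P.M.sd A) ∧ P.sL (P.M.sd A) = scl P.dd (P.sL A) := by
  have e : P.mat (P.M.sd A) = (scl P.dd (P.sL A)).1 := by
    obtain ⟨a, b, c, d⟩ := A
    rw [scl_val, P.sL_val hA, P.dd_inv]
    simp only [mat, Mdl.sd, P.hq, P.cast_mod, Nat.cast_mul]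
    ext i j; fin_cases i <;> fin_cases j <;> simp [dd]
  have h' : P.IsSL (P.M.sd A) := by rw [IsSL, e]; exact (scl P.dd (P.sL A)).2
  exact ⟨h', Subtype.ext (by rw [P.sL_val h', e])⟩

/-- The element of norm `d`. -/
noncomputable def v0 : Kˣ :=
  Units.mk0 (P.ι P.M.v0) fun h =>
    P.facts'.1.2.2.2.2.2.1 (P.inj _ P.facts'.1.2.2.2.2.1 _ (P.lt_n P.facts'.1.1) (h.trans P.ι_zero.symm))

theorem coe_v0 : (P.v0 : K) = P.ι P.M.v0 := rfl

theorem coe_nm (v : Kˣ) : ((P.c.nmHom v : P.c.k) : K) = nm3 P.c.f (v : K) := by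
  show (v : K) * (v : K) ^ q * ((v : K) ^ q) ^ q = _
  simp only [nm3, P.c.hf]

theorem nm_v0 : P.c.nmHom P.v0 = P.dd := by
  refine Units.ext (Subtype.ext ?_)
  rw [P.coe_nm, P.coe_v0, ← P.ι_nm, ← P.per, P.facts'.1.2.2.2.2.2.2]
  exact P.ι_k P.facts'.1.2.2.1

/-- The representative of the class. -/
noncomputable def x : GL chevD4.Idx K := P.c.Lv P.v0 (P.sL P.M.S0)

theorem x_mem : P.x ∈ P.c.Gr := P.c.Lv_mem _ _

theorem isSL_S0 : P.IsSL P.M.S0 := P.isSL_mm (P.isSL_up 1) (P.isSL_low _)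

theorem isSL_S1 : P.IsSL P.M.S1 := P.isSL_mm (P.isSL_low _) (P.isSL_up 1)

theorem sL_S0 : P.sL P.M.S0 = up 1 * low ((q - 1 : ℕ) : P.c.k) := by
  rw [Mdl.S0, P.sL_mm (P.isSL_up 1) (P.isSL_low _), P.sL_up, P.sL_low, Nat.cast_one, P.hq]

theorem sL_S1 : P.sL P.M.S1 = low ((q - 1 : ℕ) : P.c.k) * up 1 := by
  rw [Mdl.S1, P.sL_mm (P.isSL_low _) (P.isSL_up 1), P.sL_up, P.sL_low, Nat.cast_one, P.hq]

theorem wel_Q4 : P.IsSL (0, 1, q - 1, 0) ∧ P.sL (0, 1, q - 1, 0) = wel P.c.k ∧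
    (0, 1, q - 1, 0) ∈ P.M.sl := by
  haveI := P.charP_k
  have hm : (((q - 1 : ℕ)) : P.c.k) = -1 := by
    rw [Nat.cast_sub P.facts'.1.1, CharP.cast_eq_zero, zero_sub, Nat.cast_one]
  have h : P.IsSL (0, 1, q - 1, 0) := by simp [IsSL, mat, Matrix.det_fin_two, hm]
  have e : P.sL (0, 1, q - 1, 0) = wel P.c.k := Subtype.ext (by
    rw [P.sL_val h, wel_val]
    ext i j; fin_cases i <;> fin_cases j <;> simp [mat, hm])
  refine ⟨h, e, ?_⟩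
  obtain ⟨⟨a, b, c, d⟩, hA, hmem, hAe⟩ := P.exists_Q4 (P.sL (0, 1, q - 1, 0))
  obtain ⟨-, ha, hb, hc, hd⟩ := P.sl_spec hmem
  have he := congrArg Subtype.val hAe
  rw [P.sL_val hA, P.sL_val h] at he
  have h00 := congrFun (congrFun he 0) 0
  have h01 := congrFun (congrFun he 0) 1
  have h10 := congrFun (congrFun he 1) 0
  have h11 := congrFun (congrFun he 1) 1
  simp only [mat, Matrix.of_apply, Matrix.cons_val', Matrix.cons_val_zero, Matrix.cons_val_one,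
    Matrix.cons_val_fin_one] at h00 h01 h10 h11
  obtain rfl := P.cast_inj ha P.facts'.1.1 h00
  obtain rfl := P.cast_inj hb P.c.two_le h01
  obtain rfl := P.cast_inj hc (by have := P.facts'.1.1; omega) h10
  obtain rfl := P.cast_inj hd P.facts'.1.1 h11
  exact hmem

theorem wel_conj : wel P.c.k * P.sL P.M.S0 * (wel P.c.k)⁻¹ = P.sL P.M.S1 ∧
    wel P.c.k * P.sL P.M.S1 * (wel P.c.k)⁻¹ = P.sL P.M.S0 := by
  obtain ⟨h, e, hm⟩ := P.wel_Q4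
  obtain ⟨hi, ei⟩ := P.isSL_inv4 hm
  obtain ⟨-, ⟨f1, f2⟩, -, -⟩ := P.facts'
  refine ⟨?_, ?_⟩
  · conv_rhs => rw [← f1, P.sL_mm (P.isSL_mm h P.isSL_S0) hi, P.sL_mm h P.isSL_S0, ei, e]
  · conv_rhs => rw [← f2, P.sL_mm (P.isSL_mm h P.isSL_S1) hi, P.sL_mm h P.isSL_S1, ei, e]

/-- The other representative. -/
noncomputable def x' : GL chevD4.Idx K := P.c.Lv P.v0⁻¹ (P.sL P.M.S1)

theorem n0_x : n0 K * P.x * (n0 K)⁻¹ = P.x' ∧ n0 K * P.x' * (n0 K)⁻¹ = P.x := by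
  constructor
  · rw [x, P.c.n0_Lv, P.wel_conj.1]; rfl
  · rw [x', P.c.n0_Lv, P.wel_conj.2, inv_inv]; rfl

theorem st_ttF (v u : ℕ) (V : Kˣ) (U : (P.c.k)ˣ) (hV : P.ι v = (V : K)) (hU : P.ι u = ((U : P.c.k) : K))
    (s : St ℕ) : P.st (P.M.ttF' v u s) = P.c.ttF V U (P.st s) := by
  simp only [st, Mdl.ttF', Ctx.ttF, P.ι_ml, P.ι_fr, P.ι_iv, hV, hU]
  congr 1 <;> simp [chi, ← P.c.hf, div_eq_mul_inv, mul_inv, sq] <;> ring

theorem exists_st {s : St K} (hs : P.c.Ok s) :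
    ∃ s' : St ℕ, P.st s' = s ∧ s'.c < P.M.n ∧ s'.g < P.M.n ∧ s'.h < q ∧ s'.k < q ∧ s'.e < P.M.n := by
  have hk : ∀ x : K, P.c.f x = x → ∃ a < q, P.ι a = x := fun x hx => by
    obtain ⟨a, ha, e⟩ := P.exists_cast ⟨x, (mem_fixFld P.c.f P.c.hf).2 (by rw [← P.c.hf]; exact hx)⟩
    exact ⟨a, ha, by rw [P.ι_k ha, ← e]⟩
  obtain ⟨a, ha, ea⟩ := P.surj s.c
  obtain ⟨b, hb, eb⟩ := P.surj s.g
  obtain ⟨c, hc, ec⟩ := hk s.h hs.1
  obtain ⟨d, hd, ed⟩ := hk s.k hs.2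
  obtain ⟨e, he, ee⟩ := P.surj s.e
  exact ⟨⟨a, b, c, d, e⟩, by simp only [st, ea, eb, ec, ed, ee], ha, hb, hc, hd, he⟩

theorem st_zero : P.st ⟨0, 0, 0, 0, 0⟩ = (⟨0, 0, 0, 0, 0⟩ : St K) := by simp only [st, P.ι_zero]

/-- Without fixed points on the negative radical. -/
theorem fix_of_check {v u : ℕ} {V : Kˣ} {S : SL(2, P.c.k)} {F : St ℕ → St ℕ}
    (hF : ∀ s, P.c.Lv V S * neg P.c.f (P.st s) * (P.c.Lv V S)⁻¹ = neg P.c.f (P.st (F s)))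
    (hok : ∀ s, P.c.Ok (P.st s) → P.c.Ok (P.st (F s)))
    (hce : ∀ s, (F s).c = (F ⟨s.c, 0, 0, 0, s.e⟩).c ∧ (F s).e = (F ⟨s.c, 0, 0, 0, s.e⟩).e)
    (hg : ∀ g h k, (F ⟨0, g, h, k, 0⟩).g = (F ⟨0, g, 0, 0, 0⟩).g)
    (h : P.M.fixFree F = true) {n : GL chevD4.Idx K} (hn : n ∈ P.c.N) (hc : Commute n (P.c.Lv V S)) : n = 1 := by
  obtain ⟨s, hs, rfl⟩ := hn
  obtain ⟨⟨sc, sg, sh, sk, se⟩, rfl, l1, l2, l3, l4, l5⟩ := P.exists_st hs
  set s' : St ℕ := ⟨sc, sg, sh, sk, se⟩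
  have e : P.st (F s') = P.st s' := P.c.neg_inj (hok _ hs) hs (by
    rw [← hF, mul_inv_eq_iff_eq_mul]; exact hc.eq.symm)
  simp only [st, St.mk.injEq] at e
  obtain ⟨e1, e2, e3, e4, e5⟩ := e
  simp only [Mdl.fixFree, Bool.and_eq_true, List.all_eq_true, List.mem_range, Bool.or_eq_true,
    decide_eq_true_eq, P.hq] at h
  have h1 : sc = 0 ∧ se = 0 := by
    rcases h.1.1 sc l1 se l5 with (h' | h') | h'
    · exact h'
    · exact absurd (P.mod_eq l1 (by rw [← (hce s').1]; exact e1)) h'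
    · exact absurd (P.mod_eq l5 (by rw [← (hce s').2]; exact e5)) h'
  obtain ⟨rfl, rfl⟩ := h1
  have h2 : sg = 0 := by
    rcases h.1.2 sg l2 with h' | h'
    · exact h'
    · exact absurd (P.mod_eq l2 (by rw [← hg sg sh sk]; exact e2)) h'
  subst h2
  have h3 : sh = 0 ∧ sk = 0 := by
    rcases h.2 sh l3 sk l4 with (h' | h') | h'
    · exact h'
    · exact absurd (P.mod_eq (P.lt_n l3) e3) h'
    · exact absurd (P.mod_eq (P.lt_n l4) e4) h'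
  obtain ⟨rfl, rfl⟩ := h3
  show neg P.c.f (P.st ⟨0, 0, 0, 0, 0⟩) = 1
  rw [P.st_zero, P.c.neg_zero']

theorem act_x (s : St ℕ) : P.x * neg P.c.f (P.st s) * P.x⁻¹ = neg P.c.f (P.st (P.M.actX s)) := by
  have hm : ((q - 1 : ℕ) : P.c.k) = (((q - 1 : ℕ) : P.c.k)) := rfl
  have hq1 : q - 1 < q := by have := P.c.two_le; omega
  rw [Mdl.actX, P.st_ttF _ _ P.v0 P.dd P.coe_v0.symm (P.ι_k P.facts'.1.2.2.1), P.st_uppF, P.st_lowF, P.hq,
    P.ι_k P.c.two_le, P.ι_k hq1, ← P.c.tt_conj, ← P.c.upp_conj, ← P.c.low_conj, x, Ctx.Lv, P.nm_v0, P.sL_S0,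
    map_mul, Nat.cast_one]
  group

theorem act_x' (s : St ℕ) : P.x' * neg P.c.f (P.st s) * P.x'⁻¹ = neg P.c.f (P.st (P.M.actX' s)) := by
  have hq1 : q - 1 < q := by have := P.c.two_le; omega
  have hi : P.ι (P.M.iv P.M.v0) = ((P.v0⁻¹ : Kˣ) : K) := by rw [P.ι_iv, Units.val_inv_eq_inv_val]; rfl
  rw [Mdl.actX', P.st_ttF _ _ P.v0⁻¹ P.dd hi (P.ι_k P.facts'.1.2.2.1), P.st_lowF, P.st_uppF, P.hq,
    P.ι_k P.c.two_le, P.ι_k hq1, ← P.c.tt_conj, ← P.c.low_conj, ← P.c.upp_conj, x', Ctx.Lv, map_inv, P.nm_v0,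
    P.dd_inv, P.sL_S1, map_mul, Nat.cast_one]
  group

theorem fix_x (h : P.M.fixFree P.M.actX = true) {n : GL chevD4.Idx K} (hn : n ∈ P.c.N) (hc : Commute n P.x) :
    n = 1 :=
  P.fix_of_check (v := 0) (u := 0) P.act_x (fun s hs => by
      have hq1 : q - 1 < q := by have := P.c.two_le; omega
      rw [Mdl.actX, P.st_ttF _ _ P.v0 P.dd P.coe_v0.symm (P.ι_k P.facts'.1.2.2.1), P.st_uppF, P.st_lowF, P.hq,
        P.ι_k P.c.two_le, P.ι_k hq1]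
      exact P.c.ok_tt (P.c.ok_upp (P.c.ok_low hs)))
    (fun s => ⟨rfl, rfl⟩) (fun g h k => rfl) h hn hc

theorem fix_x' (h : P.M.fixFree P.M.actX' = true) {n : GL chevD4.Idx K} (hn : n ∈ P.c.N) (hc : Commute n P.x') :
    n = 1 :=
  P.fix_of_check (v := 0) (u := 0) P.act_x' (fun s hs => by
      have hq1 : q - 1 < q := by have := P.c.two_le; omega
      have hi : P.ι (P.M.iv P.M.v0) = ((P.v0⁻¹ : Kˣ) : K) := by rw [P.ι_iv, Units.val_inv_eq_inv_val]; rfl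
      rw [Mdl.actX', P.st_ttF _ _ P.v0⁻¹ P.dd hi (P.ι_k P.facts'.1.2.2.1), P.st_lowF, P.st_uppF, P.hq,
        P.ι_k P.c.two_le, P.ι_k hq1]
      exact P.c.ok_tt (P.c.ok_low (P.c.ok_upp hs)))
    (fun s => ⟨rfl, rfl⟩) (fun g h k => rfl) h hn hc

end Small

end CfsgLib.ClassSquare.Triality
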