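import Cfsg.Agent.Lib.ClassSquare.TrialitySmall

/-!
The covering of `³D₄(q)` for `q ≤ 3` from the finite checks.
-/

set_option autoImplicit false
set_option linter.unusedSectionVars false
set_option maxRecDepth 100000

namespace CfsgLib.ClassSquare.Triality

open Cfsg.Lie CfsgLib.Chev CfsgLib.Chev.Cert CfsgLib.Chev.D4Root
open CfsgLib.Chev.TorusD4 (up low)
open scoped MatrixGroups

variable {K : Type*} [Field K] [Fintype K] {q : ℕ}

namespace Small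

variable (P : Small K q)

/-- The coordinate of a target. -/
noncomputable def tgtU : ℕ → Kˣ
  | 0 => P.v0 * P.v0
  | 1 => 1
  | _ => (P.v0 * P.v0)⁻¹

theorem coe_tgtU : ∀ j, (P.tgtU j : K) = P.ι (P.M.tgt j)
  | 0 => by simp [tgtU, Mdl.tgt, P.ι_ml, P.coe_v0]
  | 1 => by simp [tgtU, Mdl.tgt, P.ι_one]
  | j + 2 => by simp [tgtU, Mdl.tgt, P.ι_ml, P.ι_iv, P.coe_v0]

theorem nm_tgtU : ∀ j, P.c.nmHom (P.tgtU j) = 1
  | 0 => by rw [tgtU, map_mul, P.nm_v0]; conv_lhs => arg 1; rw [← P.dd_inv]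
            rw [inv_mul_cancel]
  | 1 => map_one _
  | j + 2 => by
    show P.c.nmHom (P.v0 * P.v0)⁻¹ = 1
    rw [map_inv, map_mul, P.nm_v0]; conv_lhs => arg 1; arg 1; rw [← P.dd_inv]
    rw [inv_mul_cancel, inv_one]

/-- The covering property. -/
def CC (g : GL chevD4.Idx K) : Prop :=
  ∃ a ∈ P.c.Gr, ∃ b ∈ P.c.Gr, g = (a * P.x * a⁻¹) * (b * P.x * b⁻¹)

/-- The checks. -/
structure Checks (P : Small K q) (masks : List ℕ) (Js : List Mdl.Q4) : Prop where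
  masksOk : P.M.MasksOk masks = true
  reduced : P.M.Reduced masks Js = true
  movable : P.M.Movable = true
  fx : P.M.fixFree P.M.actX = true
  fx' : P.M.fixFree P.M.actX' = true
  cov : ∀ J ∈ Js, P.M.Covered masks J = true

theorem conj_mid (V : Kˣ) (S : Mdl.Q4) (hS : P.IsSL S) (hV : P.c.nmHom V = P.dd) {R : Mdl.Q4} (hR : R ∈ P.M.sl) :
    mid P.c.f (P.sL R) * P.c.Lv V (P.sL S) * (mid P.c.f (P.sL R))⁻¹ = P.c.Lv V (P.sL (P.M.cls S R)) ∧
      P.IsSL (P.M.cls S R) := by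
  obtain ⟨hR', -, -, -, -⟩ := P.sl_spec hR
  obtain ⟨hd, ed⟩ := P.scl_dd hR'
  obtain ⟨hi, ei⟩ := P.isSL_inv4 hR
  refine ⟨?_, P.isSL_mm (P.isSL_mm hd hS) hi⟩
  rw [Mdl.cls, P.sL_mm (P.isSL_mm hd hS) hi, P.sL_mm hd hS, ed, ei, ← map_inv (mid P.c.f),
    ← P.c.Lv_one (P.sL R), ← P.c.Lv_one (P.sL R)⁻¹, P.c.Lv_mul, P.c.Lv_mul, one_mul, mul_one, map_one, hV,
    P.dd_inv, inv_one, scl_one]

theorem factors (hnv : P.c.nmHom P.v0⁻¹ = P.dd) : ∀ j, ∃ V1 V2, P.c.nmHom V1 = P.dd ∧ P.c.nmHom V2 = P.dd ∧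
    V1 * V2 = P.tgtU j ∧
    (P.c.Lv V1 (P.sL (P.M.fac j).1) = P.x ∨ P.c.Lv V1 (P.sL (P.M.fac j).1) = P.x') ∧
    (P.c.Lv V2 (P.sL (P.M.fac j).2) = P.x ∨ P.c.Lv V2 (P.sL (P.M.fac j).2) = P.x') ∧
    P.IsSL (P.M.fac j).1 ∧ P.IsSL (P.M.fac j).2
  | 0 => ⟨P.v0, P.v0, P.nm_v0, P.nm_v0, rfl, Or.inl rfl, Or.inl rfl, P.isSL_S0, P.isSL_S0⟩
  | 1 => ⟨P.v0, P.v0⁻¹, P.nm_v0, hnv, mul_inv_cancel _, Or.inl rfl, Or.inr rfl, P.isSL_S0, P.isSL_S1⟩
  | _ + 2 => ⟨P.v0⁻¹, P.v0⁻¹, hnv, hnv, (mul_inv_rev _ _).symm, Or.inr rfl, Or.inr rfl, P.isSL_S1, P.isSL_S1⟩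

theorem good_CC {masks : List ℕ} {Js : List Mdl.Q4} (H : P.Checks masks Js) {g : GL chevD4.Idx K} {j : ℕ}
    {S : Mdl.Q4} {s : St K} (hg : P.M.isGood j S = true) (h : P.c.Rep g (P.tgtU j) (P.sL S) s) : P.CC g := by
  simp only [Mdl.isGood, List.any_eq_true, decide_eq_true_eq] at hg
  obtain ⟨R, hR, R', hR', e⟩ := hg
  -- the two class representatives
  have hfix : ∀ (y : GL chevD4.Idx K), y = P.x ∨ y = P.x' → ∀ Q : SL(2, P.c.k), ∀ n ∈ P.c.N,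
      Commute n (mid P.c.f Q * y * (mid P.c.f Q)⁻¹) → n = 1 := fun y hy Q n hn hc => by
    have hm : (mid P.c.f Q)⁻¹ * n * mid P.c.f Q ∈ P.c.N := by
      have h' := (Subgroup.mem_normalizer_iff.1 (inv_mem (P.c.mid_norm Q)) n).1 hn
      rwa [inv_inv] at h'
    have hc' : Commute ((mid P.c.f Q)⁻¹ * n * mid P.c.f Q) y := by
      show _ = _
      calc (mid P.c.f Q)⁻¹ * n * mid P.c.f Q * y
          = (mid P.c.f Q)⁻¹ * (n * (mid P.c.f Q * y * (mid P.c.f Q)⁻¹)) * mid P.c.f Q := by group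
        _ = (mid P.c.f Q)⁻¹ * ((mid P.c.f Q * y * (mid P.c.f Q)⁻¹) * n) * mid P.c.f Q := by rw [hc.eq]
        _ = _ := by group
    have h1 : (mid P.c.f Q)⁻¹ * n * mid P.c.f Q = 1 := by
      rcases hy with rfl | rfl
      · exact P.fix_x H.fx hm hc'
      · exact P.fix_x' H.fx' hm hc'
    calc n = mid P.c.f Q * ((mid P.c.f Q)⁻¹ * n * mid P.c.f Q) * (mid P.c.f Q)⁻¹ := by group
      _ = 1 := by rw [h1]; group
  have hcl : ∀ (y : GL chevD4.Idx K), y = P.x ∨ y = P.x' → ∀ Q : SL(2, P.c.k),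
      ∃ a ∈ P.c.Gr, a * P.x * a⁻¹ = mid P.c.f Q * y * (mid P.c.f Q)⁻¹ := fun y hy Q => by
    rcases hy with rfl | rfl
    · exact ⟨_, P.c.mid_mem_Gr Q, rfl⟩
    · exact ⟨mid P.c.f Q * n0 K, mul_mem (P.c.mid_mem_Gr Q) P.c.n0_mem, by rw [← P.n0_x.1]; group⟩
  have hflip : ∀ (y : GL chevD4.Idx K), y = P.x ∨ y = P.x' → n0 K * y * (n0 K)⁻¹ = P.x ∨
      n0 K * y * (n0 K)⁻¹ = P.x' := by
    rintro y (rfl | rfl)
    exacts [Or.inr P.n0_x.1, Or.inl P.n0_x.2]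
  -- the factors of the target
  have hnv : P.c.nmHom P.v0⁻¹ = P.dd := by rw [map_inv, P.nm_v0, P.dd_inv]
  obtain ⟨V1, V2, hV1, hV2, hv, y1, y2, hS1⟩ := P.factors hnv j
  obtain ⟨e1, h1⟩ := P.conj_mid V1 _ hS1.1 hV1 hR
  obtain ⟨e2, h2⟩ := P.conj_mid V2 _ hS1.2 hV2 hR'
  refine P.c.cover_of_rep h (v1 := V1) (v2 := V2) (S1 := P.sL (P.M.cls (P.M.fac j).1 R))
    (S2 := P.sL (P.M.cls (P.M.fac j).2 R')) ?_ (fun n hn hc => hfix _ y1 _ n hn (by rw [e1]; exact hc)) (fun n hn hc => ?_)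
    (by rw [← e1]; exact hcl _ y1 _) (by rw [← e2]; exact hcl _ y2 _)
  · obtain ⟨hd, ed⟩ := P.scl_dd h1
    rw [P.c.Lv_mul, hv, hV2, P.dd_inv, ← e, P.sL_mm hd h2, ed]
  · rw [← P.c.n0_Lv, ← e2] at hc
    rw [show n0 K * (mid P.c.f (P.sL R') * P.c.Lv V2 (P.sL (P.M.fac j).2) * (mid P.c.f (P.sL R'))⁻¹) * (n0 K)⁻¹ =
      (n0 K * mid P.c.f (P.sL R') * (n0 K)⁻¹) * (n0 K * P.c.Lv V2 (P.sL (P.M.fac j).2) * (n0 K)⁻¹) *
        (n0 K * mid P.c.f (P.sL R') * (n0 K)⁻¹)⁻¹ by group, P.c.n0_mid] at hc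
    exact hfix _ (hflip _ y2) _ n hn hc

/-- A conjugate of given codes. -/
def Node (g : GL chevD4.Idx K) (v : ℕ) (s : St ℕ) (S : Mdl.Q4) : Prop :=
  ∃ V : Kˣ, (V : K) = P.ι v ∧ P.c.nmHom V = 1 ∧ P.IsSL S ∧ P.c.Rep g V (P.sL S) (P.st s)

theorem node_frame {g : GL chevD4.Idx K} {v : ℕ} {s : St ℕ} {S : Mdl.Q4} (h : P.Node g v s S) {o : Bool × ℕ}
    (ho : o.2 < q) : P.Node g v (P.M.frame o (s, S)).1 (P.M.frame o (s, S)).2 := by
  obtain ⟨V, hv, hn, hS, hrep⟩ := h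
  obtain ⟨b, a⟩ := o
  have ha : a ≤ q := le_of_lt ho
  cases b with
  | true =>
    have hA := P.isSL_up a
    have hB := P.isSL_up ((q - a) % q)
    refine ⟨V, hv, hn, ?_, ?_⟩
    · simp only [Mdl.frame, if_true, P.hq]; exact P.isSL_mm (P.isSL_mm hA hS) hB
    · simp only [Mdl.frame, if_true, P.hq]
      rw [P.st_uppF, P.ι_k ho, P.sL_mm (P.isSL_mm hA hS) hB, P.sL_mm hA hS, P.sL_up, P.sL_up,
        P.cast_sub_mod ha]
      have h2 := P.c.rep_upp hrep (a : P.c.k)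
      rwa [hn, inv_one, scl_one] at h2
  | false =>
    have hA := P.isSL_low a
    have hB := P.isSL_low ((q - a) % q)
    refine ⟨V, hv, hn, ?_, ?_⟩
    · simp only [Mdl.frame, Bool.false_eq_true, if_false, P.hq]; exact P.isSL_mm (P.isSL_mm hA hS) hB
    · simp only [Mdl.frame, Bool.false_eq_true, if_false, P.hq]
      rw [P.st_lowF, P.ι_k ho, P.sL_mm (P.isSL_mm hA hS) hB, P.sL_mm hA hS, P.sL_low, P.sL_low,
        P.cast_sub_mod ha]
      have h2 := P.c.rep_low hrep (a : P.c.k)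
      rwa [hn, inv_one, scl_one] at h2

theorem node_frames {g : GL chevD4.Idx K} {v : ℕ} {s : St ℕ} {S : Mdl.Q4} (h : P.Node g v s S) :
    ∀ {l : List (Bool × ℕ)}, (∀ o ∈ l, o.2 < q) → P.Node g v (P.M.frames l (s, S)).1 (P.M.frames l (s, S)).2
  | [], _ => h
  | o :: l, hl => P.node_frame (node_frames h fun o' ho' => hl o' (List.mem_cons_of_mem _ ho'))
      (hl o List.mem_cons_self)

theorem node_move {g : GL chevD4.Idx K} {v : ℕ} {s : St ℕ} {S : Mdl.Q4} (h : P.Node g v s S) (t w : ℕ) (W : Kˣ)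
    (hW : (W : K) = P.ι w) (hnW : P.c.nmHom W = 1) (hw : P.ι w = 1 + P.ι t * P.ι s.e) :
    P.Node g (P.M.ml w v) (P.M.moveF' t w s) (P.M.mm (1, 0, P.M.Pf' t s % P.M.n, 1) S) := by
  obtain ⟨V, hv, hn, hS, hrep⟩ := h
  obtain ⟨Q, hQ, h2⟩ := P.c.rep_move hrep (P.ι t) W (hW.trans hw)
  obtain ⟨a, ha, rfl⟩ := P.exists_cast Q
  rw [← P.ι_Pf] at hQ
  have he : P.M.Pf' t s % P.M.n = a := P.mod_eq (P.lt_n ha) (by rw [P.ι_k ha, hQ])
  refine ⟨W * V, by rw [Units.val_mul, hW, hv, P.ι_ml], by rw [map_mul, hnW, hn, mul_one],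
    P.isSL_mm (P.isSL_low _) hS, ?_⟩
  rw [map_mul, hnW, hn, mul_one, inv_one, scl_one, show dia (1 : (P.c.k)ˣ) = (1 : SL(2, P.c.k)) from
    Subtype.ext (by simp [dia_val, Matrix.one_fin_two]), one_mul] at h2
  rw [he, P.sL_mm (P.isSL_low a) hS, P.sL_low, P.st_moveF, ← hW]
  exact h2

theorem tgt_unit_eq {j v : ℕ} {V : Kˣ} (hv : (V : K) = P.ι v) (e : P.ι (P.M.tgt j) = P.ι v) : P.tgtU j = V :=
  Units.ext (by rw [P.coe_tgtU, e, hv])

theorem bit_CC {masks : List ℕ} {Js : List Mdl.Q4} (H : P.Checks masks Js) {g : GL chevD4.Idx K} {j : ℕ}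
    (hj : j < 3) {S : Mdl.Q4} (hS : S.1 < q ∧ S.2.1 < q ∧ S.2.2.1 < q ∧ S.2.2.2 < q)
    (hb : (masks.getD j 0).testBit (Mdl.code S) = true) {s : St ℕ} (h : P.Node g (P.M.tgt j) s S) : P.CC g := by
  obtain ⟨a, b, c, d⟩ := S
  obtain ⟨ha, hb', hc, hd⟩ := hS
  obtain ⟨V, hv, -, -, hrep⟩ := h
  have h0 := H.masksOk
  simp only [Mdl.MasksOk, List.all_eq_true, List.mem_range, P.hq, Bool.or_eq_true, Bool.not_eq_true'] at h0
  rcases h0 j hj a ha b hb' c hc d hd with h1 | h1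
  · rw [hb] at h1; exact absurd h1 (by decide)
  · exact P.good_CC H h1 (P.tgt_unit_eq hv rfl ▸ hrep)

theorem mm_lt (A B : Mdl.Q4) : (P.M.mm A B).1 < q ∧ (P.M.mm A B).2.1 < q ∧ (P.M.mm A B).2.2.1 < q ∧
    (P.M.mm A B).2.2.2 < q := by
  obtain ⟨a, b, c, d⟩ := A
  obtain ⟨a', b', c', d'⟩ := B
  have hq0 := P.facts'.1.1
  simp only [Mdl.mm, P.hq]
  exact ⟨Nat.mod_lt _ hq0, Nat.mod_lt _ hq0, Nat.mod_lt _ hq0, Nat.mod_lt _ hq0⟩

theorem fin_CC {masks : List ℕ} {Js : List Mdl.Q4} (H : P.Checks masks Js) {g : GL chevD4.Idx K} {v : ℕ}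
    {s : St ℕ} {S : Mdl.Q4} (h : P.Node g v s S) (hf : P.M.fin masks v s S = true) : P.CC g := by
  unfold Mdl.fin at hf
  split at hf
  case isTrue he =>
    simp only [List.any_eq_true, List.mem_range, Bool.and_eq_true, decide_eq_true_eq] at hf
    obtain ⟨j, hj, hjv, t, -, hb⟩ := hf
    have h1 := P.node_move h t 1 1 (by rw [Units.val_one, P.ι_one]) (map_one _)
      (by rw [P.ι_one, P.mod_eq_zero.1 he, mul_zero, add_zero])
    obtain ⟨V, hv, hn, hS', hrep⟩ := h1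
    refine P.bit_CC H hj (P.mm_lt _ _) hb (s := P.M.moveF' t 1 s) ⟨V, ?_, hn, hS', hrep⟩
    rw [hv, P.ι_ml, P.ι_one, one_mul, hjv]
  case isFalse he =>
    simp only [List.any_eq_true, List.mem_range] at hf
    obtain ⟨j, hj, hb⟩ := hf
    set w := P.M.ml (P.M.tgt j) (P.M.iv v)
    set t := P.M.ml (P.M.sb w 1) (P.M.iv s.e)
    obtain ⟨V, hv, hn, -, -⟩ := id h
    have hW : ((P.tgtU j * V⁻¹ : Kˣ) : K) = P.ι w := by
      rw [P.ι_ml, P.ι_iv, ← hv, Units.val_mul, Units.val_inv_eq_inv_val, P.coe_tgtU]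
    have he' : P.ι s.e ≠ 0 := fun e => he (P.mod_eq_zero.2 e)
    have h1 := P.node_move h t w _ hW (by rw [map_mul, map_inv, P.nm_tgtU, hn, inv_one, mul_one]) (by
      rw [show P.ι t = (P.ι w - 1) * (P.ι s.e)⁻¹ by rw [P.ι_ml, P.ι_iv, P.ι_sb, P.ι_one], inv_mul_cancel_right₀ he']
      ring)
    obtain ⟨V', hv', hn', hS', hrep⟩ := h1
    refine P.bit_CC H hj (P.mm_lt _ _) hb (s := P.M.moveF' t w s) ⟨V', ?_, hn', hS', hrep⟩
    rw [hv', P.ι_ml, ← hW, ← hv, ← P.coe_tgtU, ← Units.val_mul, inv_mul_cancel_right]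

theorem last_CC {masks : List ℕ} {Js : List Mdl.Q4} (H : P.Checks masks Js) {g : GL chevD4.Idx K} {v : ℕ}
    {s : St ℕ} {S : Mdl.Q4} (h : P.Node g v s S) (hf : P.M.last masks v s S = true) : P.CC g := by
  simp only [Mdl.last, List.any_eq_true] at hf
  obtain ⟨l, hl, hb⟩ := hf
  exact P.fin_CC H (P.node_frames h (P.facts'.2.2.1 l hl)) hb

theorem nm_of_two (hq2 : q = 2) (W : Kˣ) : P.c.nmHom W = 1 := by
  haveI : Subsingleton (P.c.k)ˣ := (Nat.card_eq_one_iff_unique.1 (by rw [P.c.card_k_units, hq2])).1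
  exact Subsingleton.elim _ _

theorem good2_CC {masks : List ℕ} {Js : List Mdl.Q4} (H : P.Checks masks Js) {g : GL chevD4.Idx K}
    {s : St ℕ} {S : Mdl.Q4} (h : P.Node g (P.M.tgt 0) s S) (hf : P.M.good2 masks s S = true) : P.CC g := by
  simp only [Mdl.good2, Bool.or_eq_true, Bool.and_eq_true, decide_eq_true_eq, List.any_eq_true,
    List.mem_range] at hf
  rcases hf with hf | ⟨⟨hq2, he⟩, w, hw, hw0, hf⟩
  · exact P.last_CC H h hf
  · have hne : P.ι w ≠ 0 := fun e => hw0 (P.inj w hw 0 (P.lt_n P.facts'.1.1) (e.trans P.ι_zero.symm))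
    have he' : P.ι s.e ≠ 0 := fun e => he (P.mod_eq_zero.2 e)
    refine P.last_CC H (P.node_move h _ w (Units.mk0 _ hne) rfl (P.nm_of_two (P.hq ▸ hq2) _) ?_) hf
    rw [show P.ι (P.M.ml (P.M.sb w 1) (P.M.iv s.e)) = (P.ι w - 1) * (P.ι s.e)⁻¹ by
      rw [P.ι_ml, P.ι_iv, P.ι_sb, P.ι_one], inv_mul_cancel_right₀ he']
    ring

theorem frame_ne {g : GL chevD4.Idx K} {s : St ℕ} {S : Mdl.Q4} {v : ℕ} (h : P.Node g v s S) {o : Bool × ℕ}
    (ho : o.2 < q) (hne : P.st s ≠ ⟨0, 0, 0, 0, 0⟩) : P.st (P.M.frame o (s, S)).1 ≠ ⟨0, 0, 0, 0, 0⟩ := by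
  obtain ⟨V, -, -, -, hs, -⟩ := h
  obtain ⟨b, a⟩ := o
  intro e
  apply hne
  refine (P.c.neg_eq_one hs).1 ?_
  cases b with
  | true =>
    simp only [Mdl.frame, if_true] at e
    rw [P.st_uppF, P.ι_k ho] at e
    rw [← conj_eq_one_iff (a := mid P.c.f (up (a : P.c.k))), P.c.upp_conj, e, P.c.neg_zero']
  | false =>
    simp only [Mdl.frame, Bool.false_eq_true, if_false] at e
    rw [P.st_lowF, P.ι_k ho] at e
    rw [← conj_eq_one_iff (a := mid P.c.f (low (a : P.c.k))), P.c.low_conj, e, P.c.neg_zero']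

theorem frames_ne {g : GL chevD4.Idx K} {s : St ℕ} {S : Mdl.Q4} {v : ℕ} (h : P.Node g v s S)
    (hne : P.st s ≠ ⟨0, 0, 0, 0, 0⟩) :
    ∀ {l : List (Bool × ℕ)}, (∀ o ∈ l, o.2 < q) → P.st (P.M.frames l (s, S)).1 ≠ ⟨0, 0, 0, 0, 0⟩
  | [], _ => hne
  | o :: l, hl => P.frame_ne (P.node_frames h fun o' ho' => hl o' (List.mem_cons_of_mem _ ho'))
      (hl o List.mem_cons_self) (frames_ne h hne fun o' ho' => hl o' (List.mem_cons_of_mem _ ho'))

/-- Scaling the last coordinate to `0` or `1`. -/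
theorem normalise {g : GL chevD4.Idx K} {S : Mdl.Q4} {s : St ℕ} (h : P.Node g (P.M.tgt 0) s S)
    (hne : P.st s ≠ ⟨0, 0, 0, 0, 0⟩) :
    ∃ s' : St K, ((s'.e = 0 ∧ s' = P.st s) ∨ s'.e = 1) ∧ s' ≠ ⟨0, 0, 0, 0, 0⟩ ∧ P.c.Rep g (P.tgtU 0) (P.sL S) s' := by
  obtain ⟨V, hv, -, -, hrep⟩ := h
  rw [← P.tgt_unit_eq hv rfl] at hrep
  by_cases he : (P.st s).e = 0
  · exact ⟨P.st s, Or.inl ⟨he, rfl⟩, hne, hrep⟩
  set E : Kˣ := Units.mk0 _ he
  set a : (P.c.k)ˣ := P.c.nmHom E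
  have hak : ∀ z : (P.c.k)ˣ, z * z = 1 ∧ z * z * z = z := fun z => by
    have h1 : z ^ (q - 1) = 1 := by rw [← P.c.card_k_units]; exact pow_card_eq_one'
    have h2 : z * z = 1 := by
      obtain ⟨h3, h4, -⟩ := P.facts'.1
      have := P.c.two_le
      rcases (show q - 1 = 1 ∨ q - 1 = 2 by omega) with e | e
      · rw [e, pow_one] at h1; rw [h1, one_mul]
      · rwa [e, sq] at h1
    exact ⟨h2, by rw [h2, one_mul]⟩
  set y : Kˣ := P.c.iu a * E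
  have hy : P.c.nmHom y = 1 := by
    have h1 : P.c.nmHom (P.c.iu a) = a * a * a := by
      refine Units.ext (Subtype.ext ?_)
      rw [P.coe_nm]
      show ((a : P.c.k) : K) * P.c.f _ * P.c.f (P.c.f _) = _
      rw [show ((P.c.iu a : Kˣ) : K) = ((a : P.c.k) : K) from rfl, P.c.fix_k, P.c.fix_k]
      rfl
    rw [map_mul, h1, (hak a).2]
    exact (hak a).1
  have hy1 : y ^ (q * q + q + 1) = 1 := by
    refine Units.ext ?_
    rw [Units.val_pow_eq_pow_val, ← sq, ← P.c.coe_nmHom, hy]; rfl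
  set m := (q * q + q + 2) / 2
  have h2m : m * 2 = q * q + q + 1 + 1 := by
    obtain ⟨k, hk⟩ : 2 ∣ q * q + q := by
      rw [show q * q + q = q * (q + 1) by ring]; exact (Nat.even_mul_succ_self q).two_dvd
    omega
  set w : Kˣ := y ^ m
  have hw : w ^ 2 = y := by rw [← pow_mul, h2m, pow_succ, hy1, one_mul]
  have hnw : P.c.nmHom w = 1 := by rw [map_pow, hy, one_pow]
  have h2 := P.c.rep_scale hrep w a
  rw [hnw, P.nm_tgtU, inv_one, one_mul, scl_one, scl_one, show dia a * P.sL S * (dia a)⁻¹ = P.sL S from by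
    rw [mul_inv_eq_iff_eq_mul]
    refine Subtype.ext ?_
    have ha2 : ((a : (P.c.k)ˣ) : P.c.k) = ((a⁻¹ : (P.c.k)ˣ) : P.c.k) := by
      rw [inv_eq_of_mul_eq_one_right (hak a).1]
    rw [Units.val_inv_eq_inv_val] at ha2
    rw [Matrix.SpecialLinearGroup.coe_mul, Matrix.SpecialLinearGroup.coe_mul, dia_val, ← ha2]
    ext i j; fin_cases i <;> fin_cases j <;> simp [Matrix.mul_apply, Fin.sum_univ_two, mul_comm]] at h2
  refine ⟨_, Or.inr ?_, fun e => hne ?_, h2⟩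
  · show chi q 0 ((w⁻¹ : Kˣ) : K) (((a⁻¹ : (P.c.k)ˣ) : P.c.k) : K) * (P.st s).e = 1
    have hwK : ((w : Kˣ) : K) ^ 2 = ((a : P.c.k) : K) * (P.st s).e := by
      rw [← Units.val_pow_eq_pow_val, hw]; rfl
    have ha0 : ((a : P.c.k) : K) ≠ 0 := by simpa using a.ne_zero
    simp [chi]
    field_simp
    linear_combination -hwK
  · refine (P.c.neg_eq_one hrep.1).1 ?_
    rw [← conj_eq_one_iff (a := P.c.tt w a), P.c.tt_conj, e, P.c.neg_zero']

/-- The state of nonzero last coordinate. -/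
theorem exists_rep_e {masks : List ℕ} {Js : List Mdl.Q4} (H : P.Checks masks Js) {g : GL chevD4.Idx K}
    (hg : g ∈ P.c.Gr) (hne : g ≠ 1) : ∃ v S s, P.c.Rep g v S s ∧ s.e ≠ 0 := by
  have step1 : ∀ v S s, P.c.Rep g v S s → s.c ≠ 0 → ∃ v S s, P.c.Rep g v S s ∧ s.e ≠ 0 := by
    intro v S s h hc
    by_cases he : s.e = 0
    · refine ⟨_, _, _, P.c.rep_upp h 1, ?_⟩
      simp [uppF, he, hc]
    · exact ⟨v, S, s, h, he⟩
  have step2 : ∀ v S s, P.c.Rep g v S s → (s.g ≠ 0 ∨ s.h ≠ 0) → ∃ v S s, P.c.Rep g v S s ∧ s.e ≠ 0 := by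
    intro v S s h hgh
    by_cases hc : s.c = 0
    swap
    · exact step1 v S s h hc
    by_cases he : s.e = 0
    swap
    · exact ⟨v, S, s, h, he⟩
    obtain ⟨s', es, l1, l2, l3, l4, l5⟩ := P.exists_st h.1
    have hh := H.movable
    simp only [Mdl.Movable, List.all_eq_true, List.mem_range, Bool.or_eq_true, decide_eq_true_eq,
      List.any_eq_true, P.hq] at hh
    rcases hh s'.g l2 s'.h l3 with h0 | ⟨t, -, ht⟩
    · rw [← es] at hgh
      simp [st, h0.1, h0.2, P.ι_zero] at hgh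
    · obtain ⟨Q, hQ, h2⟩ := P.c.rep_move h (P.ι t) 1 (by rw [Units.val_one, he, mul_zero, add_zero])
      refine step1 _ _ _ h2 fun e => ?_
      apply ht
      rw [P.mod_eq_zero]
      have e3 := congrArg St.c (P.st_moveF t 1 ⟨0, s'.g, s'.h, 0, 0⟩)
      simp only [st, P.ι_one, P.ι_zero] at e3
      rw [e3]
      have es' : s = ⟨0, P.ι s'.g, P.ι s'.h, P.ι s'.k, 0⟩ := by
        obtain ⟨a, b, c, d, e'⟩ := s
        simp only [st, St.mk.injEq] at es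
        obtain ⟨-, rfl, rfl, rfl, -⟩ := es
        simp only at hc he
        subst hc; subst he; rfl
      rw [es', Units.val_one] at e
      simp only [moveF, mulF, sevF, lowF, mul_zero, zero_mul, sub_zero, map_zero, add_zero, div_one] at e ⊢
      exact e
  obtain ⟨v, S, s, h, hs⟩ := P.c.exists_rep_ne hg hne
  by_cases he : s.e = 0
  swap
  · exact ⟨v, S, s, h, he⟩
  by_cases hc : s.c = 0
  swap
  · exact step1 v S s h hc
  by_cases hgh : s.g ≠ 0 ∨ s.h ≠ 0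
  · exact step2 v S s h hgh
  push Not at hgh
  refine step2 _ _ _ (P.c.rep_upp h 1) (Or.inr ?_)
  have hk : s.k ≠ 0 := fun e => hs (by
    obtain ⟨a, b, c, d, e'⟩ := s
    simp only at he hc hgh e
    obtain ⟨rfl, rfl⟩ := hgh
    subst he; subst hc; subst e; rfl)
  simp [uppF, nm3, tr3, hc, hgh.2, hk]

/-- The covering for a small field. -/
theorem cover {masks : List ℕ} {Js : List Mdl.Q4} (H : P.Checks masks Js) {g : GL chevD4.Idx K}
    (hg : g ∈ P.c.Gr) (hne : g ≠ 1) : P.CC g := by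
  obtain ⟨v, S, s, hrep, he⟩ := P.exists_rep_e H hg hne
  -- to the first target
  set W : Kˣ := P.tgtU 0 * v⁻¹
  obtain ⟨Q, -, h2⟩ := P.c.rep_move hrep (((W : K) - 1) / s.e) W (by rw [div_mul_cancel₀ _ he]; ring)
  rw [inv_mul_cancel_right] at h2
  obtain ⟨S1, hS1, hS1m, eS1⟩ := P.exists_Q4 (scl (P.c.nmHom (P.tgtU 0))⁻¹ (low Q) * (dia (P.c.nmHom W)⁻¹ * S))
  rw [← eS1] at h2
  obtain ⟨s1, es1, -, -, -, -, -⟩ := P.exists_st h2.1
  have hnode : P.Node g (P.M.tgt 0) s1 S1 := ⟨P.tgtU 0, P.coe_tgtU 0, P.nm_tgtU 0, hS1, es1 ▸ h2⟩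
  have hne1 : P.st s1 ≠ ⟨0, 0, 0, 0, 0⟩ := fun e => by
    rw [es1] at e
    have e2 := congrArg St.e e
    simp [moveF, mulF, sevF, lowF, he, W.ne_zero] at e2
  have hred := H.reduced
  simp only [Mdl.Reduced, List.all_eq_true, Bool.or_eq_true, List.any_eq_true, List.contains_iff_mem] at hred
  rcases hred S1 hS1m with hb | ⟨l, hl, hJ⟩
  · exact P.bit_CC H (by norm_num) (P.sl_spec hS1m).2 hb hnode
  have hl' := P.facts'.2.2.2 l hl
  have hn2 := P.node_frames hnode hl'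
  have hne2 := P.frames_ne hnode hne1 hl'
  have hJ' : (P.M.frames l (s1, S1)).2 = P.M.conjW l S1 := by
    have : ∀ (l : List (Bool × ℕ)) (a b : St ℕ), (P.M.frames l (a, S1)).2 = (P.M.frames l (b, S1)).2 := by
      intro l
      induction l with
      | nil => intro a b; rfl
      | cons o l ih =>
        intro a b
        simp only [Mdl.frames, Mdl.frame]
        split <;> simp only [ih a b]
    exact this l _ _
  rw [hJ'] at hn2
  have hc := H.cov _ hJ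
  simp only [Mdl.Covered, Bool.and_eq_true, List.all_eq_true, List.mem_range, Bool.or_eq_true,
    decide_eq_true_eq, P.hq] at hc
  obtain ⟨⟨hfix, hc1⟩, hc0⟩ := hc
  -- make the last coordinate nonzero unless the first vanishes as well
  obtain ⟨s2, hn3, hne3, hce⟩ : ∃ s2, P.Node g (P.M.tgt 0) s2 (P.M.conjW l S1) ∧
      P.st s2 ≠ ⟨0, 0, 0, 0, 0⟩ ∧ ((P.st s2).e = 0 → (P.st s2).c = 0) := by
    by_cases hec : (P.st (P.M.frames l (s1, S1)).1).e = 0 → (P.st (P.M.frames l (s1, S1)).1).c = 0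
    · exact ⟨_, hn2, hne2, hec⟩
    push Not at hec
    have hn3 := P.node_frame hn2 (o := (true, 1)) P.c.two_le
    have e2 : (P.M.frame (true, 1) ((P.M.frames l (s1, S1)).1, P.M.conjW l S1)).2 = P.M.conjW l S1 := by
      conv_rhs => rw [← hfix]
      rfl
    rw [e2] at hn3
    refine ⟨_, hn3, P.frame_ne hn2 (o := (true, 1)) P.c.two_le hne2, fun e => absurd e ?_⟩
    simp only [Mdl.frame, if_true]
    rw [P.st_uppF, P.ι_one]
    simp only [uppF, hec.1, one_mul, zero_sub, neg_eq_zero]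
    exact hec.2
  obtain ⟨s3, he3, hne4, h3⟩ := P.normalise hn3 hne3
  obtain ⟨t, et, l1, l2, l3, l4, l5⟩ := P.exists_st h3.1
  obtain ⟨tc, tg, th', tk, te⟩ := t
  obtain ⟨-, -, -, hS, -⟩ := hn3
  have hnode3 : P.Node g (P.M.tgt 0) ⟨tc, tg, th', tk, te⟩ (P.M.conjW l S1) :=
    ⟨P.tgtU 0, P.coe_tgtU 0, P.nm_tgtU 0, hS, et ▸ h3⟩
  rcases he3 with ⟨he0, hs3⟩ | he1
  · have hc' : s3.c = 0 := by rw [hs3] at he0 ⊢; exact hce he0
    have h1 : te = 0 := P.inj te l5 0 (P.lt_n P.facts'.1.1) (by rw [P.ι_zero, ← he0, ← et]; rfl)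
    have h2 : tc = 0 := P.inj tc l1 0 (P.lt_n P.facts'.1.1) (by rw [P.ι_zero, ← hc', ← et]; rfl)
    subst h1; subst h2
    rcases hc0 tg l2 th' l3 tk l4 with h0 | h0
    · obtain ⟨rfl, rfl, rfl⟩ := h0
      exact absurd (et.symm.trans P.st_zero) hne4
    · exact P.good2_CC H hnode3 h0
  · have h1 : te = 1 := P.inj te l5 1 (P.lt_n P.c.two_le) (by rw [P.ι_one, ← he1, ← et]; rfl)
    subst h1
    rcases hc1 tc l1 tg l2 th' l3 with h0 | h0
    · exact P.fin_CC H hnode3 h0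
    · exact P.good2_CC H hnode3 (h0 tk l4)

end Small

end CfsgLib.ClassSquare.Triality
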