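import Cfsg.Agent.Lib.ClassSquare.TrialityModel

/-!
The finite checks for `³D₄(2)` and `³D₄(3)`: from every nonzero state a short sequence of moves reaches
an element of the Levi subgroup that is a product in the required classes.
-/

set_option autoImplicit false
set_option linter.unusedSectionVars false
set_option maxRecDepth 100000

namespace CfsgLib.ClassSquare.Triality

namespace Mdl

variable (M : Mdl)

/-- A two by two matrix. -/
abbrev Q4 := ℕ × ℕ × ℕ × ℕ

/-- The matrix of the class. -/
def S0 : Q4 := M.mm (1, 1, 0, 1) (1, 0, M.q - 1, 1)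

/-- The matrix of the inverse class. -/
def S1 : Q4 := M.mm (1, 0, M.q - 1, 1) (1, 1, 0, 1)

/-- The conjugation by `diag(±1, 1)`. -/
def sd (A : Q4) : Q4 := let (a, b, c, d) := A; (a, M.d * b % M.q, M.d * c % M.q, d)

/-- The adjugate. -/
def inv4 (A : Q4) : Q4 := let (a, b, c, d) := A; (d, (M.q - b) % M.q, (M.q - c) % M.q, a)

/-- The matrices of determinant one. -/
def sl : List Q4 :=
  ((List.range M.q).flatMap fun a => (List.range M.q).flatMap fun b => (List.range M.q).flatMap fun c =>
    (List.range M.q).map fun d => (a, b, c, d)).filter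
      fun A => decide ((A.1 * A.2.2.2 + M.q * M.q - A.2.1 * A.2.2.1) % M.q = 1)

/-- The conjugate of a class matrix by `R` in the coordinates of the Levi subgroup. -/
def cls (S R : Q4) : Q4 := M.mm (M.mm (M.sd R) S) (M.inv4 R)

/-- The coordinate `v` of a target. -/
def tgt : ℕ → ℕ
  | 0 => M.ml M.v0 M.v0
  | 1 => 1
  | _ => M.iv (M.ml M.v0 M.v0)

/-- The class matrices of the two factors of a target. -/
def fac : ℕ → Q4 × Q4
  | 0 => (M.S0, M.S0)
  | 1 => (M.S0, M.S1)
  | _ => (M.S1, M.S1)

/-- Whether a matrix is a product of conjugates of the class matrices of a target. -/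
def isGood (j : ℕ) (S : Q4) : Bool :=
  M.sl.any fun R => M.sl.any fun R' => decide (M.mm (M.sd (M.cls (M.fac j).1 R)) (M.cls (M.fac j).2 R') = S)

/-- The good matrices as bit masks, by the code of a matrix. -/
def code (S : Q4) : ℕ := S.1 + 3 * S.2.1 + 9 * S.2.2.1 + 27 * S.2.2.2

/-- The frame conjugation. -/
def frame (o : Bool × ℕ) (x : St ℕ × Q4) : St ℕ × Q4 :=
  if o.1 then (M.uppF' o.2 x.1, M.mm (M.mm (1, o.2, 0, 1) x.2) (1, (M.q - o.2) % M.q, 0, 1))
  else (M.lowF' o.2 x.1, M.mm (M.mm (1, 0, o.2, 1) x.2) (1, 0, (M.q - o.2) % M.q, 1))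

/-- Several frame conjugations. -/
def frames : List (Bool × ℕ) → St ℕ × Q4 → St ℕ × Q4
  | [], x => x
  | o :: l, x => M.frame o (frames l x)

/-- A move to the target `j`. -/
def fin (masks : List ℕ) (v : ℕ) (s : St ℕ) (S : Q4) : Bool :=
  if s.e % M.n = 0 then
    (List.range 3).any fun j => decide (M.tgt j = v) && (List.range M.n).any fun t =>
      (masks.getD j 0).testBit (code (M.mm (1, 0, M.Pf' t s % M.n, 1) S))
  else (List.range 3).any fun j =>
    let w := M.ml (M.tgt j) (M.iv v)
    let t := M.ml (M.sb w 1) (M.iv s.e)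
    (masks.getD j 0).testBit (code (M.mm (1, 0, M.Pf' t s % M.n, 1) S))

/-- The frame words tried. -/
def words : List (List (Bool × ℕ)) :=
  let r := (List.range (M.q - 1)).map (· + 1)
  [[]] ++ r.map (fun a => [(true, a)]) ++ r.map (fun a => [(false, a)]) ++
    r.flatMap (fun a => r.map fun b => [(true, a), (false, b)])

/-- Frames and then a move to a target. -/
def last (masks : List ℕ) (v : ℕ) (s : St ℕ) (S : Q4) : Bool :=
  M.words.any fun l => let x := M.frames l (s, S); M.fin masks v x.1 x.2

/-- A reachable target. -/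
def good2 (masks : List ℕ) (s : St ℕ) (S : Q4) : Bool :=
  M.last masks (M.tgt 0) s S || (decide (M.q = 2) && decide (s.e % M.n ≠ 0) &&
    (List.range M.n).any fun w => decide (w ≠ 0) &&
      let t := M.ml (M.sb w 1) (M.iv s.e)
      M.last masks (M.ml w (M.tgt 0)) (M.moveF' t w s) (M.mm (1, 0, M.Pf' t s % M.n, 1) S))

/-- The states to be treated. -/
def Covered (masks : List ℕ) (J : Q4) : Bool :=
  decide ((M.frame (true, 1) (⟨0, 0, 0, 0, 0⟩, J)).2 = J) &&
  ((List.range M.n).all fun c => (List.range M.n).all fun g => (List.range M.q).all fun h =>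
    M.fin masks (M.tgt 0) ⟨c, g, h, 0, 1⟩ J ||
      (List.range M.q).all fun k => M.good2 masks ⟨c, g, h, k, 1⟩ J) &&
  (List.range M.n).all fun g => (List.range M.q).all fun h => (List.range M.q).all fun k =>
    decide (g = 0 ∧ h = 0 ∧ k = 0) || M.good2 masks ⟨0, g, h, k, 0⟩ J

/-- All frame words of length at most three. -/
def words3 : List (List (Bool × ℕ)) :=
  let one := [true, false].flatMap fun b => ((List.range (M.q - 1)).map (· + 1)).map fun a => (b, a)
  [[]] ++ one.map (fun x => [x]) ++ one.flatMap (fun x => one.map fun y => [x, y]) ++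
    one.flatMap (fun x => one.flatMap fun y => one.map fun z => [x, y, z])

/-- The conjugate of a matrix by a frame word. -/
def conjW (l : List (Bool × ℕ)) (S : Q4) : Q4 := (M.frames l (⟨0, 0, 0, 0, 0⟩, S)).2

/-- Every matrix at the first target is good or conjugate to a listed one. -/
def Reduced (masks : List ℕ) (Js : List Q4) : Bool :=
  M.sl.all fun S => (masks.getD 0 0).testBit (code S) || M.words3.any fun l => Js.contains (M.conjW l S)

/-- The bit masks list products only. -/
def MasksOk (masks : List ℕ) : Bool :=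
  (List.range 3).all fun j => (List.range M.q).all fun a => (List.range M.q).all fun b =>
    (List.range M.q).all fun c => (List.range M.q).all fun d =>
      !(masks.getD j 0).testBit (code (a, b, c, d)) || M.isGood j (a, b, c, d)

/-- A move makes the first coordinate nonzero. -/
def Movable : Bool :=
  (List.range M.n).all fun g => (List.range M.q).all fun h => decide (g = 0 ∧ h = 0) ||
    (List.range M.n).any fun t => decide ((M.moveF' t 1 ⟨0, g, h, 0, 0⟩).c % M.n ≠ 0)

/-- The action of the class representative on the coordinates. -/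
def actX (s : St ℕ) : St ℕ := M.ttF' M.v0 M.d (M.uppF' 1 (M.lowF' (M.q - 1) s))

/-- The action of the other representative on the coordinates. -/
def actX' (s : St ℕ) : St ℕ := M.ttF' (M.iv M.v0) M.d (M.lowF' (M.q - 1) (M.uppF' 1 s))

/-- An action has no fixed point besides the origin. -/
def fixFree (f : St ℕ → St ℕ) : Bool :=
  ((List.range M.n).all fun c => (List.range M.n).all fun e =>
    decide (c = 0 ∧ e = 0) || decide ((f ⟨c, 0, 0, 0, e⟩).c % M.n ≠ c) ||
      decide ((f ⟨c, 0, 0, 0, e⟩).e % M.n ≠ e)) &&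
  ((List.range M.n).all fun g => decide (g = 0) || decide ((f ⟨0, g, 0, 0, 0⟩).g % M.n ≠ g)) &&
  (List.range M.q).all fun h => (List.range M.q).all fun k =>
    decide (h = 0 ∧ k = 0) || decide ((f ⟨0, 0, h, k, 0⟩).h % M.n ≠ h) || decide ((f ⟨0, 0, h, k, 0⟩).k % M.n ≠ k)

/-- The elementary facts about the tables. -/
def Facts : Bool :=
  decide (0 < M.q ∧ M.q ≤ 3 ∧ M.d < M.q ∧ M.d * M.d % M.q = 1 ∧ M.v0 < M.n ∧ M.v0 ≠ 0 ∧ M.nm M.v0 % M.n = M.d) &&
  decide (M.mm (M.mm (0, 1, M.q - 1, 0) M.S0) (M.inv4 (0, 1, M.q - 1, 0)) = M.S1 ∧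
    M.mm (M.mm (0, 1, M.q - 1, 0) M.S1) (M.inv4 (0, 1, M.q - 1, 0)) = M.S0) &&
  (M.words.all fun l => l.all fun o => decide (o.2 < M.q)) &&
  (M.words3.all fun l => l.all fun o => decide (o.2 < M.q))

end Mdl

/-- The good matrices for `q = 2`. -/
def masks2 : List ℕ := [550024257536, 550024257536, 550024257536]

/-- The good matrices for `q = 3`. -/
def masks3 : List ℕ := [642979792570737968185344, 623542040621572570578944, 642979792570737968185344]

theorem m2_small : m2.MasksOk masks2 = true ∧ m2.Reduced masks2 [(1, 1, 0, 1)] = true ∧ m2.Movable = true ∧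
    m2.fixFree m2.actX = true ∧ m2.fixFree m2.actX' = true := by decide +kernel

theorem m3_small : m3.MasksOk masks3 = true ∧ m3.Reduced masks3 [(2, 1, 0, 2), (2, 2, 0, 2), (1, 0, 0, 1)] = true ∧
    m3.Movable = true ∧ m3.fixFree m3.actX = true ∧ m3.fixFree m3.actX' = true := by decide +kernel

theorem m2_facts : m2.Facts = true := by decide +kernel

theorem m3_facts : m3.Facts = true := by decide +kernel

theorem m2_cov : m2.Covered masks2 (1, 1, 0, 1) = true := by decide +kernel

theorem m3_cov_J : m3.Covered masks3 (2, 1, 0, 2) = true := by decide +kernel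

theorem m3_cov_J' : m3.Covered masks3 (2, 2, 0, 2) = true := by decide +kernel

theorem m3_cov_I : m3.Covered masks3 (1, 0, 0, 1) = true := by decide +kernel

end CfsgLib.ClassSquare.Triality
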